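import Mathlib
import Cfsg.Prelude.Def_LocalStructure
import Cfsg.Agent.Lib.Fusion.WeakClosure
import Cfsg.Agent.Lib.Fusion.Cores

/-!
Weakly closed `p`-subgroups.
-/

set_option autoImplicit false

open scoped commutatorElement Pointwise

namespace Cfsg.Agent.LocalEven.Weak

open Cfsg Cfsg.Agent.Fusion

variable {G : Type*} [Group G] [Finite G] {p : ℕ} [Fact p.Prime] {Q : Subgroup G}

theorem eq_of_le (hw : IsWeaklyClosedSubgroup p Q) {R : Subgroup G} (hR : IsPGroup p R)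
    (hQR : Q ≤ R) {g : G} (hg : cj Q g ≤ R) : cj Q g = Q := by
  obtain ⟨T, hT⟩ := hw
  exact weaklyClosed_eq_of_le (sylIn_top T) hT hR hQR hg

theorem le_normalizer (hw : IsWeaklyClosedSubgroup p Q) {R : Subgroup G} (hR : IsPGroup p R)
    (hQR : Q ≤ R) : R ≤ Subgroup.normalizer (Q : Set G) := by
  obtain ⟨T, hT⟩ := hw
  exact weaklyClosed_le_normalizer (sylIn_top T) hT hR hQR

theorem isPGroup_of_weak (hw : IsWeaklyClosedSubgroup p Q) : IsPGroup p Q := by
  obtain ⟨T, hT, -⟩ := hw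
  exact T.isPGroup'.to_le hT

/-- The criterion used to show that a `p`-subgroup is weakly closed. -/
theorem of_mutual (hQ : IsPGroup p Q)
    (h : ∀ g : G, Q ≤ Subgroup.normalizer (cj Q g : Set G) →
      cj Q g ≤ Subgroup.normalizer (Q : Set G) → cj Q g = Q) :
    IsWeaklyClosedSubgroup p Q := by
  have hN : ∀ R : Subgroup G, IsPGroup p R → Q ≤ R → R ≤ Subgroup.normalizer (Q : Set G) := by
    intro R hR hQR
    by_contra hle
    set N := R ⊓ Subgroup.normalizer (Q : Set G) with hNdef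
    have hne : N ≠ R := fun e => hle (inf_eq_left.1 (hNdef.symm.trans e))
    obtain ⟨x, hx, hxN⟩ := SetLike.exists_of_lt
      (SylIn.normalizer_growth (inf_le_left : N ≤ R) hne hR)
    have hQN : Q ≤ N := le_inf hQR Subgroup.le_normalizer
    have hxN' : cj N x = N := cj_eq_self (Subgroup.mem_inf.1 hx).2
    have h1 : cj Q x ≤ N := (cj_mono hQN x).trans hxN'.le
    have h2 : N ≤ Subgroup.normalizer (cj Q x : Set G) := by
      rw [← hxN', ← cj_normalizer]
      exact cj_mono inf_le_right x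
    have h3 := h x (hQN.trans h2) (h1.trans inf_le_right)
    exact hxN (Subgroup.mem_inf.2 ⟨(Subgroup.mem_inf.1 hx).1, mem_normalizer_iff_cj.2 h3⟩)
  obtain ⟨T, hT⟩ := hQ.exists_le_sylow
  refine ⟨T, hT, fun g hg => ?_⟩
  refine h g ?_ (le_trans hg (hN _ T.isPGroup' hT))
  have h1 : cj (T : Subgroup G) g⁻¹ ≤ Subgroup.normalizer (Q : Set G) := by
    refine hN _ (isPGroup_cj T.isPGroup' g⁻¹) ?_
    have := cj_mono hg g⁻¹
    rwa [cj_cj_inv] at this
  refine hT.trans ?_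
  rw [← cj_normalizer, ← cj_le_cj (g := g⁻¹), cj_cj_inv]
  exact h1

theorem of_normalizer (hQ : IsPGroup p Q)
    (h : ∀ R : Subgroup G, IsPGroup p R → Q ≤ R →
      Subgroup.normalizer (R : Set G) ≤ Subgroup.normalizer (Q : Set G)) :
    IsWeaklyClosedSubgroup p Q := by
  have hN : ∀ R : Subgroup G, IsPGroup p R → Q ≤ R → R ≤ Subgroup.normalizer (Q : Set G) :=
    fun R hR hQR => Subgroup.le_normalizer.trans (h R hR hQR)
  obtain ⟨T, hT⟩ := hQ.exists_le_sylow
  refine ⟨T, hT, fun g hg => ?_⟩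
  change cj Q g = Q
  change cj Q g ≤ (T : Subgroup G) at hg
  set Q' := cj Q g
  have hA : cj (T : Subgroup G) g ≤ Subgroup.normalizer (Q' : Set G) := by
    rw [← cj_normalizer]; exact cj_mono (hN _ T.isPGroup' hT) g
  have hB : (T : Subgroup G) ≤ Subgroup.normalizer (Q' : Set G) := by
    rw [← cj_normalizer, ← cj_le_cj (g := g⁻¹), cj_cj_inv]
    exact hN _ (isPGroup_cj T.isPGroup' g⁻¹) (by
      have := cj_mono hg g⁻¹; rwa [cj_cj_inv] at this)
  have hsA : SylIn p (cj (T : Subgroup G) g) (Subgroup.normalizer (Q' : Set G)) :=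
    ⟨hA, isPGroup_cj T.isPGroup' g, fun hd => T.not_dvd_index (by
      rw [← index_cj (T : Subgroup G) g, ← Subgroup.relIndex_mul_index hA]
      exact hd.mul_right _)⟩
  have hsB : SylIn p (T : Subgroup G) (Subgroup.normalizer (Q' : Set G)) :=
    (sylIn_top T).mono hB le_top
  obtain ⟨n, hn, he⟩ := hsA.conj_eq hsB
  rw [cj_cj] at he
  have h1 : cj Q (n * g) = Q := cj_eq_self (h _ T.isPGroup' hT (mem_normalizer_iff_cj.2 he))
  rw [← cj_cj, cj_eq_self hn] at h1
  exact h1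

/-- Conjugates inside a subgroup containing `Q` are conjugate there. -/
theorem conj_in (hw : IsWeaklyClosedSubgroup p Q) {K : Subgroup G} (hQK : Q ≤ K) {g : G}
    (hg : cj Q g ≤ K) : ∃ k ∈ K, cj Q g = cj Q k := by
  have hQ := isPGroup_of_weak hw
  obtain ⟨S, hS, hQS⟩ := exists_sylIn_ge hQ hQK
  obtain ⟨k, hk, hkS⟩ := hS.conj_le (isPGroup_cj hQ g) hg
  rw [cj_cj] at hkS
  have h1 := eq_of_le hw hS.isPGroup hQS hkS
  refine ⟨k⁻¹, inv_mem hk, ?_⟩
  rw [← cj_cj] at h1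
  have h2 := congrArg (fun X => cj X k⁻¹) h1
  simpa only [cj_cj_inv] using h2

theorem conj_le_of_subnormal (hw : IsWeaklyClosedSubgroup p Q) {K : Subgroup G} (hQK : Q ≤ K)
    {X : Subgroup ↥K} (hX : X.IsSubnormal) (hQX : Q.subgroupOf K ≤ X) :
    ∀ k ∈ K, cj Q k ≤ X.map K.subtype := by
  induction hX with
  | top =>
    intro k hk
    rw [← MonoidHom.range_eq_map, Subgroup.range_subtype]
    exact (cj_mono hQK k).trans (cj_eq_self_of_mem hk).le
  | step A B hAB _ hn ih =>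
    intro k hk
    have hQB : Q.subgroupOf K ≤ B := hQX.trans hAB
    have h1 := ih hQB k hk
    have hQA : Q ≤ A.map K.subtype := by
      intro x hx
      exact ⟨⟨x, hQK hx⟩, hQX hx, rfl⟩
    obtain ⟨b, hb, he⟩ := conj_in hw (hQA.trans (Subgroup.map_mono hAB)) h1
    obtain ⟨b', hb', rfl⟩ := hb
    rw [he]
    rintro _ ⟨x, hx, rfl⟩
    obtain ⟨a, ha, rfl⟩ := hQA hx
    refine ⟨b' * a * b'⁻¹, ?_, by simp⟩
    have := (hn.conj_mem ⟨a, hAB ha⟩ ha ⟨b', hb'⟩)
    exact this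

/-- Frattini argument for a normalized subgroup. -/
theorem exists_mul_normalizer (hw : IsWeaklyClosedSubgroup p Q) {N : Subgroup G}
    (hQN : Q ≤ Subgroup.normalizer (N : Set G)) {n : G} (hn : n ∈ N) :
    ∃ a ∈ N ⊓ Subgroup.normalizer (Q : Set G), ∃ b ∈ ⁅N, Q⁆, n = a * b := by
  have hCN : ⁅N, Q⁆ ≤ N := Subgroup.commutator_le.2 fun x hx q hq => by
    have := mul_mem hx ((Subgroup.mem_normalizer_iff.1 (hQN hq) _).1 (inv_mem hx))
    simpa [commutatorElement_def, mul_assoc] using this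
  have hQC : Q ≤ Subgroup.normalizer ((⁅N, Q⁆ : Subgroup G) : Set G) :=
    Subgroup.normalizer_commutator_ge_right N Q
  set m := n⁻¹ with hm
  have hm' : m ∈ N := inv_mem hn
  have h1 : cj Q m ≤ ⁅N, Q⁆ ⊔ Q := by
    rintro _ ⟨q, hq, rfl⟩
    have e : (MulAut.conj m).toMonoidHom q = ⁅m, q⁆ * q := by simp [commutatorElement_def]
    rw [e]
    exact mul_mem (Subgroup.mem_sup_left (Subgroup.commutator_mem_commutator hm' hq))
      (Subgroup.mem_sup_right hq)
  obtain ⟨k, hk, he⟩ := conj_in hw le_sup_right h1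
  rw [← SetLike.mem_coe, Subgroup.coe_mul_of_right_le_normalizer_left _ _ hQC] at hk
  obtain ⟨c, hc, q, hq, rfl⟩ := hk
  rw [← cj_cj, cj_eq_self_of_mem hq] at he
  have h2 : c⁻¹ * m ∈ Subgroup.normalizer (Q : Set G) := by
    rw [mem_normalizer_iff_cj, ← cj_cj, he, cj_cj_inv]
  refine ⟨(c⁻¹ * m)⁻¹, Subgroup.mem_inf.2 ⟨inv_mem (mul_mem (inv_mem (hCN hc)) hm'), inv_mem h2⟩,
    c⁻¹, inv_mem hc, ?_⟩
  rw [hm]; group

/-- `[N, Q] = (Q ∩ [N, Q]) [N, Q, Q]`. -/
theorem commutator_factor (hw : IsWeaklyClosedSubgroup p Q) {N : Subgroup G}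
    (hQN : Q ≤ Subgroup.normalizer (N : Set G)) :
    ∀ c ∈ ⁅N, Q⁆, ∃ a ∈ Q ⊓ ⁅N, Q⁆, ∃ b ∈ ⁅⁅N, Q⁆, Q⁆, c = a * b := by
  set C : Subgroup G := ⁅N, Q⁆ with hC
  set L : Subgroup G := ⁅C, Q⁆ with hL
  have hQC : Q ≤ Subgroup.normalizer (C : Set G) := Subgroup.normalizer_commutator_ge_right N Q
  have hLn : Q ⊓ C ≤ Subgroup.normalizer (L : Set G) :=
    inf_le_left.trans (Subgroup.normalizer_commutator_ge_right C Q)
  have hNC : N ≤ Subgroup.normalizer (C : Set G) := Subgroup.normalizer_commutator_ge_left N Q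
  have key : C ≤ (Q ⊓ C) ⊔ L := by
    rw [hC]
    refine Subgroup.commutator_le.2 fun n hn q hq => ?_
    obtain ⟨a, ha, c, hc, rfl⟩ := exists_mul_normalizer hw hQN hn
    have haC : a ∈ Subgroup.normalizer (C : Set G) := hNC (Subgroup.mem_inf.1 ha).1
    have haL : a ∈ Subgroup.normalizer (L : Set G) := by
      refine mem_normalizer_iff_cj.2 ?_
      rw [hL, cj_commutator, cj_eq_self haC, cj_eq_self (Subgroup.mem_inf.1 ha).2]
    have e : ⁅a * c, q⁆ = (a * ⁅c, q⁆ * a⁻¹) * ⁅a, q⁆ := by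
      simp only [commutatorElement_def]; group
    rw [e]
    refine mul_mem (Subgroup.mem_sup_right ((Subgroup.mem_normalizer_iff.1 haL _).1
      (Subgroup.commutator_mem_commutator hc hq))) (Subgroup.mem_sup_left ?_)
    refine Subgroup.mem_inf.2 ⟨?_, Subgroup.commutator_mem_commutator (Subgroup.mem_inf.1 ha).1 hq⟩
    have := mul_mem ((Subgroup.mem_normalizer_iff.1 (Subgroup.mem_inf.1 ha).2 q).1 hq) (inv_mem hq)
    simpa [commutatorElement_def] using this
  intro c hc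
  have h := key hc
  rw [← SetLike.mem_coe, Subgroup.coe_mul_of_left_le_normalizer_right _ _ hLn] at h
  obtain ⟨a, ha, b, hb, rfl⟩ := h
  exact ⟨a, ha, b, hb, rfl⟩

end Cfsg.Agent.LocalEven.Weak
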