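import Mathlib
import Cfsg.Agent.Lib.LocalEven.WeakSubgroup
import Cfsg.Agent.Lib.Fusion.WeakClosureFunctor

/-!
Large subgroups.
-/

set_option autoImplicit false

open Cfsg Cfsg.Agent.Fusion

namespace Cfsg.Agent.LocalEven.Large

variable {H : Type*} [Group H] [Finite H] {p : ℕ} [Fact p.Prime] {Q : Subgroup H}

theorem centre_ne_bot {R : Subgroup H} (hR : IsPGroup p R) (hne : R ≠ ⊥) :
    R ⊓ Subgroup.centralizer (R : Set H) ≠ ⊥ := by
  haveI := R.nontrivial_iff_ne_bot.2 hne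
  haveI := hR.center_nontrivial
  obtain ⟨⟨z, hz⟩, hz1⟩ := exists_ne (1 : Subgroup.center ↥R)
  intro h
  have h1 : (z : H) ∈ R ⊓ Subgroup.centralizer (R : Set H) := Subgroup.mem_inf.2
    ⟨z.2, Subgroup.mem_centralizer_iff.2 fun r hr =>
      congrArg Subtype.val (Subgroup.mem_center_iff.1 hz ⟨r, hr⟩)⟩
  rw [h, Subgroup.mem_bot] at h1
  exact hz1 (Subtype.ext (Subtype.ext h1))

theorem normal_inf_center {P : Type*} [Group P] [Finite P] (hP : IsPGroup p P) (N : Subgroup P)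
    [N.Normal] (hN : N ≠ ⊥) : N ⊓ Subgroup.center P ≠ ⊥ := by
  obtain ⟨k, hk⟩ := IsPGroup.iff_card.1 (hP.to_subgroup N)
  have hk0 : k ≠ 0 := fun h0 => hN (Subgroup.eq_bot_of_card_eq _ (by rw [hk, h0, pow_zero]))
  have hP' : IsPGroup p (ConjAct P) := hP.of_equiv ConjAct.toConjAct
  obtain ⟨b, hb, hb1⟩ := hP'.exists_fixed_point_of_prime_dvd_card_of_fixed_point ↥N
    (hk ▸ dvd_pow_self p hk0) (a := 1) (by intro g; exact smul_one g)
  intro h
  have h1 : (b : P) ∈ N ⊓ Subgroup.center P := Subgroup.mem_inf.2 ⟨b.2,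
    Subgroup.mem_center_iff.2 fun g => by
      have := congrArg Subtype.val (hb (ConjAct.toConjAct g))
      rw [ConjAct.Subgroup.val_conj_smul, ConjAct.toConjAct_smul] at this
      exact mul_inv_eq_iff_eq_mul.1 this⟩
  rw [h, Subgroup.mem_bot] at h1
  exact hb1 (Subtype.ext h1).symm

theorem normalizer_le_of_le (hL : IsLarge Q) (hQ1 : Q ≠ ⊥) {R : Subgroup H} (hR : IsPGroup p R)
    (hQR : Q ≤ R) : Subgroup.normalizer (R : Set H) ≤ Subgroup.normalizer (Q : Set H) := by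
  refine le_trans ?_ (hL.2 _ (inf_le_right.trans (Subgroup.centralizer_le hQR))
    (centre_ne_bot hR fun h => hQ1 (le_bot_iff.1 (h ▸ hQR))))
  intro g hg
  rw [mem_normalizer_iff_cj, cj_inf, cj_centralizer, cj_eq_self hg]

theorem weak (hQ : IsPGroup p Q) (hQ1 : Q ≠ ⊥) (hL : IsLarge Q) : IsWeaklyClosedSubgroup p Q :=
  Weak.of_normalizer hQ fun _ hR hQR => normalizer_le_of_le hL hQ1 hR hQR

theorem centralizer_inf_eq_bot (hQ : IsPGroup p Q) (hQ1 : Q ≠ ⊥) (hL : IsLarge Q) {g : H}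
    (hg : cj Q g ≠ Q) :
    Subgroup.centralizer (Q : Set H) ⊓ Subgroup.centralizer (cj Q g : Set H) = ⊥ := by
  by_contra hU
  set U := Subgroup.centralizer (Q : Set H) ⊓ Subgroup.centralizer (cj Q g : Set H)
  have h1 : cj Q g ≤ Subgroup.normalizer (Q : Set H) := by
    refine le_trans (fun x hx => ?_) (hL.2 U inf_le_left hU)
    apply Subgroup.centralizer_le_normalizer
    rw [Subgroup.mem_centralizer_iff]
    exact fun u hu => ((Subgroup.mem_centralizer_iff.1 (Subgroup.mem_inf.1 hu).2) x hx).symm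
  exact hg (Weak.eq_of_le (weak hQ hQ1 hL) (hQ.to_sup_of_normal_left' (isPGroup_cj hQ g) h1)
    le_sup_left le_sup_right)

theorem bullet_facts (hQ : IsPGroup p Q) (hQ1 : Q ≠ ⊥) (hL : IsLarge Q) :
    Q ≤ largeBullet p Q ∧
      Subgroup.normalizer (Q : Set H) = Subgroup.normalizer ((largeBullet p Q : Subgroup H) : Set H) ∧
      IsLarge (largeBullet p Q) := by
  have hQb : Q ≤ largeBullet p Q := le_pCoreOf Subgroup.le_normalizer le_rfl hQ
  have hN : Subgroup.normalizer (Q : Set H) = Subgroup.normalizer ((largeBullet p Q : Subgroup H) : Set H) :=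
    le_antisymm (le_normalizer_pCoreOf _) (normalizer_le_of_le hL hQ1 (pCoreOf_isPGroup _) hQb)
  refine ⟨hQb, hN, (Subgroup.centralizer_le hQb).trans (hL.1.trans hQb), fun U hU hU1 => ?_⟩
  rw [← hN]
  exact hL.2 U (hU.trans (Subgroup.centralizer_le hQb)) hU1

theorem conj (hL : IsLarge Q) (g : H) : IsLarge (cj Q g) := by
  refine ⟨?_, fun U hU hU1 => ?_⟩
  · rw [← cj_centralizer]; exact cj_mono hL.1 g
  · have h1 : cj U g⁻¹ ≤ Subgroup.centralizer (Q : Set H) := by
      rw [cj_le_iff, inv_inv, cj_centralizer]; exact hU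
    have h2 := hL.2 _ h1 (fun h => hU1 (by rw [← cj_inv_cj U g, h, cj_bot]))
    rw [← cj_normalizer, cj_le_iff, inv_inv, cj_normalizer] at h2
    exact h2

theorem centralizer_core_le (hQ : IsPGroup p Q) (hL : IsLarge Q) {L : Subgroup H}
    (hQL : Q ≤ L) (hne : pCore p ↥L ≠ ⊥) :
    Subgroup.centralizer (pCoreOf p L : Set H) ≤ Subgroup.normalizer (Q : Set H) := by
  have hPne : pCoreOf p L ≠ ⊥ := fun h =>
    hne ((Subgroup.map_eq_bot_iff_of_injective _ L.subtype_injective).1 h)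
  have hn : Q ≤ Subgroup.normalizer (pCoreOf p L : Set H) := hQL.trans (le_normalizer_pCoreOf L)
  have hD : IsPGroup p ↥(pCoreOf p L ⊔ Q) := (pCoreOf_isPGroup L).to_sup_of_normal_left' hQ hn
  -- a nontrivial fixed point of `Q` on `O_p(L)`
  haveI : ((pCoreOf p L).subgroupOf (pCoreOf p L ⊔ Q)).Normal :=
    (Subgroup.normal_subgroupOf_iff_le_normalizer le_sup_left).2 (sup_le Subgroup.le_normalizer hn)
  have hfix : pCoreOf p L ⊓ Subgroup.centralizer (Q : Set H) ≠ ⊥ := by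
    intro h
    have h1 := normal_inf_center hD ((pCoreOf p L).subgroupOf (pCoreOf p L ⊔ Q)) (by
      rw [ne_eq, Subgroup.subgroupOf_eq_bot, disjoint_iff, inf_eq_left.2 le_sup_left]
      exact hPne)
    apply h1
    rw [eq_bot_iff]
    intro x hx
    obtain ⟨hx1, hx2⟩ := Subgroup.mem_inf.1 hx
    have h2 : (x : H) ∈ pCoreOf p L ⊓ Subgroup.centralizer (Q : Set H) :=
      Subgroup.mem_inf.2 ⟨hx1, Subgroup.mem_centralizer_iff.2 fun q hq =>
        congrArg Subtype.val (Subgroup.mem_center_iff.1 hx2 ⟨q, Subgroup.mem_sup_right hq⟩)⟩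
    rw [h, Subgroup.mem_bot] at h2
    exact Subgroup.mem_bot.2 (Subtype.ext h2)
  refine le_trans ?_ (hL.2 _ inf_le_right hfix)
  exact le_trans (Subgroup.centralizer_le inf_le_left) (Subgroup.centralizer_le_normalizer _)

end Cfsg.Agent.LocalEven.Large
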