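import Cfsg.Agent.Lib.LocalEven.Kieler
import Cfsg.Prelude.Def_LocalStructure

/-!
# Parabolic characteristic `p` passes to subnormal subgroups
-/

set_option autoImplicit false

namespace Cfsg.Agent.LocalEven

open Cfsg.Agent.Fusion

variable {G : Type*} [Group G] [Finite G] {p : ℕ} [hp : Fact p.Prime]

theorem charP_inf_subnormal {K : Subgroup G} (hK : CharP p K) {L : Subgroup G} (hL : L.IsSubnormal) :
    CharP p (L ⊓ K) := by
  induction hL with
  | top => rwa [top_inf_eq]
  | step H M hle _ hN ih =>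
    refine charP_normal ih (inf_le_inf_right K hle) ?_
    rw [Subgroup.normal_subgroupOf_iff_le_normalizer (inf_le_inf_right K hle)]
    intro g hg
    exact mem_normalizer_iff_cj.2 (by
      rw [cj_inf, cj_eq_self ((Subgroup.normal_subgroupOf_iff_le_normalizer hle).1 hN hg.1),
        cj_eq_self_of_mem hg.2])

theorem sylIn_inf_subnormal (S : Sylow p G) {L : Subgroup G} (hL : L.IsSubnormal) :
    SylIn p ((S : Subgroup G) ⊓ L) L := by
  induction hL with
  | top => rw [inf_top_eq]; exact sylIn_top S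
  | step H M hle _ hN ih =>
    have h := ih.inf_normal hle ((Subgroup.normal_subgroupOf_iff_le_normalizer hle).1 hN)
    rwa [inf_assoc, inf_eq_right.2 hle] at h

/-- Parabolic characteristic `p` passes to a subnormal subgroup whose Sylow centre is central in a
Sylow subgroup of the group. -/
theorem parabolic_subnormal (hG : Cfsg.IsOfParabolicCharacteristic p G) (S : Sylow p G) {L : Subgroup G}
    (hL : L.IsSubnormal)
    (hcen : ∀ z ∈ (S : Subgroup G) ⊓ L, z ^ p = 1 → (∀ t ∈ (S : Subgroup G) ⊓ L, t * z = z * t) →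
      ∀ s ∈ (S : Subgroup G), s * z = z * s) :
    Cfsg.IsOfParabolicCharacteristic p ↥L := by
  intro R hR hR1 hpar
  obtain ⟨T, hT⟩ := hpar
  set R₁ := R.map L.subtype with hR₁
  set T₁ := (T : Subgroup L).map L.subtype with hT₁
  have hTR : T₁ ≤ Subgroup.normalizer (R₁ : Set G) := by
    rintro _ ⟨t, ht, rfl⟩
    exact Subgroup.le_normalizer_map L.subtype ⟨t, hT ht, rfl⟩
  obtain ⟨x, hxL, hx⟩ := (sylIn_inf_subnormal S hL).conj_eq (sylIn_map L T)
  rw [← hT₁] at hx
  have hRT : R₁ ≤ T₁ := by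
    have hn : (T : Subgroup L) ⊔ R = T :=
      T.3 (T.2.to_sup_of_normal_right' hR hT) le_sup_left
    exact Subgroup.map_mono (le_sup_right.trans hn.le)
  have hR₁1 : R₁ ≠ ⊥ := by
    rwa [hR₁, Ne, Subgroup.map_eq_bot_iff_of_injective _ L.subtype_injective]
  obtain ⟨z, hzR, hzo, hzc⟩ := exists_central_order (T.2.map _) hRT hTR hR₁1
  -- `z` is central in a Sylow subgroup of `G`
  set w := x⁻¹ * z * x with hw
  have hwSL : w ∈ (S : Subgroup G) ⊓ L := by
    have := hRT hzR
    rw [← hx, mem_cj] at this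
    exact this
  have hwc : ∀ s ∈ (S : Subgroup G), s * w = w * s := hcen w hwSL
    (by rw [hw]; nth_rewrite 2 [← inv_inv x]; rw [conj_pow, ← hzo, pow_orderOf_eq_one, mul_one, mul_inv_cancel])
    (fun t ht => by
      have h := hzc (x * t * x⁻¹) (show x * t * x⁻¹ ∈ T₁ by rw [← hx]; exact conj_mem_cj ht)
      calc t * w = x⁻¹ * ((x * t * x⁻¹) * z) * x := by rw [hw]; group
        _ = x⁻¹ * (z * (x * t * x⁻¹)) * x := by rw [h]
        _ = w * t := by rw [hw]; group)
  have hzk : ∃ k, orderOf z = p ^ k := ⟨1, by rw [hzo, pow_one]⟩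
  obtain ⟨S', hS'⟩ := ((sylIn_top S).cj' (g := x) (by rw [Subgroup.normalizer_eq_top]; exact Subgroup.mem_top x)).exists_sylow
  have hNz : CharP p (Subgroup.normalizer (Subgroup.zpowers z : Set G)) := by
    refine hG _ (isPGroup_zpowers hzk) (fun h => ?_) ⟨S', fun s hs => zpowers_le_normalizer ?_⟩
    · rw [Subgroup.zpowers_eq_bot] at h
      rw [h, orderOf_one] at hzo
      exact (Fact.out : p.Prime).ne_one hzo.symm
    · rw [hS', mem_cj] at hs
      have h := hwc _ hs
      calc s * z = x * ((x⁻¹ * s * x) * w) * x⁻¹ := by rw [hw]; group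
        _ = x * (w * (x⁻¹ * s * x)) * x⁻¹ := by rw [h]
        _ = z * s := by rw [hw]; group
  have hCz : CharP p (Subgroup.centralizer ({z} : Set G)) := by
    rw [← centralizer_zpowers]
    exact charP_centralizer (isPGroup_zpowers hzk) le_rfl Subgroup.le_normalizer hNz
  have hNR : CharP p (Subgroup.normalizer (R₁ : Set G)) :=
    charP_normalizer_of_central (hR.map _) hzR (fun r hr => hzc r (hRT hr)) hCz
  have hfin := charP_inf_subnormal hNR hL
  -- transport
  have he : (Subgroup.normalizer (R : Set L)).map L.subtype = L ⊓ Subgroup.normalizer (R₁ : Set G) := by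
    refine le_antisymm (le_inf (Subgroup.map_subtype_le _) (Subgroup.le_normalizer_map _)) ?_
    rintro g ⟨hgL, hg⟩
    refine ⟨⟨g, hgL⟩, Subgroup.mem_normalizer_iff.2 fun r => ?_, rfl⟩
    have h := Subgroup.mem_normalizer_iff.1 hg (r : G)
    rw [hR₁] at h
    constructor
    · intro hr
      obtain ⟨r', hr', e⟩ := h.1 ⟨r, hr, rfl⟩
      rwa [show (⟨g, hgL⟩ : L) * r * ⟨g, hgL⟩⁻¹ = r' from Subtype.ext e.symm]
    · intro hr
      obtain ⟨r', hr', e⟩ := h.2 ⟨_, hr, rfl⟩
      rwa [show r = r' from Subtype.ext e.symm]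
  rw [← he] at hfin
  exact centralizer_pCore_equiv ((Subgroup.normalizer (R : Set L)).equivMapOfInjective _ L.subtype_injective) hfin

end Cfsg.Agent.LocalEven
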