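import Cfsg.Agent.Lib.Fusion.LocalConstrained
import Cfsg.Agent.Lib.Fusion.Reduction
import Cfsg.Agent.Lib.Fusion.KInf

/-!
Characteristic `p` passes from the normalizer of a `p`-subgroup to normalizers and centralizers of
`p`-subgroups containing it.
-/

set_option autoImplicit false

namespace Cfsg.Agent.LocalEven

open Cfsg.Agent.Fusion
open scoped commutatorElement

variable {G : Type*} [Group G] [Finite G] {p : ℕ} [hp : Fact p.Prime]

theorem normalizer_le_char (H : Subgroup G) (C : Subgroup ↥H) [hC : C.Characteristic] :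
    Subgroup.normalizer (H : Set G) ≤ Subgroup.normalizer (C.map H.subtype : Set G) := by
  intro g hg
  refine mem_normalizer_of_cj_le ?_
  rintro _ ⟨_, ⟨c, hc, rfl⟩, rfl⟩
  let e : ↥H ≃* ↥H :=
    { toFun := fun x => ⟨g * x * g⁻¹, (Subgroup.mem_set_normalizer_iff.1 hg x).1 x.2⟩
      invFun := fun x => ⟨g⁻¹ * x * g, (Subgroup.mem_set_normalizer_iff.1 hg _).2 (by
        rw [show g * (g⁻¹ * x * g) * g⁻¹ = (x : G) by group]; exact x.2)⟩
      left_inv := fun x => Subtype.ext (by simp [mul_assoc])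
      right_inv := fun x => Subtype.ext (by simp [mul_assoc])
      map_mul' := fun x y => Subtype.ext (by simp [mul_assoc]) }
  refine ⟨e c, ?_, rfl⟩
  rw [← Subgroup.characteristic_iff_map_eq.1 hC e]
  exact ⟨c, hc, rfl⟩

/-- `C(O_p) ≤ O_p` for a subgroup. -/
abbrev CharP (p : ℕ) (K : Subgroup G) : Prop :=
  Subgroup.centralizer (Cfsg.pCore p ↥K : Set ↥K) ≤ Cfsg.pCore p ↥K

theorem charP_iff_gfit {K : Subgroup G} :
    CharP p K ↔ Cfsg.generalizedFittingSubgroup ↥K = Cfsg.pCore p ↥K :=
  gfit_eq_pCore_iff.symm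

theorem pCore_map_le_of_normal {K M : Subgroup G} (hMK : M ≤ K) (hn : (M.subgroupOf K).Normal) :
    (Cfsg.pCore p ↥M).map M.subtype ≤ (Cfsg.pCore p ↥K).map K.subtype := by
  set T := (Cfsg.pCore p ↥M).map M.subtype with hT
  have hTK : T ≤ K := (Subgroup.map_subtype_le _).trans hMK
  haveI hTn : (T.subgroupOf K).Normal := by
    rw [Subgroup.normal_subgroupOf_iff_le_normalizer hTK]
    exact ((Subgroup.normal_subgroupOf_iff_le_normalizer hMK).1 hn).trans
      (normalizer_le_char _ _)
  have hTp : IsPGroup p ↥T := (isPGroup_pCore p ↥M).map _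
  intro x hx
  exact ⟨⟨x, hTK hx⟩, le_pCore (N := T.subgroupOf K) hTp.comap_subtype hx, rfl⟩

/-- A normal subgroup containing the centralizer of a normal `p`-subgroup lifts characteristic `p`. -/
theorem charP_of_normal {K M B : Subgroup G} (hMK : M ≤ K) (hn : (M.subgroupOf K).Normal)
    (hB : IsPGroup p B) (hBK : B ≤ K) (hKB : K ≤ Subgroup.normalizer (B : Set G))
    (hCM : K ⊓ Subgroup.centralizer (B : Set G) ≤ M) (hM : CharP p M) : CharP p K := by
  intro x hx
  haveI : (B.subgroupOf K).Normal := (Subgroup.normal_subgroupOf_iff_le_normalizer hBK).2 hKB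
  have hxM : (x : G) ∈ M := hCM ⟨x.2, Subgroup.mem_centralizer_iff.2 fun b hb =>
    congrArg Subtype.val (Subgroup.mem_centralizer_iff.1 hx ⟨b, hBK hb⟩
      (le_pCore (N := B.subgroupOf K) hB.comap_subtype hb))⟩
  have h1 : (⟨x, hxM⟩ : ↥M) ∈ Cfsg.pCore p ↥M := by
    refine hM (Subgroup.mem_centralizer_iff.2 fun m hm => Subtype.ext ?_)
    obtain ⟨y, hy, hym⟩ := pCore_map_le_of_normal hMK hn (Subgroup.mem_map_of_mem M.subtype hm)
    have h2 := congrArg Subtype.val (Subgroup.mem_centralizer_iff.1 hx y hy)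
    simp only [Subgroup.coe_mul] at h2
    rw [show (y : G) = (m : G) from hym] at h2
    exact h2
  obtain ⟨y, hy, hyx⟩ := pCore_map_le_of_normal hMK hn (Subgroup.mem_map_of_mem M.subtype h1)
  rwa [show x = y from Subtype.ext hyx.symm]

/-- the centralizer of a larger `p`-subgroup -/
theorem charP_centralizer {B C : Subgroup G} (hB : IsPGroup p B) (hCB : C ≤ B)
    (hBC : B ≤ Subgroup.normalizer (C : Set G)) (h : CharP p (Subgroup.normalizer (C : Set G))) :
    CharP p (Subgroup.centralizer (B : Set G)) := by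
  obtain ⟨N, hN⟩ : ∃ N, N = Subgroup.normalizer (C : Set G) := ⟨_, rfl⟩
  rw [← hN] at hBC h
  set O := (Cfsg.pCore p ↥N).map N.subtype with hO
  have hNO : N ≤ Subgroup.normalizer (O : Set G) :=
    Subgroup.le_normalizer.trans (normalizer_le_char _ _)
  have hKN : Subgroup.centralizer (B : Set G) ≤ N :=
    hN ▸ (Subgroup.centralizer_le hCB).trans (Subgroup.centralizer_le_normalizer _)
  refine (local_constrained (Q := O) (T := B) ((isPGroup_pCore p ↥N).map _) hB (hBC.trans hNO)
    (hKN.trans hNO) inf_le_right (fun x _ t ht => (Subgroup.mem_centralizer_iff.1 x.2 t ht).symm)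
    (fun x hxK hxp hx => ?_)).2
  have hxN := hKN hxK
  have hmem : (⟨x, hxN⟩ : ↥N) ∈ Cfsg.pCore p ↥N := h (Subgroup.mem_centralizer_iff.2 fun m hm =>
    Subtype.ext (Subgroup.mem_centralizer_iff.1 hx m (Subgroup.mem_map_of_mem N.subtype hm)))
  obtain ⟨j, hj⟩ := isPGroup_pCore p ↥N ⟨_, hmem⟩
  have hj' : x ^ p ^ j = 1 := congrArg Subtype.val (congrArg Subtype.val hj :)
  exact orderOf_eq_one_iff.1 (Nat.eq_one_of_dvd_coprimes (hxp.pow_right j) dvd_rfl
    (orderOf_dvd_of_pow_eq_one hj'))

/-- the normalizer of a larger `p`-subgroup -/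
theorem charP_normalizer {B C : Subgroup G} (hB : IsPGroup p B) (hCB : C ≤ B)
    (hBC : B ≤ Subgroup.normalizer (C : Set G)) (h : CharP p (Subgroup.normalizer (C : Set G))) :
    CharP p (Subgroup.normalizer (B : Set G)) :=
  charP_of_normal (Subgroup.centralizer_le_normalizer _)
    ((Subgroup.normal_subgroupOf_iff_le_normalizer (Subgroup.centralizer_le_normalizer _)).2
      fun g hg => mem_normalizer_of_cj_le (by rw [cj_centralizer, cj_eq_self hg]))
    hB Subgroup.le_normalizer le_rfl inf_le_right (charP_centralizer hB hCB hBC h)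

theorem centralizer_zpowers (z : G) :
    Subgroup.centralizer (Subgroup.zpowers z : Set G) = Subgroup.centralizer ({z} : Set G) := by
  rw [Subgroup.zpowers_eq_closure, Subgroup.centralizer_closure]

theorem zpowers_le_normalizer {z x : G} (h : x * z = z * x) :
    x ∈ Subgroup.normalizer (Subgroup.zpowers z : Set G) := by
  refine Subgroup.centralizer_le_normalizer _ ?_
  rw [centralizer_zpowers]
  exact Subgroup.mem_centralizer_singleton_iff.2 h

theorem isPGroup_zpowers {z : G} (hz : ∃ k, orderOf z = p ^ k) : IsPGroup p (Subgroup.zpowers z) := by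
  obtain ⟨k, hk⟩ := hz
  exact IsPGroup.of_card (n := k) (by rw [Nat.card_zpowers, hk])

/-- the normalizer of a cyclic `p`-subgroup from its centralizer -/
theorem charP_normalizer_zpowers {z : G} (hz : ∃ k, orderOf z = p ^ k)
    (h : CharP p (Subgroup.centralizer ({z} : Set G))) :
    CharP p (Subgroup.normalizer (Subgroup.zpowers z : Set G)) := by
  have hle : Subgroup.centralizer ({z} : Set G) ≤ Subgroup.normalizer (Subgroup.zpowers z : Set G) :=
    fun x hx => zpowers_le_normalizer (Subgroup.mem_centralizer_singleton_iff.1 hx)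
  refine charP_of_normal hle ((Subgroup.normal_subgroupOf_iff_le_normalizer hle).2 ?_)
    (isPGroup_zpowers hz) Subgroup.le_normalizer le_rfl (by rw [centralizer_zpowers]; exact inf_le_right) h
  intro g hg
  rw [← centralizer_zpowers]
  exact mem_normalizer_of_cj_le (by rw [cj_centralizer, cj_eq_self hg])

/-- normalizers of `p`-subgroups from a central element -/
theorem charP_normalizer_of_central {X : Subgroup G} (hX : IsPGroup p X) {z : G} (hzX : z ∈ X)
    (hzc : ∀ x ∈ X, x * z = z * x) (h : CharP p (Subgroup.centralizer ({z} : Set G))) :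
    CharP p (Subgroup.normalizer (X : Set G)) := by
  obtain ⟨k, hk⟩ := IsPGroup.iff_orderOf.1 hX ⟨z, hzX⟩
  rw [Subgroup.orderOf_mk] at hk
  exact charP_normalizer hX (Subgroup.zpowers_le.2 hzX) (fun x hx => zpowers_le_normalizer (hzc x hx))
    (charP_normalizer_zpowers ⟨k, hk⟩ h)

/-- A nontrivial `p`-subgroup normalised by `S` meets its centre in an element of order `p`. -/
theorem exists_central_order {R S : Subgroup G} (hS : IsPGroup p S) (hRS : R ≤ S)
    (hSR : S ≤ Subgroup.normalizer (R : Set G)) (hR : R ≠ ⊥) :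
    ∃ z ∈ R, orderOf z = p ∧ ∀ s ∈ S, s * z = z * s := by
  haveI hn : (R.subgroupOf S).Normal := (Subgroup.normal_subgroupOf_iff_le_normalizer hRS).2 hSR
  haveI := hS.isNilpotent
  obtain ⟨w, hwR, hw1, hwc⟩ := exists_fixed_mod (N := (⊥ : Subgroup ↥S)) (C := R.subgroupOf S) (Q := ⊤)
    (by rw [Subgroup.normalizer_eq_top]) (fun h => hR (by
      have hb := le_bot_iff.1 h
      rwa [Subgroup.subgroupOf_eq_bot, disjoint_iff, inf_eq_left.2 hRS] at hb))
  have hc : ∀ s ∈ S, s * (w : G) = w * s := fun s hs =>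
    (congrArg Subtype.val (commutatorElement_eq_one_iff_mul_comm.1
      (Subgroup.mem_bot.1 (hwc ⟨s, hs⟩ trivial)))).symm
  have hw1' : (w : G) ≠ 1 := fun h => hw1 (Subgroup.mem_bot.2 (Subtype.ext h))
  obtain ⟨k, hk⟩ := IsPGroup.iff_orderOf.1 hS w
  rw [← Subgroup.orderOf_coe] at hk
  obtain ⟨m, rfl⟩ : ∃ m, k = m + 1 := ⟨k - 1, by
    rcases k with _ | k
    · exact absurd (orderOf_eq_one_iff.1 (by simpa using hk)) hw1'
    · simp⟩
  refine ⟨(w : G) ^ p ^ m, pow_mem hwR _, ?_, fun s hs => Commute.pow_right (hc s hs) _⟩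
  rw [orderOf_pow' _ (pow_ne_zero _ hp.out.ne_zero), hk,
    Nat.gcd_eq_right (pow_dvd_pow p (Nat.le_succ m)), Nat.pow_div (Nat.le_succ m) hp.out.pos]
  simp

theorem charP_cj {K : Subgroup G} (g : G) (h : CharP p (cj K g)) : CharP p K :=
  centralizer_pCore_equiv (K.equivMapOfInjective _ (MulAut.conj g).injective) h

end Cfsg.Agent.LocalEven
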