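import Mathlib
import Cfsg.Prelude.Def_ClassificationK
import Cfsg.Agent.Lib.Fusion.PGroupAux

/-!
# Symplectic type of exponent four: squares lie in the subgroup of order two
-/

set_option autoImplicit false

namespace Cfsg.Agent.LocalEven.SymConj

variable {T : Type*} [Group T] [Finite T]

theorem cyclic_sq_one {A : Subgroup T} (hA : IsCyclic ↥A) {a b : T} (ha : a ∈ A) (hb : b ∈ A)
    (ha2 : a * a = 1) (hb2 : b * b = 1) (hb1 : b ≠ 1) : a = 1 ∨ a = b := by
  haveI := hA
  classical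
  haveI := Fintype.ofFinite ↥A
  by_cases ha1 : a = 1
  · exact Or.inl ha1
  refine Or.inr ?_
  have h1 := IsCyclic.card_pow_eq_one_le (α := ↥A) (n := 2) two_pos
  by_contra hne
  have h2 : ({(1 : ↥A), ⟨a, ha⟩, ⟨b, hb⟩} : Finset ↥A) ⊆ Finset.univ.filter fun u : ↥A => u ^ 2 = 1 := by
    intro u hu
    simp only [Finset.mem_insert, Finset.mem_singleton] at hu
    rw [Finset.mem_filter]
    refine ⟨Finset.mem_univ u, ?_⟩
    rcases hu with rfl | rfl | rfl
    · exact one_pow 2
    · exact Subtype.ext (by rw [SubmonoidClass.coe_pow, sq]; exact ha2)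
    · exact Subtype.ext (by rw [SubmonoidClass.coe_pow, sq]; exact hb2)
  have h3 := (Finset.card_le_card h2).trans h1
  rw [Finset.card_insert_of_notMem (by
      simp only [Finset.mem_insert, Finset.mem_singleton, not_or]
      exact ⟨fun e => ha1 (congrArg Subtype.val e).symm, fun e => hb1 (congrArg Subtype.val e).symm⟩),
    Finset.card_insert_of_notMem (by simpa using hne), Finset.card_singleton] at h3
  omega

/-- In a group of symplectic type and exponent four every square is `1` or the central involution. -/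
theorem sq_small (hT : Cfsg.IsOfSymplecticType T) (h4 : ∀ q : T, q ^ 4 = 1) {ζ : T}
    (hζ : ∀ q : T, q * ζ = ζ * q) (hζ2 : ζ * ζ = 1) (hζ1 : ζ ≠ 1) :
    (∀ q : T, q * q = 1 ∨ q * q = ζ) ∧
      ∀ t : T, t * t = 1 → (∀ q, q * t = t * q) → t = 1 ∨ t = ζ := by
  haveI : Fact (Nat.Prime 2) := ⟨Nat.prime_two⟩
  obtain ⟨h2, hchar⟩ := hT
  have hZ : IsCyclic ↥(Subgroup.center T) := hchar _ inferInstance inferInstance
  have hζZ : ζ ∈ Subgroup.center T := Subgroup.mem_center_iff.2 hζ
  have hcen : ∀ t : T, t * t = 1 → (∀ q, q * t = t * q) → t = 1 ∨ t = ζ := fun t ht htc =>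
    cyclic_sq_one hZ (Subgroup.mem_center_iff.2 htc) hζZ ht hζ2 hζ1
  refine ⟨?_, hcen⟩
  obtain ⟨N, hN⟩ : ∃ N, N = Subgroup.closure (Set.range fun q : T => q * q) := ⟨_, rfl⟩
  have hsqN : ∀ q : T, q * q ∈ N := fun q => hN ▸ Subgroup.subset_closure ⟨q, rfl⟩
  have hNc : N.Characteristic := Subgroup.characteristic_iff_map_le.2 fun φ => by
    rw [hN, MonoidHom.map_closure, Subgroup.closure_le]
    rintro _ ⟨_, ⟨q, rfl⟩, rfl⟩
    exact Subgroup.subset_closure ⟨φ q, (map_mul φ q q).symm⟩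
  have hAc : (N ⊓ Subgroup.centralizer (N : Set T)).Characteristic := Subgroup.characteristic_iff_map_le.2 fun φ => by
    have hm : ∀ v ∈ N, φ v ∈ N := fun v hv =>
      (Subgroup.characteristic_iff_map_le.1 hNc φ) ⟨v, hv, rfl⟩
    rintro _ ⟨u, ⟨huN, huc⟩, rfl⟩
    refine ⟨hm u huN, Subgroup.mem_centralizer_iff.2 fun v hv => ?_⟩
    have hv' : φ.symm v ∈ N := (Subgroup.characteristic_iff_map_le.1 hNc φ.symm) ⟨v, hv, rfl⟩
    have := congrArg φ (Subgroup.mem_centralizer_iff.1 huc _ hv')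
    rw [map_mul, map_mul, MulEquiv.apply_symm_apply] at this
    exact this
  obtain ⟨A, hA⟩ : ∃ A, A = N ⊓ Subgroup.centralizer (N : Set T) := ⟨_, rfl⟩
  rw [← hA] at hAc
  haveI := hAc
  haveI := hNc
  have hmA : ∀ {a : T}, a ∈ A ↔ a ∈ N ∧ a ∈ Subgroup.centralizer (N : Set T) := fun {a} => by
    rw [hA, Subgroup.mem_inf]
  have hAab : IsMulCommutative ↥A := ⟨⟨fun a b => Subtype.ext
    (Subgroup.mem_centralizer_iff.1 (hmA.1 b.2).2 a (hmA.1 a.2).1)⟩⟩
  have hAcy : IsCyclic ↥A := hchar A hAc hAab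
  have hAN : A ≤ N := hA ▸ inf_le_left
  have hNA : N ≤ A := by
    by_contra hno
    set μ := QuotientGroup.mk' A
    haveI : (N.map μ).Normal := Subgroup.Normal.map inferInstance μ (QuotientGroup.mk'_surjective A)
    have hne : N.map μ ≠ ⊥ := fun e => hno (by
      rwa [Subgroup.map_eq_bot_iff, QuotientGroup.ker_mk'] at e)
    obtain ⟨c, hc, hc1, hcc⟩ := Fusion.exists_central_of_normal (h2.to_quotient A) (N.map μ) hne
    obtain ⟨k, hk⟩ := (IsPGroup.iff_orderOf.1 (h2.to_quotient A)) c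
    have hd : 2 ∣ orderOf c := by
      rcases k with _ | k
      · exact absurd (orderOf_eq_one_iff.1 (by simpa using hk)) hc1
      · exact hk ▸ dvd_pow_self 2 (Nat.succ_ne_zero k)
    have hord : orderOf (c ^ (orderOf c / 2)) = 2 := orderOf_pow_orderOf_div (orderOf_pos c).ne' hd
    obtain ⟨x, hxN, hx⟩ := pow_mem hc (orderOf c / 2)
    have hxA : x ∉ A := fun e => by
      have : μ x = 1 := (QuotientGroup.eq_one_iff x).2 e
      rw [hx] at this
      rw [this, orderOf_one] at hord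
      omega
    have hx2 : x * x ∈ A := (QuotientGroup.eq_one_iff _).1 (show μ (x * x) = 1 by
      rw [map_mul, hx, ← sq, orderOf_dvd_iff_pow_eq_one.1 hord.dvd])
    refine hxA (hmA.2 ⟨hxN, Subgroup.mem_centralizer_iff.2 fun v hv => ?_⟩)
    -- elements of order two in `A` are central
    have hA2 : ∀ u ∈ A, u * u = 1 → ∀ q : T, q * u * q⁻¹ = u := by
      intro u hu hu2 q
      by_cases hu1 : u = 1
      · subst hu1; group
      rcases cyclic_sq_one hAcy ((inferInstance : A.Normal).conj_mem u hu q) hu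
        (by rw [conj_mul, hu2]; group) hu2 hu1 with e | e
      · exact absurd (conj_eq_one_iff.1 e) hu1
      · exact e
    have hsqx : ∀ q : T, (q * q) * x * (q * q)⁻¹ = x := by
      intro q
      have ha : x⁻¹ * (q * x * q⁻¹) ∈ A := (QuotientGroup.eq_one_iff _).1 (show μ (x⁻¹ * (q * x * q⁻¹)) = 1 by
        have h3 := Subgroup.mem_center_iff.1 (pow_mem hcc (orderOf c / 2)) (μ q)
        rw [← hx] at h3
        rw [map_mul, map_inv, map_mul, map_mul, map_inv, h3, mul_inv_cancel_right, inv_mul_cancel])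
      obtain ⟨a, hae⟩ : ∃ a, a = x⁻¹ * (q * x * q⁻¹) := ⟨_, rfl⟩
      rw [← hae] at ha
      have hqx : q * x * q⁻¹ = x * a := by rw [hae, mul_inv_cancel_left]
      have hax : x * a = a * x :=
        Subgroup.mem_centralizer_iff.1 (hmA.1 ha).2 x hxN
      have hxx : (x * x) * (x * x) = 1 := by
        have := h4 x
        rw [← this]; simp [pow_succ, mul_assoc]
      have ha2 : a * a = 1 := by
        have h3 : q * (x * x) * q⁻¹ = x * x := hA2 _ hx2 hxx q
        rw [← conj_mul, hqx, mul_assoc, ← mul_assoc a, ← hax, mul_assoc x a a, ← mul_assoc] at h3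
        exact mul_eq_left.1 h3
      calc (q * q) * x * (q * q)⁻¹ = q * (q * x * q⁻¹) * q⁻¹ := by group
        _ = (q * x * q⁻¹) * (q * a * q⁻¹) := by rw [show q * (q * x * q⁻¹) * q⁻¹ = q * (x * a) * q⁻¹ by rw [hqx]]; group
        _ = x * (a * a) := by rw [hqx, hA2 a ha ha2 q, mul_assoc]
        _ = x := by rw [ha2, mul_one]
    have hle : N ≤ Subgroup.centralizer ({x} : Set T) := by
      rw [hN, Subgroup.closure_le]
      rintro _ ⟨q, rfl⟩
      exact Subgroup.mem_centralizer_singleton_iff.2 (mul_inv_eq_iff_eq_mul.1 (hsqx q))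
    exact Subgroup.mem_centralizer_singleton_iff.1 (hle hv)
  intro q
  have hq : q * q ∈ A := hNA (hsqN q)
  have hq2 : (q * q) * (q * q) = 1 := by
    rw [← h4 q]; simp [pow_succ, mul_assoc]
  refine hcen _ hq2 fun r => ?_
  by_cases h1 : q * q = 1
  · rw [h1, mul_one, one_mul]
  have hconj : r * (q * q) * r⁻¹ ∈ A := (inferInstance : A.Normal).conj_mem _ hq r
  rcases cyclic_sq_one hAcy hconj hq (by rw [conj_mul, hq2]; group) hq2 h1 with e | e
  · exact absurd (conj_eq_one_iff.1 e) h1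
  · exact mul_inv_eq_iff_eq_mul.1 e

end Cfsg.Agent.LocalEven.SymConj
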