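import Cfsg.Agent.Lib.Solv.Extraspecial
import Cfsg.Agent.Lib.Fusion.Basic

/-!
Fixed-point-free elements of order five on extraspecial groups of plus type.
-/

set_option autoImplicit false

open scoped commutatorElement

namespace Cfsg.Agent.LocalEven.ExtraspecialFive

universe u

variable {E : Type u} [Group E] [Finite E] {m : ℕ}

/-- The number of solutions of `x² = 1`. -/
theorem card_sq_eq_one (hE : Cfsg.IsExtraspecial 2 E) (hcard : Nat.card E = 2 ^ (2 * m + 1))
    {A : Subgroup E} (hA : Cfsg.IsElementaryAbelian 2 A) (hAc : Nat.card A = 2 ^ (m + 1)) :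
    Nat.card {x : E // x ^ 2 = 1} = 2 ^ (2 * m) + 2 ^ m := by
  classical
  haveI : Fact (Nat.Prime 2) := ⟨Nat.prime_two⟩
  obtain ⟨m', hm', hbnd⟩ := Solv.card_eq_odd_pow hE.2 hE.1.2.2.le
  have hmm : m' = m := by
    have := Nat.pow_right_injective le_rfl (hm'.symm.trans hcard)
    omega
  rw [hmm] at hbnd
  have hAcomm : ∀ a ∈ A, ∀ b ∈ A, a * b = b * a := fun a ha b hb =>
    congrArg Subtype.val (hA.1.is_comm.comm (⟨a, ha⟩ : A) ⟨b, hb⟩)
  have hmax : ∀ x, (∀ a ∈ A, a * x = x * a) → x ∈ A := by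
    intro x hx
    have hB : IsMulCommutative (A ⊔ Subgroup.zpowers x : Subgroup E) := by
      rw [Subgroup.zpowers_eq_closure, ← Subgroup.closure_eq A, ← Subgroup.closure_union]
      refine Subgroup.isMulCommutative_closure ?_
      rintro a (ha | ha) b (hb | hb)
      · exact hAcomm a ha b hb
      · obtain rfl : b = x := hb
        exact hx a ha
      · obtain rfl : a = x := ha
        exact (hx b hb).symm
      · obtain rfl : a = x := ha
        obtain rfl : b = a := hb
        rfl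
    have h1 := Nat.le_of_dvd (pow_pos two_pos _) (hbnd _ hB)
    rw [← hAc] at h1
    rw [Subgroup.eq_of_le_of_card_ge (le_sup_left : A ≤ A ⊔ Subgroup.zpowers x) h1]
    exact Subgroup.mem_sup_right (Subgroup.mem_zpowers x)
  have hZA : Subgroup.center E ≤ A := fun z hz => hmax z fun a _ => Subgroup.mem_center_iff.1 hz a
  have hd : commutator E ≤ Subgroup.center E := hE.1.2.2.le
  haveI hAn : A.Normal := ⟨fun a ha g => by
    have hc : ⁅g, a⁆ ∈ A := hZA (hd (Subgroup.commutator_mem_commutator (Subgroup.mem_top g) (Subgroup.mem_top a)))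
    have := A.mul_mem hc ha
    rwa [show ⁅g, a⁆ * a = g * a * g⁻¹ by rw [commutatorElement_def]; group] at this⟩
  -- the fibre over a coset
  have hfib : ∀ x : E, x ∉ A → Nat.card {a : A // (x * a) ^ 2 = 1} = 2 ^ m := by
    intro x hx
    obtain ⟨χ, hχ⟩ : ∃ χ : A →* Subgroup.center E, ∀ a : A, ((χ a : Subgroup.center E) : E) = ⁅(a : E), x⁆ :=
      ⟨(Solv.commHom hd x).comp A.subtype, fun a => rfl⟩
    have hsq : ∀ a : A, (x * a) ^ 2 = x ^ 2 * ⁅(a : E), x⁆ := fun a => by
      have h1 : (a : E) * x = ⁅(a : E), x⁆ * x * a := by rw [commutatorElement_def]; group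
      have hc := hd (Subgroup.commutator_mem_commutator (Subgroup.mem_top (a : E)) (Subgroup.mem_top x))
      rw [sq, sq]
      calc x * a * (x * a) = x * ((a : E) * x) * a := by group
        _ = (x * ⁅(a : E), x⁆) * x * (a * a) := by rw [h1]; group
        _ = x * x * ⁅(a : E), x⁆ := by
          rw [show (a : E) * a = 1 by rw [← sq]; exact hA.2 a a.2, mul_one, mul_assoc,
            ← Subgroup.mem_center_iff.1 hc x, mul_assoc]
    obtain ⟨a₀, ha₀⟩ : ∃ a : A, χ a ≠ 1 := by
      by_contra h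
      push Not at h
      refine hx (hmax x fun a ha => commutatorElement_eq_one_iff_mul_comm.1 ?_)
      rw [← hχ ⟨a, ha⟩, h ⟨a, ha⟩]
      rfl
    have hsur : χ.range = ⊤ := by
      refine Subgroup.eq_top_of_le_card _ ?_
      rw [hE.2]
      haveI : Nontrivial χ.range := ⟨⟨⟨χ a₀, a₀, rfl⟩, 1, fun h => ha₀ (congrArg Subtype.val h)⟩⟩
      exact Finite.one_lt_card
    have hker : Nat.card χ.ker = 2 ^ m := by
      have h := χ.ker.card_mul_index
      rw [Subgroup.index_ker, hsur, Subgroup.card_top, hE.2, hAc, pow_succ] at h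
      exact Nat.eq_of_mul_eq_mul_right two_pos h
    have hx2 : x ^ 2 ∈ Subgroup.center E := Solv.extraspecial_pow_mem_center hE x
    obtain ⟨a₁, ha₁⟩ : ∃ a₁ : A, χ a₁ = (⟨x ^ 2, hx2⟩ : Subgroup.center E)⁻¹ := by
      have : (⟨x ^ 2, hx2⟩ : Subgroup.center E)⁻¹ ∈ χ.range := hsur ▸ Subgroup.mem_top _
      exact this
    rw [← hker]
    refine Nat.card_congr
      { toFun := fun a => ⟨a.1 * a₁⁻¹, by
          have h := a.2
          rw [hsq, ← hχ] at h
          rw [MonoidHom.mem_ker, map_mul, map_inv, ha₁, inv_inv]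
          apply Subtype.ext
          rw [Subgroup.coe_mul, ← Subgroup.mem_center_iff.1 (χ a.1).2 (x ^ 2)]
          exact h⟩
        invFun := fun k => ⟨k.1 * a₁, by
          rw [hsq, ← hχ, map_mul, MonoidHom.mem_ker.1 k.2, one_mul, ha₁, Subgroup.coe_inv, mul_inv_cancel]⟩
        left_inv := fun a => Subtype.ext (inv_mul_cancel_right _ _)
        right_inv := fun k => Subtype.ext (mul_inv_cancel_right _ _) }
  haveI : Fintype (E ⧸ A) := Fintype.ofFinite _
  have hsigma : Nat.card {x : E // x ^ 2 = 1} =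
      ∑ q : E ⧸ A, Nat.card {a : A // (q.out * a) ^ 2 = 1} := by
    rw [← Nat.card_sigma]
    have hmk : ∀ (q : E ⧸ A) (a : A), ((q.out * a : E) : E ⧸ A) = q := fun q a => by
      rw [QuotientGroup.mk_mul_of_mem _ a.2]; exact QuotientGroup.out_eq' q
    refine (Nat.card_congr (Equiv.ofBijective (fun s : Σ q : E ⧸ A, {a : A // (q.out * a) ^ 2 = 1} =>
      (⟨s.1.out * s.2.1, s.2.2⟩ : {x : E // x ^ 2 = 1})) ⟨?_, ?_⟩)).symm
    · rintro ⟨q, a, ha⟩ ⟨q', a', ha'⟩ h
      replace h : q.out * (a : E) = q'.out * (a' : E) := congrArg Subtype.val h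
      obtain rfl : q = q' := by rw [← hmk q a, ← hmk q' a', h]
      obtain rfl : a = a' := Subtype.ext (mul_left_cancel h)
      rfl
    · rintro ⟨x, hx⟩
      have hxA : (x : E ⧸ A).out⁻¹ * x ∈ A := QuotientGroup.eq.1 (QuotientGroup.out_eq' _)
      refine ⟨⟨(x : E ⧸ A), ⟨⟨_, hxA⟩, by rw [mul_inv_cancel_left]; exact hx⟩⟩, Subtype.ext ?_⟩
      exact mul_inv_cancel_left _ _
  rw [hsigma, ← Finset.add_sum_erase _ _ (Finset.mem_univ (1 : E ⧸ A))]
  have hone : (1 : E ⧸ A).out ∈ A := (QuotientGroup.eq_one_iff _).1 (QuotientGroup.out_eq' _)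
  have h1 : Nat.card {a : A // ((1 : E ⧸ A).out * a) ^ 2 = 1} = 2 ^ (m + 1) := by
    rw [← hAc]
    exact Nat.card_congr (Equiv.subtypeUnivEquiv fun a => hA.2 _ (A.mul_mem hone a.2))
  rw [h1, Finset.sum_congr rfl (fun q hq => hfib q.out fun hmem => (Finset.mem_erase.1 hq).1
    (by rw [← QuotientGroup.out_eq' q]; exact (QuotientGroup.eq_one_iff _).2 hmem)), Finset.sum_const, smul_eq_mul,
    Finset.card_erase_of_mem (Finset.mem_univ _), Finset.card_univ]
  have hidx : Fintype.card (E ⧸ A) = 2 ^ m := by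
    have h := A.card_mul_index
    rw [hAc, hcard, Subgroup.index_eq_card, Nat.card_eq_fintype_card] at h
    refine Nat.eq_of_mul_eq_mul_left (pow_pos two_pos (m + 1)) (h.trans ?_)
    rw [← pow_add]; congr 1; omega
  rw [hidx]
  have hpos : 1 ≤ 2 ^ m := Nat.one_le_pow _ _ two_pos
  rw [Nat.sub_mul, one_mul, pow_succ, mul_two, show 2 ^ (2 * m) = 2 ^ m * 2 ^ m by rw [← pow_add, two_mul]]
  have : 2 ^ m ≤ 2 ^ m * 2 ^ m := Nat.le_mul_of_pos_right _ (pow_pos two_pos _)
  omega

/-- An automorphism of order five with fixed points exactly the centre forces `4 ∣ m`. -/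
theorem four_dvd (hE : Cfsg.IsExtraspecial 2 E) (hcard : Nat.card E = 2 ^ (2 * m + 1))
    {A : Subgroup E} (hA : Cfsg.IsElementaryAbelian 2 A) (hAc : Nat.card A = 2 ^ (m + 1))
    (ω : MulAut E) (hω : orderOf ω = 5) (hfix : ∀ x : E, ω x = x ↔ x ∈ Subgroup.center E) : 4 ∣ m := by
  haveI : Fact (Nat.Prime 5) := ⟨by norm_num⟩
  have hp5 : IsPGroup 5 (Subgroup.zpowers ω) :=
    IsPGroup.of_card (n := 1) (by rw [Nat.card_zpowers, hω, pow_one])
  have key : ∀ {X : Type u} [MulAction (Subgroup.zpowers ω) X] [Finite X] (j : X → E),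
      (∀ (g : Subgroup.zpowers ω) (x : X), j (g • x) = (g : MulAut E) (j x)) → Function.Injective j →
      (∀ c ∈ Subgroup.center E, ∃ x, j x = c) → Nat.card X % 5 = 2 := by
    intro X _ _ j hj hji hjc
    have h := hp5.card_modEq_card_fixedPoints X
    have hc : Nat.card (MulAction.fixedPoints (Subgroup.zpowers ω) X) = 2 := by
      rw [← hE.2]
      refine Nat.card_congr (Equiv.ofBijective (fun x => (⟨j x.1, (hfix _).1 ?_⟩ : Subgroup.center E)) ⟨?_, ?_⟩)
      · have := congrArg j (x.2 ⟨ω, Subgroup.mem_zpowers ω⟩)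
        rwa [hj] at this
      · exact fun x y h => Subtype.ext (hji (congrArg Subtype.val h))
      · rintro ⟨c, hcc⟩
        obtain ⟨x, rfl⟩ := hjc c hcc
        refine ⟨⟨x, fun g => hji ?_⟩, rfl⟩
        rw [hj]
        have hle : Subgroup.zpowers ω ≤ MulAction.stabilizer (MulAut E) (j x) :=
          Subgroup.zpowers_le.2 ((hfix _).2 hcc)
        exact hle g.2
    rw [hc] at h
    exact h
  letI : MulAction (Subgroup.zpowers ω) {x : E // x ^ 2 = 1} :=
    { smul := fun g x => ⟨(g : MulAut E) x.1, by rw [← map_pow, x.2, map_one]⟩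
      one_smul := fun x => Subtype.ext rfl
      mul_smul := fun g h x => Subtype.ext rfl }
  have h1 := key (X := {x : E // x ^ 2 = 1}) Subtype.val (fun g x => rfl) Subtype.val_injective fun c hc => by
    refine ⟨⟨c, ?_⟩, rfl⟩
    have h := pow_card_eq_one' (x := (⟨c, hc⟩ : Subgroup.center E))
    rw [hE.2] at h
    exact congrArg Subtype.val h
  have h2 := key (X := E) id (fun g x => rfl) Function.injective_id fun c _ => ⟨c, rfl⟩
  rw [card_sq_eq_one hE hcard hA hAc, pow_mul] at h1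
  rw [hcard, pow_succ, pow_mul] at h2
  have hper : ∀ b : ℕ, (b ^ 4) % 5 = 1 → b ^ m % 5 = b ^ (m % 4) % 5 := fun b hb => by
    conv_lhs => rw [← Nat.div_add_mod m 4, pow_add, pow_mul, Nat.mul_mod, Nat.pow_mod, hb, one_pow]
    simp [Nat.mod_mod]
  rw [Nat.add_mod, hper _ (by norm_num), hper 2 (by norm_num)] at h1
  rw [Nat.mul_mod, hper _ (by norm_num)] at h2
  have hlt := Nat.mod_lt m (show 4 > 0 by norm_num)
  have h4 : m % 4 = 0 := by
    interval_cases hm : m % 4 <;> first | rfl | (norm_num at h1; done) | (norm_num at h2)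
  exact Nat.dvd_of_mod_eq_zero h4

end Cfsg.Agent.LocalEven.ExtraspecialFive
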