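import Mathlib
import Cfsg.Prelude.Def_LocalStructure
import Cfsg.Agent.Lib.Fusion.Cores
import Cfsg.Agent.Lib.Fusion.Reduction
import Cfsg.Agent.Lib.Fusion.NPC
import Cfsg.Agent.Lib.Solv.MinNonClosed

/-!
`p`-closed, `p`-irreducible and minimal parabolic groups.
-/

set_option autoImplicit false

open scoped commutatorElement Pointwise

namespace Cfsg.Agent.LocalEven.PIrr

open Cfsg Cfsg.Agent.Fusion

variable {G : Type*} [Group G] [Finite G] {p : ℕ} [Fact p.Prime]

theorem pclosed_iff (T : Sylow p G) : IsPClosed p G ↔ (T : Subgroup G) ≤ pCore p G := by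
  constructor
  · intro h
    haveI := h T
    exact le_pCore T.isPGroup'
  · intro h
    haveI : (T : Subgroup G).Normal := by
      rw [le_antisymm h (pCore_le_sylow T)]; infer_instance
    exact Solv.pclosed_of_normal (T : Subgroup G) T.isPGroup' T.not_dvd_index

theorem pclosed_sub_iff (T : Sylow p G) (N : Subgroup G) [N.Normal] :
    IsPClosed p N ↔ (T : Subgroup G) ⊓ N ≤ pCore p G := by
  obtain ⟨P, hP⟩ := ((sylIn_top T).inf_normal (le_top : N ≤ ⊤)
    (by rw [Subgroup.normalizer_eq_top])).exists_sylow_subgroupOf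
  rw [pclosed_iff P, hP]
  constructor
  · intro h x hx
    have : ((pCore p N).map N.subtype).Normal := inferInstance
    exact le_pCore (N := (pCore p N).map N.subtype) ((isPGroup_pCore p N).map _)
      ⟨⟨x, (Subgroup.mem_inf.1 hx).2⟩, h hx, rfl⟩
  · intro h x hx
    exact le_pCore (N := (pCore p G).subgroupOf N)
      ((isPGroup_pCore p G).comap_of_injective N.subtype N.subtype_injective) (h hx)

theorem inf_le_of_closed (N : Subgroup G) [N.Normal] (h : IsPClosed p N) {Q : Subgroup G}
    (hQ : IsPGroup p Q) : Q ⊓ N ≤ pCore p G := by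
  obtain ⟨T, hT⟩ := hQ.exists_le_sylow
  exact (inf_le_inf_right N hT).trans ((pclosed_sub_iff T N).1 h)

theorem residual_le_of_sup {N T : Subgroup G} [N.Normal] (hT : IsPGroup p T) (h : N ⊔ T = ⊤) :
    pResidual p G ≤ N := by
  refine pResidual_le_of_isPGroup_quotient fun x => ?_
  obtain ⟨g, rfl⟩ := QuotientGroup.mk'_surjective N x
  obtain ⟨n, hn, t, ht, rfl⟩ := Subgroup.mem_sup_of_normal_left.1 (h ▸ Subgroup.mem_top g : g ∈ N ⊔ T)
  obtain ⟨k, hk⟩ := hT ⟨t, ht⟩
  refine ⟨k, ?_⟩
  rw [map_mul, show (QuotientGroup.mk' N) n = 1 from (QuotientGroup.eq_one_iff n).2 hn, one_mul,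
    ← map_pow, show t ^ p ^ k = 1 from congrArg Subtype.val hk, map_one]

theorem residual_le_of_le {M N : Subgroup G} [N.Normal] [M.Normal] (hR : pResidual p G ≤ M)
    {Q : Subgroup G} (hQ : IsPGroup p Q) (hM : M ≤ N ⊔ Q) : pResidual p G ≤ N := by
  have h : IsPGroup p (G ⧸ N) := by
    intro x
    obtain ⟨g, rfl⟩ := QuotientGroup.mk'_surjective N x
    obtain ⟨a, ha⟩ := (isPGroup_quotient_pResidual (p := p) (G := G)) (QuotientGroup.mk g)
    rw [← QuotientGroup.mk_pow, QuotientGroup.eq_one_iff] at ha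
    obtain ⟨n, hn, q, hq, he⟩ := Subgroup.mem_sup_of_normal_left.1 (hM (hR ha))
    obtain ⟨k, hk⟩ := hQ ⟨q, hq⟩
    refine ⟨a + k, ?_⟩
    rw [pow_add, pow_mul, ← map_pow, ← he, map_mul,
      show (QuotientGroup.mk' N) n = 1 from (QuotientGroup.eq_one_iff n).2 hn, one_mul, ← map_pow,
      show q ^ p ^ k = 1 from congrArg Subtype.val hk, map_one]
  exact pResidual_le_of_isPGroup_quotient h

theorem normal_commutator_residual {Y : Subgroup G} (T : Sylow p G)
    (hTY : (T : Subgroup G) ≤ Subgroup.normalizer (Y : Set G)) :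
    (⁅pResidual p G, Y⁆ : Subgroup G).Normal := by
  rw [← Subgroup.normalizer_eq_top_iff, eq_top_iff, ← pResidual_sup_sylow T]
  refine sup_le (Subgroup.normalizer_commutator_ge_left _ _) fun t ht => mem_normalizer_iff_cj.2 ?_
  rw [cj_commutator, cj_of_normal, cj_eq_self (hTY ht)]

theorem commutator_residual_eq (hH : IsPIrreducible p G) (T : Sylow p G) {Y : Subgroup G}
    (hY : Y ≤ (T : Subgroup G)) (hTY : (T : Subgroup G) ≤ Subgroup.normalizer (Y : Set G))
    (hnY : ¬ Y ≤ pCore p G) :
    ⁅pResidual p G, Y⁆ = pResidual p G ∧ pResidual p G ≤ Subgroup.normalClosure (Y : Set G) := by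
  set R := pResidual p G
  have hN : R ≤ Subgroup.normalClosure (Y : Set G) := by
    refine hH.2 _ Subgroup.normalClosure_normal fun hc => hnY ?_
    exact (le_inf hY Subgroup.le_normalClosure).trans ((pclosed_sub_iff T _).1 hc)
  refine ⟨le_antisymm (Subgroup.commutator_le_left R Y) ?_, hN⟩
  haveI := normal_commutator_residual T hTY
  set M : Subgroup G := ⁅R, Y⁆
  haveI hMY : (M ⊔ Y).Normal := by
    rw [← Subgroup.normalizer_eq_top_iff, eq_top_iff, ← pResidual_sup_sylow T]
    refine sup_le (fun r hr => mem_normalizer_of_cj_le ?_) fun t ht => mem_normalizer_iff_cj.2 ?_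
    · rw [cj_sup, cj_of_normal]
      refine sup_le le_sup_left ?_
      rintro _ ⟨y, hy, rfl⟩
      have e : (MulAut.conj r).toMonoidHom y = ⁅r, y⁆ * y := by simp [commutatorElement_def]
      rw [e]
      exact mul_mem (Subgroup.mem_sup_left (Subgroup.commutator_mem_commutator hr hy))
        (Subgroup.mem_sup_right hy)
    · rw [cj_sup, cj_of_normal, cj_eq_self (hTY ht)]
  exact residual_le_of_le hN (T.isPGroup'.to_le hY)
    (Subgroup.normalClosure_le_normal (le_sup_right : Y ≤ M ⊔ Y))

theorem pclosed_quot_iff (D : Subgroup G) [D.Normal] (hD : IsPGroup p D) (T : Sylow p G)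
    (N : Subgroup G) [N.Normal] [(N.map (QuotientGroup.mk' D)).Normal] :
    IsPClosed p (N.map (QuotientGroup.mk' D) : Subgroup (G ⧸ D)) ↔ IsPClosed p N := by
  obtain ⟨T', hT'⟩ := (sylIn_map_mk (N := D) (sylIn_top T)).exists_sylow
  rw [pclosed_sub_iff T', pclosed_sub_iff T, hT']
  set π := QuotientGroup.mk' D
  have hDT : D ≤ (T : Subgroup G) := hD.le_sylow_of_normal T
  have hcore : pCore p G = (pCore p (G ⧸ D)).comap π := by
    haveI : ((pCore p (G ⧸ D)).comap π).Normal := inferInstance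
    haveI : ((pCore p G).map π).Normal := Subgroup.Normal.map inferInstance π (QuotientGroup.mk'_surjective D)
    refine le_antisymm ?_ (le_pCore ((isPGroup_pCore p _).comap_of_ker_isPGroup π
      (by rw [QuotientGroup.ker_mk']; exact hD)))
    exact Subgroup.map_le_iff_le_comap.1 (le_pCore ((isPGroup_pCore p G).map π))
  constructor
  · intro h
    rw [hcore, ← Subgroup.map_le_iff_le_comap]
    exact (Subgroup.map_inf_le _ _ π).trans h
  · rintro h _ ⟨⟨t, ht, rfl⟩, ⟨n, hn, he⟩⟩
    have hd : n⁻¹ * t ∈ D := QuotientGroup.eq.1 he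
    have hnT : n ∈ (T : Subgroup G) := by
      have := mul_mem ht (inv_mem (hDT hd)); simpa [mul_assoc] using this
    rw [← he]
    exact Subgroup.mem_comap.1 (hcore ▸ h ⟨hnT, hn⟩)

theorem map_core_le_iff (D : Subgroup G) [D.Normal] (hD : IsPGroup p D) (X : Subgroup G) :
    X.map (QuotientGroup.mk' D) ≤ pCore p (G ⧸ D) ↔ X ≤ pCore p G := by
  set π := QuotientGroup.mk' D
  haveI : ((pCore p (G ⧸ D)).comap π).Normal := inferInstance
  haveI : ((pCore p G).map π).Normal := Subgroup.Normal.map inferInstance π (QuotientGroup.mk'_surjective D)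
  constructor
  · intro h
    exact (Subgroup.map_le_iff_le_comap.1 h).trans (le_pCore ((isPGroup_pCore p _).comap_of_ker_isPGroup π
      (by rw [QuotientGroup.ker_mk']; exact hD)))
  · intro h
    exact (Subgroup.map_mono h).trans (le_pCore ((isPGroup_pCore p G).map π))

theorem residual_map (N : Subgroup G) [N.Normal] :
    (pResidual p G).map (QuotientGroup.mk' N) = pResidual p (G ⧸ N) :=
  map_pResidual_of_surjective (QuotientGroup.mk' N) (QuotientGroup.mk'_surjective N)

/-- Proper subgroups over `Y` lie in the unique maximal subgroup. -/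
theorem le_max {Y M : Subgroup G} (hu : ∀ M', IsCoatom M' ∧ Y ≤ M' → M' = M) {X : Subgroup G}
    (hX : X ≠ ⊤) (hYX : Y ≤ X) : X ≤ M := by
  obtain ⟨M', hM', hle⟩ := (eq_top_or_exists_le_coatom X).resolve_left hX
  exact hu M' ⟨hM', hYX.trans hle⟩ ▸ hle

theorem normalClosure_le {Y X : Subgroup G} (hn : Subgroup.normalClosure (Y : Set G) = ⊤)
    [X.Normal] (h : Y ≤ X) : X = ⊤ :=
  top_le_iff.1 (hn ▸ Subgroup.normalClosure_le_normal h)

end Cfsg.Agent.LocalEven.PIrr
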