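import Cfsg.Agent.Lib.LocalEven.IsolatedMinimal
import Cfsg.Agent.Lib.Fusion.NPC
import Cfsg.Agent.S2906
import Cfsg.Prelude.Def_LocalEven

/-!
# Isolated `p`-minimal subgroups: from the group to the group modulo `O_p(G)`
-/

set_option autoImplicit false
open scoped commutatorElement

namespace Cfsg.Agent.LocalEven.Isolated

open Cfsg Cfsg.Agent.Fusion

variable {G : Type*} [Group G] [Finite G] {p : ℕ} [hp : Fact p.Prime]

/-- Subgroups over `S` avoid `P` only inside `L`. -/
theorem gen_group (S : Sylow p G) (P L : Subgroup G)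
    (hN : Subgroup.normalizer ((S : Subgroup G) : Set G) ≤ L)
    (hmin : ∀ X : Subgroup G, (S : Subgroup G) ≤ X → IsPMinimal p ↥X → X ≠ P → X ≤ L) :
    ∀ X : Subgroup G, (S : Subgroup G) ≤ X → (P ≤ X ∧ X ≤ P ⊔ (L ⊓ X)) ∨ X ≤ L := by
  suffices key : ∀ n, ∀ X : Subgroup G, Nat.card X = n → (S : Subgroup G) ≤ X →
      (P ≤ X ∧ X ≤ P ⊔ (L ⊓ X)) ∨ X ≤ L from fun X hX => key _ X rfl hX
  intro n
  induction n using Nat.strong_induction_on with
  | _ n ih =>
  intro X hn hSX
  by_cases hXP : X = P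
  · exact Or.inl ⟨hXP.ge, hXP.le.trans le_sup_left⟩
  by_cases hXm : IsPMinimal p ↥X
  · exact Or.inr (hmin X hSX hXm hXP)
  by_cases hnorm : ((S : Subgroup G).subgroupOf X).Normal
  · exact Or.inr (((Subgroup.normal_subgroupOf_iff_le_normalizer hSX).1 hnorm).trans hN)
  have hsyl : SylIn p ((S : Subgroup G).subgroupOf X) ⊤ := by
    obtain ⟨T, hT⟩ := ((sylIn_top S).mono hSX le_top).exists_sylow_subgroupOf
    exact hT ▸ sylIn_top T
  have hne : (S : Subgroup G).subgroupOf X ≠ ⊤ := fun h => hnorm (h ▸ inferInstance)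
  obtain ⟨M₁, hM₁, hS₁⟩ := (eq_top_or_exists_le_coatom ((S : Subgroup G).subgroupOf X)).resolve_left hne
  obtain ⟨M₂, hM₂, hS₂, hne₂⟩ : ∃ M₂, M₂ ≠ ⊤ ∧ (S : Subgroup G).subgroupOf X ≤ M₂ ∧ ¬ M₂ ≤ M₁ := by
    by_contra h
    push Not at h
    exact hXm (S2906.isPMinimal_of _ hsyl hnorm M₁ hM₁.1 hS₁ fun Y hY hSY => h Y hY hSY)
  have htop : M₁ ⊔ M₂ = ⊤ := hM₁.2 _ (lt_of_le_of_ne le_sup_left fun e => hne₂ (e ▸ le_sup_right))
  have hX : M₁.map X.subtype ⊔ M₂.map X.subtype = X := by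
    rw [← Subgroup.map_sup, htop, ← MonoidHom.range_eq_map, Subgroup.range_subtype]
  have hih : ∀ M : Subgroup ↥X, M ≠ ⊤ → (S : Subgroup G).subgroupOf X ≤ M →
      (P ≤ M.map X.subtype ∧ M.map X.subtype ≤ P ⊔ (L ⊓ M.map X.subtype)) ∨ M.map X.subtype ≤ L := by
    intro M hM hSM
    refine ih _ ?_ _ rfl fun x hx => ⟨⟨x, hSX hx⟩, hSM hx, rfl⟩
    rw [← hn, Subgroup.card_map_of_injective X.subtype_injective]
    exact lt_of_le_of_ne (Subgroup.card_le_card_group M) fun h => hM (Subgroup.card_eq_iff_eq_top M |>.1 h)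
  have hXsub : ∀ M : Subgroup ↥X, M.map X.subtype ≤ X := fun M => Subgroup.map_subtype_le M
  have hpart : ∀ M : Subgroup ↥X, M ≠ ⊤ → (S : Subgroup G).subgroupOf X ≤ M →
      M.map X.subtype ≤ P ⊔ (L ⊓ X) := by
    intro M hM hSM
    rcases hih M hM hSM with h | h
    · exact h.2.trans (sup_le_sup_left (inf_le_inf_left _ (hXsub M)) _)
    · exact le_sup_of_le_right (le_inf h (hXsub M))
  rcases hih M₁ hM₁.1 hS₁ with h1 | h1
  · exact Or.inl ⟨h1.1.trans (hXsub M₁), hX.ge.trans (sup_le (hpart M₁ hM₁.1 hS₁) (hpart M₂ hM₂ hS₂))⟩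
  rcases hih M₂ hM₂ hS₂ with h2 | h2
  · exact Or.inl ⟨h2.1.trans (hXsub M₂), hX.ge.trans (sup_le (hpart M₁ hM₁.1 hS₁) (hpart M₂ hM₂ hS₂))⟩
  exact Or.inr (hX.ge.trans (sup_le h1 h2))

/-- The hypothesis on `G`. -/
structure Data (p : ℕ) (S : Sylow p G) (P L : Subgroup G) : Prop where
  sP : (S : Subgroup G) ≤ P
  pmin : IsPMinimal p ↥P
  hL : L = Subgroup.normalizer ((S : Subgroup G) : Set G) ⊔
    ⨆ P' : {P' : Subgroup G // (S : Subgroup G) ≤ P' ∧ IsPMinimal p ↥P' ∧ P' ≠ P}, (P' : Subgroup G)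
  iso : ¬ (pCore p ↥L).map L.subtype ≤ (pCore p ↥P).map P.subtype

namespace Data

variable {S : Sylow p G} {P L : Subgroup G}

theorem sL (d : Data p S P L) : (S : Subgroup G) ≤ L :=
  d.hL ▸ le_sup_of_le_left Subgroup.le_normalizer

theorem gen (d : Data p S P L) :
    ∀ X : Subgroup G, (S : Subgroup G) ≤ X → (P ≤ X ∧ X ≤ P ⊔ (L ⊓ X)) ∨ X ≤ L :=
  gen_group S P L (d.hL ▸ le_sup_left) fun X h1 h2 h3 => d.hL ▸ le_sup_of_le_right
    (le_iSup (fun P' : {P' : Subgroup G // (S : Subgroup G) ≤ P' ∧ IsPMinimal p ↥P' ∧ P' ≠ P} => (P' : Subgroup G))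
      ⟨X, h1, h2, h3⟩)

theorem r_le_S (d : Data p S P L) : (pCore p ↥L).map L.subtype ≤ (S : Subgroup G) := by
  obtain ⟨T, hT⟩ := ((sylIn_top S).mono d.sL le_top).exists_sylow_subgroupOf
  rintro _ ⟨x, hx, rfl⟩
  have h := pCore_le_sylow T hx
  rw [hT] at h
  exact h

theorem r_le_normalizer (d : Data p S P L) :
    L ≤ Subgroup.normalizer (((pCore p ↥L).map L.subtype : Subgroup G) : Set G) := by
  intro l hl
  exact Subgroup.le_normalizer_map L.subtype ⟨⟨l, hl⟩, by
    rw [Subgroup.normalizer_eq_top]; exact Subgroup.mem_top _, rfl⟩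

theorem top (d : Data p S P L) : P ⊔ L = ⊤ := by
  rcases d.gen ⊤ le_top with ⟨-, h⟩ | h
  · exact top_le_iff.1 (h.trans (sup_le_sup_left inf_le_left _))
  · exact top_le_iff.1 (h.trans le_sup_right)

theorem setup (d : Data p S P L) [(pCore p G).Normal] :
    Setup p ((S : Subgroup G).map (QuotientGroup.mk' (pCore p G))) (P.map (QuotientGroup.mk' (pCore p G)))
      (L.map (QuotientGroup.mk' (pCore p G)))
      (((pCore p ↥L).map L.subtype).map (QuotientGroup.mk' (pCore p G)))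
      (((pResidual p ↥P).map P.subtype).map (QuotientGroup.mk' (pCore p G))) where
  core := pCore_quotient_eq_bot
  syl := by
    have h := sylIn_top (S.mapSurjective (QuotientGroup.mk'_surjective (pCore p G)))
    exact h
  gen X hX := by
    have hker : pCore p G ≤ X.comap (QuotientGroup.mk' (pCore p G)) := fun x hx => by
      rw [Subgroup.mem_comap, show QuotientGroup.mk' (pCore p G) x = 1 from (QuotientGroup.eq_one_iff x).2 hx]
      exact one_mem _
    have hmap : (X.comap (QuotientGroup.mk' (pCore p G))).map (QuotientGroup.mk' (pCore p G)) = X :=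
      Subgroup.map_comap_eq_self_of_surjective (QuotientGroup.mk'_surjective _) X
    rcases d.gen (X.comap (QuotientGroup.mk' (pCore p G))) (Subgroup.map_le_iff_le_comap.1 hX) with ⟨h1, h2⟩ | h
    · refine Or.inl ⟨Subgroup.map_le_iff_le_comap.2 h1, ?_⟩
      conv_lhs => rw [← hmap]
      refine (Subgroup.map_mono h2).trans ?_
      rw [Subgroup.map_sup]
      exact sup_le_sup_left ((Subgroup.map_inf_le _ _ _).trans (inf_le_inf_left _ hmap.le)) _
    · exact Or.inr (hmap ▸ Subgroup.map_mono h)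
  sP := Subgroup.map_mono d.sP
  sL := Subgroup.map_mono d.sL
  top := by rw [← Subgroup.map_sup, d.top, Subgroup.map_top_of_surjective _ (QuotientGroup.mk'_surjective _)]
  rp := ((isPGroup_pCore p ↥L).map _).map _
  rS := Subgroup.map_mono d.r_le_S
  rL := (Subgroup.map_mono d.r_le_normalizer).trans (Subgroup.le_normalizer_map _)
  rP := fun h => by
    obtain ⟨R₁, hR₁⟩ : ∃ R₁, R₁ = (((pCore p ↥L).map L.subtype).map (QuotientGroup.mk' (pCore p G))).comap
        (QuotientGroup.mk' (pCore p G)) := ⟨_, rfl⟩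
    have hRS : R₁ ≤ (S : Subgroup G) := by
      rw [hR₁]
      refine (Subgroup.comap_mono (Subgroup.map_mono d.r_le_S)).trans ?_
      rw [Subgroup.comap_map_eq, QuotientGroup.ker_mk']
      exact sup_le le_rfl (pCore_le_sylow S)
    have hPn : P ≤ Subgroup.normalizer (R₁ : Set G) := fun x hx => by
      refine mem_normalizer_of_cj_le fun y hy => ?_
      obtain ⟨z, hz, rfl⟩ := hy
      rw [hR₁] at hz ⊢
      rw [SetLike.mem_coe, Subgroup.mem_comap] at hz
      rw [Subgroup.mem_comap]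
      change QuotientGroup.mk' (pCore p G) (x * z * x⁻¹) ∈
        (((pCore p ↥L).map L.subtype).map (QuotientGroup.mk' (pCore p G)))
      rw [map_mul, map_mul, map_inv]
      exact (Subgroup.mem_normalizer_iff.1 (h (Subgroup.mem_map_of_mem _ hx)) _).1 hz
    refine d.iso fun x hx => ?_
    have hx1 : x ∈ R₁ := by rw [hR₁]; exact Subgroup.mem_map_of_mem _ hx
    haveI := (Subgroup.normal_subgroupOf_iff_le_normalizer (hRS.trans d.sP)).2 hPn
    have hle : R₁.subgroupOf P ≤ pCore p ↥P :=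
      le_pCore (N := R₁.subgroupOf P) ((S.isPGroup'.to_le hRS).comap_subtype (K := P))
    exact ⟨⟨x, d.sP (hRS hx1)⟩, hle (Subgroup.mem_subgroupOf.2 hx1), rfl⟩
  zP := by
    obtain ⟨T, hT⟩ := ((sylIn_top S).mono d.sP le_top).exists_sylow_subgroupOf
    have h := congrArg (Subgroup.map P.subtype) (pResidual_sup_sylow T)
    rw [Subgroup.map_sup, hT, Subgroup.map_subgroupOf_eq_of_le d.sP, ← MonoidHom.range_eq_map,
      Subgroup.range_subtype] at h
    rw [← Subgroup.map_sup, h]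
  zS := (Subgroup.map_mono (fun s hs => Subgroup.le_normalizer_map P.subtype ⟨⟨s, d.sP hs⟩, by
    rw [Subgroup.normalizer_eq_top]; exact Subgroup.mem_top _, rfl⟩)).trans (Subgroup.le_normalizer_map _)
  zgen N hN := by
    rw [Subgroup.map_map, Subgroup.map_le_iff_le_comap, pResidual, Subgroup.closure_le]
    intro g hg
    refine hN _ ⟨g, g.2, rfl⟩ (Nat.Coprime.coprime_dvd_left ?_ hg)
    rw [← Subgroup.orderOf_coe g]
    exact orderOf_map_dvd (QuotientGroup.mk' (pCore p G)) (g : G)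

theorem residual_normal (d : Data p S P L) [(pCore p G).Normal]
    (h : (((pResidual p ↥P).map P.subtype).map (QuotientGroup.mk' (pCore p G))).Normal) :
    ((pResidual p ↥P).map P.subtype).Normal := by
  obtain ⟨M, hM⟩ : ∃ M, M = (((pResidual p ↥P).map P.subtype).map (QuotientGroup.mk' (pCore p G))).comap
      (QuotientGroup.mk' (pCore p G)) := ⟨_, rfl⟩
  have hMn : M.Normal := hM ▸ h.comap _
  have hMP : M ≤ P := by
    rw [hM, Subgroup.comap_map_eq, QuotientGroup.ker_mk']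
    exact sup_le (Subgroup.map_subtype_le _) ((pCore_le_sylow S).trans d.sP)
  have heq : (pResidual p ↥P).map P.subtype = Subgroup.closure {g : G | g ∈ M ∧ (orderOf g).Coprime p} := by
    refine le_antisymm ?_ ((Subgroup.closure_le _).2 ?_)
    · rw [pResidual, MonoidHom.map_closure]
      refine Subgroup.closure_mono ?_
      rintro _ ⟨g, hg, rfl⟩
      refine ⟨hM ▸ Subgroup.mem_map_of_mem _ (Subgroup.mem_map_of_mem _ (Subgroup.subset_closure hg)), ?_⟩
      rwa [Subgroup.coe_subtype, Subgroup.orderOf_coe]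
    · rintro g ⟨hg, ho⟩
      exact ⟨⟨g, hMP hg⟩, Subgroup.subset_closure (by
        show (orderOf (⟨g, hMP hg⟩ : ↥P)).Coprime p
        rwa [Subgroup.orderOf_mk]), rfl⟩
  rw [heq, normal_iff_cj]
  intro g
  refine cj_eq_of_cj_le ?_
  rw [cj, MonoidHom.map_closure]
  refine Subgroup.closure_mono ?_
  rintro _ ⟨x, ⟨hx, ho⟩, rfl⟩
  refine ⟨hMn.conj_mem x hx g, ?_⟩
  show (orderOf ((MulAut.conj g) x)).Coprime p
  rwa [MulEquiv.orderOf_eq]

end Data

/-- The kernel of a normal subgroup of `G` in `G / O_p(G)`. -/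
theorem ker_comp_subtype (Y : Subgroup G) [Y.Normal] [(pCore p G).Normal] :
    ((QuotientGroup.mk' (pCore p G)).comp Y.subtype).ker = pCore p ↥Y := by
  refine le_antisymm ?_ fun y hy => ?_
  · refine le_pCore (N := ((QuotientGroup.mk' (pCore p G)).comp Y.subtype).ker) ?_
    have : ((QuotientGroup.mk' (pCore p G)).comp Y.subtype).ker = (pCore p G).comap Y.subtype := by
      rw [← MonoidHom.comap_ker, QuotientGroup.ker_mk']
    rw [this]
    exact (isPGroup_pCore p G).comap_of_injective _ Y.subtype_injective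
  · haveI : ((pCore p ↥Y).map Y.subtype).Normal := Solv.map_subtype_normal_of_characteristic Y _
    rw [MonoidHom.mem_ker]
    exact (QuotientGroup.eq_one_iff _).2
      (le_pCore (N := (pCore p ↥Y).map Y.subtype) ((isPGroup_pCore p ↥Y).map _) ⟨y, hy, rfl⟩)

/-- `Y / O_p(Y)` is the image of `Y` in `G / O_p(G)`. -/
theorem exists_equiv (Y : Subgroup G) [Y.Normal] [(pCore p G).Normal] :
    ∃ e : ↥Y ⧸ pCore p ↥Y ≃* ↥(Y.map (QuotientGroup.mk' (pCore p G))),
      ∀ y : ↥Y, (e (QuotientGroup.mk y) : G ⧸ pCore p G) = QuotientGroup.mk' (pCore p G) (y : G) := by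
  have hr : ((QuotientGroup.mk' (pCore p G)).comp Y.subtype).range = Y.map (QuotientGroup.mk' (pCore p G)) := by
    rw [MonoidHom.range_comp, Subgroup.range_subtype]
  refine ⟨((QuotientGroup.quotientMulEquivOfEq (ker_comp_subtype Y).symm).trans
    (QuotientGroup.quotientKerEquivRange _)).trans (MulEquiv.subgroupCongr hr), fun y => rfl⟩

theorem component_map {A B : Type*} [Group A] [Group B] (e : A ≃* B) {K : Subgroup A} (hK : IsComponent K) :
    IsComponent (K.map e.toMonoidHom) :=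
  ⟨hK.1.map e.surjective, Local.isQuasisimple_congr (K.equivMapOfInjective e.toMonoidHom e.injective) hK.2⟩

theorem layer_map {A B : Type*} [Group A] [Group B] (e : A ≃* B) (h : layer A = ⊤) : layer B = ⊤ := by
  rw [eq_top_iff, ← Subgroup.map_top_of_surjective e.toMonoidHom e.surjective, ← h, layer,
    Subgroup.map_le_iff_le_comap]
  exact sSup_le fun K hK => Subgroup.map_le_iff_le_comap.1 (Solv.component_le_layer (component_map e hK))

end Cfsg.Agent.LocalEven.Isolated
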