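/-
`S₄` is involved exactly when some automizer of a 2-subgroup involves `S₃`.
-/
import Mathlib
import Cfsg.Agent.Lib.Fusion.Sections
import Cfsg.Agent.Lib.Fusion.LinearStable
import Cfsg.Agent.Lib.Solv.HallHigman
import Cfsg.Agent.Lib.Lead.SFourSection

set_option autoImplicit false

namespace Cfsg.Agent.LocalEven.SFour

open Cfsg.Agent.Fusion
open scoped commutatorElement

universe u

/-- The action of `S₄` on the three pairings of its points. -/
def piHom : Equiv.Perm (Fin 4) →* Equiv.Perm (Fin 3) where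
  toFun σ :=
    { toFun := fun i => (![0, 0, 1, 2] : Fin 4 → Fin 3) ((![![0, 1, 2, 3], ![1, 0, 3, 2], ![2, 3, 0, 1], ![3, 2, 1, 0]] : Fin 4 → Fin 4 → Fin 4) (σ 0) (σ i.succ))
      invFun := fun i => (![0, 0, 1, 2] : Fin 4 → Fin 3) ((![![0, 1, 2, 3], ![1, 0, 3, 2], ![2, 3, 0, 1], ![3, 2, 1, 0]] : Fin 4 → Fin 4 → Fin 4) (σ.symm 0) (σ.symm i.succ))
      left_inv := by revert σ; unfold Function.LeftInverse; decide +kernel
      right_inv := by revert σ; unfold Function.RightInverse Function.LeftInverse; decide +kernel }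
  map_one' := by decide +kernel
  map_mul' := by decide +kernel

theorem piHom_surjective : Function.Surjective piHom := by
  unfold Function.Surjective; decide +kernel

theorem piHom_sq : ∀ v : Equiv.Perm (Fin 4), piHom v = 1 → v * v = 1 := by decide +kernel

theorem piHom_ab : ∀ v w : Equiv.Perm (Fin 4), piHom v = 1 → piHom w = 1 → v * w = w * v := by decide +kernel

theorem piHom_cent : ∀ σ : Equiv.Perm (Fin 4), (∀ v, piHom v = 1 → σ * v = v * σ) → piHom σ = 1 := by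
  decide +kernel

theorem perm_three : ∀ u v : Equiv.Perm (Fin 3), Equiv.Perm.sign u = -1 → Equiv.Perm.sign v = 1 →
    u * v = v * u → v = 1 := by decide +kernel

/-- An element of order three inverted by a 2-element. -/
theorem exists_inverted_three {Q : Type u} [Group Q] [Finite Q] (h : Cfsg.Involves (Equiv.Perm (Fin 3)) Q) :
    ∃ b y : Q, (∃ k, b ^ 2 ^ k = 1) ∧ y ≠ 1 ∧ y ^ 3 = 1 ∧ b * y * b⁻¹ = y⁻¹ := by
  haveI : Fact (Nat.Prime 3) := ⟨by norm_num⟩
  obtain ⟨K, f, hf⟩ := involves_exists_surjective h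
  set s : ↥K →* ℤˣ := Equiv.Perm.sign.comp f
  set L : Subgroup ↥K := s.ker
  have hsf : Function.Surjective s := (Equiv.Perm.sign_surjective (Fin 3)).comp hf
  have hLi : L.index = 2 := by
    rw [Subgroup.index_ker, MonoidHom.range_eq_top.2 hsf, Subgroup.card_top, Nat.card_eq_fintype_card]
    rfl
  obtain ⟨P⟩ : Nonempty (Sylow 3 ↥K) := inferInstance
  have hPL : (P : Subgroup ↥K) ≤ L := by
    intro x hx
    obtain ⟨k, hk⟩ := P.2 ⟨x, hx⟩
    have hk' : x ^ 3 ^ k = 1 := congrArg Subtype.val hk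
    have := congrArg s hk'
    rw [map_pow, map_one] at this
    rcases Int.units_eq_one_or (s x) with h1 | h1
    · exact h1
    · rw [h1, (Odd.pow (by decide) : Odd (3 ^ k)).neg_one_pow] at this
      exact absurd this (by decide)
  have hfr := Sylow.normalizer_sup_eq_top' P hPL
  obtain ⟨a₀, ha₀N, ha₀⟩ : ∃ a, a ∈ Subgroup.normalizer ((P : Subgroup ↥K) : Set ↥K) ∧ a ∉ L := by
    by_contra hcon
    simp only [not_exists, not_and, not_not] at hcon
    have : L = ⊤ := top_le_iff.1 (hfr ▸ sup_le hcon le_rfl)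
    rw [this, Subgroup.index_top] at hLi
    omega
  obtain ⟨e, m, hm, hem⟩ := Nat.exists_eq_two_pow_mul_odd (n := orderOf a₀) (orderOf_pos a₀).ne'
  set a := a₀ ^ m with ha
  have haN : a ∈ Subgroup.normalizer ((P : Subgroup ↥K) : Set ↥K) := pow_mem ha₀N m
  have hae : a ^ 2 ^ e = 1 := by rw [ha, ← pow_mul, mul_comm, ← hem, pow_orderOf_eq_one]
  have has : Equiv.Perm.sign (f a) = -1 := by
    have h1 : s a₀ = -1 := (Int.units_eq_one_or (s a₀)).resolve_left ha₀
    change s a = -1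
    rw [ha, map_pow, h1, hm.neg_one_pow]
  obtain ⟨x₀, hx₀, hax₀⟩ : ∃ x ∈ (P : Subgroup ↥K), a * x ≠ x * a := by
    by_contra hcon
    simp only [not_exists, not_and, not_not] at hcon
    have hker : (P : Subgroup ↥K) ≤ f.ker := fun x hx =>
      perm_three (f a) (f x) has (hPL hx) (by rw [← map_mul, hcon x hx, map_mul])
    have h6 : f.ker.index = 6 := by
      rw [Subgroup.index_ker, MonoidHom.range_eq_top.2 hf, Subgroup.card_top, Nat.card_eq_fintype_card,
        Fintype.card_perm, Fintype.card_fin]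
      rfl
    exact P.not_dvd_index ((by norm_num : 3 ∣ 6).trans (h6 ▸ Subgroup.index_dvd_of_le hker))
  classical
  have hex : ∃ j, ∀ x ∈ (P : Subgroup ↥K), a ^ 2 ^ j * x = x * a ^ 2 ^ j :=
    ⟨e, fun x _ => by rw [hae, one_mul, mul_one]⟩
  obtain ⟨j, hj⟩ : ∃ j, Nat.find hex = j + 1 := by
    rcases hj : Nat.find hex with _ | j
    · refine absurd ?_ hax₀
      have := Nat.find_spec hex x₀ hx₀
      rwa [hj, pow_zero, pow_one] at this
    · exact ⟨j, rfl⟩
  set b := a ^ 2 ^ j with hb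
  obtain ⟨x, hx, hbx⟩ : ∃ x ∈ (P : Subgroup ↥K), b * x ≠ x * b := by
    have := Nat.find_min hex (show j < Nat.find hex by omega)
    simpa using this
  have hb2 : ∀ z ∈ (P : Subgroup ↥K), b * b * z = z * (b * b) := fun z hz => by
    have := Nat.find_spec hex z hz
    rwa [hj, pow_succ, pow_mul, pow_two] at this
  set y := x⁻¹ * (b * x * b⁻¹) with hy
  have hyP : y ∈ (P : Subgroup ↥K) :=
    mul_mem (inv_mem hx) ((Subgroup.mem_normalizer_iff.1 (pow_mem haN _) x).1 hx)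
  have hy1 : y ≠ 1 := fun h => hbx (by
    rw [hy, inv_mul_eq_one] at h
    exact (mul_inv_eq_iff_eq_mul.1 h.symm))
  have hinv : b * y * b⁻¹ = y⁻¹ := by
    rw [hy]
    calc b * (x⁻¹ * (b * x * b⁻¹)) * b⁻¹ = (b * x⁻¹ * b⁻¹) * ((b * b) * x * (b * b)⁻¹) := by group
      _ = (b * x⁻¹ * b⁻¹) * x := by rw [hb2 x hx, mul_inv_cancel_right]
      _ = _ := by group
  obtain ⟨k, hk⟩ := P.2 ⟨y, hyP⟩
  have hk' : y ^ 3 ^ k = 1 := congrArg Subtype.val hk
  have hex3 : ∃ i, y ^ 3 ^ i = 1 := ⟨k, hk'⟩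
  obtain ⟨i, hi⟩ : ∃ i, Nat.find hex3 = i + 1 := by
    rcases hi : Nat.find hex3 with _ | i
    · refine absurd ?_ hy1
      have := Nat.find_spec hex3
      rwa [hi, pow_zero, pow_one] at this
    · exact ⟨i, rfl⟩
  refine ⟨(b : ↥K), ((y ^ 3 ^ i : ↥K) : Q), ⟨e, ?_⟩, fun h => Nat.find_min hex3 (show i < Nat.find hex3 by omega) (Subtype.ext h), ?_, ?_⟩
  · rw [← SubmonoidClass.coe_pow, hb, ← pow_mul, mul_comm, pow_mul, hae, one_pow, OneMemClass.coe_one]
  · have := Nat.find_spec hex3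
    rw [hi, pow_succ, pow_mul] at this
    exact congrArg Subtype.val this
  · have := congrArg (fun z : ↥K => z ^ 3 ^ i) hinv
    simp only [conj_pow, inv_pow] at this
    exact congrArg Subtype.val this

/-- `S₄` from an element of order three acting on an elementary abelian normal 2-subgroup. -/
theorem involves_of_action {L : Type u} [Group L] [Finite L] (V : Subgroup L) [V.Normal]
    (hab : ∀ v ∈ V, ∀ w ∈ V, v * w = w * v) (hsq : ∀ v ∈ V, v * v = 1) (b r : L) (hr : Odd (orderOf r))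
    (hnt : ∃ w ∈ V, r * w * r⁻¹ ≠ w) (hr3 : ∀ v ∈ V, r ^ 3 * v * (r ^ 3)⁻¹ = v)
    (hb : ∃ k, ∀ v ∈ V, b ^ 2 ^ k * v * (b ^ 2 ^ k)⁻¹ = v)
    (hinv : ∀ v ∈ V, (b * r * b⁻¹ * r) * v * (b * r * b⁻¹ * r)⁻¹ = v) :
    Cfsg.Involves (Equiv.Perm (Fin 4)) L := by
  have hV : ∀ g : L, ∀ v ∈ V, g * v * g⁻¹ ∈ V := fun g v hv => (inferInstance : V.Normal).conj_mem v hv g
  let c : L → L := fun w => w * (r * w * r⁻¹)
  let V₁ : Set L := c '' (V : Set L)
  have hrinv : ∀ v ∈ V, b * (r * v * r⁻¹) * b⁻¹ = r⁻¹ * (b * v * b⁻¹) * r := by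
    intro v hv
    have h := hinv _ (hV r⁻¹ _ (hV b v hv))
    calc b * (r * v * r⁻¹) * b⁻¹
        = (b * r * b⁻¹ * r) * (r⁻¹ * (b * v * b⁻¹) * r⁻¹⁻¹) * (b * r * b⁻¹ * r)⁻¹ := by group
      _ = r⁻¹ * (b * v * b⁻¹) * r⁻¹⁻¹ := h
      _ = _ := by rw [inv_inv]
  have hc3 : ∀ u ∈ V₁, r * u * r⁻¹ = u → u = 1 := by
    rintro _ ⟨w, hw, rfl⟩ h
    have h1 : r * (r * w * r⁻¹) * r⁻¹ = w := by
      have e : r * (w * (r * w * r⁻¹)) * r⁻¹ = (r * w * r⁻¹) * (r * (r * w * r⁻¹) * r⁻¹) := by group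
      simp only [c, e] at h
      rw [hab w hw _ (hV r w hw)] at h
      exact mul_left_cancel h
    have h2 : r * w * r⁻¹ = w := by
      calc r * w * r⁻¹ = r * (r * (r * w * r⁻¹) * r⁻¹) * r⁻¹ := by rw [h1]
        _ = r ^ 3 * w * (r ^ 3)⁻¹ := by simp only [pow_succ, pow_zero, one_mul]; group
        _ = w := hr3 w hw
    simp only [c, h2, hsq w hw]
  have hbV : ∀ u ∈ V₁, b * u * b⁻¹ ∈ V₁ := by
    rintro _ ⟨w, hw, rfl⟩
    refine ⟨r⁻¹ * (b * w * b⁻¹) * r⁻¹⁻¹, hV r⁻¹ _ (hV b w hw), ?_⟩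
    have e : b * (w * (r * w * r⁻¹)) * b⁻¹ = (b * w * b⁻¹) * (b * (r * w * r⁻¹) * b⁻¹) := by group
    simp only [c, e, hrinv w hw]
    rw [hab _ (hV b w hw) _ (by simpa using hV r⁻¹ _ (hV b w hw))]
    group
  have hmul : ∀ u ∈ V₁, ∀ v ∈ V₁, u * v ∈ V₁ := by
    rintro _ ⟨w, hw, rfl⟩ _ ⟨w', hw', rfl⟩
    refine ⟨w * w', mul_mem hw hw', ?_⟩
    simp only [c]
    calc w * w' * (r * (w * w') * r⁻¹) = w * (w' * (r * w * r⁻¹)) * (r * w' * r⁻¹) := by group
      _ = w * ((r * w * r⁻¹) * w') * (r * w' * r⁻¹) := by rw [hab w' hw' _ (hV r w hw)]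
      _ = _ := by group
  have hV₁V : ∀ u ∈ V₁, u ∈ V := by
    rintro _ ⟨w, hw, rfl⟩
    exact mul_mem hw (hV r w hw)
  have hfixb : ∀ i : ℕ, ∀ b' : L, b' = b ^ 2 ^ i → ∀ u ∈ V₁, u ≠ 1 → b' * u * b'⁻¹ = u →
      ∃ v ∈ V₁, v ≠ 1 ∧ b * v * b⁻¹ = v := by
    intro i
    induction i with
    | zero =>
      rintro b' rfl u hu hu1 he
      rw [pow_zero, pow_one] at he
      exact ⟨u, hu, hu1, he⟩
    | succ i ih =>
      rintro b' rfl u hu hu1 he
      set d := b ^ 2 ^ i with hd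
      have hdV : ∀ v ∈ V₁, d * v * d⁻¹ ∈ V₁ := by
        have : ∀ n : ℕ, ∀ v ∈ V₁, b ^ n * v * (b ^ n)⁻¹ ∈ V₁ := by
          intro n
          induction n with
          | zero => intro v hv; simpa using hv
          | succ n ihn =>
            intro v hv
            have := hbV _ (ihn v hv)
            rw [pow_succ']
            simpa [mul_assoc] using this
        exact this _
      rw [pow_succ, pow_mul, pow_two, ← hd] at he
      by_cases h1 : u * (d * u * d⁻¹) = 1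
      · refine ih d rfl u hu hu1 ?_
        rw [← hsq u (hV₁V u hu)] at h1
        exact mul_left_cancel h1
      · refine ih d rfl _ (hmul u hu _ (hdV u hu)) h1 ?_
        calc d * (u * (d * u * d⁻¹)) * d⁻¹ = (d * u * d⁻¹) * (d * d * u * (d * d)⁻¹) := by group
          _ = (d * u * d⁻¹) * u := by rw [he]
          _ = u * (d * u * d⁻¹) := hab _ (hV d u (hV₁V u hu)) u (hV₁V u hu)
  obtain ⟨w, hw, hwne⟩ := hnt
  obtain ⟨k, hk⟩ := hb
  have hcw : c w ≠ 1 := fun h => hwne (by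
    simp only [c] at h
    rw [← hsq w hw] at h
    exact mul_left_cancel h)
  obtain ⟨v, hv, hv1, hbv⟩ := hfixb k _ rfl (c w) ⟨w, hw, rfl⟩ hcw (hk _ (hV₁V _ ⟨w, hw, rfl⟩))
  have hvV := hV₁V v hv
  set v' := r * v * r⁻¹ with hv'
  have hv'V : v' ∈ V := hV r v hvV
  have hvv' : v' ≠ v := fun h => hv1 (hc3 v hv h)
  have hsum : r * v' * r⁻¹ = v * v' := by
    obtain ⟨w', hw', rfl⟩ := hv
    have e3 : r ^ 3 * w' * (r ^ 3)⁻¹ = w' := hr3 w' hw'
    simp only [hv', c]
    calc r * (r * (w' * (r * w' * r⁻¹)) * r⁻¹) * r⁻¹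
        = (r * (r * w' * r⁻¹) * r⁻¹) * (r ^ 3 * w' * (r ^ 3)⁻¹) := by group
      _ = (r * (r * w' * r⁻¹) * r⁻¹) * w' := by rw [e3]
      _ = w' * (r * (r * w' * r⁻¹) * r⁻¹) := hab _ (hV r _ (hV r w' hw')) w' hw'
      _ = w' * ((r * w' * r⁻¹) * (r * w' * r⁻¹)) * (r * (r * w' * r⁻¹) * r⁻¹) := by
          rw [hsq _ (hV r w' hw'), mul_one]
      _ = w' * (r * w' * r⁻¹) * (r * (w' * (r * w' * r⁻¹)) * r⁻¹) := by group
  let U : Subgroup L :=
    { carrier := {1, v, v', v * v'}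
      one_mem' := Or.inl rfl
      mul_mem' := by
        have h1 := hsq v hvV
        have h2 := hsq v' hv'V
        have h3 := hab v hvV v' hv'V
        have h4 : v * (v * v') = v' := by rw [← mul_assoc, h1, one_mul]
        have h5 : v' * (v * v') = v := by rw [h3, ← mul_assoc, h2, one_mul]
        have h6 : v * v' * v = v' := by rw [mul_assoc, ← h3, h4]
        have h7 : v * v' * v' = v := by rw [mul_assoc, h2, mul_one]
        have h8 : v * v' * (v * v') = 1 := by rw [← mul_assoc, h6, h2]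
        rintro p q (rfl | rfl | rfl | rfl) (rfl | rfl | rfl | rfl) <;>
          simp [h1, h2, h4, h5, h6, h7, h8, ← h3]
      inv_mem' := by
        intro p hp
        rw [inv_eq_of_mul_eq_one_right (b := p) ?_]
        · exact hp
        · rcases hp with rfl | rfl | rfl | rfl
          · exact one_mul 1
          · exact hsq _ hvV
          · exact hsq _ hv'V
          · exact hsq _ (mul_mem hvV hv'V) }
  have hUmem : ∀ p, p ∈ U ↔ p = 1 ∨ p = v ∨ p = v' ∨ p = v * v' := fun p => Iff.rfl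
  have hv'1 : v' ≠ 1 := fun h => hv1 (by rw [hv', conj_eq_one_iff] at h; exact h)
  have hU4 : Nat.card U = 4 := by
    classical
    have : (U : Set L) = ↑({1, v, v', v * v'} : Finset L) := Set.ext fun p => by
      rw [SetLike.mem_coe, hUmem]; simp
    rw [← SetLike.coe_sort_coe, this, Nat.card_coe_set_eq, Set.ncard_coe_finset]
    have hne : v * v' ≠ 1 := fun h => hvv' ((mul_left_cancel ((hsq v hvV).trans h.symm)).symm)
    rw [Finset.card_insert_of_notMem (by simp [Ne.symm hv1, Ne.symm hv'1, Ne.symm hne]),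
      Finset.card_insert_of_notMem (by simp [Ne.symm hvv', hv'1]),
      Finset.card_insert_of_notMem (by simp [hv1]), Finset.card_singleton]
  have hbv' : b * v' * b⁻¹ = v * v' := by
    rw [hv', hrinv v hvV, hbv, ← hsum, hv']
    have e3 := hr3 v hvV
    rw [show r ^ 3 = r * r * r by simp [pow_succ]] at e3
    calc r⁻¹ * v * r = r⁻¹ * (r * r * r * v * (r * r * r)⁻¹) * r := by rw [e3]
      _ = _ := by group
  have hbvv' : b * (v * v') * b⁻¹ = v' := by
    rw [show b * (v * v') * b⁻¹ = (b * v * b⁻¹) * (b * v' * b⁻¹) by group, hbv, hbv', ← mul_assoc, hsq v hvV, one_mul]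
  have hrvv' : r * (v * v') * r⁻¹ = v := by
    rw [show r * (v * v') * r⁻¹ = (r * v * r⁻¹) * (r * v' * r⁻¹) by group, hsum, ← hv', hab v hvV v' hv'V,
      ← mul_assoc, hsq v' hv'V, one_mul]
  refine Cfsg.Agent.SFour.involves_sfour U hU4 r b ?_ ?_ hr ?_ ⟨v', (hUmem _).2 (by simp), ?_⟩ ?_
  · intro p hp
    rcases (hUmem p).1 hp with rfl | rfl | rfl | rfl
    · simp [U]
    · rw [← hv', hUmem]; simp
    · rw [hsum, hUmem]; simp
    · rw [hrvv', hUmem]; simp
  · intro p hp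
    rcases (hUmem p).1 hp with rfl | rfl | rfl | rfl
    · simp [U]
    · rw [hbv, hUmem]; simp
    · rw [hbv', hUmem]; simp
    · rw [hbvv', hUmem]; simp
  · intro p hp he
    rcases (hUmem p).1 hp with rfl | rfl | rfl | rfl
    · rfl
    · exact absurd he hvv'
    · rw [hsum] at he
      exact absurd (mul_right_cancel (he.trans (one_mul v').symm)) hv1
    · rw [hrvv'] at he
      exact absurd (mul_left_cancel ((mul_one v).trans he)).symm hv'1
  · rw [hbv']
    exact fun h => hv1 (mul_right_cancel (h.trans (one_mul v').symm))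
  · intro p hp
    rcases (hUmem p).1 hp with rfl | rfl | rfl | rfl
    · simp
    · rw [hbv, hbv]
    · rw [hbv', hbvv']
    · rw [hbvv', hbv']

variable {G : Type u} [Group G] [Finite G]

theorem automizer_of_involves (h : Cfsg.Involves (Equiv.Perm (Fin 4)) G) :
    ∃ T : Subgroup G, IsPGroup 2 ↥T ∧ Cfsg.Involves (Equiv.Perm (Fin 3))
      (↥(Subgroup.normalizer (T : Set G)) ⧸ (Subgroup.centralizer (T : Set G)).subgroupOf (Subgroup.normalizer (T : Set G))) := by
  haveI : Fact (Nat.Prime 2) := ⟨Nat.prime_two⟩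
  obtain ⟨K, f, hf⟩ := involves_exists_surjective h
  set g := piHom.comp f
  set M : Subgroup ↥K := g.ker
  obtain ⟨T⟩ : Nonempty (Sylow 2 ↥M) := inferInstance
  set T₁ : Subgroup ↥K := (T : Subgroup ↥M).map M.subtype
  set T₀ : Subgroup G := T₁.map K.subtype
  have hT₁ : SylIn 2 T₁ M := sylIn_map M T
  refine ⟨T₀, hT₁.isPGroup.map _, ?_⟩
  set C := (Subgroup.centralizer (T₀ : Set G)).subgroupOf (Subgroup.normalizer (T₀ : Set G))
  set A := Subgroup.normalizer (T₁ : Set ↥K)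
  have hA : ∀ a : A, ((a : ↥K) : G) ∈ Subgroup.normalizer (T₀ : Set G) := fun a =>
    Subgroup.le_normalizer_map K.subtype ⟨a, a.2, rfl⟩
  let h₁ : A →* ↥(Subgroup.normalizer (T₀ : Set G)) :=
    MonoidHom.mk' (fun a => ⟨((a : ↥K) : G), hA a⟩) fun _ _ => rfl
  let h₂ := (QuotientGroup.mk' C).comp h₁
  let g₂ : A →* Equiv.Perm (Fin 3) := g.comp A.subtype
  have hg₂ : Function.Surjective g₂ := by
    intro σ
    obtain ⟨x, rfl⟩ := (piHom_surjective.comp hf) σ
    obtain ⟨m, hm, hmx⟩ := frattini_conj hT₁ (H := ⊤) (by rw [Subgroup.normalizer_eq_top]) (Subgroup.mem_top x)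
    refine ⟨⟨m * x, hmx⟩, ?_⟩
    change g (m * x) = g x
    rw [map_mul, show g m = 1 from hm, one_mul]
  have hker : h₂.ker ≤ g₂.ker := by
    intro a ha
    have hc : ((a : ↥K) : G) ∈ Subgroup.centralizer (T₀ : Set G) := (QuotientGroup.eq_one_iff (h₁ a)).1 ha
    change piHom (f a) = 1
    refine piHom_cent _ fun v hv => ?_
    obtain ⟨x, rfl⟩ := hf v
    have hxM : x ∈ M := hv
    obtain ⟨e, m, hm, hem⟩ := Nat.exists_eq_two_pow_mul_odd (n := orderOf x) (orderOf_pos x).ne'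
    have hxp : IsPGroup 2 (Subgroup.zpowers (x ^ m)) := by
      obtain ⟨j, -, hj⟩ := (Nat.dvd_prime_pow Nat.prime_two).1
        (orderOf_dvd_of_pow_eq_one (show (x ^ m) ^ 2 ^ e = 1 by rw [← pow_mul, mul_comm, ← hem, pow_orderOf_eq_one]))
      exact IsPGroup.of_card (n := j) (by rw [Nat.card_zpowers, hj])
    obtain ⟨z, hz, hzT⟩ := hT₁.conj_le hxp (Subgroup.zpowers_le.2 (pow_mem hxM m))
    have hmem : z * x ^ m * z⁻¹ ∈ T₁ := hzT (conj_mem_cj (Subgroup.mem_zpowers _))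
    have h1 : Commute ((a : ↥K)) (z * x ^ m * z⁻¹) := Subtype.ext
      (Subgroup.mem_centralizer_iff.1 hc _ ⟨_, hmem, rfl⟩).symm
    have h2 := h1.map f
    have hsq : f x * f x = 1 := piHom_sq _ hv
    have hfx : f (x ^ m) = f x := by
      obtain ⟨j, rfl⟩ := hm
      rw [map_pow, pow_succ, pow_mul, pow_two, hsq, one_pow, one_mul]
    have e : f (z * x ^ m * z⁻¹) = f x := by
      rw [map_mul, map_mul, hfx, piHom_ab (f z) (f x) hz hv, map_inv, mul_inv_cancel_right]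
    rw [e] at h2
    exact h2
  refine involves_of_surjective (K := h₂.range)
    ((h₂.rangeRestrict).liftOfRightInverse _ (Function.rightInverse_surjInv h₂.rangeRestrict_surjective)
      ⟨g₂, by rw [MonoidHom.ker_rangeRestrict]; exact hker⟩) ?_
  intro σ
  obtain ⟨a, rfl⟩ := hg₂ σ
  exact ⟨h₂.rangeRestrict a, MonoidHom.liftOfRightInverse_comp_apply _ _ _ _ a⟩

theorem involves_of_automizer (T : Subgroup G) (hT : IsPGroup 2 ↥T)
    (h : Cfsg.Involves (Equiv.Perm (Fin 3))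
      (↥(Subgroup.normalizer (T : Set G)) ⧸ (Subgroup.centralizer (T : Set G)).subgroupOf (Subgroup.normalizer (T : Set G)))) :
    Cfsg.Involves (Equiv.Perm (Fin 4)) G := by
  haveI : Fact (Nat.Prime 2) := ⟨Nat.prime_two⟩
  set N := Subgroup.normalizer (T : Set G)
  set C := (Subgroup.centralizer (T : Set G)).subgroupOf N
  obtain ⟨b₀, y₀, ⟨k, hk⟩, hy1, hy3, hby⟩ := exists_inverted_three h
  obtain ⟨bl, hbl⟩ := QuotientGroup.mk'_surjective C b₀
  obtain ⟨yl, hyl⟩ := QuotientGroup.mk'_surjective C y₀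
  rw [← hbl] at hk hby
  rw [← hyl] at hy1 hy3 hby
  set π := QuotientGroup.mk' C
  -- an odd lift of `y`
  obtain ⟨e, m, hm, hem⟩ := Nat.exists_eq_two_pow_mul_odd (n := orderOf yl) (orderOf_pos yl).ne'
  set r := yl ^ 4 ^ e with hr
  have hπr : π r = π yl := by
    obtain ⟨q, hq⟩ : ∃ q, 4 ^ e = 3 * q + 1 := ⟨4 ^ e / 3, by
      have : 4 ^ e % 3 = 1 := by rw [Nat.pow_mod]; simp
      omega⟩
    rw [hr, map_pow, hq, pow_succ, pow_mul]
    rw [show π yl ^ 3 = 1 from hy3, one_pow, one_mul]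
  have hrodd : Odd (orderOf r) := by
    refine hm.of_dvd_nat (orderOf_dvd_of_pow_eq_one ?_)
    rw [hr, ← pow_mul, show (4 : ℕ) ^ e = 2 ^ e * 2 ^ e by rw [← mul_pow]; norm_num, mul_assoc,
      mul_comm (2 ^ e) (2 ^ e * m), pow_mul, ← hem, pow_orderOf_eq_one, one_pow]
  set T' := T.subgroupOf N
  haveI : T'.Normal := Subgroup.normal_subgroupOf_of_le_normalizer le_rfl
  have hT' : IsPGroup 2 T' := hT.comap_subtype
  set Φ := (frattini ↥T').map T'.subtype with hΦ
  have hΦle : Φ ≤ T' := Subgroup.map_subtype_le _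
  haveI hΦn : Φ.Normal := inferInstance
  have hcomm : ∀ c : ↥N, c ∈ C → ∀ t ∈ T', c * t * c⁻¹ = t := by
    intro c hc t ht
    refine Subtype.ext ?_
    change (c : G) * t * (c : G)⁻¹ = t
    have e : (t : G) * (c : G) = (c : G) * t := Subgroup.mem_centralizer_iff.1 hc t ht
    rw [← e, mul_inv_cancel_right]
  set ρ := QuotientGroup.mk' Φ
  set V := T'.map ρ
  haveI : V.Normal := Subgroup.Normal.map inferInstance ρ (QuotientGroup.mk'_surjective Φ)
  have hfr : ∀ s t : ↥T', s * t * s⁻¹ * t⁻¹ ∈ frattini ↥T' ∧ t * t ∈ frattini ↥T' := by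
    intro s t
    exact ⟨Cfsg.Agent.Solv.commutator_le_frattini_pgroup hT'
        (Subgroup.commutator_mem_commutator (Subgroup.mem_top s) (Subgroup.mem_top t)),
      by simpa [pow_two] using Cfsg.Agent.Solv.pow_mem_frattini hT' t⟩
  have hsq : ∀ v ∈ V, v * v = 1 := by
    rintro _ ⟨t, ht, rfl⟩
    rw [← map_mul]
    exact (QuotientGroup.eq_one_iff _).2 ⟨_, (hfr ⟨t, ht⟩ ⟨t, ht⟩).2, rfl⟩
  have hab : ∀ v ∈ V, ∀ w ∈ V, v * w = w * v := by
    intro v hv w hw
    calc v * w = (v * w)⁻¹ := (inv_eq_of_mul_eq_one_right (hsq _ (mul_mem hv hw))).symm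
      _ = w⁻¹ * v⁻¹ := mul_inv_rev v w
      _ = w * v := by rw [inv_eq_of_mul_eq_one_right (hsq w hw), inv_eq_of_mul_eq_one_right (hsq v hv)]
  have hactC : ∀ c : ↥N, c ∈ C → ∀ v ∈ V, ρ c * v * (ρ c)⁻¹ = v := by
    rintro c hc _ ⟨t, ht, rfl⟩
    rw [← map_mul, ← map_inv, ← map_mul, hcomm c hc t ht]
  refine involves_trans (involves_of_action V hab hsq (ρ bl) (ρ r) (hrodd.of_dvd_nat (orderOf_map_dvd ρ r))
    ?_ ?_ ⟨k, ?_⟩ ?_) (involves_of_surjective ρ (QuotientGroup.mk'_surjective Φ))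
  · by_contra hno
    simp only [not_exists, not_and, not_not] at hno
    apply hy1
    rw [← hπr]
    refine (QuotientGroup.eq_one_iff r).2 ?_
    have htriv := Cfsg.Agent.Solv.centralizes_of_frattini T' hT' r (by rw [Subgroup.normalizer_eq_top]; trivial)
      (Nat.coprime_two_right.2 hrodd) (fun x hx => ?_)
    · intro t ht
      have := congrArg Subtype.val (Subgroup.mem_centralizer_iff.1 htriv ⟨t, Subgroup.le_normalizer ht⟩ ht)
      exact this
    · rw [← hΦ, ← QuotientGroup.eq_one_iff (N := Φ), ← QuotientGroup.mk'_apply, map_commutatorElement]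
      have h1 : ρ r * ρ x * (ρ r)⁻¹ = ρ x := hno (ρ x) ⟨x, hx, rfl⟩
      exact commutatorElement_eq_one_iff_mul_comm.2 (mul_inv_eq_iff_eq_mul.1 h1).symm
  · intro v hv
    rw [← map_pow]
    refine hactC _ ((QuotientGroup.eq_one_iff _).1 ?_) v hv
    change π (r ^ 3) = 1
    rw [map_pow, hπr, hy3]
  · intro v hv
    rw [← map_pow]
    refine hactC _ ((QuotientGroup.eq_one_iff _).1 ?_) v hv
    change π (bl ^ 2 ^ k) = 1
    rw [map_pow, hk]
  · intro v hv
    rw [← map_mul, ← map_inv, ← map_mul, ← map_mul]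
    refine hactC _ ((QuotientGroup.eq_one_iff _).1 ?_) v hv
    change π (bl * r * bl⁻¹ * r) = 1
    rw [map_mul, map_mul, map_mul, map_inv, hπr, hby, inv_mul_cancel]

end Cfsg.Agent.LocalEven.SFour
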