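/-
The intersection graph of the Sylow p-subgroups and control of Sylow intersections.
-/
import Mathlib
import Cfsg.Prelude.Def_SylowChains
import Cfsg.Prelude.Def_SylowControl
import Cfsg.Agent.Lib.Fusion.Basic

set_option autoImplicit false

namespace Cfsg.Agent.LocalEven.SylowGraph

open Cfsg.Agent.Fusion

variable {G : Type*} [Group G] {p : ℕ}

/-- One step in the intersection graph. -/
def Link (A B : Sylow p G) : Prop :=
  A ≠ B ∧ (A : Subgroup G) ⊓ (B : Subgroup G) ≠ ⊥

theorem link_smul (g : G) {A B : Sylow p G} (h : Link A B) : Link (g • A) (g • B) := by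
  refine ⟨fun he => h.1 (smul_left_cancel g he), fun he => h.2 ?_⟩
  have e : ((g • A : Sylow p G) : Subgroup G) ⊓ (g • B : Sylow p G) = cj ((A : Subgroup G) ⊓ B) g := by
    rw [cj_inf]; rfl
  rw [e] at he
  rw [← cj_cj_inv ((A : Subgroup G) ⊓ B) g, he, cj_bot]

theorem reach_smul (g : G) {A B : Sylow p G} (h : Relation.ReflTransGen Link A B) :
    Relation.ReflTransGen Link (g • A) (g • B) := h.lift (g • ·) fun _ _ => link_smul g

theorem reach_symm {A B : Sylow p G} (h : Relation.ReflTransGen Link A B) : Relation.ReflTransGen Link B A := by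
  induction h with
  | refl => exact .refl
  | tail _ hbc ih => exact Relation.ReflTransGen.head ⟨hbc.1.symm, by rw [inf_comm]; exact hbc.2⟩ ih

theorem reach_of_inf {A B : Sylow p G} (h : (A : Subgroup G) ⊓ (B : Subgroup G) ≠ ⊥) :
    Relation.ReflTransGen Link A B := by
  by_cases he : A = B
  · rw [he]
  · exact .single ⟨he, h⟩

theorem connected_iff :
    Cfsg.IsSylowChainConnected p G ↔ ∀ S T : Sylow p G, Relation.ReflTransGen Link S T := by
  constructor
  · intro h S T
    obtain ⟨n, c, h0, hl, -, hstep⟩ := h S T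
    rw [← h0, ← hl]
    have : ∀ i : Fin (n + 1), Relation.ReflTransGen Link (c 0) (c i) := by
      intro i
      induction i using Fin.induction with
      | zero => exact .refl
      | succ i ih => exact ih.tail (hstep i)
    exact this _
  · intro h S T
    by_cases hST : (S : Subgroup G) ⊓ (T : Subgroup G) = ⊥
    · have : ∀ U, Relation.ReflTransGen Link S U → ∃ (n : ℕ) (c : Fin (n + 1) → Sylow p G),
          c 0 = S ∧ c (Fin.last n) = U ∧ ∀ i : Fin n, Link (c i.castSucc) (c i.succ) := by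
        intro U hU
        induction hU with
        | refl => exact ⟨0, fun _ => S, rfl, rfl, fun i => i.elim0⟩
        | tail hab hbc ih =>
          rename_i b U
          obtain ⟨n, c, h0, hl, hs⟩ := ih
          refine ⟨n + 1, Fin.snoc c U, ?_, Fin.snoc_last _ _, fun i => ?_⟩
          · rw [show (0 : Fin (n + 1 + 1)) = Fin.castSucc 0 from rfl, Fin.snoc_castSucc, h0]
          · induction i using Fin.lastCases with
            | last => rw [Fin.snoc_castSucc, Fin.succ_last, Fin.snoc_last, hl]; exact hbc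
            | cast j => rw [Fin.snoc_castSucc, Fin.succ_castSucc, Fin.snoc_castSucc]; exact hs j
      obtain ⟨n, c, h0, hl, hs⟩ := this T (h S T)
      exact ⟨n, c, h0, hl, fun i => hST ▸ bot_le, hs⟩
    · by_cases he : S = T
      · subst he
        exact ⟨0, fun _ => S, rfl, rfl, fun i => inf_le_left, fun i => i.elim0⟩
      · refine ⟨1, ![S, T], rfl, rfl, fun i => ?_, fun i => ?_⟩
        · fin_cases i
          · exact inf_le_left
          · exact inf_le_right
        · fin_cases i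
          exact ⟨he, hST⟩

section Embedded

variable [Finite G] [hp : Fact p.Prime] {H : Subgroup G}

theorem exists_order_p {X : Subgroup G} (h : p ∣ Nat.card X) : ∃ x ∈ X, orderOf x = p := by
  obtain ⟨⟨x, hx⟩, he⟩ := exists_prime_orderOf_dvd_card' (G := X) p h
  exact ⟨x, hx, by rwa [Subgroup.orderOf_mk] at he⟩

theorem dvd_of_pgroup {X : Subgroup G} (hX : IsPGroup p X) (h : X ≠ ⊥) : p ∣ Nat.card X := by
  obtain ⟨k, hk⟩ := IsPGroup.iff_card.1 hX
  rcases k with _ | k
  · exact absurd (Subgroup.eq_bot_of_card_eq _ hk) h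
  · exact hk ▸ dvd_pow_self p (Nat.succ_ne_zero k)

theorem normalizer_le (hse : ∀ g : G, g ∉ H → ¬ p ∣ Nat.card ↥(H ⊓ cj H g)) {Q : Subgroup G}
    (hQ : IsPGroup p Q) (hQ1 : Q ≠ ⊥) (hQH : Q ≤ H) : Subgroup.normalizer (Q : Set G) ≤ H := by
  intro g hg
  by_contra hgH
  refine hse g hgH ((dvd_of_pgroup hQ hQ1).trans (Subgroup.card_dvd_of_le (le_inf hQH ?_)))
  exact (cj_eq_self hg).ge.trans (cj_mono hQH g)

theorem sylow_le (hse : ∀ g : G, g ∉ H → ¬ p ∣ Nat.card ↥(H ⊓ cj H g)) {P : Sylow p G}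
    (hP : (P : Subgroup G) ⊓ H ≠ ⊥) : (P : Subgroup G) ≤ H := by
  by_contra hle
  have hne : (P : Subgroup G) ⊓ H ≠ (P : Subgroup G) := fun h => hle (h ▸ inf_le_right)
  have hgr := SylIn.normalizer_growth inf_le_left hne P.isPGroup'
  refine hgr.not_ge (le_inf inf_le_left (inf_le_right.trans ?_))
  exact normalizer_le hse P.isPGroup'.to_inf_left hP inf_le_right

theorem exists_sylow_le (hse : ∀ g : G, g ∉ H → ¬ p ∣ Nat.card ↥(H ⊓ cj H g)) (hpH : p ∣ Nat.card H) :
    ∃ P : Sylow p G, (P : Subgroup G) ≤ H := by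
  obtain ⟨x, hx, hxo⟩ := exists_order_p hpH
  have hX : IsPGroup p (Subgroup.zpowers x) := IsPGroup.of_card (n := 1) (by rw [Nat.card_zpowers, hxo, pow_one])
  obtain ⟨P, hP⟩ := hX.exists_le_sylow
  refine ⟨P, sylow_le hse fun h => ?_⟩
  have : x ∈ (P : Subgroup G) ⊓ H := ⟨hP (Subgroup.mem_zpowers x), hx⟩
  rw [h, Subgroup.mem_bot] at this
  rw [this, orderOf_one] at hxo
  exact hp.out.ne_one hxo.symm

theorem not_connected_iff :
    ¬ Cfsg.IsSylowChainConnected p G ↔
      ∃ H : Subgroup G, H ≠ ⊤ ∧ p ∣ Nat.card H ∧ ∀ g : G, g ∉ H → ¬ p ∣ Nat.card ↥(H ⊓ cj H g) := by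
  constructor
  · intro hnc
    rw [connected_iff] at hnc
    obtain ⟨P⟩ : Nonempty (Sylow p G) := inferInstance
    have hP1 : (P : Subgroup G) ≠ ⊥ := by
      intro h0
      refine hnc fun S T => ?_
      obtain ⟨s, rfl⟩ := MulAction.exists_smul_eq G P S
      obtain ⟨t, rfl⟩ := MulAction.exists_smul_eq G P T
      have : ∀ g : G, g • P = P := fun g => Sylow.ext (by
        change cj (P : Subgroup G) g = P
        rw [h0, cj_bot])
      rw [this, this]
    let H : Subgroup G :=
      { carrier := {g | Relation.ReflTransGen Link P (g • P)}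
        one_mem' := by show Relation.ReflTransGen Link P ((1 : G) • P); rw [one_smul]
        mul_mem' := fun {a b} ha hb => by
          show Relation.ReflTransGen Link P ((a * b) • P)
          rw [mul_smul]
          exact ha.trans (reach_smul a hb)
        inv_mem' := fun {a} ha => by
          have := reach_symm (reach_smul a⁻¹ ha)
          rwa [inv_smul_smul] at this }
    have hPH : (P : Subgroup G) ≤ H := fun g hg => by
      show Relation.ReflTransGen Link P (g • P)
      rw [show g • P = P from Sylow.ext (cj_eq_self_of_mem hg)]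
    refine ⟨H, fun htop => ?_, (dvd_of_pgroup P.isPGroup' hP1).trans (Subgroup.card_dvd_of_le hPH), ?_⟩
    · refine hnc fun S T => ?_
      obtain ⟨s, rfl⟩ := MulAction.exists_smul_eq G P S
      obtain ⟨t, rfl⟩ := MulAction.exists_smul_eq G P T
      have h : ∀ g : G, Relation.ReflTransGen Link P (g • P) := fun g => show g ∈ H by rw [htop]; trivial
      exact (reach_symm (h s)).trans (h t)
    · intro g hg hdvd
      obtain ⟨x, ⟨hxH, hxg⟩, hxo⟩ := exists_order_p hdvd
      have hs : SylIn p (P : Subgroup G) H := (sylIn_top P).mono hPH le_top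
      have hX : IsPGroup p (Subgroup.zpowers x) := IsPGroup.of_card (n := 1) (by rw [Nat.card_zpowers, hxo, pow_one])
      obtain ⟨a, ha, hxa⟩ := hs.conj_le hX (Subgroup.zpowers_le.2 hxH)
      obtain ⟨b, hb, hxb⟩ := hs.conj_le (isPGroup_cj hX g⁻¹) ((cj_mono (Subgroup.zpowers_le.2 hxg) g⁻¹).trans (cj_cj_inv H g).le)
      rw [cj_le_iff] at hxa
      rw [cj_cj, cj_le_iff, show (b * g⁻¹)⁻¹ = g * b⁻¹ by group] at hxb
      have hlink : Relation.ReflTransGen Link (a⁻¹ • P) ((g * b⁻¹) • P) := reach_of_inf fun h => by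
        have hx : x ∈ ((a⁻¹ • P : Sylow p G) : Subgroup G) ⊓ ((g * b⁻¹) • P : Sylow p G) :=
          ⟨hxa (Subgroup.mem_zpowers x), hxb (Subgroup.mem_zpowers x)⟩
        rw [h, Subgroup.mem_bot] at hx
        rw [hx, orderOf_one] at hxo
        exact hp.out.ne_one hxo.symm
      have h1 : g * b⁻¹ ∈ H := (inv_mem ha : a⁻¹ ∈ H).trans hlink
      exact hg (by simpa using mul_mem h1 hb)
  · rintro ⟨H, hH, hpH, hse⟩ hc
    rw [connected_iff] at hc
    obtain ⟨P, hP⟩ := exists_sylow_le hse hpH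
    have hstep : ∀ S, Relation.ReflTransGen Link P S → (S : Subgroup G) ≤ H := by
      intro S hS
      induction hS with
      | refl => exact hP
      | @tail A B _ hAB ih =>
        exact sylow_le hse fun h => hAB.2 (le_bot_iff.1 (h ▸ le_inf inf_le_right (inf_le_left.trans ih)))
    refine hH (eq_top_iff.2 fun g _ => ?_)
    by_contra hg
    have hP1 : p ∣ Nat.card P := dvd_of_pgroup P.isPGroup' fun h => by
      have hd : p ∣ Nat.card G := hpH.trans (Subgroup.card_subgroup_dvd_card H)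
      exact P.ne_bot_of_dvd_card hd h
    refine hse g hg (hP1.trans (Subgroup.card_dvd_of_le (le_inf hP ?_)))
    have h2 : cj (P : Subgroup G) g⁻¹ ≤ H := hstep (g⁻¹ • P) (hc P _)
    rwa [cj_le_iff, inv_inv] at h2

end Embedded

section Control

variable [Finite G] [Fact p.Prime]

theorem member_cj {𝓕 : Set (Subgroup G)} (h𝓕 : Cfsg.IsNormalSet 𝓕) {S X : Subgroup G}
    (hX : X ∈ Cfsg.sylowMembers p 𝓕 S) (g : G) : cj X g ∈ Cfsg.sylowMembers p 𝓕 (cj S g) := by
  obtain ⟨h1, P, hP⟩ := hX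
  refine ⟨?_, P.mapSurjective (f := (MulAut.conj g).toMonoidHom.subgroupMap X)
    ((MulAut.conj g).toMonoidHom.subgroupMap_surjective X), ?_⟩
  · have := h𝓕 X h1 g⁻¹
    unfold Cfsg.subgroupConjRight at this
    rwa [inv_inv] at this
  · rw [Sylow.coe_mapSurjective, Subgroup.map_map, ← cj_inf, ← hP]
    change _ = Subgroup.map (MulAut.conj g).toMonoidHom _
    rw [Subgroup.map_map]
    rfl

theorem member_cj_mem {𝓕 : Set (Subgroup G)} (h𝓕 : Cfsg.IsNormalSet 𝓕) {S X : Subgroup G}
    (hX : X ∈ Cfsg.sylowMembers p 𝓕 S) {g : G} (hg : g ∈ X) : X ∈ Cfsg.sylowMembers p 𝓕 (cj S g) := by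
  have := member_cj h𝓕 hX g
  rwa [cj_eq_self_of_mem hg] at this

theorem strongly_of_controls {𝓕 : Set (Subgroup G)} (h𝓕 : Cfsg.IsNormalSet 𝓕)
    (hc : Cfsg.ControlsSylowIntersections p 𝓕) : Cfsg.FamilyStronglyControlsFusion p 𝓕 := by
  rintro S A g hAS ⟨a, ha, ha1⟩ hAg
  by_cases hg : g • S = S
  · refine ⟨0, Fin.elim0, Fin.elim0, g, ?_, fun i => i.elim0, by simp, fun i => i.elim0⟩
    exact mem_normalizer_iff_cj.2 (congrArg (fun Q : Sylow p G => (Q : Subgroup G)) hg)
  have hgS : ∀ b ∈ A, b ∈ ((g • S : Sylow p G) : Subgroup G) := fun b hb =>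
    mem_cj.2 (hAg ⟨b, hb, rfl⟩)
  have hne : (S : Subgroup G) ⊓ ((g • S : Sylow p G) : Subgroup G) ≠ ⊥ := fun h => by
    have : a ∈ (S : Subgroup G) ⊓ ((g • S : Sylow p G) : Subgroup G) := ⟨hAS ha, hgS a ha⟩
    rw [h, Subgroup.mem_bot] at this
    exact ha1 this
  obtain ⟨n, c, X, x, h0, hn, hstep⟩ := hc S (g • S) (Ne.symm hg) hne
  -- `z i` maps `c i` back to `S`
  let z : ℕ → G := fun i => Nat.rec (1 : G) (fun i zi => if h : i < n then x ⟨i, h⟩ * zi else zi) i
  have hzs : ∀ i : Fin n, z (i.val + 1) = x i * z i.val := fun i => by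
    change (if h : i.val < n then x ⟨i.val, h⟩ * z i.val else z i.val) = _
    rw [dif_pos i.2]
  have hcz : ∀ i : Fin (n + 1), cj (c i : Subgroup G) (z i.val)⁻¹ = S := by
    intro i
    induction i using Fin.induction with
    | zero => simp [z, h0, cj_one]
    | succ i ih =>
      rw [Fin.val_succ, hzs, mul_inv_rev, ← cj_cj]
      have := (hstep i).2.2.2.1
      change cj _ (x i)⁻¹ = _ at this
      rw [this]
      simpa using ih
  let y : Fin n → G := fun i => (z i.val)⁻¹ * z (i.val + 1)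
  have htake : ∀ i, i ≤ n → ((List.ofFn y).take i).prod = z i := by
    intro i
    induction i with
    | zero => intro _; simp [z]
    | succ i ih =>
      intro hi
      rw [List.prod_take_succ _ _ (by simpa using hi), ih (by omega), List.getElem_ofFn]
      simp [y]
  have hprod : (List.ofFn y).prod = z n := by
    rw [← htake n le_rfl, List.take_of_length_le (by simp)]
  refine ⟨n, fun i => cj (X i) (z i.val)⁻¹, y, (z n)⁻¹ * g, ?_, fun i => ⟨?_, ?_⟩, ?_, fun i => ?_⟩
  · rw [mem_normalizer_iff_cj, ← cj_cj]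
    have e := hcz (Fin.last n)
    rw [hn, Fin.val_last] at e
    exact e
  · have := member_cj h𝓕 (hstep i).1 (z i.val)⁻¹
    rwa [show cj (c i.castSucc : Subgroup G) (z i.val)⁻¹ = (S : Subgroup G) from hcz i.castSucc] at this
  · change (z i.val)⁻¹ * z (i.val + 1) ∈ _
    rw [hzs, mem_cj]
    simpa [mul_assoc] using (hstep i).2.2.1
  · rw [hprod, mul_inv_cancel_left]
  · rw [htake _ (Nat.succ_le_of_lt i.2)]
    rintro _ ⟨b, hb, rfl⟩
    obtain ⟨hb1, hb2⟩ := (hstep i).2.2.2.2 ⟨hAS hb, hgS b hb⟩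
    refine ⟨?_, ?_⟩
    · have := conj_mem_cj (g := (z (i.succ : Fin (n + 1)).val)⁻¹) hb1
      rw [hcz i.succ, Fin.val_succ, inv_inv] at this
      exact this
    · change (z (i.val + 1))⁻¹ * b * z (i.val + 1) ∈ cj (X i) (z i.val)⁻¹
      rw [hzs, mem_cj]
      have := mul_mem (mul_mem (inv_mem (hstep i).2.2.1) hb2) (hstep i).2.2.1
      simpa [mul_assoc] using this

theorem controls_of_strongly {𝓕 : Set (Subgroup G)} (h𝓕 : Cfsg.IsNormalSet 𝓕)
    (hc : Cfsg.FamilyStronglyControlsFusion p 𝓕) : Cfsg.ControlsSylowIntersections p 𝓕 := by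
  intro S T hST hD
  obtain ⟨g, rfl⟩ := MulAction.exists_smul_eq G S T
  obtain ⟨d, hd, hd1⟩ := (Subgroup.bot_or_exists_ne_one _).resolve_left hD
  obtain ⟨n, Y, y, y₀, hy₀, hY, hg, hA⟩ := hc S (((S : Subgroup G) ⊓ ((g • S : Sylow p G) : Subgroup G) : Subgroup G) : Set G) g
    (fun u hu => hu.1) ⟨d, hd, hd1⟩ (by rintro _ ⟨u, hu, rfl⟩; exact mem_cj.1 hu.2)
  let P : ℕ → G := fun i => ((List.ofFn y).take i).prod
  have hP : ∀ i : Fin n, P (i.val + 1) = P i.val * y i := fun i => by
    simp only [P]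
    rw [List.prod_take_succ _ _ (by simp), List.getElem_ofFn]
  have hPn : P n = (List.ofFn y).prod := by simp only [P]; rw [List.take_of_length_le (by simp)]
  refine ⟨n, fun i => P i.val • S, fun i => cj (Y i) (P i.val), fun i => P (i.val + 1) * (P i.val)⁻¹,
    ?_, ?_, fun i => ?_⟩
  · simp [P]
  · change P n • S = g • S
    rw [hg, mul_smul, ← hPn, show y₀ • S = S from Sylow.ext (cj_eq_self hy₀)]
  · have hmem := member_cj h𝓕 (hY i).1 (P i.val)
    have hx : P (i.val + 1) * (P i.val)⁻¹ ∈ cj (Y i) (P i.val) := by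
      rw [hP]
      exact conj_mem_cj (hY i).2
    refine ⟨hmem, ?_, hx, ?_, ?_⟩
    · change cj (Y i) (P i.val) ∈ Cfsg.sylowMembers p 𝓕 (cj (S : Subgroup G) (P (i.val + 1)))
      have := member_cj_mem h𝓕 hmem hx
      rwa [cj_cj, mul_assoc, inv_mul_cancel, mul_one] at this
    · change cj (cj (S : Subgroup G) (P (i.val + 1))) (P (i.val + 1) * (P i.val)⁻¹)⁻¹ = cj (S : Subgroup G) (P i.val)
      rw [cj_cj]
      congr 1
      group
    · intro u hu
      obtain ⟨h1, h2⟩ := hA i ⟨u, hu, rfl⟩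
      refine ⟨mem_cj.2 h1, mem_cj.2 ?_⟩
      change (P (i.val + 1))⁻¹ * u * P (i.val + 1) ∈ Y i at h2
      rw [hP] at h2
      simpa [mul_assoc] using mul_mem (mul_mem (hY i).2 h2) (inv_mem (hY i).2)

end Control

end Cfsg.Agent.LocalEven.SylowGraph
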