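import Mathlib
import Cfsg.Agent.Lib.LocalEven.CharP

/-!
# Averaging over a subgroup of index prime to `p` and Kieler's lemma for normal subgroups
-/

set_option autoImplicit false

namespace Cfsg.Agent.LocalEven

open Cfsg.Agent.Fusion
open scoped IsMulCommutative

variable {G : Type*} [Group G] [Finite G] {p : ℕ} [Fact p.Prime]

section Average

variable {A K P : Subgroup G} [IsMulCommutative A]

/-- conjugation of `a` by an element of a group normalizing `A` -/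
def cjEl (hKA : K ≤ Subgroup.normalizer (A : Set G)) (k : K) (a : A) : A :=
  ⟨k * a * (k : G)⁻¹, (Subgroup.mem_set_normalizer_iff.1 (hKA k.2) a).1 a.2⟩

open scoped Classical in
/-- the averaged element -/
noncomputable def avg (hKA : K ≤ Subgroup.normalizer (A : Set G)) (P : Subgroup G) (p : ℕ) (a : A) : A :=
  letI : Fintype (↥K ⧸ P.subgroupOf K) := Fintype.ofFinite _
  (∏ q : ↥K ⧸ P.subgroupOf K, cjEl hKA q.out a) ^ (((Fintype.card (↥K ⧸ P.subgroupOf K) : ZMod p))⁻¹).val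

theorem pow_val_inv {a : A} (hexp : ∀ a ∈ A, a ^ p = 1) {n : ℕ} (hn : ¬ p ∣ n) :
    (a ^ n) ^ ((n : ZMod p)⁻¹).val = a := by
  have ha : a ^ p = 1 := Subtype.ext (hexp a a.2)
  have h0 : (n : ZMod p) ≠ 0 := fun h => hn ((ZMod.natCast_eq_zero_iff n p).1 h)
  have h : ((n * ((n : ZMod p)⁻¹).val : ℕ) : ZMod p) = ((1 : ℕ) : ZMod p) := by
    rw [Nat.cast_mul, ZMod.natCast_zmod_val, mul_inv_cancel₀ h0, Nat.cast_one]
  rw [ZMod.natCast_eq_natCast_iff'] at h
  rw [← pow_mul, ← Nat.mod_add_div (n * ((n : ZMod p)⁻¹).val) p, h, pow_add, pow_mul, ha, one_pow, mul_one,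
    Nat.one_mod_eq_one.2 (Fact.out : p.Prime).ne_one, pow_one]

theorem cjEl_eq (hKA : K ≤ Subgroup.normalizer (A : Set G)) {a : A} (hfix : ∀ s ∈ P, s * (a : G) = a * s)
    {k l : K} (h : (QuotientGroup.mk k : ↥K ⧸ P.subgroupOf K) = QuotientGroup.mk l) :
    cjEl hKA k a = cjEl hKA l a := by
  have hm : ((k : G)⁻¹ * l) ∈ P := (QuotientGroup.eq.1 h : k⁻¹ * l ∈ P.subgroupOf K)
  refine Subtype.ext ?_
  show (k : G) * a * (k : G)⁻¹ = (l : G) * a * (l : G)⁻¹
  calc (k : G) * a * (k : G)⁻¹ = k * ((a : G) * ((k : G)⁻¹ * l)) * (l : G)⁻¹ := by group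
    _ = k * (((k : G)⁻¹ * l) * a) * (l : G)⁻¹ := by rw [hfix _ hm]
    _ = _ := by group

theorem avg_fixed (hKA : K ≤ Subgroup.normalizer (A : Set G)) {a : A} (hfix : ∀ s ∈ P, s * (a : G) = a * s)
    {k : G} (hk : k ∈ K) : k * (avg hKA P p a : G) = avg hKA P p a * k := by
  classical
  letI : Fintype (↥K ⧸ P.subgroupOf K) := Fintype.ofFinite _
  obtain ⟨c, hc⟩ : ∃ c : A →* A, ∀ b, c b = cjEl hKA ⟨k, hk⟩ b :=
    ⟨MonoidHom.mk' (cjEl hKA ⟨k, hk⟩) (fun x y => Subtype.ext (by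
      show k * ((x : G) * y) * k⁻¹ = k * x * k⁻¹ * (k * y * k⁻¹); group)), fun b => rfl⟩
  have h : c (avg hKA P p a) = avg hKA P p a := by
    unfold avg
    rw [map_pow, map_prod]
    congr 1
    refine Fintype.prod_equiv (MulAction.toPerm (⟨k, hk⟩ : ↥K)) _ _ fun q => ?_
    rw [hc]
    refine Eq.trans ?_ (cjEl_eq hKA hfix (k := ⟨k, hk⟩ * q.out) ?_)
    · refine Subtype.ext ?_
      show k * ((q.out : G) * a * (q.out : G)⁻¹) * k⁻¹ = k * (q.out : G) * a * (k * (q.out : G))⁻¹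
      group
    · rw [QuotientGroup.out_eq']
      show QuotientGroup.mk (⟨k, hk⟩ * q.out) = (⟨k, hk⟩ : ↥K) • q
      conv_rhs => rw [← QuotientGroup.out_eq' q]
      rfl
  rw [hc] at h
  have h' : k * (avg hKA P p a : G) * k⁻¹ = avg hKA P p a := congrArg Subtype.val h
  calc k * (avg hKA P p a : G) = k * avg hKA P p a * k⁻¹ * k := by group
    _ = avg hKA P p a * k := by rw [h']

theorem avg_mul (hKA : K ≤ Subgroup.normalizer (A : Set G)) (a b : A) :
    avg hKA P p (a * b) = avg hKA P p a * avg hKA P p b := by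
  classical
  unfold avg
  rw [← mul_pow, ← Finset.prod_mul_distrib]
  congr 1
  refine Finset.prod_congr rfl fun q _ => Subtype.ext ?_
  show (q.out : G) * ((a : G) * b) * (q.out : G)⁻¹ = q.out * a * (q.out : G)⁻¹ * (q.out * b * (q.out : G)⁻¹)
  group

theorem avg_eq_self (hKA : K ≤ Subgroup.normalizer (A : Set G)) (hexp : ∀ a ∈ A, a ^ p = 1)
    (hidx : ¬ p ∣ P.relIndex K) {a : A} (hfix : ∀ k ∈ K, k * (a : G) = a * k) : avg hKA P p a = a := by
  classical
  letI : Fintype (↥K ⧸ P.subgroupOf K) := Fintype.ofFinite _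
  unfold avg
  rw [Finset.prod_congr rfl (fun q _ => show cjEl hKA q.out a = a from Subtype.ext (by
    show (q.out : G) * a * (q.out : G)⁻¹ = a
    rw [hfix _ q.out.2, mul_inv_cancel_right])), Finset.prod_const, Finset.card_univ]
  refine pow_val_inv hexp ?_
  rwa [← Nat.card_eq_fintype_card, ← Subgroup.index_eq_card]

theorem avg_congr_mod (hKA : K ≤ Subgroup.normalizer (A : Set G)) (hexp : ∀ a ∈ A, a ^ p = 1)
    (hidx : ¬ p ∣ P.relIndex K) {a : A} {W : Subgroup G}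
    (hW : ∀ k ∈ K, k * (a : G) * k⁻¹ * (a : G)⁻¹ ∈ W) :
    (avg hKA P p a : G) * (a : G)⁻¹ ∈ W := by
  classical
  letI : Fintype (↥K ⧸ P.subgroupOf K) := Fintype.ofFinite _
  obtain ⟨b, hb⟩ : ∃ b : ↥K ⧸ P.subgroupOf K → A, ∀ q, cjEl hKA q.out a = b q * a ∧ (b q : G) ∈ W :=
    ⟨fun q => cjEl hKA q.out a * a⁻¹, fun q => ⟨by group, hW _ q.out.2⟩⟩
  have hcard : ¬ p ∣ Fintype.card (↥K ⧸ P.subgroupOf K) := by
    rwa [← Nat.card_eq_fintype_card, ← Subgroup.index_eq_card]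
  obtain ⟨n, hn⟩ : ∃ n : ℕ, n = ((Fintype.card (↥K ⧸ P.subgroupOf K) : ZMod p)⁻¹).val := ⟨_, rfl⟩
  have h : avg hKA P p a = (∏ q, b q) ^ n * a := by
    unfold avg
    rw [Finset.prod_congr rfl (fun q _ => (hb q).1), Finset.prod_mul_distrib, Finset.prod_const,
      Finset.card_univ, mul_pow, pow_val_inv hexp hcard, hn]
  rw [h]
  have hmem : ((∏ q, b q) ^ n : A) ∈ W.subgroupOf A :=
    pow_mem (prod_mem fun q _ => show b q ∈ W.subgroupOf A from (hb q).2) n
  simpa [Subgroup.mem_subgroupOf] using hmem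

theorem avg_equivariant (hKA : K ≤ Subgroup.normalizer (A : Set G)) {a a' : A} {t : G}
    (htK : t ∈ Subgroup.normalizer (K : Set G)) (htP : t ∈ Subgroup.normalizer (P : Set G))
    (htA : t ∈ Subgroup.normalizer (A : Set G))
    (hfix : ∀ s ∈ P, s * (a : G) = a * s) (ha' : (a' : G) = t * a * t⁻¹) :
    (avg hKA P p a' : G) = t * avg hKA P p a * t⁻¹ := by
  classical
  letI : Fintype (↥K ⧸ P.subgroupOf K) := Fintype.ofFinite _
  obtain ⟨c, hc⟩ : ∃ c : A →* A, ∀ b : A, (c b : G) = t * b * t⁻¹ :=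
    ⟨MonoidHom.mk' (fun b => ⟨t * b * t⁻¹, (Subgroup.mem_set_normalizer_iff.1 htA b).1 b.2⟩)
      (fun x y => Subtype.ext (by show t * ((x : G) * y) * t⁻¹ = t * x * t⁻¹ * (t * y * t⁻¹); group)),
      fun b => rfl⟩
  rw [← hc]
  refine congrArg Subtype.val ?_
  unfold avg
  rw [map_pow, map_prod]
  congr 1
  let e : ↥K ≃* ↥K :=
    { toFun := fun k => ⟨t * k * t⁻¹, (Subgroup.mem_set_normalizer_iff.1 htK k).1 k.2⟩
      invFun := fun k => ⟨t⁻¹ * k * t, (Subgroup.mem_set_normalizer_iff.1 htK _).2 (by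
        rw [show t * (t⁻¹ * k * t) * t⁻¹ = (k : G) by group]; exact k.2)⟩
      left_inv := fun k => Subtype.ext (by simp [mul_assoc])
      right_inv := fun k => Subtype.ext (by simp [mul_assoc])
      map_mul' := fun k l => Subtype.ext (by simp [mul_assoc]) }
  have hiff : ∀ k l : ↥K, (k⁻¹ * l ∈ P.subgroupOf K) ↔ ((e k)⁻¹ * e l ∈ P.subgroupOf K) := fun k l => by
    rw [← map_inv, ← map_mul]
    exact Subgroup.mem_set_normalizer_iff.1 htP _
  let ρ : ↥K ⧸ P.subgroupOf K ≃ ↥K ⧸ P.subgroupOf K := Quotient.congr e.toEquiv fun k l => by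
    simp only [QuotientGroup.leftRel_apply]
    exact hiff k l
  refine (Fintype.prod_equiv ρ _ _ fun q => ?_).symm
  refine Subtype.ext ?_
  have hfix' : ∀ s ∈ P, s * (a' : G) = a' * s := fun s hs => by
    have h1 := hfix _ ((Subgroup.mem_set_normalizer_iff.1 htP (t⁻¹ * s * t)).2 (by
      rw [show t * (t⁻¹ * s * t) * t⁻¹ = s by group]; exact hs))
    rw [ha']
    calc s * (t * a * t⁻¹) = t * ((t⁻¹ * s * t) * a) * t⁻¹ := by group
      _ = t * (a * (t⁻¹ * s * t)) * t⁻¹ := by rw [h1]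
      _ = t * a * t⁻¹ * s := by group
  rw [hc, cjEl_eq hKA hfix' (k := (ρ q).out) (l := e q.out) (by
    rw [QuotientGroup.out_eq']
    conv_lhs => rw [← QuotientGroup.out_eq' q]
    rfl)]
  show t * ((q.out : G) * a * (q.out : G)⁻¹) * t⁻¹ = t * q.out * t⁻¹ * a' * (t * (q.out : G) * t⁻¹)⁻¹
  rw [ha']; group

end Average

/-- A normal subgroup of a group of characteristic `p` has characteristic `p`. -/
theorem charP_normal {K L : Subgroup G} (hK : CharP p K) (hLK : L ≤ K)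
    (hn : (L.subgroupOf K).Normal) : CharP p L := by
  classical
  haveI : (Subgroup.centralizer (Cfsg.pCore p ↥L : Set ↥L)).Normal :=
    normal_iff_cj.2 fun g => by rw [cj_centralizer, cj_of_normal]
  refine le_pCore ?_
  intro x
  obtain ⟨k, m, hm, hxm⟩ := Nat.exists_eq_pow_mul_and_not_dvd (orderOf_pos ((x : ↥L) : G)).ne' p
    (Fact.out : p.Prime).ne_one
  refine ⟨k, Subtype.ext (Subtype.ext ?_)⟩
  obtain ⟨y, hy⟩ : ∃ y, y = ((x : ↥L) : G) ^ p ^ k := ⟨_, rfl⟩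
  show ((x : ↥L) : G) ^ p ^ k = 1
  rw [← hy]
  have hyo : orderOf y = m := by
    rw [hy, orderOf_pow_of_dvd (pow_ne_zero _ (Fact.out : p.Prime).ne_zero) (hxm ▸ dvd_mul_right _ _), hxm,
      Nat.mul_div_cancel_left _ (pow_pos (Fact.out : p.Prime).pos _)]
  have hyL : y ∈ L := hy ▸ pow_mem (x : ↥L).2 _
  have hcop : ∀ {b : G} (n : ℕ), b ^ p ^ n = 1 → b ^ m = 1 → b = 1 := fun {b} n h1 h2 =>
    orderOf_eq_one_iff.1 (Nat.eq_one_of_dvd_coprimes (((Fact.out : p.Prime).coprime_iff_not_dvd.2 hm).pow_left n)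
      (orderOf_dvd_of_pow_eq_one h1) (orderOf_dvd_of_pow_eq_one h2))
  set R := (Cfsg.pCore p ↥K).map K.subtype with hR
  have hRp : IsPGroup p R := (isPGroup_pCore p ↥K).map _
  have hfix : ∀ r ∈ R, y * r = r * y := by
    intro r hr
    obtain ⟨b, hb⟩ : ∃ b, b = y * r * y⁻¹ * r⁻¹ := ⟨_, rfl⟩
    have hrK : r ∈ K := Subgroup.map_subtype_le _ hr
    have hbR : b ∈ R := hb ▸ mul_mem
      ((Subgroup.mem_set_normalizer_iff.1 ((Subgroup.le_normalizer.trans (normalizer_le_char K _)) (hLK hyL)) r).1 hr)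
      (inv_mem hr)
    have hbL : b ∈ L := by
      rw [hb, show y * r * y⁻¹ * r⁻¹ = y * (r * y⁻¹ * r⁻¹) by group]
      exact mul_mem hyL ((Subgroup.mem_set_normalizer_iff.1
        ((Subgroup.normal_subgroupOf_iff_le_normalizer hLK).1 hn hrK) _).1 (inv_mem hyL))
    haveI : (((Cfsg.pCore p ↥K).map K.subtype ⊓ L).subgroupOf L).Normal := by
      rw [Subgroup.normal_subgroupOf_iff_le_normalizer inf_le_right]
      exact fun g hg => mem_normalizer_iff_cj.2 (by
        rw [cj_inf, cj_eq_self ((Subgroup.le_normalizer.trans (normalizer_le_char K _)) (hLK hg)),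
          cj_eq_self_of_mem hg])
    have hbc : y * b = b * y := by
      have hmem : (⟨b, hbL⟩ : ↥L) ∈ Cfsg.pCore p ↥L :=
        le_pCore (N := ((Cfsg.pCore p ↥K).map K.subtype ⊓ L).subgroupOf L)
          (hRp.to_inf_left.comap_subtype) ⟨hbR, hbL⟩
      have h1 : ((x : ↥L) : G) * b = b * (x : ↥L) :=
        (congrArg Subtype.val (Subgroup.mem_centralizer_iff.1 x.2 _ hmem)).symm
      rw [hy]
      exact ((show Commute ((x : ↥L) : G) b from h1).pow_left _).eq
    have hpow : ∀ i : ℕ, y ^ i * r * (y ^ i)⁻¹ = b ^ i * r := by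
      intro i
      induction i with
      | zero => simp
      | succ i ih =>
        calc y ^ (i + 1) * r * (y ^ (i + 1))⁻¹ = y * (y ^ i * r * (y ^ i)⁻¹) * y⁻¹ := by rw [pow_succ']; group
          _ = (y * b ^ i) * r * y⁻¹ := by rw [ih]; group
          _ = b ^ i * (y * r * y⁻¹ * r⁻¹) * r := by
              rw [(show Commute y b from hbc).pow_right i]; group
          _ = b ^ (i + 1) * r := by rw [← hb, pow_succ]
    have h1 := hpow m
    rw [← hyo, pow_orderOf_eq_one, one_mul, inv_one, mul_one, right_eq_mul, hyo] at h1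
    obtain ⟨n, hn'⟩ := hRp ⟨b, hbR⟩
    have hb1 := hb.symm.trans (hcop n (congrArg Subtype.val hn') h1)
    rw [mul_inv_eq_one, mul_inv_eq_iff_eq_mul] at hb1
    exact hb1
  have hmem : (⟨y, hLK hyL⟩ : ↥K) ∈ Cfsg.pCore p ↥K := hK (Subgroup.mem_centralizer_iff.2 fun r hr =>
    Subtype.ext (hfix r (Subgroup.mem_map_of_mem K.subtype hr)).symm)
  obtain ⟨n, hn'⟩ := isPGroup_pCore p ↥K ⟨_, hmem⟩
  exact hcop n (congrArg (fun w : ↥(Cfsg.pCore p ↥K) => ((w : ↥K) : G)) hn')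
    (hyo ▸ pow_orderOf_eq_one y)

theorem mem_omega_center {S : Subgroup G} {x : G} :
    x ∈ Cfsg.omegaOne p (S ⊓ Subgroup.centralizer (S : Set G)) ↔
      x ∈ S ∧ (∀ s ∈ S, s * x = x * s) ∧ x ^ p = 1 := by
  refine ⟨fun hx => ?_, fun ⟨h1, h2, h3⟩ => Subgroup.subset_closure ⟨⟨h1, Subgroup.mem_centralizer_iff.2 h2⟩, h3⟩⟩
  induction hx using Subgroup.closure_induction with
  | mem y hy => exact ⟨hy.1.1, Subgroup.mem_centralizer_iff.1 hy.1.2, hy.2⟩
  | one => exact ⟨one_mem _, fun s _ => by simp, one_pow _⟩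
  | mul a b _ _ ha hb =>
    refine ⟨mul_mem ha.1 hb.1, fun s hs => ?_, ?_⟩
    · rw [← mul_assoc, ha.2.1 s hs, mul_assoc, hb.2.1 s hs, mul_assoc]
    · rw [(show Commute a b from hb.2.1 a ha.1).mul_pow, ha.2.2, hb.2.2, one_mul]
  | inv a _ ha =>
    exact ⟨inv_mem ha.1, fun s hs => ((show Commute s a from ha.2.1 s hs).inv_right).eq,
      by rw [inv_pow, ha.2.2, inv_one]⟩

/-- Kieler's lemma for a normal subgroup. -/
theorem kieler_normal {K L S : Subgroup G} (hK : CharP p K) (hS : SylIn p S K) (hLK : L ≤ K)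
    (hn : (L.subgroupOf K).Normal) :
    L ⊓ Subgroup.centralizer (Cfsg.omegaOne p (S ⊓ Subgroup.centralizer (S : Set G)) : Set G) =
      L ⊓ Subgroup.centralizer (Cfsg.omegaOne p ((S ⊓ L) ⊓ Subgroup.centralizer ((S ⊓ L : Subgroup G) : Set G)) : Set G) := by
  classical
  set Z := Cfsg.omegaOne p (S ⊓ Subgroup.centralizer (S : Set G)) with hZ
  set Y := Cfsg.omegaOne p ((S ⊓ L) ⊓ Subgroup.centralizer ((S ⊓ L : Subgroup G) : Set G)) with hY
  have hKL : K ≤ Subgroup.normalizer (L : Set G) := (Subgroup.normal_subgroupOf_iff_le_normalizer hLK).1 hn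
  have hP : SylIn p (S ⊓ L) L := hS.inf_normal hLK hKL
  have hidx : ¬ p ∣ (S ⊓ L).relIndex L := hP.not_dvd
  -- omega of the centre of a core
  have hcore : ∀ M : Subgroup G, ∀ T : Subgroup G, SylIn p T M → CharP p M →
      ∃ A : Subgroup G, IsMulCommutative A ∧ (∀ a ∈ A, a ^ p = 1) ∧ A ≤ T ∧
        Subgroup.normalizer (M : Set G) ≤ Subgroup.normalizer (A : Set G) ∧
        ∀ x ∈ T, (∀ s ∈ T, s * x = x * s) → x ^ p = 1 → x ∈ A := by
    intro M T hT hM
    set R := (Cfsg.pCore p ↥M).map M.subtype with hR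
    refine ⟨Cfsg.omegaOne p (R ⊓ Subgroup.centralizer (R : Set G)), ⟨⟨fun a b => Subtype.ext ?_⟩⟩,
      fun a ha => (mem_omega_center.1 ha).2.2, fun a ha => ?_, fun g hg => ?_, fun x hx hc hxp => ?_⟩
    · exact (mem_omega_center.1 b.2).2.1 a (mem_omega_center.1 a.2).1
    · obtain ⟨Q, hQ⟩ := hT.exists_sylow_subgroupOf
      obtain ⟨r, hr, rfl⟩ := (mem_omega_center.1 ha).1
      have := pCore_le_sylow Q hr
      rw [hQ] at this
      exact this
    · have hRg : g ∈ Subgroup.normalizer (R : Set G) := normalizer_le_char M _ hg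
      refine mem_normalizer_of_cj_le ?_
      rintro _ ⟨a, ha, rfl⟩
      show g * a * g⁻¹ ∈ _
      obtain ⟨h1, h2, h3⟩ := mem_omega_center.1 ha
      refine mem_omega_center.2 ⟨(Subgroup.mem_set_normalizer_iff.1 hRg a).1 h1, fun s hs => ?_,
        by rw [conj_pow, h3, mul_one, mul_inv_cancel]⟩
      have h4 := h2 _ ((Subgroup.mem_set_normalizer_iff.1 hRg (g⁻¹ * s * g)).2 (by
        rw [show g * (g⁻¹ * s * g) * g⁻¹ = s by group]; exact hs))
      calc s * (g * a * g⁻¹) = g * ((g⁻¹ * s * g) * a) * g⁻¹ := by group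
        _ = g * (a * (g⁻¹ * s * g)) * g⁻¹ := by rw [h4]
        _ = g * a * g⁻¹ * s := by group
    · have hRT : R ≤ T := by
        obtain ⟨Q, hQ⟩ := hT.exists_sylow_subgroupOf
        rintro _ ⟨r, hr, rfl⟩
        have := pCore_le_sylow Q hr
        rw [hQ] at this
        exact this
      have hxc : (⟨x, hT.le hx⟩ : ↥M) ∈ Cfsg.pCore p ↥M := hM (Subgroup.mem_centralizer_iff.2 fun r hr =>
        Subtype.ext (hc r (hRT (Subgroup.mem_map_of_mem M.subtype hr))))
      exact mem_omega_center.2 ⟨⟨_, hxc, rfl⟩, fun s hs => hc s (hRT hs), hxp⟩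
  refine le_antisymm ?_ ?_ <;> intro x hx <;> refine ⟨hx.1, ?_⟩
  · -- `C_L(Z)` centralizes `Y`
    obtain ⟨A, hAc, hAp, hAS, hAN, hAmem⟩ := hcore L (S ⊓ L) hP (charP_normal hK hLK hn)
    haveI := hAc
    set M := L ⊓ Subgroup.centralizer (Z : Set G) with hM
    have hPM : S ⊓ L ≤ M := fun s hs => ⟨hs.2, Subgroup.mem_centralizer_iff.2 fun z hz =>
      ((mem_omega_center.1 hz).2.1 s hs.1).symm⟩
    have hMA : M ≤ Subgroup.normalizer (A : Set G) :=
      (inf_le_left.trans Subgroup.le_normalizer).trans hAN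
    have hidxM : ¬ p ∣ (S ⊓ L).relIndex M := fun h => hidx (h.trans
      ⟨_, (Subgroup.relIndex_mul_relIndex _ _ _ hPM inf_le_left).symm⟩)
    have hYA : Y ≤ A := fun y hy => by
      obtain ⟨h1, h2, h3⟩ := mem_omega_center.1 hy
      exact hAmem y h1 h2 h3
    have hYfix : ∀ y : ↥A, (y : G) ∈ Y → ∀ s ∈ S ⊓ L, s * (y : G) = y * s :=
      fun y hy s hs => (mem_omega_center.1 hy).2.1 s hs
    have havY : ∀ y : ↥A, (y : G) ∈ Y → (avg hMA (S ⊓ L) p y : G) ∈ Y := fun y hy =>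
      mem_omega_center.2 ⟨hAS (avg hMA (S ⊓ L) p y).2,
        fun s hs => avg_fixed hMA (hYfix y hy) (hPM hs), hAp _ (avg hMA (S ⊓ L) p y).2⟩
    let N : Subgroup G :=
      { carrier := {y | ∃ h : y ∈ A, y ∈ Y ∧ avg hMA (S ⊓ L) p ⟨y, h⟩ = 1}
        one_mem' := ⟨one_mem _, one_mem _,
          avg_eq_self hMA hAp hidxM (a := ⟨1, one_mem _⟩) fun k _ => by simp⟩
        mul_mem' := fun {a b} ⟨ha, ha', ha''⟩ ⟨hb, hb', hb''⟩ => ⟨mul_mem ha hb, mul_mem ha' hb', by
          have := avg_mul (p := p) (P := S ⊓ L) hMA ⟨a, ha⟩ ⟨b, hb⟩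
          rw [ha'', hb'', one_mul] at this
          exact this⟩
        inv_mem' := fun {a} ⟨ha, ha', ha''⟩ => ⟨inv_mem ha, inv_mem ha', by
          have h := avg_mul (p := p) (P := S ⊓ L) hMA ⟨a⁻¹, inv_mem ha⟩ ⟨a, ha⟩
          rw [ha'', mul_one] at h
          rw [← h, show (⟨a⁻¹, inv_mem ha⟩ * ⟨a, ha⟩ : ↥A) = ⟨1, one_mem _⟩ from Subtype.ext (inv_mul_cancel a)]
          exact avg_eq_self hMA hAp hidxM (a := ⟨1, one_mem _⟩) fun k _ => by simp⟩ }
    have hNbot : N = ⊥ := by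
      by_contra hne
      have hNS : N ≤ S := fun y hy => (hAS hy.1).1
      have hNn : S ≤ Subgroup.normalizer (N : Set G) := fun t ht => by
        refine mem_normalizer_of_cj_le ?_
        rintro _ ⟨y, ⟨hyA, hyY, hy1⟩, rfl⟩
        show t * y * t⁻¹ ∈ N
        have htK : t ∈ K := hS.le ht
        have htP : t ∈ Subgroup.normalizer ((S ⊓ L : Subgroup G) : Set G) :=
          mem_normalizer_iff_cj.2 (by rw [cj_inf, cj_eq_self_of_mem ht, cj_eq_self (hKL htK)])
        have hZS : cj Z t = Z := cj_eq_of_cj_le (by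
          rintro _ ⟨w, hw, rfl⟩
          show t * w * t⁻¹ ∈ Z
          rw [(mem_omega_center.1 hw).2.1 t ht, mul_inv_cancel_right]
          exact hw)
        have htM : t ∈ Subgroup.normalizer (M : Set G) := mem_normalizer_iff_cj.2 (by
          rw [hM, cj_inf, cj_centralizer, hZS, cj_eq_self (hKL htK)])
        have htA : t ∈ Subgroup.normalizer (A : Set G) := hAN (hKL htK)
        obtain ⟨g1, g2, g3⟩ := mem_omega_center.1 hyY
        have hyY' : t * y * t⁻¹ ∈ Y := mem_omega_center.2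
          ⟨(Subgroup.mem_set_normalizer_iff.1 htP y).1 g1, fun s hs => by
            have h4 := g2 _ ((Subgroup.mem_set_normalizer_iff.1 htP (t⁻¹ * s * t)).2 (by
              rw [show t * (t⁻¹ * s * t) * t⁻¹ = s by group]; exact hs))
            calc s * (t * y * t⁻¹) = t * ((t⁻¹ * s * t) * y) * t⁻¹ := by group
              _ = t * (y * (t⁻¹ * s * t)) * t⁻¹ := by rw [h4]
              _ = t * y * t⁻¹ * s := by group,
            by rw [conj_pow, g3, mul_one, mul_inv_cancel]⟩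
        refine ⟨(Subgroup.mem_set_normalizer_iff.1 htA y).1 hyA, hyY', Subtype.ext ?_⟩
        rw [avg_equivariant hMA (a := ⟨y, hyA⟩) htM htP htA (hYfix ⟨y, hyA⟩ hyY) rfl, hy1]
        simp
      obtain ⟨z, ⟨hzA, hzY, hz1⟩, hzp, hzc⟩ := exists_central_order hS.isPGroup hNS hNn hne
      have hzZ : z ∈ Z := mem_omega_center.2 ⟨(hAS hzA).1, hzc, hAp z hzA⟩
      have h := avg_eq_self hMA hAp hidxM (a := ⟨z, hzA⟩) fun k hk =>
        (Subgroup.mem_centralizer_iff.1 hk.2 z hzZ).symm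
      rw [hz1] at h
      have hz : z = 1 := (congrArg Subtype.val h).symm
      rw [hz, orderOf_one] at hzp
      exact (Fact.out : p.Prime).ne_one hzp.symm
    refine Subgroup.mem_centralizer_iff.2 fun y hy => ?_
    obtain ⟨a, hae⟩ : ∃ a : ↥A, (a : G) = y := ⟨⟨y, hYA hy⟩, rfl⟩
    have haY : (a : G) ∈ Y := hae.symm ▸ hy
    obtain ⟨b, hbe⟩ : ∃ b, b = avg hMA (S ⊓ L) p a := ⟨_, rfl⟩
    have hbfix : ∀ k ∈ M, k * (b : G) = b * k := fun k hk => hbe ▸ avg_fixed hMA (hYfix a haY) hk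
    have hbb : avg hMA (S ⊓ L) p b = b := avg_eq_self hMA hAp hidxM hbfix
    have hq : (a : G) * (b : G)⁻¹ ∈ N := by
      refine ⟨mul_mem a.2 (inv_mem b.2), mul_mem haY (inv_mem (hbe ▸ havY a haY)), ?_⟩
      have h := avg_mul (p := p) (P := S ⊓ L) hMA (a * b⁻¹) b
      rw [inv_mul_cancel_right, hbb, ← hbe] at h
      exact right_eq_mul.1 h
    rw [hNbot, Subgroup.mem_bot, mul_inv_eq_one] at hq
    rw [← hae, hq]
    exact (hbfix x hx).symm
  · -- `C_L(Y)` centralizes `Z`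
    obtain ⟨A, hAc, hAp, hAS, hAN, hAmem⟩ := hcore K S hS hK
    haveI := hAc
    have hLA : L ≤ Subgroup.normalizer (A : Set G) := (hLK.trans Subgroup.le_normalizer).trans hAN
    refine Subgroup.mem_centralizer_iff.2 fun z hz => ?_
    obtain ⟨hz1, hz2, hz3⟩ := mem_omega_center.1 hz
    obtain ⟨a, hae⟩ : ∃ a : ↥A, (a : G) = z := ⟨⟨z, hAmem z hz1 hz2 hz3⟩, rfl⟩
    have hfix : ∀ s ∈ S ⊓ L, s * (a : G) = a * s := fun s hs => by rw [hae]; exact hz2 s hs.1
    have hd : (avg hLA (S ⊓ L) p a : G) * (a : G)⁻¹ ∈ A ⊓ L := by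
      refine avg_congr_mod hLA hAp hidx fun k hk => Subgroup.mem_inf.2
        ⟨mul_mem ((Subgroup.mem_set_normalizer_iff.1 (hLA hk) _).1 a.2) (inv_mem a.2), ?_⟩
      rw [show k * (a : G) * k⁻¹ * (a : G)⁻¹ = k * ((a : G) * k⁻¹ * (a : G)⁻¹) by group]
      exact mul_mem hk ((Subgroup.mem_set_normalizer_iff.1 (hKL (hS.le (hAS a.2))) _).1 (inv_mem hk))
    obtain ⟨b, hbe⟩ : ∃ b : G, b = (avg hLA (S ⊓ L) p a : G) := ⟨_, rfl⟩
    rw [← hbe] at hd
    have hbfix : ∀ k ∈ L, k * b = b * k := fun k hk => hbe ▸ avg_fixed hLA hfix hk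
    have hdY : b * (a : G)⁻¹ ∈ Y := mem_omega_center.2
      ⟨⟨hAS hd.1, hd.2⟩, fun s hs => ((show Commute s b from hbfix s hs.2).mul_right
        (show Commute s (a : G) from hfix s hs).inv_right).eq, hAp _ hd.1⟩
    have h1 : Commute x (b * (a : G)⁻¹) := (Subgroup.mem_centralizer_iff.1 hx.2 _ hdY).symm
    have h2 : Commute x b := hbfix x hx.1
    have h3 := h1.inv_right.mul_right h2
    rw [show (b * (a : G)⁻¹)⁻¹ * b = (a : G) by group, hae] at h3
    exact h3.eq.symm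

end Cfsg.Agent.LocalEven
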