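import Mathlib
import Cfsg.Prelude.Def_LocalStructure
import Cfsg.Prelude.Def_Amalgam
import Cfsg.Agent.Lib.LocalEven.Kieler
import Cfsg.Agent.Lib.Fusion.Reduction

/-!
`p`-reduced normal subgroups.
-/

set_option autoImplicit false

open scoped commutatorElement Pointwise

namespace Cfsg.Agent.LocalEven.Red

open Cfsg Cfsg.Agent.Fusion

variable {L : Type*} [Group L] [Finite L] {p : ℕ} [Fact p.Prime]

/-- `M` is a `p`-group modulo `C`. -/
def PMod (p : ℕ) (M C : Subgroup L) : Prop := ∀ x ∈ M, ∃ k : ℕ, x ^ p ^ k ∈ C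

theorem pmod_of_isPGroup {M : Subgroup L} (h : IsPGroup p M) (C : Subgroup L) : PMod p M C :=
  fun x hx => by
    obtain ⟨k, hk⟩ := h ⟨x, hx⟩
    exact ⟨k, by rw [show x ^ p ^ k = 1 from congrArg Subtype.val hk]; exact one_mem C⟩

omit [Finite L] [Fact p.Prime] in
theorem pmod_mono {M C D : Subgroup L} (h : PMod p M C) (hCD : C ≤ D) : PMod p M D :=
  fun x hx => by obtain ⟨k, hk⟩ := h x hx; exact ⟨k, hCD hk⟩

theorem pCore_quotient_bot_iff (C : Subgroup L) [C.Normal] :
    pCore p (L ⧸ C) = ⊥ ↔ ∀ M : Subgroup L, M.Normal → PMod p M C → M ≤ C := by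
  set π := QuotientGroup.mk' C
  have hπ := QuotientGroup.mk'_surjective C
  constructor
  · intro h M hM hp
    haveI : (M.map π).Normal := hM.map π hπ
    have h1 : IsPGroup p (M.map π) := by
      rintro ⟨_, x, hx, rfl⟩
      obtain ⟨k, hk⟩ := hp x hx
      exact ⟨k, Subtype.ext (by
        show π x ^ p ^ k = 1
        rw [← map_pow]; exact (QuotientGroup.eq_one_iff _).2 hk)⟩
    have h2 := le_pCore h1
    rw [h, le_bot_iff, Subgroup.map_eq_bot_iff, QuotientGroup.ker_mk'] at h2
    exact h2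
  · intro h
    have h1 := h ((pCore p (L ⧸ C)).comap π) inferInstance fun x hx => by
      obtain ⟨k, hk⟩ := isPGroup_pCore p (L ⧸ C) ⟨π x, hx⟩
      refine ⟨k, (QuotientGroup.eq_one_iff _).1 ?_⟩
      show π (x ^ p ^ k) = 1
      rw [map_pow]; exact congrArg Subtype.val hk
    have h2 := Subgroup.map_mono (f := π) h1
    rw [Subgroup.map_comap_eq_self_of_surjective hπ, QuotientGroup.map_mk'_self] at h2
    exact le_bot_iff.1 h2

theorem reduced_iff (V : Subgroup L) :
    IsPReducedNormal p V ↔ V.Normal ∧ IsElementaryAbelian p V ∧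
      ∀ M : Subgroup L, M.Normal → PMod p M (Subgroup.centralizer (V : Set L)) →
        M ≤ Subgroup.centralizer (V : Set L) := by
  constructor
  · rintro ⟨hn, he, hC, h⟩
    haveI := hC
    exact ⟨hn, he, (pCore_quotient_bot_iff _).1 h⟩
  · rintro ⟨hn, he, h⟩
    haveI := hn
    haveI hC : (Subgroup.centralizer (V : Set L)).Normal := Subgroup.normal_centralizer (H := V)
    exact ⟨hn, he, hC, (pCore_quotient_bot_iff _).2 h⟩

omit [Finite L] in
theorem isPGroup_of_elementary {V : Subgroup L} (he : IsElementaryAbelian p V) : IsPGroup p V :=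
  fun v => ⟨1, Subtype.ext (by simpa using he.2 v v.2)⟩

variable {V : Subgroup L}

theorem le_pCore (hV : IsPReducedNormal p V) : V ≤ pCore p L := by
  haveI := hV.1
  exact Fusion.le_pCore (isPGroup_of_elementary hV.2.1)

theorem core_le_centralizer (hV : IsPReducedNormal p V) :
    pCore p L ≤ Subgroup.centralizer (V : Set L) :=
  ((reduced_iff V).1 hV).2.2 _ inferInstance (pmod_of_isPGroup (isPGroup_pCore p L) _)

theorem le_omega_core (hV : IsPReducedNormal p V) :
    V ≤ omegaOne p (pCore p L ⊓ Subgroup.centralizer (pCore p L : Set L)) := fun v hv =>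
  mem_omega_center.2 ⟨le_pCore hV hv, fun s hs => (Subgroup.mem_centralizer_iff.1 (core_le_centralizer hV hs) v hv).symm,
    hV.2.1.2 v hv⟩

theorem elementary_omega_center (S : Subgroup L) :
    IsElementaryAbelian p (omegaOne p (S ⊓ Subgroup.centralizer (S : Set L)) : Subgroup L) :=
  ⟨⟨⟨fun a b => Subtype.ext (((mem_omega_center.1 b.2).2.1 a (mem_omega_center.1 a.2).1))⟩⟩,
    fun _ ha => (mem_omega_center.1 ha).2.2⟩

omit [Finite L] [Fact p.Prime] in
theorem elementary_mono {V W : Subgroup L} (h : IsElementaryAbelian p W) (hVW : V ≤ W) :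
    IsElementaryAbelian p V :=
  ⟨⟨⟨fun a b => Subtype.ext (congrArg Subtype.val
    (h.1.is_comm.comm (⟨a, hVW a.2⟩ : W) ⟨b, hVW b.2⟩) :)⟩⟩, fun a ha => h.2 a (hVW ha)⟩

theorem omega_core_normal :
    (omegaOne p (pCore p L ⊓ Subgroup.centralizer (pCore p L : Set L)) : Subgroup L).Normal := by
  refine ⟨fun x hx g => mem_omega_center.2 ?_⟩
  obtain ⟨h1, h2, h3⟩ := mem_omega_center.1 hx
  refine ⟨(inferInstance : (pCore p L).Normal).conj_mem x h1 g, fun s hs => ?_, by rw [conj_pow, h3, mul_one, mul_inv_cancel]⟩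
  have := h2 _ ((inferInstance : (pCore p L).Normal).conj_mem s hs g⁻¹)
  calc s * (g * x * g⁻¹) = g * ((g⁻¹ * s * g⁻¹⁻¹) * x) * g⁻¹ := by group
    _ = g * (x * (g⁻¹ * s * g⁻¹⁻¹)) * g⁻¹ := by rw [this]
    _ = g * x * g⁻¹ * s := by group

theorem largest_reduced : IsPReducedNormal p (largestPReduced p L) := by
  set Z := omegaOne p (pCore p L ⊓ Subgroup.centralizer (pCore p L : Set L))
  have hle : largestPReduced p L ≤ Z := sSup_le fun V hV => le_omega_core hV
  refine (reduced_iff _).2 ⟨Subgroup.sSup_normal _ fun V hV => hV.1,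
    elementary_mono (elementary_omega_center _) hle, fun M hM hp => ?_⟩
  refine Subgroup.le_centralizer_iff.1 (sSup_le fun V hV => Subgroup.le_centralizer_iff.1 ?_)
  exact ((reduced_iff V).1 hV).2.2 M hM (pmod_mono hp (Subgroup.centralizer_le (le_sSup hV)))

theorem le_largest (hV : IsPReducedNormal p V) : V ≤ largestPReduced p L := le_sSup hV

/-- A normal subgroup that is a `p`-group modulo `C` lies in `C (T ∩ M)`. -/
theorem le_sup_sylow (T : Sylow p L) (M C : Subgroup L) [M.Normal] [C.Normal] (hCM : C ≤ M)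
    (hp : PMod p M C) : M ≤ C ⊔ ((T : Subgroup L) ⊓ M) := by
  set π := QuotientGroup.mk' C
  haveI : (M.map π).Normal := Subgroup.Normal.map inferInstance π (QuotientGroup.mk'_surjective C)
  have h1 : IsPGroup p (M.map π) := by
    rintro ⟨_, x, hx, rfl⟩
    obtain ⟨k, hk⟩ := hp x hx
    exact ⟨k, Subtype.ext (by
      show π x ^ p ^ k = 1
      rw [← map_pow]; exact (QuotientGroup.eq_one_iff _).2 hk)⟩
  obtain ⟨T', hT'⟩ := (sylIn_map_mk (N := C) (sylIn_top T)).exists_sylow
  intro x hx
  obtain ⟨t, ht, he⟩ : π x ∈ (T : Subgroup L).map π := hT' ▸ h1.le_sylow_of_normal T' ⟨x, hx, rfl⟩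
  have hc : t⁻¹ * x ∈ C := QuotientGroup.eq.1 he
  have htM : t ∈ M := by
    have := mul_mem hx (inv_mem (hCM hc)); simpa using this
  have := mul_mem (Subgroup.mem_sup_right (S := C) (Subgroup.mem_inf.2 ⟨ht, htM⟩)) (Subgroup.mem_sup_left hc)
  simpa using this

/-- Criterion for the normal closure of `X` to be reduced. -/
theorem reduced_closure (T : Sylow p L) {X : Set L}
    (hX : X ⊆ (omegaOne p (pCore p L ⊓ Subgroup.centralizer (pCore p L : Set L)) : Subgroup L))
    (h : ∀ M : Subgroup L, M.Normal → Subgroup.centralizer (Subgroup.normalClosure X : Set L) ≤ M →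
      PMod p M (Subgroup.centralizer (Subgroup.normalClosure X : Set L)) →
      (T : Subgroup L) ⊓ M ≤ Subgroup.centralizer X) :
    IsPReducedNormal p (Subgroup.normalClosure X) := by
  set W := Subgroup.normalClosure X
  haveI := omega_core_normal (p := p) (L := L)
  haveI : W.Normal := Subgroup.normalClosure_normal
  set C := Subgroup.centralizer (W : Set L)
  haveI : C.Normal := Subgroup.normal_centralizer (H := W)
  refine (reduced_iff W).2 ⟨inferInstance,
    elementary_mono (elementary_omega_center _) (Subgroup.normalClosure_le_normal hX), fun M₀ hM₀ hp₀ => ?_⟩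
  haveI := hM₀
  set M := M₀ ⊔ C with hM
  have hp : PMod p M C := by
    intro x hx
    obtain ⟨m, hm, c, hc, rfl⟩ := Subgroup.mem_sup_of_normal_right.1 hx
    obtain ⟨k, hk⟩ := hp₀ m hm
    refine ⟨k, (QuotientGroup.eq_one_iff _).1 ?_⟩
    rw [QuotientGroup.mk_pow, QuotientGroup.mk_mul, (QuotientGroup.eq_one_iff c).2 hc, mul_one,
      ← QuotientGroup.mk_pow, (QuotientGroup.eq_one_iff _).2 hk]
  have hTX := h M inferInstance le_sup_right hp
  have hMX : M ≤ Subgroup.centralizer X :=
    (le_sup_sylow T M C le_sup_right hp).trans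
      (sup_le (Subgroup.centralizer_le Subgroup.subset_normalClosure) hTX)
  refine le_trans (le_sup_left : M₀ ≤ M) ?_
  refine Subgroup.le_centralizer_iff.1 (Subgroup.normalClosure_le_normal (N := Subgroup.centralizer (M : Set L)) ?_)
  intro x hx
  exact Subgroup.mem_centralizer_iff.2 fun m hm => (Subgroup.mem_centralizer_iff.1 (hMX hm) x hx).symm

end Cfsg.Agent.LocalEven.Red
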