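import Mathlib
import Cfsg.Agent.Lib.LocalEven.CharP

/-!
# Elements of order prime to `p` acting on `p`-groups
-/

set_option autoImplicit false

namespace Cfsg.Agent.LocalEven

open Cfsg.Agent.Fusion

variable {G : Type*} [Group G] [Finite G] {p : ℕ} [Fact p.Prime]

omit [Finite G] in
theorem eq_one_of_pow_coprime {a : G} {n m : ℕ} (hn : a ^ p ^ n = 1) (hm : a ^ m = 1) (hc : m.Coprime p) :
    a = 1 :=
  orderOf_eq_one_iff.1 (Nat.eq_one_of_dvd_coprimes (hc.symm.pow_left n)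
    (orderOf_dvd_of_pow_eq_one hn) (orderOf_dvd_of_pow_eq_one hm))

/-- A subgroup without nontrivial `p'`-elements is a `p`-group. -/
theorem isPGroup_of_coprime_elements {S : Subgroup G}
    (h : ∀ x ∈ S, (orderOf x).Coprime p → x = 1) : IsPGroup p S := by
  intro x
  obtain ⟨k, m, hm, hxm⟩ := Nat.exists_eq_pow_mul_and_not_dvd (orderOf_pos (x : G)).ne' p
    (Fact.out : p.Prime).ne_one
  refine ⟨k, Subtype.ext (h ((x : G) ^ p ^ k) (pow_mem x.2 _) ?_)⟩
  rw [orderOf_pow_of_dvd (pow_ne_zero _ (Fact.out : p.Prime).ne_zero) (hxm ▸ dvd_mul_right _ _), hxm,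
    Nat.mul_div_cancel_left _ (pow_pos (Fact.out : p.Prime).pos _)]
  exact ((Fact.out : p.Prime).coprime_iff_not_dvd.2 hm).symm

omit [Finite G] in
/-- A `p'`-element that centralizes the `p`-element `[x, y]` commutes with `y`. -/
theorem commute_of_commutator_fixed {x y : G} {n : ℕ} (hx : (orderOf x).Coprime p)
    (hb : (x * y * x⁻¹ * y⁻¹) ^ p ^ n = 1) (hc : x * (x * y * x⁻¹ * y⁻¹) = x * y * x⁻¹ * y⁻¹ * x) :
    x * y = y * x := by
  obtain ⟨b, hbe⟩ : ∃ b, b = x * y * x⁻¹ * y⁻¹ := ⟨_, rfl⟩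
  rw [← hbe] at hb hc
  have hpow : ∀ i : ℕ, x ^ i * y * (x ^ i)⁻¹ = b ^ i * y := by
    intro i
    induction i with
    | zero => simp
    | succ i ih =>
      calc x ^ (i + 1) * y * (x ^ (i + 1))⁻¹ = x * (x ^ i * y * (x ^ i)⁻¹) * x⁻¹ := by rw [pow_succ']; group
        _ = (x * b ^ i) * y * x⁻¹ := by rw [ih]; group
        _ = b ^ i * (x * y * x⁻¹ * y⁻¹) * y := by rw [(show Commute x b from hc).pow_right i]; group
        _ = b ^ (i + 1) * y := by rw [← hbe, pow_succ]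
  have h1 := hpow (orderOf x)
  rw [pow_orderOf_eq_one, one_mul, inv_one, mul_one, right_eq_mul] at h1
  have h2 := hbe.symm.trans (eq_one_of_pow_coprime hb h1 hx)
  rw [mul_inv_eq_one, mul_inv_eq_iff_eq_mul] at h2
  exact h2

omit [Finite G] in
theorem commutator_mem_of_normalizer {x y : G} {A : Subgroup G} (hx : x ∈ Subgroup.normalizer (A : Set G))
    (hy : y ∈ A) : x * y * x⁻¹ * y⁻¹ ∈ A :=
  mul_mem ((Subgroup.mem_set_normalizer_iff.1 hx y).1 hy) (inv_mem hy)

/-- In a group of characteristic `p` a `p'`-element centralizing the core is trivial. -/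
theorem eq_one_of_centralizes_core {K : Subgroup G} (hK : CharP p K) {x : G} (hxK : x ∈ K)
    (hx : (orderOf x).Coprime p) (hc : ∀ y ∈ (Cfsg.pCore p ↥K).map K.subtype, x * y = y * x) : x = 1 := by
  have hmem : (⟨x, hxK⟩ : ↥K) ∈ Cfsg.pCore p ↥K := hK (Subgroup.mem_centralizer_iff.2 fun y hy =>
    Subtype.ext (hc y (Subgroup.mem_map_of_mem K.subtype hy)).symm)
  obtain ⟨n, hn⟩ := isPGroup_pCore p ↥K ⟨_, hmem⟩
  exact eq_one_of_pow_coprime (congrArg (fun w : ↥(Cfsg.pCore p ↥K) => ((w : ↥K) : G)) hn)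
    (pow_orderOf_eq_one x) hx

theorem eq_one_of_centralizes_pCore (hG : Subgroup.centralizer (Cfsg.pCore p G : Set G) ≤ Cfsg.pCore p G)
    {x : G} (hx : (orderOf x).Coprime p) (hc : ∀ y ∈ Cfsg.pCore p G, x * y = y * x) : x = 1 := by
  obtain ⟨n, hn⟩ := isPGroup_pCore p G ⟨x, hG (Subgroup.mem_centralizer_iff.2 fun y hy => (hc y hy).symm)⟩
  exact eq_one_of_pow_coprime (congrArg Subtype.val hn) (pow_orderOf_eq_one x) hx

/-- `C(O_p) ≤ O_p` as soon as every `p'`-element centralizing `O_p` is trivial. -/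
theorem charP_of_elements {K : Subgroup G}
    (h : ∀ x ∈ K, (orderOf x).Coprime p → (∀ y ∈ (Cfsg.pCore p ↥K).map K.subtype, x * y = y * x) → x = 1) :
    CharP p K := by
  haveI : (Subgroup.centralizer (Cfsg.pCore p ↥K : Set ↥K)).Normal :=
    normal_iff_cj.2 fun g => by rw [cj_centralizer, cj_of_normal]
  refine le_pCore (isPGroup_of_coprime_elements fun x hx hxc => ?_)
  refine Subtype.ext (h x x.2 (by rwa [Subgroup.orderOf_coe]) ?_)
  rintro _ ⟨y, hy, rfl⟩
  exact congrArg Subtype.val (Subgroup.mem_centralizer_iff.1 hx y hy).symm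

omit [Fact p.Prime] in
theorem map_pCore_top : (Cfsg.pCore p ↥(⊤ : Subgroup G)).map (⊤ : Subgroup G).subtype = Cfsg.pCore p G := by
  have h := Fusion.map_pCore_equiv (p := p) (Subgroup.topEquiv : (⊤ : Subgroup G) ≃* G)
  rwa [show (Subgroup.topEquiv : (⊤ : Subgroup G) ≃* G).toMonoidHom = (⊤ : Subgroup G).subtype from
    MonoidHom.ext fun x => rfl] at h

theorem charP_top (hG : Subgroup.centralizer (Cfsg.pCore p G : Set G) ≤ Cfsg.pCore p G) :
    CharP p (⊤ : Subgroup G) :=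
  charP_of_elements fun x _ hx hc => eq_one_of_centralizes_pCore hG hx fun y hy =>
    hc y (map_pCore_top.ge hy)

end Cfsg.Agent.LocalEven
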