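import Mathlib
import Cfsg.Prelude.Def_IsolatedElements
import Cfsg.Agent.Lib.LocalEven.PPrime

/-!
# Isolated `p`-elements
-/

set_option autoImplicit false

namespace Cfsg.Agent.LocalEven

open Cfsg.Agent.Fusion

variable {G : Type*} [Group G] [Finite G] {p : ℕ} [Fact p.Prime]

/-- An isolated element is centralized by every `p`-subgroup containing it. -/
theorem pgroup_le_centralizer_of_isolated {x : G} (hiso : Cfsg.IsIsolated x) {R : Subgroup G}
    (hR : IsPGroup p R) (hxR : x ∈ R) : R ≤ Subgroup.centralizer ({x} : Set G) := by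
  by_contra hle
  set N := R ⊓ Subgroup.centralizer ({x} : Set G) with hN
  have hlt : N < R ⊓ Subgroup.normalizer (N : Set G) :=
    SylIn.normalizer_growth inf_le_left (fun h => hle (inf_eq_left.1 h)) hR
  obtain ⟨t, ht, htN⟩ := SetLike.exists_of_lt hlt
  have hxN : x ∈ N := ⟨hxR, Subgroup.mem_centralizer_singleton_iff.2 rfl⟩
  have h1 := (Subgroup.mem_set_normalizer_iff.1 ht.2 x).1 hxN
  have h2 := hiso t (Subgroup.mem_centralizer_singleton_iff.1 h1.2).symm
  exact htN ⟨ht.1, Subgroup.mem_centralizer_singleton_iff.2 (mul_inv_eq_iff_eq_mul.1 h2)⟩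

theorem conj_eq_of_isolated {x : G} (hiso : Cfsg.IsIsolated x) {R : Subgroup G}
    (hR : IsPGroup p R) (hxR : x ∈ R) {g : G} (hg : g * x * g⁻¹ ∈ R) : g * x * g⁻¹ = x :=
  hiso g (Subgroup.mem_centralizer_singleton_iff.1 (pgroup_le_centralizer_of_isolated hiso hR hxR hg)).symm

/-- A conjugate of an isolated `p`-element in a subgroup containing it is conjugate there. -/
theorem exists_conj_of_isolated {x : G} (hx : ∃ k : ℕ, orderOf x = p ^ k) (hiso : Cfsg.IsIsolated x)
    {K : Subgroup G} (hxK : x ∈ K) {g : G} (hg : g * x * g⁻¹ ∈ K) :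
    ∃ c ∈ K, (c * g) * x = x * (c * g) := by
  have hzp : IsPGroup p (Subgroup.zpowers x) := isPGroup_zpowers hx
  obtain ⟨R, hR, hxR⟩ := exists_sylIn_ge hzp (Subgroup.zpowers_le.2 hxK)
  have hyp : IsPGroup p (Subgroup.zpowers (g * x * g⁻¹)) := by
    have h := hzp.map (MulAut.conj g).toMonoidHom
    rwa [MonoidHom.map_zpowers, MulEquiv.coe_toMonoidHom, MulAut.conj_apply] at h
  obtain ⟨c, hc, hcR⟩ := hR.conj_le hyp (Subgroup.zpowers_le.2 hg)
  refine ⟨c, hc, mul_inv_eq_iff_eq_mul.1 (conj_eq_of_isolated hiso hR.isPGroup (hxR (Subgroup.mem_zpowers x)) ?_)⟩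
  rw [show c * g * x * (c * g)⁻¹ = c * (g * x * g⁻¹) * c⁻¹ by group]
  exact hcR (conj_mem_cj (Subgroup.mem_zpowers _))

end Cfsg.Agent.LocalEven
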