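import Mathlib

/-!
Subgroups isomorphic to the alternating group of degree four in `GL₂(ℤ/2^k)` are conjugate.
-/

set_option autoImplicit false

namespace Cfsg.Agent.LocalEven.AltFourGLTwo

open Matrix

variable (k : ℕ)

abbrev R := ZMod (2 ^ k)
abbrev Mat := Matrix (Fin 2) (Fin 2) (R k)
abbrev Mat2 := Matrix (Fin 2) (Fin 2) (ZMod 2)
abbrev GLk := GL (Fin 2) (R k)

set_option synthInstance.maxSize 4096 in
theorem alt_facts : ∀ t v : alternatingGroup (Fin 4), t ^ 3 = 1 → t ≠ 1 → v ^ 2 = 1 → v ≠ 1 →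
    v * (t * v * t⁻¹) = t * t * v * (t * t)⁻¹ ∧ t * v * t⁻¹ ≠ v ∧
    ∀ x : alternatingGroup (Fin 4), ∃ i : Fin 3, x = t ^ (i : ℕ) ∨ x = t ^ (i : ℕ) * v ∨
      x = t ^ (i : ℕ) * (t * v * t⁻¹) ∨ x = t ^ (i : ℕ) * (t * t * v * (t * t)⁻¹) := by
  decide +kernel

theorem alt_exists : ∃ t v : alternatingGroup (Fin 4), t ^ 3 = 1 ∧ t ≠ 1 ∧ v ^ 2 = 1 ∧ v ≠ 1 := by
  decide +kernel

theorem idem_norm_zero : ∀ τ τi e : Mat2, τ = !![0, 1; 1, 1] → τi = !![1, 1; 1, 0] →
    e * e = e → e + τ * e * τi + τ * τ * e * (τi * τi) = 0 → e = 0 := by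
  decide +kernel

set_option synthInstance.maxSize 4096 in
set_option synthInstance.maxHeartbeats 400000 in
theorem gl2_fact : ∀ y z : GL (Fin 2) (ZMod 2), y ^ 2 = 1 → z ^ 3 = 1 → z ≠ 1 →
    y * (z * y * z⁻¹) = z * z * y * (z * z)⁻¹ → y = 1 := by
  decide +kernel

theorem alt_card : ∀ t v : alternatingGroup (Fin 4), t ^ 3 = 1 → t ≠ 1 → v ^ 2 = 1 → v ≠ 1 →
    ({1, v, t * v * t⁻¹, t * t * v * (t * t)⁻¹} : Finset (alternatingGroup (Fin 4))).card = 4 := by
  decide +kernel

/-- The elements of norm zero in `M₂(𝔽₂)`. -/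
def normZero : Finset Mat2 :=
  Finset.univ.filter fun Y => Y + !![0, 1; 1, 1] * Y * !![1, 1; 1, 0] +
    !![0, 1; 1, 1] * !![0, 1; 1, 1] * Y * (!![1, 1; 1, 0] * !![1, 1; 1, 0]) = 0

theorem card_normZero : normZero.card = 4 := by decide +kernel

theorem zero_mem_normZero : (0 : Mat2) ∈ normZero := by decide +kernel

variable {k}

theorem dvd_of_natCast_mul (c : ℕ) {a : R k} (h : (c : R k) * a = 0) : 2 ^ k ∣ c * a.val := by
  haveI : NeZero (2 ^ k) := ⟨(pow_pos two_pos k).ne'⟩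
  rw [← ZMod.natCast_eq_zero_iff, Nat.cast_mul, ZMod.natCast_zmod_val]
  exact h

variable (hk : 2 ≤ k)

/-- Reduction modulo two. -/
def red : R k →+* ZMod 2 := ZMod.castHom (dvd_pow_self 2 (by omega : k ≠ 0)) (ZMod 2)

theorem exists_two_mul {a : R k} (h : red hk a = 0) : ∃ b, a = 2 * b := by
  haveI : NeZero (2 ^ k) := ⟨(pow_pos two_pos k).ne'⟩
  rw [← ZMod.natCast_zmod_val a, map_natCast, ZMod.natCast_eq_zero_iff] at h
  obtain ⟨b, hb⟩ := h
  exact ⟨b, by rw [← ZMod.natCast_zmod_val a, hb, Nat.cast_mul, Nat.cast_ofNat]⟩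

include hk in
theorem top_layer {a : R k} (h : 4 * a = 0) : ∃ b : R k, 2 * a = 2 ^ (k - 1) * b := by
  haveI : NeZero (2 ^ k) := ⟨(pow_pos two_pos k).ne'⟩
  have h := dvd_of_natCast_mul 4 (a := a) (by rw [Nat.cast_ofNat]; exact h)
  have h2 : 2 ^ (k - 1) ∣ 2 * a.val := by
    obtain ⟨c, hc⟩ := h
    refine ⟨c, ?_⟩
    have : 2 * (2 * a.val) = 2 * (2 ^ (k - 1) * c) := by
      rw [← mul_assoc 2 2, ← mul_assoc 2 (2 ^ (k - 1)), ← pow_succ', show k - 1 + 1 = k by omega]
      exact hc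
    omega
  obtain ⟨c, hc⟩ := h2
  refine ⟨c, ?_⟩
  have h3 := congrArg (Nat.cast : ℕ → R k) hc
  push_cast at h3
  rwa [ZMod.natCast_zmod_val] at h3

include hk in
theorem top_congr {a b : R k} (h : red hk a = red hk b) : (2 : R k) ^ (k - 1) * a = 2 ^ (k - 1) * b := by
  obtain ⟨c, hc⟩ := exists_two_mul hk (show red hk (a - b) = 0 by rw [map_sub, h, sub_self])
  have h0 : (2 : R k) ^ k = 0 := by
    have := ZMod.natCast_self (2 ^ k)
    rwa [Nat.cast_pow, Nat.cast_ofNat] at this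
  have h1 : (2 : R k) ^ (k - 1) * (a - b) = 0 := by
    rw [hc, ← mul_assoc, ← pow_succ, show k - 1 + 1 = k by omega, h0, zero_mul]
  rwa [mul_sub, sub_eq_zero] at h1

/-- Reduction of matrices. -/
def redM : Mat k →+* Mat2 := (red hk).mapMatrix

theorem redM_apply (X : Mat k) (i j : Fin 2) : redM hk X i j = red hk (X i j) := rfl

theorem exists_two_smul {X : Mat k} (h : redM hk X = 0) : ∃ Y : Mat k, X = (2 : R k) • Y := by
  have h' : ∀ i j, ∃ b, X i j = 2 * b := fun i j => exists_two_mul hk (by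
    rw [← redM_apply hk, h]; rfl)
  choose Y hY using h'
  exact ⟨Matrix.of Y, Matrix.ext fun i j => by rw [Matrix.smul_apply, smul_eq_mul]; exact hY i j⟩

include hk in
theorem isUnit_of_red {X : Mat k} (h : redM hk X = 0) : IsUnit (1 + X) := by
  obtain ⟨Y, rfl⟩ := exists_two_smul hk h
  refine IsNilpotent.isUnit_one_add ⟨k, ?_⟩
  rw [smul_pow]
  have h0 : (2 : R k) ^ k = 0 := by
    have := ZMod.natCast_self (2 ^ k)
    rwa [Nat.cast_pow, Nat.cast_ofNat] at this
  rw [h0, zero_smul]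

/-- Reduction of the group. -/
def redU : GLk k →* GL (Fin 2) (ZMod 2) := Units.map (redM hk).toMonoidHom

theorem ker_pgroup : IsPGroup 2 (redU hk).ker := by
  rintro ⟨g, hg⟩
  refine ⟨k, Subtype.ext (Units.ext ?_)⟩
  have hg1 : redM hk (g : Mat k) = 1 := congrArg Units.val (MonoidHom.mem_ker.1 hg)
  obtain ⟨Y, hY⟩ := exists_two_smul hk (show redM hk ((g : Mat k) - 1) = 0 by rw [map_sub, hg1, map_one, sub_self])
  have key : ∀ i : ℕ, ∃ Z : Mat k, (g : Mat k) ^ 2 ^ i = 1 + ((2 : R k) ^ (i + 1)) • Z := by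
    intro i
    induction i with
    | zero => exact ⟨Y, by rw [pow_zero, pow_one, zero_add, pow_one, ← hY, add_sub_cancel]⟩
    | succ i ih =>
      obtain ⟨Z, hZ⟩ := ih
      refine ⟨Z + (2 : R k) ^ i • (Z * Z), ?_⟩
      rw [pow_succ, pow_mul, hZ, sq]
      obtain ⟨c, hc⟩ : ∃ c : R k, c = (2 : R k) ^ (i + 1) := ⟨_, rfl⟩
      rw [← hc]
      have h1 : (1 + c • Z) * (1 + c • Z) = 1 + ((c + c) • Z + (c * c) • (Z * Z)) := by
        simp only [add_mul, mul_add, one_mul, mul_one, smul_mul_smul_comm, add_smul]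
        abel
      rw [h1, smul_add, smul_smul, show c + c = (2 : R k) ^ (i + 1 + 1) by rw [hc]; ring,
        show c * c = (2 : R k) ^ (i + 1 + 1) * 2 ^ i by rw [hc]; ring]
  obtain ⟨Z, hZ⟩ := key k
  have h0 : (2 : R k) ^ (k + 1) = 0 := by
    have := ZMod.natCast_self (2 ^ k)
    rw [Nat.cast_pow, Nat.cast_ofNat] at this
    rw [pow_succ, this, zero_mul]
  rw [SubmonoidClass.coe_pow, Units.val_pow_eq_pow_val, hZ, h0, zero_smul, add_zero]
  rfl

/-- The chosen element of order three. -/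
def t0 : GLk k where
  val := !![0, -1; 1, -1]
  inv := !![-1, 1; -1, 0]
  val_inv := by simp [Matrix.one_fin_two]
  inv_val := by simp [Matrix.one_fin_two]

theorem t0_cube : (t0 (k := k)) ^ 3 = 1 := by
  apply Units.ext
  rw [Units.val_pow_eq_pow_val, pow_three]
  show (!![0, -1; 1, -1] : Mat k) * ((!![0, -1; 1, -1] : Mat k) * !![0, -1; 1, -1]) = 1
  simp [Matrix.one_fin_two]

theorem red_t0 : redM hk ((t0 (k := k) : GLk k) : Mat k) = !![0, 1; 1, 1] := by
  ext i j
  rw [redM_apply]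
  fin_cases i <;> fin_cases j <;>
    simp [t0, ZMod.neg_eq_self_mod_two]

theorem red_t0_inv : redM hk (((t0 (k := k))⁻¹ : GLk k) : Mat k) = !![1, 1; 1, 0] := by
  show redM hk (!![-1, 1; -1, 0] : Mat k) = _
  ext i j
  rw [redM_apply]
  fin_cases i <;> fin_cases j <;>
    simp [ZMod.neg_eq_self_mod_two]

include hk in
theorem t0_ne_one : (t0 (k := k)) ≠ 1 := fun h => by
  have hk1 : (1 : R k) ≠ 0 ∨ k = 0 := by
    rcases Nat.eq_zero_or_pos k with h0 | h0
    · exact Or.inr h0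
    · haveI : Fact (1 < 2 ^ k) := ⟨Nat.one_lt_pow h0.ne' one_lt_two⟩
      exact Or.inl one_ne_zero
  rcases hk1 with h1 | h0
  · exact h1 (by
      have := congrArg (fun g : GLk k => (g : Mat k) 1 0) h
      simpa [t0] using this)
  · omega

/-- The members of the normal four group attached to `t0`. -/
def layerElt (Y : Mat2) : Mat k := 1 + (2 : R k) ^ (k - 1) • Y.map fun a => ((a.val : ℕ) : R k)

include hk in
/-- An involution generating with `t0` a four group lies in the last layer. -/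
theorem involution_mem (v : GLk k) (hv : v ^ 2 = 1) (hker : v ∈ (redU hk).ker)
    (hprod : v * (t0 * v * t0⁻¹) = t0 * t0 * v * (t0 * t0)⁻¹) :
    ∃ Y ∈ normZero, (v : Mat k) = layerElt Y := by
  obtain ⟨X, hX⟩ := exists_two_smul hk (show redM hk ((v : Mat k) - 1) = 0 by
    have h1 : redM hk (v : Mat k) = 1 := congrArg Units.val (MonoidHom.mem_ker.1 hker)
    rw [map_sub, h1, map_one, sub_self])
  have hv1 : (v : Mat k) = 1 + (2 : R k) • X := by rw [← hX, add_sub_cancel]
  obtain ⟨T, hT⟩ : ∃ T : Mat k, T = ((t0 (k := k) : GLk k) : Mat k) := ⟨_, rfl⟩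
  obtain ⟨U, hU⟩ : ∃ U : Mat k, U = (((t0 (k := k))⁻¹ : GLk k) : Mat k) := ⟨_, rfl⟩
  have hTU : T * U = 1 := by rw [hT, hU, ← Units.val_mul, mul_inv_cancel, Units.val_one]
  have hprod' : (v : Mat k) * (T * v * U) = T * T * v * (U * U) := by
    rw [hT, hU]
    rw [_root_.mul_inv_rev] at hprod
    have := congrArg Units.val hprod
    simpa only [Units.val_mul] using this
  have hTTUU : T * T * (U * U) = 1 := by rw [mul_assoc, ← mul_assoc T U U, hTU, one_mul, hTU]
  have hsq : (4 : R k) • (X + X * X) = 0 := by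
    have h := congrArg Units.val hv
    rw [Units.val_pow_eq_pow_val, Units.val_one, sq, hv1, add_mul, mul_add, mul_add, one_mul, mul_one, one_mul,
      smul_mul_smul_comm, ← add_assoc, add_assoc (1 : Mat k), ← two_smul (R k) ((2 : R k) • X), smul_smul] at h
    rw [smul_add, show (4 : R k) = 2 * 2 by norm_num]
    rwa [add_assoc, add_eq_left] at h
  -- the general shape of a congruence element
  have hconj : ∀ (c : R k) (Z : Mat k), (v : Mat k) = 1 + c • Z →
      c • (Z + T * Z * U + c • (Z * (T * Z * U)) - T * T * Z * (U * U)) = 0 := by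
    intro c Z hZ
    have h := hprod'
    rw [hZ] at h
    simp only [mul_add, add_mul, mul_one, one_mul, mul_smul_comm, smul_mul_assoc, hTU, hTTUU, smul_smul] at h
    rw [← sub_eq_zero] at h
    simp only [smul_add, smul_smul] at h
    simp only [smul_sub, smul_add, smul_smul]
    rw [← h]
    abel
  have hredT : redM hk T = !![0, 1; 1, 1] := hT ▸ red_t0 hk
  have hredU : redM hk U = !![1, 1; 1, 0] := hU ▸ red_t0_inv hk
  obtain ⟨Z, hZ⟩ : ∃ Z : Mat k, (v : Mat k) = 1 + (2 : R k) ^ (k - 1) • Z := by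
    rcases eq_or_lt_of_le hk with hk2 | hk3
    · subst hk2
      exact ⟨X, by rw [hv1, show (2 : ℕ) - 1 = 1 from rfl, pow_one]⟩
    have hz2 : ∀ a : R k, 4 * a = 0 → red hk a = 0 := by
      intro a ha
      obtain ⟨b, hb⟩ := top_layer hk ha
      have h1 := congrArg (fun z : R k => z) hb
      haveI : NeZero (2 ^ k) := ⟨(pow_pos two_pos k).ne'⟩
      rw [← ZMod.natCast_zmod_val a, map_natCast, ZMod.natCast_eq_zero_iff]
      have ha := dvd_of_natCast_mul 4 (a := a) (by rw [Nat.cast_ofNat]; exact ha)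
      have : 2 * 2 * 2 ∣ 4 * a.val := dvd_trans (by
        rw [show (2 : ℕ) * 2 * 2 = 2 ^ 3 from rfl]; exact pow_dvd_pow 2 hk3) ha
      omega
    have hz2' : ∀ a : R k, 2 * a = 0 → red hk a = 0 := fun a ha => hz2 a (by
      rw [show (4 : R k) = 2 * 2 by norm_num, mul_assoc, ha, mul_zero])
    have hidem : redM hk X * redM hk X = redM hk X := by
      have h : redM hk (X + X * X) = 0 := Matrix.ext fun i j => by
        rw [redM_apply]
        exact hz2 _ (congrFun (congrFun hsq i) j)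
      rw [map_add, map_mul, add_eq_zero_iff_eq_neg] at h
      exact Matrix.ext fun i j => by
        have := congrFun (congrFun h i) j
        rw [Matrix.neg_apply, ZMod.neg_eq_self_mod_two] at this
        exact this.symm
    have hzero : redM hk (X + T * X * U + (2 : R k) • (X * (T * X * U)) - T * T * X * (U * U)) = 0 :=
      Matrix.ext fun i j => by
        rw [redM_apply]
        exact hz2' _ (congrFun (congrFun (hconj 2 X hv1) i) j)
    have htwo : ∀ Z : Mat k, redM hk ((2 : R k) • Z) = 0 := fun Z => Matrix.ext fun i j => by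
      rw [redM_apply, Matrix.smul_apply, smul_eq_mul, map_mul, map_ofNat,
        show (2 : ZMod 2) = 0 from rfl, zero_mul]
      rfl
    rw [map_sub, map_add, map_add, htwo, add_zero, map_mul, map_mul, map_mul, map_mul, map_mul, map_mul, hredT,
      hredU] at hzero
    have hX0 : redM hk X = 0 := idem_norm_zero _ _ _ rfl rfl hidem (by
      rw [← hzero, sub_eq_add_neg]
      congr 1
      exact Matrix.ext fun i j => (ZMod.neg_eq_self_mod_two _).symm)
    obtain ⟨u, hu⟩ := isUnit_of_red hk hX0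
    have h4X : (4 : R k) • X = 0 := by
      have h : (4 : R k) • (X * (1 + X)) = 0 := by rwa [mul_add, mul_one]
      rw [← hu] at h
      have h2 := congrArg (· * ((u⁻¹ : GLk k) : Mat k)) h
      simpa [Matrix.smul_mul, mul_assoc] using h2
    have h' : ∀ i j, ∃ b, 2 * X i j = 2 ^ (k - 1) * b := fun i j => top_layer hk (congrFun (congrFun h4X i) j)
    choose Z hZ using h'
    refine ⟨Matrix.of Z, ?_⟩
    rw [hv1]
    congr 1
    exact Matrix.ext fun i j => hZ i j
  refine ⟨redM hk Z, ?_, ?_⟩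
  · have h := hconj _ Z hZ
    have hW : redM hk (Z + T * Z * U + (2 : R k) ^ (k - 1) • (Z * (T * Z * U)) - T * T * Z * (U * U)) = 0 :=
      Matrix.ext fun i j => by
        have h1 : (2 : R k) ^ (k - 1) *
            (Z + T * Z * U + (2 : R k) ^ (k - 1) • (Z * (T * Z * U)) - T * T * Z * (U * U)) i j = 0 :=
          congrFun (congrFun h i) j
        rw [redM_apply]
        generalize (Z + T * Z * U + (2 : R k) ^ (k - 1) • (Z * (T * Z * U)) - T * T * Z * (U * U)) i j = a at h1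
        haveI : NeZero (2 ^ k) := ⟨(pow_pos two_pos k).ne'⟩
        show red hk a = (0 : ZMod 2)
        rw [← ZMod.natCast_zmod_val a, map_natCast, ZMod.natCast_eq_zero_iff]
        have h1 := dvd_of_natCast_mul (2 ^ (k - 1)) (a := a) (by rw [Nat.cast_pow, Nat.cast_ofNat]; exact h1)
        refine (Nat.mul_dvd_mul_iff_left (pow_pos two_pos (k - 1))).1 ?_
        rwa [← pow_succ, show k - 1 + 1 = k by omega]
    have hsm : redM hk ((2 : R k) ^ (k - 1) • (Z * (T * Z * U))) = 0 := Matrix.ext fun i j => by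
      rw [redM_apply, Matrix.smul_apply, smul_eq_mul, map_mul, map_pow, map_ofNat,
        show (2 : ZMod 2) = 0 from rfl, zero_pow (by omega), zero_mul]
      rfl
    rw [map_sub, map_add, map_add, hsm, add_zero, map_mul, map_mul, map_mul, map_mul, map_mul, map_mul, hredT,
      hredU] at hW
    refine Finset.mem_filter.2 ⟨Finset.mem_univ _, ?_⟩
    rw [← hW, sub_eq_add_neg]
    congr 1
    exact Matrix.ext fun i j => (ZMod.neg_eq_self_mod_two _).symm
  · rw [hZ]
    unfold layerElt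
    congr 1
    refine Matrix.ext fun i j => ?_
    rw [Matrix.smul_apply, Matrix.smul_apply, smul_eq_mul, smul_eq_mul, Matrix.map_apply]
    refine top_congr hk ?_
    rw [map_natCast, ZMod.natCast_zmod_val]
    rfl

include hk in
/-- Every `A₄`-subgroup is conjugate to one fixed set. -/
theorem normal_form (H : Subgroup (GLk k)) (e : H ≃* alternatingGroup (Fin 4)) :
    ∃ g : GLk k, ∀ x : GLk k, x ∈ H.map (MulAut.conj g).toMonoidHom ↔
      ∃ i : Fin 3, ∃ Y ∈ normZero, (x : Mat k) = ((t0 : GLk k) : Mat k) ^ (i : ℕ) * layerElt Y := by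
  classical
  haveI : NeZero (2 ^ k) := ⟨(pow_pos two_pos k).ne'⟩
  haveI : Fact (Nat.Prime 3) := ⟨Nat.prime_three⟩
  obtain ⟨ta, va, hta, hta1, hva, hva1⟩ := alt_exists
  -- the order three element may be taken to be `t0`
  have hval : ∀ {g : GLk k}, g ^ 3 = 1 → g ≠ 1 → IsPGroup 3 (Subgroup.zpowers g) ∧
      Nat.card (Subgroup.zpowers g) = 3 := fun {g} h h1 => by
    have h3 : orderOf g = 3 := orderOf_eq_prime h h1
    exact ⟨IsPGroup.of_card (n := 1) (by rw [Nat.card_zpowers, h3, pow_one]), by rw [Nat.card_zpowers, h3]⟩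
  have hcard : ∀ P : Sylow 3 (GLk k), Nat.card P = 3 ∨ Nat.card P = 1 := by
    intro P
    have hinj : Function.Injective ((redU hk).comp (P : Subgroup (GLk k)).subtype) := by
      rw [← MonoidHom.ker_eq_bot_iff, Subgroup.eq_bot_iff_forall]
      intro x hx
      obtain ⟨a, ha⟩ := IsPGroup.iff_orderOf.1 (ker_pgroup hk) ⟨(x : GLk k), hx⟩
      obtain ⟨b, hb⟩ := IsPGroup.iff_orderOf.1 P.isPGroup' x
      have ha' : orderOf (x : GLk k) = 2 ^ a :=
        (Subgroup.orderOf_coe (⟨(x : GLk k), hx⟩ : (redU hk).ker)).trans ha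
      rw [← Subgroup.orderOf_coe] at hb
      apply Subtype.ext
      refine orderOf_eq_one_iff.1 ?_
      refine Nat.eq_one_of_dvd_coprimes ((Nat.coprime_primes Nat.prime_two Nat.prime_three).2 (by norm_num) |>.pow a b)
        (ha' ▸ dvd_rfl) (hb ▸ dvd_rfl)
    have h1 : Nat.card P ≤ Nat.card (GL (Fin 2) (ZMod 2)) := Nat.card_le_card_of_injective _ hinj
    have h2 : Nat.card (GL (Fin 2) (ZMod 2)) = 6 := by
      rw [Matrix.card_GL_field]; simp [Fin.prod_univ_two]
    obtain ⟨a, ha⟩ := IsPGroup.iff_card.1 P.isPGroup'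
    rw [h2, ha] at h1
    rcases a with _ | _ | a
    · exact Or.inr (by rw [ha, pow_zero])
    · exact Or.inl (by rw [ha, pow_one])
    · exfalso
      have : 3 ^ 2 ≤ 3 ^ (a + 1 + 1) := Nat.pow_le_pow_right (by norm_num) (by omega)
      omega
  have hsyl : ∀ {g : GLk k}, g ^ 3 = 1 → g ≠ 1 → ∃ P : Sylow 3 (GLk k), (P : Subgroup (GLk k)) = Subgroup.zpowers g := by
    intro g h h1
    obtain ⟨P, hP⟩ := (hval h h1).1.exists_le_sylow
    refine ⟨P, (Subgroup.eq_of_le_of_card_ge hP ?_).symm⟩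
    rw [(hval h h1).2]
    rcases hcard P with h' | h' <;> omega
  let t : GLk k := (e.symm ta : H)
  have ht : t ^ 3 = 1 := by
    show ((e.symm ta : H) : GLk k) ^ 3 = 1
    rw [← SubmonoidClass.coe_pow, ← map_pow, hta, map_one]; rfl
  have ht1 : t ≠ 1 := fun h => hta1 (e.symm.injective (by rw [map_one]; exact Subtype.ext h))
  obtain ⟨P, hP⟩ := hsyl ht ht1
  obtain ⟨P0, hP0⟩ := hsyl (t0_cube (k := k)) (t0_ne_one hk)
  obtain ⟨g, hg⟩ := MulAction.exists_smul_eq (GLk k) P P0
  have hsub : (Subgroup.zpowers t).map (MulAut.conj g).toMonoidHom = Subgroup.zpowers t0 := by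
    rw [← hP, ← hP0, ← hg]; rfl
  obtain ⟨ta', hta', hta1', hgt⟩ : ∃ ta' : alternatingGroup (Fin 4), ta' ^ 3 = 1 ∧ ta' ≠ 1 ∧
      g * ((e.symm ta' : H) : GLk k) * g⁻¹ = t0 := by
    have hmem : t0 ∈ (Subgroup.zpowers t).map (MulAut.conj g).toMonoidHom :=
      hsub.ge (Subgroup.mem_zpowers t0)
    obtain ⟨s, hs, hst⟩ := hmem
    obtain ⟨n, hn⟩ := Subgroup.mem_zpowers_iff.1 hs
    refine ⟨ta ^ n, by rw [← zpow_natCast, ← _root_.zpow_mul, mul_comm, _root_.zpow_mul, zpow_natCast, hta, _root_.one_zpow], ?_, ?_⟩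
    · intro h
      refine t0_ne_one hk ?_
      rw [← hst, ← hn]
      have : t ^ n = 1 := by
        show ((e.symm ta : H) : GLk k) ^ n = 1
        rw [← SubgroupClass.coe_zpow, ← map_zpow, h, map_one]; rfl
      rw [this, map_one]
    · rw [map_zpow, SubgroupClass.coe_zpow]
      rw [← hst, ← hn]
      rfl
  obtain ⟨ψ, hψ⟩ : ∃ ψ : alternatingGroup (Fin 4) →* GLk k, ∀ a, ψ a = g * ((e.symm a : H) : GLk k) * g⁻¹ :=
    ⟨(MulAut.conj g).toMonoidHom.comp (H.subtype.comp e.symm.toMonoidHom), fun a => rfl⟩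
  have hψinj : Function.Injective ψ := fun a b h => by
    rw [hψ, hψ] at h
    exact e.symm.injective (Subtype.ext (mul_left_cancel (mul_right_cancel h)))
  have hψt : ψ ta' = t0 := by rw [hψ, hgt]
  obtain ⟨hp, hne, hgen⟩ := alt_facts ta' va hta' hta1' hva hva1
  have hker : ∀ a : alternatingGroup (Fin 4), a ^ 2 = 1 → ψ a ∈ (redU hk).ker := by
    intro a ha
    by_cases ha1 : a = 1
    · rw [ha1, map_one]; exact one_mem _
    obtain ⟨q, -, -⟩ := alt_facts ta' a hta' hta1' ha ha1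
    have h1 := congrArg (fun x => redU hk (ψ x)) q
    refine MonoidHom.mem_ker.2 (gl2_fact _ (redU hk (ψ ta')) ?_ ?_ ?_ ?_)
    · rw [← map_pow, ← map_pow, ha, map_one, map_one]
    · rw [← map_pow, ← map_pow, hta', map_one, map_one]
    · intro h
      have h3 := congrArg Units.val h
      rw [hψt] at h3
      have h4 : redM hk ((t0 (k := k) : GLk k) : Mat k) = 1 := h3
      rw [red_t0] at h4
      exact absurd (congrFun (congrFun h4 0) 0) (by decide)
    · simpa only [map_mul, map_inv] using h1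
  have hinv : ∀ a : alternatingGroup (Fin 4), a ^ 2 = 1 → a ≠ 1 → ∃ Y ∈ normZero, ((ψ a : GLk k) : Mat k) = layerElt Y := by
    intro a ha ha1
    obtain ⟨q, -, -⟩ := alt_facts ta' a hta' hta1' ha ha1
    refine involution_mem hk (ψ a) (by rw [← map_pow, ha, map_one]) (hker a ha) ?_
    have h1 := congrArg ψ q
    simpa only [map_mul, map_inv, hψt] using h1
  let four : Finset (alternatingGroup (Fin 4)) := {1, va, ta' * va * ta'⁻¹, ta' * ta' * va * (ta' * ta')⁻¹}
  have hfour : ∀ a ∈ four, a ^ 2 = 1 := by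
    have hcj : ∀ s : alternatingGroup (Fin 4), (s * va * s⁻¹) ^ 2 = 1 := fun s => by
      rw [conj_pow, hva, mul_one, mul_inv_cancel]
    intro a ha
    simp only [four, Finset.mem_insert, Finset.mem_singleton] at ha
    rcases ha with rfl | rfl | rfl | rfl
    exacts [one_pow 2, hva, hcj _, hcj _]
  have hfc : four.card = 4 := by
    have h := alt_card ta' va hta' hta1' hva hva1
    exact h
  have hone : (0 : Mat2) ∈ normZero := zero_mem_normZero
  have hlayer0 : layerElt (k := k) (0 : Mat2) = 1 := by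
    unfold layerElt
    have h0 : ((0 : Mat2).map fun a => ((a.val : ℕ) : R k)) = 0 := Matrix.ext fun i j => by simp
    rw [h0, smul_zero, add_zero]
  have hY : ∀ a : alternatingGroup (Fin 4), ∃ Y, a ∈ four → Y ∈ normZero ∧ ((ψ a : GLk k) : Mat k) = layerElt Y := by
    intro a
    by_cases ha : a ∈ four
    · by_cases ha1 : a = 1
      · exact ⟨0, fun _ => ⟨hone, by rw [ha1, map_one, Units.val_one, hlayer0]⟩⟩
      · obtain ⟨Y, h1, h2⟩ := hinv a (hfour a ha) ha1
        exact ⟨Y, fun _ => ⟨h1, h2⟩⟩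
    · exact ⟨0, fun h => absurd h ha⟩
  choose φ hφ using hY
  have himg : four.image φ = normZero := by
    refine Finset.eq_of_subset_of_card_le (fun Y hY => ?_) ?_
    · obtain ⟨a, ha, rfl⟩ := Finset.mem_image.1 hY
      exact (hφ a ha).1
    · rw [Finset.card_image_of_injOn fun a ha b hb h => hψinj (Units.ext (by
        rw [(hφ a ha).2, (hφ b hb).2, h])), hfc, card_normZero]
  refine ⟨g, fun x => ⟨?_, ?_⟩⟩
  · rintro ⟨y, hy, rfl⟩
    have hxψ : (MulAut.conj g).toMonoidHom y = ψ (e ⟨y, hy⟩) := by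
      rw [hψ, e.symm_apply_apply]; rfl
    rw [hxψ]
    have hc : ∃ i : Fin 3, ∃ a ∈ four, e ⟨y, hy⟩ = ta' ^ (i : ℕ) * a := by
      obtain ⟨i, h | h | h | h⟩ := hgen (e ⟨y, hy⟩)
      · exact ⟨i, 1, by simp [four], by rw [mul_one]; exact h⟩
      · exact ⟨i, va, by simp [four], h⟩
      · exact ⟨i, _, by simp [four], h⟩
      · exact ⟨i, _, by simp [four], h⟩
    obtain ⟨i, a, ha, he⟩ := hc
    refine ⟨i, φ a, (hφ a ha).1, ?_⟩
    rw [he, map_mul, map_pow, hψt, Units.val_mul, Units.val_pow_eq_pow_val, (hφ a ha).2]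
  · rintro ⟨i, Y, hY, hx⟩
    rw [← himg] at hY
    obtain ⟨a, ha, rfl⟩ := Finset.mem_image.1 hY
    have hxψ : x = ψ (ta' ^ (i : ℕ) * a) := Units.ext (by
      rw [hx, map_mul, map_pow, hψt, Units.val_mul, Units.val_pow_eq_pow_val, (hφ a ha).2])
    rw [hxψ, hψ]
    exact ⟨_, SetLike.coe_mem _, rfl⟩

end Cfsg.Agent.LocalEven.AltFourGLTwo
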