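import Mathlib
import Cfsg.Prelude.Def_Amalgam
import Cfsg.Agent.Lib.Fusion.Cores
import Cfsg.Agent.S2740
import Cfsg.Agent.S2741
import Cfsg.Agent.S2742
import Cfsg.Agent.S2744

/-!
# Elementary facts on coset graphs of amalgam pairs of characteristic p
-/

set_option autoImplicit false

open Cfsg

namespace Cfsg.Agent.Amalgam

variable {X : Type*} [Group X] {M₁ M₂ : Subgroup X}

theorem smul_adj (g : X) {a b : CosetVertex M₁ M₂} (h : (cosetGraph M₁ M₂).Adj a b) :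
    (cosetGraph M₁ M₂).Adj (g • a) (g • b) := by
  obtain ⟨hne, h⟩ := h
  refine ⟨fun e => hne (smul_left_cancel g e), ?_⟩
  rcases h with ⟨x, rfl, rfl⟩ | ⟨x, rfl, rfl⟩
  · exact Or.inl ⟨g * x, rfl, rfl⟩
  · exact Or.inr ⟨g * x, rfl, rfl⟩

theorem connected (h : IsAmalgamPair M₁ M₂) : (cosetGraph M₁ M₂).Connected :=
  S2740.result M₁ M₂ h.1

theorem exists_adj (v : CosetVertex M₁ M₂) : ∃ w, (cosetGraph M₁ M₂).Adj v w := by
  rcases v with v | v <;> obtain ⟨x, rfl⟩ := QuotientGroup.mk_surjective v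
  · exact ⟨Sum.inr (x : X ⧸ M₂), Sum.inl_ne_inr, Or.inl ⟨x, rfl, rfl⟩⟩
  · exact ⟨Sum.inl (x : X ⧸ M₁), Sum.inr_ne_inl, Or.inr ⟨x, rfl, rfl⟩⟩

/-- A subgroup normalizing `T` and transitive on the neighbours of two adjacent vertices fixed by
`T` forces `T = 1`. -/
theorem eq_bot_of_normalized (h : IsAmalgamPair M₁ M₂) {δ μ : CosetVertex M₁ M₂}
    (hμ : (cosetGraph M₁ M₂).Adj δ μ) {T : Subgroup X} (hT : T ≤ edgeStabilizer δ μ)
    {K : Subgroup X} (hKT : K ≤ Subgroup.normalizer (T : Set X))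
    (hδ : ∀ ν ν', (cosetGraph M₁ M₂).Adj δ ν → (cosetGraph M₁ M₂).Adj δ ν' →
      ∃ g ∈ K, g • δ = δ ∧ g • ν = ν')
    (hμ' : ∀ ν ν', (cosetGraph M₁ M₂).Adj μ ν → (cosetGraph M₁ M₂).Adj μ ν' →
      ∃ g ∈ K, g • μ = μ ∧ g • ν = ν') : T = ⊥ := by
  have step : ∀ a b, (cosetGraph M₁ M₂).Adj a b →
      (∃ k ∈ K, k • δ = a ∨ k • μ = a) → ∃ k ∈ K, k • δ = b ∨ k • μ = b := by
    rintro a b hab ⟨k, hk, rfl | rfl⟩
    · have h1 := smul_adj k⁻¹ hab
      rw [inv_smul_smul] at h1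
      obtain ⟨g, hg, -, hg2⟩ := hδ μ _ hμ h1
      exact ⟨k * g, mul_mem hk hg, Or.inr (by rw [mul_smul, hg2, smul_inv_smul])⟩
    · have h1 := smul_adj k⁻¹ hab
      rw [inv_smul_smul] at h1
      obtain ⟨g, hg, -, hg2⟩ := hμ' δ _ hμ.symm h1
      exact ⟨k * g, mul_mem hk hg, Or.inl (by rw [mul_smul, hg2, smul_inv_smul])⟩
  have walk : ∀ {a b} (q : (cosetGraph M₁ M₂).Walk a b),
      (∃ k ∈ K, k • δ = a ∨ k • μ = a) → ∃ k ∈ K, k • δ = b ∨ k • μ = b := by
    intro a b q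
    induction q with
    | nil => exact id
    | cons hac _ ih => exact fun hh => ih (step _ _ hac hh)
  rw [eq_bot_iff]
  intro t ht
  rw [Subgroup.mem_bot]
  apply S2742.result M₁ M₂ h.2.2.2
  apply Equiv.ext
  intro v
  show t • v = (1 : X) • v
  rw [one_smul]
  obtain ⟨q⟩ := (connected h).preconnected δ v
  obtain ⟨k, hk, hv⟩ := walk q ⟨1, one_mem _, Or.inl (one_smul _ _)⟩
  have hc : k⁻¹ * t * k ∈ T := (Subgroup.mem_normalizer_iff''.1 (hKT hk) t).1 ht
  obtain ⟨f1, f2⟩ := Subgroup.mem_inf.1 (hT hc)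
  rcases hv with rfl | rfl
  · calc t • k • δ = k • ((k⁻¹ * t * k) • δ) := by simp [smul_smul, mul_assoc]
      _ = k • δ := by rw [MulAction.mem_stabilizer_iff.1 f1]
  · calc t • k • μ = k • ((k⁻¹ * t * k) • μ) := by simp [smul_smul, mul_assoc]
      _ = k • μ := by rw [MulAction.mem_stabilizer_iff.1 f2]

theorem stab_trans (δ ν ν' : CosetVertex M₁ M₂) (h1 : (cosetGraph M₁ M₂).Adj δ ν)
    (h2 : (cosetGraph M₁ M₂).Adj δ ν') : ∃ g ∈ MulAction.stabilizer X δ, g • δ = δ ∧ g • ν = ν' := by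
  obtain ⟨g, hg, hg'⟩ := S2744.result M₁ M₂ δ ν ν' h1 h2
  exact ⟨g, hg, hg, hg'⟩

theorem edge_struct {δ μ : CosetVertex M₁ M₂} (hμ : (cosetGraph M₁ M₂).Adj δ μ) :
    ∃ x : X, edgeStabilizer δ μ = (M₁ ⊓ M₂).map (MulAut.conj x).toMonoidHom ∧
      ((MulAction.stabilizer X δ = M₁.map (MulAut.conj x).toMonoidHom ∧
          MulAction.stabilizer X μ = M₂.map (MulAut.conj x).toMonoidHom) ∨
        (MulAction.stabilizer X δ = M₂.map (MulAut.conj x).toMonoidHom ∧
          MulAction.stabilizer X μ = M₁.map (MulAut.conj x).toMonoidHom)) := by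
  obtain ⟨-, ⟨x, rfl, rfl⟩ | ⟨x, rfl, rfl⟩⟩ := hμ <;> obtain ⟨h1, h2, h3⟩ := S2741.result M₁ M₂ x
  · exact ⟨x, h3, Or.inl ⟨h1, h2⟩⟩
  · exact ⟨x, by rw [edgeStabilizer, inf_comm]; exact h3, Or.inr ⟨h2, h1⟩⟩

section Sylow

variable {p : ℕ} [Fact p.Prime]

theorem card_map_equiv (e : X ≃* X) (H : Subgroup X) :
    Nat.card (H.map e.toMonoidHom) = Nat.card H := by
  exact Subgroup.card_map_of_injective e.injective

theorem sylow_map_card {H : Subgroup X} [Finite H] (P : Sylow p H) :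
    Nat.card ((P : Subgroup H).map H.subtype) = p ^ (Nat.card H).factorization p := by
  rw [Subgroup.card_map_of_injective H.subtype_injective, Sylow.card_eq_multiplicity]

theorem exists_sylow_of_card {H T : Subgroup X} [Finite H] (hTH : T ≤ H)
    (hT : Nat.card T = p ^ (Nat.card H).factorization p) :
    ∃ P : Sylow p H, (P : Subgroup H).map H.subtype = T :=
  ⟨Sylow.ofCard (T.subgroupOf H) (by
      rw [Nat.card_congr (Subgroup.subgroupOfEquivOfLe hTH).toEquiv, hT]),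
    by simp [hTH]⟩

theorem finite_map (e : X ≃* X) (M : Subgroup X) [Finite M] : Finite (M.map e.toMonoidHom) :=
  Finite.of_equiv _ (e.subgroupMap M).toEquiv

theorem finite_stab (h : IsCharPAmalgamPair p M₁ M₂) (δ : CosetVertex M₁ M₂) :
    Finite (MulAction.stabilizer X δ) := by
  obtain ⟨μ, hμ⟩ := exists_adj δ
  haveI := h.2.1
  haveI := h.2.2.1
  obtain ⟨x, -, ⟨h1, -⟩ | ⟨h1, -⟩⟩ := edge_struct hμ <;> rw [h1] <;> exact finite_map _ _

theorem finite_edge (h : IsCharPAmalgamPair p M₁ M₂) (δ μ : CosetVertex M₁ M₂) :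
    Finite (edgeStabilizer δ μ) := by
  haveI := finite_stab h δ
  exact Finite.of_injective _ (Subgroup.inclusion_injective
    (inf_le_left : edgeStabilizer δ μ ≤ MulAction.stabilizer X δ))

/-- A Sylow subgroup of an edge stabilizer is Sylow in the vertex stabilizers. -/
theorem edge_sylow (h : IsCharPAmalgamPair p M₁ M₂) {δ μ : CosetVertex M₁ M₂}
    (hμ : (cosetGraph M₁ M₂).Adj δ μ) (S : Sylow p (edgeStabilizer δ μ)) :
    ∃ P : Sylow p (MulAction.stabilizer X δ),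
      (P : Subgroup (MulAction.stabilizer X δ)).map (MulAction.stabilizer X δ).subtype =
        (S : Subgroup (edgeStabilizer δ μ)).map (edgeStabilizer δ μ).subtype := by
  haveI := finite_stab h δ
  haveI := finite_edge h δ μ
  obtain ⟨-, hf1, hf2, -, -, hsy, -⟩ := h
  haveI := hf1
  haveI := hf2
  haveI : Finite (M₁ ⊓ M₂ : Subgroup X) :=
    Finite.of_injective _ (Subgroup.inclusion_injective (inf_le_left : M₁ ⊓ M₂ ≤ M₁))
  refine exists_sylow_of_card ((Subgroup.map_subtype_le _).trans inf_le_left) ?_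
  rw [sylow_map_card]
  obtain ⟨h1, h2⟩ := hsy default default default
  rw [Sylow.card_eq_multiplicity, Sylow.card_eq_multiplicity] at h1 h2
  obtain ⟨x, he, ⟨hd, -⟩ | ⟨hd, -⟩⟩ := edge_struct hμ <;> rw [he, hd] <;>
    simp only [card_map_equiv] <;> assumption

theorem charP (h : IsCharPAmalgamPair p M₁ M₂) (δ : CosetVertex M₁ M₂) {g : X}
    (hg : g ∈ MulAction.stabilizer X δ) (hc : ∀ q ∈ vertexQ p δ, q * g = g * q) :
    g ∈ vertexQ p δ := by
  obtain ⟨μ, hμ⟩ := exists_adj δ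
  obtain ⟨x, -, hs⟩ := edge_struct hμ
  obtain ⟨M, hM, hcM⟩ : ∃ M : Subgroup X,
      MulAction.stabilizer X δ = M.map (MulAut.conj x).toMonoidHom ∧
        Subgroup.centralizer (pCore p M : Set M) ≤ pCore p M := by
    rcases hs with ⟨hd, -⟩ | ⟨hd, -⟩
    · exact ⟨M₁, hd, h.2.2.2.2.2.2.1⟩
    · exact ⟨M₂, hd, h.2.2.2.2.2.2.2⟩
  let e : M ≃* MulAction.stabilizer X δ :=
    ((MulAut.conj x).subgroupMap M).trans (MulEquiv.subgroupCongr hM.symm)
  have h2 : e.symm ⟨g, hg⟩ ∈ pCore p M := hcM (by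
    rw [Subgroup.mem_centralizer_iff]
    intro q hq
    apply e.injective
    rw [map_mul, map_mul, e.apply_symm_apply]
    exact Subtype.ext (hc _ ⟨e q, by
      rw [← Fusion.map_pCore_equiv e]; exact ⟨q, hq, rfl⟩, rfl⟩))
  refine ⟨⟨g, hg⟩, ?_, rfl⟩
  rw [← Fusion.map_pCore_equiv e]
  exact ⟨_, h2, e.apply_symm_apply _⟩

theorem vertexQ_le_sylow (h : IsCharPAmalgamPair p M₁ M₂) {δ : CosetVertex M₁ M₂}
    (P : Sylow p (MulAction.stabilizer X δ)) :
    vertexQ p δ ≤ (P : Subgroup (MulAction.stabilizer X δ)).map (MulAction.stabilizer X δ).subtype := by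
  haveI := finite_stab h δ
  exact Subgroup.map_mono (Fusion.pCore_le_sylow P)

theorem vertexQ_le_edge (h : IsCharPAmalgamPair p M₁ M₂) {δ μ : CosetVertex M₁ M₂}
    (hμ : (cosetGraph M₁ M₂).Adj δ μ) : vertexQ p δ ≤ edgeStabilizer δ μ := by
  haveI := finite_edge h δ μ
  obtain ⟨P, hP⟩ := edge_sylow h hμ default
  exact (vertexQ_le_sylow h P).trans (hP ▸ Subgroup.map_subtype_le _)

theorem vertexQ_le_kernel (h : IsCharPAmalgamPair p M₁ M₂) (δ : CosetVertex M₁ M₂) :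
    vertexQ p δ ≤ neighbourKernel δ :=
  le_inf (Subgroup.map_subtype_le _)
    (le_iInf₂ fun _ hμ => (vertexQ_le_edge h hμ).trans inf_le_right)

theorem omegaOne_le (A : Subgroup X) : omegaOne p A ≤ A :=
  (Subgroup.closure_le _).2 fun _ hx => hx.1

theorem omegaOne_mono {A B : Subgroup X} (h : A ≤ B) : omegaOne p A ≤ omegaOne p B :=
  Subgroup.closure_mono fun _ hx => ⟨h hx.1, hx.2⟩

theorem map_omegaOne_equiv (e : X ≃* X) (A : Subgroup X) :
    (omegaOne p A).map e.toMonoidHom = omegaOne p (A.map e.toMonoidHom) := by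
  rw [omegaOne, omegaOne, MonoidHom.map_closure]
  congr 1
  ext y
  constructor
  · rintro ⟨z, ⟨hz, hzp⟩, rfl⟩
    exact ⟨⟨z, hz, rfl⟩, by rw [← map_pow, hzp, map_one]⟩
  · rintro ⟨⟨z, hz, rfl⟩, hzp⟩
    exact ⟨z, ⟨hz, e.injective (by rw [map_pow, map_one]; exact hzp)⟩, rfl⟩

theorem map_centralizer_equiv (e : X ≃* X) (A : Subgroup X) :
    (Subgroup.centralizer (A : Set X)).map e.toMonoidHom =
      Subgroup.centralizer ((A.map e.toMonoidHom : Subgroup X) : Set X) := by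
  ext y
  constructor
  · rintro ⟨z, hz, rfl⟩
    rw [Subgroup.mem_centralizer_iff]
    rintro _ ⟨a, ha, rfl⟩
    rw [← map_mul, ← map_mul, Subgroup.mem_centralizer_iff.1 hz a ha]
  · intro hy
    refine ⟨e.symm y, Subgroup.mem_centralizer_iff.2 fun a ha => e.injective ?_, e.apply_symm_apply y⟩
    rw [map_mul, map_mul, e.apply_symm_apply]
    exact Subgroup.mem_centralizer_iff.1 hy _ ⟨a, ha, rfl⟩

/-- `Ω₁(Z(T))`. -/
abbrev zT (p : ℕ) (T : Subgroup X) : Subgroup X :=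
  omegaOne p (T ⊓ Subgroup.centralizer (T : Set X))

theorem map_zT (e : X ≃* X) (T : Subgroup X) :
    (zT p T).map e.toMonoidHom = zT p (T.map e.toMonoidHom) := by
  rw [zT, map_omegaOne_equiv, Subgroup.map_inf _ _ _ e.injective, map_centralizer_equiv]

theorem sylow_map_conj {H : Subgroup X} (S : Sylow p H) {g : X} (hg : g ∈ H) :
    ∃ S' : Sylow p H, (S' : Subgroup H).map H.subtype =
      ((S : Subgroup H).map H.subtype).map (MulAut.conj g).toMonoidHom := by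
  refine ⟨(⟨g, hg⟩ : H) • S, ?_⟩
  ext y
  constructor
  · rintro ⟨a, ha, rfl⟩
    obtain ⟨s, hs, rfl⟩ := ha
    exact ⟨(s : X), ⟨s, hs, rfl⟩, rfl⟩
  · rintro ⟨_, ⟨s, hs, rfl⟩, rfl⟩
    exact ⟨MulAut.conj (⟨g, hg⟩ : H) s, ⟨s, hs, rfl⟩, rfl⟩

theorem le_normalizer_of_map {H A : Subgroup X}
    (h : ∀ g ∈ H, A.map (MulAut.conj g).toMonoidHom ≤ A) : H ≤ Subgroup.normalizer (A : Set X) := by
  intro g hg
  rw [Subgroup.mem_normalizer_iff]
  intro a
  refine ⟨fun ha => h g hg ⟨a, ha, rfl⟩, fun ha => ?_⟩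
  have := h g⁻¹ (inv_mem hg) ⟨_, ha, rfl⟩
  simpa [mul_assoc] using this

theorem zClosure_le (H : Subgroup X) : sylowCenterClosure p H ≤ H :=
  iSup_le fun _ => (omegaOne_le _).trans (inf_le_left.trans (Subgroup.map_subtype_le _))

theorem zT_le_closure {H : Subgroup X} (S : Sylow p H) :
    zT p ((S : Subgroup H).map H.subtype) ≤ sylowCenterClosure p H :=
  le_iSup (fun S : Sylow p H => zT p ((S : Subgroup H).map H.subtype)) S

theorem le_normalizer_zClosure (H : Subgroup X) :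
    H ≤ Subgroup.normalizer (sylowCenterClosure p H : Set X) := by
  refine le_normalizer_of_map fun g hg => ?_
  rw [sylowCenterClosure, Subgroup.map_iSup]
  refine iSup_le fun S => ?_
  obtain ⟨S', hS'⟩ := sylow_map_conj S hg
  rw [map_zT, ← hS']
  exact zT_le_closure S'

theorem zT_le_Q (h : IsCharPAmalgamPair p M₁ M₂) {δ : CosetVertex M₁ M₂}
    (P : Sylow p (MulAction.stabilizer X δ)) :
    zT p ((P : Subgroup (MulAction.stabilizer X δ)).map (MulAction.stabilizer X δ).subtype) ≤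
      vertexQ p δ := by
  intro z hz
  obtain ⟨hz1, hz2⟩ := Subgroup.mem_inf.1 (omegaOne_le _ hz)
  exact charP h δ (Subgroup.map_subtype_le _ hz1) fun q hq =>
    Subgroup.mem_centralizer_iff.1 hz2 q (vertexQ_le_sylow h P hq)

theorem le_kernel_of_lt {δ μ : CosetVertex M₁ M₂}
    (h : (cosetGraph M₁ M₂).dist δ μ < criticalDistance p M₁ M₂) :
    vertexZ p δ ≤ neighbourKernel μ := by
  by_contra hn
  exact Nat.notMem_of_lt_sInf h ⟨δ, μ, rfl, hn⟩

omit [Fact p.Prime] in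
theorem neighbourKernel_le {δ μ : CosetVertex M₁ M₂} (hμ : (cosetGraph M₁ M₂).Adj δ μ) :
    neighbourKernel δ ≤ MulAction.stabilizer X μ :=
  inf_le_right.trans (iInf₂_le (f := fun ν _ => MulAction.stabilizer X ν) μ hμ)

theorem exists_penultimate (h : IsAmalgamPair M₁ M₂) {a c : CosetVertex M₁ M₂}
    (hd : (cosetGraph M₁ M₂).dist a c ≠ 0) :
    ∃ v, (cosetGraph M₁ M₂).Adj v c ∧ (cosetGraph M₁ M₂).dist a v < (cosetGraph M₁ M₂).dist a c := by
  obtain ⟨q, hq⟩ := (connected h).exists_walk_length_eq_dist a c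
  refine ⟨q.getVert (q.length - 1), ?_, ?_⟩
  · have h1 := q.adj_getVert_succ (i := q.length - 1) (by omega)
    rw [Nat.sub_add_cancel (by omega), q.getVert_length] at h1
    exact h1
  · calc (cosetGraph M₁ M₂).dist a (q.getVert (q.length - 1))
        ≤ (q.take (q.length - 1)).length := SimpleGraph.dist_le _
      _ ≤ q.length - 1 := by rw [SimpleGraph.Walk.take_length]; exact min_le_left _ _
      _ < _ := by omega

theorem mem_pElementClosure {H : Subgroup X} {x : X} (hx : x ∈ H) {k : ℕ}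
    (hk : orderOf x = p ^ k) : x ∈ pElementClosure p H :=
  Subgroup.subset_closure ⟨hx, k, hk⟩

theorem pElementClosure_le (H : Subgroup X) : pElementClosure p H ≤ H :=
  (Subgroup.closure_le _).2 fun _ hx => hx.1

theorem le_normalizer_pElementClosure (H : Subgroup X) :
    H ≤ Subgroup.normalizer (pElementClosure p H : Set X) := by
  refine le_normalizer_of_map fun g hg => ?_
  rw [pElementClosure, MonoidHom.map_closure]
  refine Subgroup.closure_mono ?_
  rintro _ ⟨z, ⟨hz, k, hk⟩, rfl⟩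
  exact ⟨mul_mem (mul_mem hg hz) (inv_mem hg), k, by
    rw [← hk]; exact MulEquiv.orderOf_eq (MulAut.conj g) z⟩

theorem sylow_le_pElementClosure {H : Subgroup X} (P : Sylow p H) :
    (P : Subgroup H).map H.subtype ≤ pElementClosure p H := by
  rintro _ ⟨s, hs, rfl⟩
  obtain ⟨k, hk⟩ := IsPGroup.iff_orderOf.1 P.isPGroup' ⟨s, hs⟩
  exact mem_pElementClosure s.2 (k := k) (by
    rw [← hk, Subgroup.orderOf_mk]; exact Subgroup.orderOf_coe s)

end Sylow

end Cfsg.Agent.Amalgam
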