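import Cfsg.Agent.Lib.LocalEven.AmalgamBasic
import Cfsg.Prelude.Def_LocalStructure

/-!
# The iterated subgroups `V^{(n)}` of a rank-two amalgam
-/

set_option autoImplicit false
open Cfsg
open scoped commutatorElement

namespace Cfsg.Agent.Amalgam

variable {X : Type*} [Group X] {p : ℕ} [Fact p.Prime] {M₁ M₂ : Subgroup X}

omit [Fact p.Prime] in
theorem dist_smul_le (h : IsAmalgamPair M₁ M₂) (g : X) (a b : CosetVertex M₁ M₂) :
    (cosetGraph M₁ M₂).dist (g • a) (g • b) ≤ (cosetGraph M₁ M₂).dist a b := by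
  obtain ⟨q, hq⟩ := (connected h).exists_walk_length_eq_dist a b
  let f : cosetGraph M₁ M₂ →g cosetGraph M₁ M₂ := ⟨fun v => g • v, fun hab => smul_adj g hab⟩
  refine (SimpleGraph.dist_le (q.map f)).trans ?_
  rw [SimpleGraph.Walk.length_map, hq]

theorem vertexZ_smul (g : X) (μ : CosetVertex M₁ M₂) :
    (vertexZ p μ).map (MulAut.conj g).toMonoidHom ≤ vertexZ p (g • μ) := by
  rw [vertexZ, vertexZ, sylowCenterClosure, Subgroup.map_iSup]
  refine iSup_le fun S => ?_
  let e : ↥(MulAction.stabilizer X μ) ≃* ↥(MulAction.stabilizer X (g • μ)) :=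
    ((MulAut.conj g).subgroupMap (MulAction.stabilizer X μ)).trans
      (MulEquiv.subgroupCongr (MulAction.stabilizer_smul_eq_stabilizer_map_conj g μ).symm)
  obtain ⟨R, hR⟩ : ∃ R : Sylow p ↥(MulAction.stabilizer X (g • μ)),
      (R : Subgroup _) = (S : Subgroup _).comap e.symm.toMonoidHom :=
    ⟨S.comapOfInjective e.symm.toMonoidHom e.symm.injective
      (by rw [MonoidHom.range_eq_top.2 e.symm.surjective]; exact le_top), rfl⟩
  have h : (R : Subgroup _).map (MulAction.stabilizer X (g • μ)).subtype =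
      ((S : Subgroup _).map (MulAction.stabilizer X μ).subtype).map (MulAut.conj g).toMonoidHom := by
    rw [hR, Subgroup.comap_equiv_eq_map_symm', MulEquiv.symm_symm, Subgroup.map_map, Subgroup.map_map]
    rfl
  rw [map_zT, ← h]
  exact zT_le_closure _

/-- The subgroup generated by the `Z`'s in a ball is normalised by the stabiliser of its centre. -/
theorem le_normalizer_vertexVIter (h : IsAmalgamPair M₁ M₂) (n : ℕ) (δ : CosetVertex M₁ M₂) :
    MulAction.stabilizer X δ ≤ Subgroup.normalizer (vertexVIter p M₁ M₂ n δ : Set X) := by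
  refine le_normalizer_of_map fun g hg => ?_
  rw [vertexVIter, Subgroup.map_iSup]
  refine iSup_le fun μ => (vertexZ_smul g _).trans ?_
  refine le_iSup (fun ν : {μ // (cosetGraph M₁ M₂).dist δ μ ≤ n} => vertexZ p (ν : CosetVertex M₁ M₂))
    ⟨g • (μ : CosetVertex M₁ M₂), ?_⟩
  calc (cosetGraph M₁ M₂).dist δ (g • (μ : CosetVertex M₁ M₂))
      = (cosetGraph M₁ M₂).dist (g • δ) (g • (μ : CosetVertex M₁ M₂)) := by
        rw [MulAction.mem_stabilizer_iff.1 hg]
    _ ≤ _ := (dist_smul_le h g _ _).trans μ.2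

omit [Fact p.Prime] in
theorem vertexVIter_le_of_adj (h : IsAmalgamPair M₁ M₂) {a b : CosetVertex M₁ M₂}
    (hab : (cosetGraph M₁ M₂).Adj a b) (n : ℕ) :
    vertexVIter p M₁ M₂ n b ≤ vertexVIter p M₁ M₂ (n + 1) a := by
  refine iSup_le fun μ => le_iSup (fun ν : {μ // (cosetGraph M₁ M₂).dist a μ ≤ n + 1} => vertexZ p (ν : CosetVertex M₁ M₂))
    ⟨μ, ?_⟩
  have h1 := (connected h).dist_triangle (u := a) (v := b) (w := (μ : CosetVertex M₁ M₂))
  have h2 := SimpleGraph.dist_eq_one_iff_adj.2 hab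
  have h3 := μ.2
  omega

/-- If `O^p(L_λ)` centralises `V^{(n)}_λ` modulo a subgroup that is absorbed by `V^{(n-1)}_δ`, the amalgam is degenerate. -/
theorem vIter_absurd (h : IsSpeAmalgamPair p M₁ M₂) {lam δ : CosetVertex M₁ M₂}
    (hadj : (cosetGraph M₁ M₂).Adj lam δ) (n : ℕ) (hn : 1 ≤ n)
    (hVQ : vertexVIter p M₁ M₂ n lam ≤ vertexQ p lam) (A : Subgroup X)
    (hA : MulAction.stabilizer X lam ≤ Subgroup.normalizer (A : Set X))
    (hAV : A ≤ vertexVIter p M₁ M₂ n lam)
    (hcomm : ⁅vertexVIter p M₁ M₂ n lam, (pResidual p ↥(pElementClosure p (MulAction.stabilizer X lam))).map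
      (pElementClosure p (MulAction.stabilizer X lam)).subtype⁆ ≤ A)
    (habs : vertexVIter p M₁ M₂ n lam ≤ vertexVIter p M₁ M₂ (n - 1) δ ⊔ A →
      vertexVIter p M₁ M₂ n lam ≤ vertexVIter p M₁ M₂ (n - 1) δ) : False := by
  have hC := h.1
  haveI := finite_stab hC lam
  haveI := finite_edge hC lam δ
  obtain ⟨V, hV⟩ : ∃ V, V = vertexVIter p M₁ M₂ n lam := ⟨_, rfl⟩
  obtain ⟨W, hW⟩ : ∃ W, W = vertexVIter p M₁ M₂ (n - 1) δ := ⟨_, rfl⟩
  obtain ⟨L, hL⟩ : ∃ L, L = pElementClosure p (MulAction.stabilizer X lam) := ⟨_, rfl⟩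
  rw [← hV] at hVQ hAV habs hcomm
  rw [← hW] at habs
  rw [← hL] at hcomm
  obtain ⟨H, hH⟩ : ∃ H, H = MulAction.stabilizer X lam := ⟨_, rfl⟩
  haveI : Finite H := hH ▸ inferInstance
  have hWV : W ≤ V := by
    have := vertexVIter_le_of_adj (p := p) hC.1 hadj (n - 1)
    rwa [Nat.sub_add_cancel hn, ← hW, ← hV] at this
  have hHV : H ≤ Subgroup.normalizer (V : Set X) := hH ▸ hV ▸ le_normalizer_vertexVIter hC.1 n lam
  have hδW : MulAction.stabilizer X δ ≤ Subgroup.normalizer (W : Set X) := hW ▸ le_normalizer_vertexVIter hC.1 _ δ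
  obtain ⟨S, -⟩ : ∃ S : Sylow p ↥(edgeStabilizer lam δ), True := ⟨default, trivial⟩
  obtain ⟨T, hT⟩ : ∃ T, T = (S : Subgroup ↥(edgeStabilizer lam δ)).map (edgeStabilizer lam δ).subtype := ⟨_, rfl⟩
  have hTE : T ≤ edgeStabilizer lam δ := hT ▸ Subgroup.map_subtype_le _
  obtain ⟨P, hP⟩ := edge_sylow hC hadj S
  rw [← hT] at hP
  -- the normaliser of the Sylow subgroup fixes the edge
  have hN : MulAction.stabilizer X lam ⊓ Subgroup.normalizer (T : Set X) ≤ MulAction.stabilizer X δ := by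
    obtain ⟨x, he, hs⟩ := edge_struct hadj
    haveI := hC.2.1
    haveI : Finite (M₁ ⊓ M₂ : Subgroup X) :=
      Finite.of_injective _ (Subgroup.inclusion_injective (inf_le_left : M₁ ⊓ M₂ ≤ M₁))
    have h0 : T.map (MulAut.conj x).symm.toMonoidHom ≤ M₁ ⊓ M₂ := by
      rintro _ ⟨t, ht, rfl⟩
      have := hTE ht
      rw [he] at this
      obtain ⟨m, hm, rfl⟩ := this
      simpa [mul_assoc] using hm
    obtain ⟨S₀, hS₀⟩ := exists_sylow_of_card (p := p) h0 (by
      rw [card_map_equiv, hT, sylow_map_card, he, card_map_equiv])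
    obtain ⟨heq, -⟩ := h.2.1 S₀
    rw [hS₀] at heq
    have h1 := congrArg (Subgroup.map (MulAut.conj x).toMonoidHom) heq
    rw [Subgroup.map_inf _ _ _ (MulAut.conj x).injective,
      Subgroup.map_inf _ _ _ (MulAut.conj x).injective, Subgroup.map_equiv_normalizer_eq,
      Subgroup.map_map, show (MulAut.conj x).toMonoidHom.comp (MulAut.conj x).symm.toMonoidHom =
        MonoidHom.id X from MonoidHom.ext fun y => (MulAut.conj x).apply_symm_apply y,
      Subgroup.map_id] at h1
    rcases hs with ⟨a, b⟩ | ⟨a, b⟩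
    · rw [a, h1, b]; exact inf_le_left
    · rw [a, ← h1, b]; exact inf_le_left
  -- generation of the vertex stabiliser
  have hgen : H ≤ edgeStabilizer lam δ ⊔ (pResidual p ↥L).map L.subtype := by
    have hLH : L ≤ H := hL ▸ hH ▸ pElementClosure_le _
    haveI hLn : (L.subgroupOf H).Normal := (Subgroup.normal_subgroupOf_iff_le_normalizer hLH).2
      (hL ▸ hH ▸ le_normalizer_pElementClosure _)
    haveI : Finite L := Finite.of_injective _ (Subgroup.inclusion_injective hLH)
    have hTL : T ≤ L := hP ▸ hL ▸ sylow_le_pElementClosure P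
    obtain ⟨R, hR⟩ := exists_sylow_of_card (p := p) hTL (by
      rw [← hP, sylow_map_card]
      congr 1
      have h1 := sylow_map_card P
      rw [hP] at h1
      have h2 : p ^ (Nat.card ↥(MulAction.stabilizer X lam)).factorization p ∣ Nat.card ↥L :=
        h1 ▸ Subgroup.card_dvd_of_le hTL
      refine le_antisymm ((Fact.out : p.Prime).pow_dvd_iff_le_factorization Nat.card_pos.ne' |>.1 h2) ?_
      exact (Nat.factorization_le_iff_dvd Nat.card_pos.ne' Nat.card_pos.ne').2
        (Subgroup.card_dvd_of_le (hH ▸ hLH)) p)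
    have hLX : L ≤ (pResidual p ↥L).map L.subtype ⊔ T := by
      have h1 := congrArg (Subgroup.map L.subtype) (Fusion.pResidual_sup_sylow R)
      rw [Subgroup.map_sup, hR, ← MonoidHom.range_eq_map, Subgroup.range_subtype] at h1
      exact h1.ge
    subst hH
    have hPO : (P : Subgroup ↥(MulAction.stabilizer X lam)) ≤ L.subgroupOf (MulAction.stabilizer X lam) :=
      fun s hs => hL ▸ sylow_le_pElementClosure P ⟨s, hs, rfl⟩
    have h1 := congrArg (Subgroup.map (MulAction.stabilizer X lam).subtype) (Sylow.normalizer_sup_eq_top' P hPO)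
    rw [Subgroup.map_sup, ← MonoidHom.range_eq_map, Subgroup.range_subtype,
      Subgroup.map_subgroupOf_eq_of_le hLH] at h1
    refine h1.symm.le.trans (sup_le (le_sup_of_le_left ?_) (hLX.trans (sup_le le_sup_right (le_sup_of_le_left hTE))))
    rintro _ ⟨g, hg, rfl⟩
    refine ⟨g.2, hN ⟨g.2, ?_⟩⟩
    refine Subgroup.mem_normalizer_iff.2 fun t => ?_
    rw [← hP]
    constructor
    · rintro ⟨s, hs, rfl⟩
      exact ⟨g * s * g⁻¹, (Subgroup.mem_normalizer_iff.1 hg s).1 (by exact hs), rfl⟩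
    · rintro ⟨s, hs, hst⟩
      refine ⟨g⁻¹ * s * g, (Subgroup.mem_normalizer_iff''.1 hg s).1 (by exact hs), ?_⟩
      rw [map_mul, map_mul, map_inv, hst]
      simp [mul_assoc]
  have hXH : (pResidual p ↥L).map L.subtype ≤ H :=
    (Subgroup.map_subtype_le _).trans (hL ▸ hH ▸ pElementClosure_le _)
  -- the subgroup `W A` is normalised by the vertex stabiliser
  obtain ⟨U, hU⟩ : ∃ U, U = W ⊔ A := ⟨_, rfl⟩
  have hUV : U ≤ V := hU ▸ sup_le hWV hAV
  have hHU : H ≤ Subgroup.normalizer (U : Set X) := by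
    refine le_normalizer_of_map fun g hg => ?_
    suffices hle : H ≤ Subgroup.normalizer (U : Set X) by
      rintro _ ⟨u, hu, rfl⟩
      exact (Subgroup.mem_normalizer_iff.1 (hle hg) u).1 hu
    refine hgen.trans (sup_le ?_ ?_)
    · rw [hU]
      refine le_normalizer_of_map fun x hx => ?_
      rw [Subgroup.map_sup]
      refine sup_le_sup ?_ ?_
      · rintro _ ⟨w, hw, rfl⟩
        exact (Subgroup.mem_normalizer_iff.1 (hδW hx.2) w).1 hw
      · rintro _ ⟨w, hw, rfl⟩
        exact (Subgroup.mem_normalizer_iff.1 (hA hx.1) w).1 hw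
    · refine le_normalizer_of_map fun x hx => ?_
      rintro _ ⟨u, hu, rfl⟩
      have h1 : ⁅u⁻¹, x⁆ ∈ A := hcomm (Subgroup.commutator_mem_commutator (V.inv_mem (hUV hu)) hx)
      have h2 : x * u * x⁻¹ = u * ⁅u⁻¹, x⁆ := by rw [commutatorElement_def]; group
      show x * u * x⁻¹ ∈ U
      rw [h2]
      exact U.mul_mem hu (hU ▸ Subgroup.mem_sup_right h1)
  have hVU : V ≤ U := by
    conv_lhs => rw [hV]
    refine iSup_le fun μ => ?_
    by_cases hμ : (μ : CosetVertex M₁ M₂) = lam
    · rw [hμ]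
      refine iSup_le fun S' => ?_
      obtain ⟨g, hg⟩ := MulAction.exists_smul_eq ↥(MulAction.stabilizer X lam) P S'
      have hS' : (S' : Subgroup ↥(MulAction.stabilizer X lam)).map (MulAction.stabilizer X lam).subtype =
          T.map (MulAut.conj (g : X)).toMonoidHom := by
        rw [← hP, ← hg, Subgroup.map_map,
          show ((g • P : Sylow p _) : Subgroup ↥(MulAction.stabilizer X lam)) =
            (P : Subgroup _).map (MulAut.conj g).toMonoidHom from rfl, Subgroup.map_map]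
        rfl
      have hZ : zT p T ≤ W := by
        obtain ⟨R₀, hR₀⟩ := edge_sylow hC hadj.symm (default : Sylow p ↥(edgeStabilizer δ lam))
        haveI := finite_stab hC δ
        haveI := finite_edge hC δ lam
        obtain ⟨R, hR⟩ := exists_sylow_of_card (p := p) (hTE.trans inf_le_right) (by
          rw [← sylow_map_card R₀, hR₀, hT, sylow_map_card, sylow_map_card,
            show edgeStabilizer δ lam = edgeStabilizer lam δ from inf_comm _ _])
        rw [hW, ← hR]
        refine (zT_le_closure R).trans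
          (le_iSup (fun ν : {μ // (cosetGraph M₁ M₂).dist δ μ ≤ n - 1} => vertexZ p (ν : CosetVertex M₁ M₂))
            ⟨δ, by simp⟩)
      show zT p _ ≤ U
      rw [hS', ← map_zT]
      rintro _ ⟨z, hz, rfl⟩
      exact (Subgroup.mem_normalizer_iff.1 (hHU (hH ▸ g.2)) z).1 (hU ▸ Subgroup.mem_sup_left (hZ hz))
    · have hd : (cosetGraph M₁ M₂).dist (μ : CosetVertex M₁ M₂) lam ≠ 0 := fun h0 =>
        hμ (((connected hC.1).dist_eq_zero_iff).1 h0)
      obtain ⟨ν, hν, hdν⟩ := exists_penultimate hC.1 hd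
      obtain ⟨g, hg, hg1, hg2⟩ := stab_trans lam ν δ hν.symm hadj
      have h1 : (cosetGraph M₁ M₂).dist δ (g • (μ : CosetVertex M₁ M₂)) ≤ n - 1 := by
        rw [← hg2]
        refine (dist_smul_le hC.1 g _ _).trans ?_
        have := μ.2
        rw [SimpleGraph.dist_comm] at this
        rw [SimpleGraph.dist_comm]
        omega
      have h2 : (vertexZ p (μ : CosetVertex M₁ M₂)).map (MulAut.conj g).toMonoidHom ≤ W :=
        (vertexZ_smul g _).trans (hW ▸ le_iSup
          (fun ν : {μ // (cosetGraph M₁ M₂).dist δ μ ≤ n - 1} => vertexZ p (ν : CosetVertex M₁ M₂)) ⟨_, h1⟩)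
      intro z hz
      have h3 := hHU (hH ▸ (inv_mem hg : g⁻¹ ∈ MulAction.stabilizer X lam))
      have h4 := (Subgroup.mem_normalizer_iff.1 h3 _).1 (hU ▸ Subgroup.mem_sup_left (h2 ⟨z, hz, rfl⟩))
      simpa [mul_assoc] using h4
  have hVW : V = W := le_antisymm (habs (hU ▸ hVU)) hWV
  -- hence `V` is trivial
  have hVbot : V = ⊥ := by
    refine eq_bot_of_normalized hC.1 hadj (hVQ.trans (vertexQ_le_edge hC hadj))
      (K := H ⊔ MulAction.stabilizer X δ) (sup_le hHV (hVW ▸ hδW)) (fun ν ν' h1 h2 => ?_) fun ν ν' h1 h2 => ?_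
    · obtain ⟨g, hg, e⟩ := stab_trans lam ν ν' h1 h2
      exact ⟨g, Subgroup.mem_sup_left (hH ▸ hg), e⟩
    · obtain ⟨g, hg, e⟩ := stab_trans δ ν ν' h1 h2
      exact ⟨g, Subgroup.mem_sup_right hg, e⟩
  -- but `Ω₁(Z(T))` is not
  have hzV : zT p T ≤ V := by
    rw [hV, ← hP]
    exact (zT_le_closure P).trans
      (le_iSup (fun ν : {μ // (cosetGraph M₁ M₂).dist lam μ ≤ n} => vertexZ p (ν : CosetVertex M₁ M₂)) ⟨lam, by simp⟩)
  haveI : Finite T := Finite.of_injective _ (Subgroup.inclusion_injective (hTE.trans inf_le_left))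
  have hTp : IsPGroup p T := hT ▸ S.isPGroup'.map _
  have hT1 : T ≠ ⊥ := by
    intro h0
    have h1 := sylow_map_card P
    rw [hP, h0, Subgroup.card_bot] at h1
    have hdvd : p ∣ Nat.card ↥(MulAction.stabilizer X lam) := by
      obtain ⟨x, -, ⟨hd, -⟩ | ⟨hd, -⟩⟩ := edge_struct hadj <;> rw [hd, card_map_equiv]
      · exact hC.2.2.2.1
      · exact hC.2.2.2.2.1
    have hpos := (Fact.out : p.Prime).factorization_pos_of_dvd Nat.card_pos.ne' hdvd
    have := Nat.one_lt_pow hpos.ne' (Fact.out : p.Prime).one_lt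
    omega
  haveI : Nontrivial T := (Subgroup.nontrivial_iff_ne_bot T).2 hT1
  haveI := hTp.center_nontrivial
  obtain ⟨z, hzp⟩ := exists_prime_orderOf_dvd_card' (G := ↥(Subgroup.center ↥T)) p (by
    obtain ⟨k, hk⟩ := IsPGroup.iff_card.1 (hTp.to_subgroup (Subgroup.center ↥T))
    rw [hk]
    refine dvd_pow_self p fun h0 => ?_
    rw [h0, pow_zero] at hk
    exact absurd (Finite.one_lt_card (α := ↥(Subgroup.center ↥T))) (by omega))
  have hzT : ((z : ↥T) : X) ∈ zT p T := by
    refine Subgroup.subset_closure ⟨⟨(z : ↥T).2, Subgroup.mem_centralizer_iff.2 fun t ht => ?_⟩, ?_⟩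
    · exact congrArg Subtype.val (Subgroup.mem_center_iff.1 z.2 ⟨t, ht⟩)
    · have h2 := congrArg (fun a : ↥(Subgroup.center ↥T) => ((a : ↥T) : X)) (pow_orderOf_eq_one z)
      rw [hzp] at h2
      simpa using h2
  have := hzV hzT
  rw [hVbot, Subgroup.mem_bot] at this
  have h1 : z = 1 := Subtype.ext (Subtype.ext this)
  rw [h1, orderOf_one] at hzp
  exact (Fact.out : p.Prime).ne_one hzp.symm

/-- Commutators with a `p`-group containing `V` are absorbed. -/
theorem le_of_le_sup_commutator {V W Q : Subgroup X} [Finite Q] (hQ : IsPGroup p Q) (hVQ : V ≤ Q)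
    (hQW : Q ≤ Subgroup.normalizer (W : Set X)) (h : V ≤ W ⊔ ⁅V, Q⁆) : V ≤ W := by
  let C : ℕ → Subgroup X := fun i => Nat.rec V (fun _ D => ⁅D, Q⁆) i
  have hlcs : ∀ i, C i ≤ Q.lowerCentralSeries i := by
    intro i
    induction i with
    | zero => simpa [C] using hVQ
    | succ i ih => rw [Subgroup.lowerCentralSeries_succ]; exact Subgroup.commutator_mono ih le_rfl
  have key : ∀ i, V ≤ W ⊔ C i := by
    intro i
    induction i with
    | zero => exact le_sup_right
    | succ i ih =>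
      refine h.trans (sup_le le_sup_left ((Subgroup.commutator_mono ih le_rfl).trans ?_))
      -- `⁅W C, Q⁆ ≤ W ⁅C, Q⁆`
      have hDQ : C (i + 1) ≤ Q := by
        refine (hlcs (i + 1)).trans ?_
        have := Subgroup.lowerCentralSeries_antitone Q (Nat.zero_le (i + 1))
        rwa [Subgroup.lowerCentralSeries_zero] at this
      have hCQ : C i ≤ Q := by
        refine (hlcs i).trans ?_
        have := Subgroup.lowerCentralSeries_antitone Q (Nat.zero_le i)
        rwa [Subgroup.lowerCentralSeries_zero] at this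
      obtain ⟨U, hU⟩ : ∃ U, U = W ⊔ C (i + 1) := ⟨_, rfl⟩
      rw [← hU, Subgroup.commutator_le]
      intro w hw q hq
      have hCW : C i ≤ Subgroup.normalizer (W : Set X) := hCQ.trans hQW
      rw [← SetLike.mem_coe, Subgroup.coe_mul_of_right_le_normalizer_left W (C i) hCW] at hw
      obtain ⟨a, ha, c, hc, rfl⟩ := hw
      have hb : ⁅c, q⁆ ∈ C (i + 1) := Subgroup.commutator_mem_commutator hc hq
      have hbn : ⁅c, q⁆ ∈ Subgroup.normalizer (W : Set X) := hQW (hDQ hb)
      have h1 : ⁅a, q⁆ ∈ W := by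
        rw [commutatorElement_def, mul_assoc a, mul_assoc a]
        exact W.mul_mem ha ((Subgroup.mem_normalizer_iff.1 (hQW hq) _).1 (W.inv_mem ha))
      have e : ⁅a * c, q⁆ = a * ⁅c, q⁆ * a⁻¹ * ⁅a, q⁆ := by
        simp only [commutatorElement_def]; group
      show ⁅a * c, q⁆ ∈ U
      rw [e, hU]
      exact mul_mem (mul_mem (mul_mem (Subgroup.mem_sup_left ha) (Subgroup.mem_sup_right hb))
        (inv_mem (Subgroup.mem_sup_left ha))) (Subgroup.mem_sup_left h1)
  haveI := IsPGroup.isNilpotent (p := p) hQ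
  obtain ⟨m, hm⟩ := Subgroup.nilpotent_iff_lowerCentralSeries.1 ‹Group.IsNilpotent ↥Q›
  have h1 : Q.lowerCentralSeries m = ⊥ := by
    have := congrArg (Subgroup.map Q.subtype) hm
    rwa [Subgroup.map_lowerCentralSeries, ← MonoidHom.range_eq_map, Subgroup.range_subtype, Subgroup.map_bot] at this
  refine (key m).trans (sup_le le_rfl ?_)
  exact (hlcs m).trans (h1.le.trans bot_le)

end Cfsg.Agent.Amalgam
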