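import Cfsg.Agent.Lib.LocalEven.ReducedOf
import Cfsg.Agent.Lib.LocalEven.WeakSubgroup
import Cfsg.Agent.S2845

/-!
An asymmetric `Y_M`: `O_p(M)` is weakly closed.
-/

set_option autoImplicit false

open scoped commutatorElement Pointwise

namespace Cfsg.Agent.LocalEven.Asym

open Cfsg Cfsg.Agent.Fusion

variable {G : Type*} [Group G] [Finite G] {p : ℕ} [Fact p.Prime]

/-- If every generator sends `P` into the normalizers of `Y` and `P`, then `Y` stays in every translate of `P`. -/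
theorem chain {Y P : Subgroup G} (hYP : Y ≤ P) (hPC : P ≤ Subgroup.centralizer (Y : Set G))
    (hsyl : SylIn p P (Subgroup.centralizer (Y : Set G))) (hasym : ¬ IsSymmetricIn Y) {Ξ : Set G}
    (hinv : ∀ s ∈ Ξ, s⁻¹ ∈ Ξ)
    (hP : ∀ s ∈ Ξ, P ≤ Subgroup.normalizer (cj Y s : Set G) ∧ P ≤ Subgroup.normalizer (cj P s : Set G)) :
    ∀ l : List G, (∀ s ∈ l, s ∈ Ξ) → Y ≤ cj P l.prod := by
  suffices h : ∀ n, ∀ l : List G, l.length = n → (∀ s ∈ l, s ∈ Ξ) → Y ≤ cj P l.prod from
    fun l => h _ l rfl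
  intro n
  induction n with
  | zero =>
    intro l hl _
    rw [List.length_eq_zero_iff.1 hl, List.prod_nil, cj_one]
    exact hYP
  | succ n ih =>
    have step : ∀ l : List G, l.length = n + 1 → (∀ s ∈ l, s ∈ Ξ) →
        Y ≤ Subgroup.normalizer (cj Y l.prod : Set G) ∧ Y ≤ Subgroup.normalizer (cj P l.prod : Set G) := by
      intro l hl hmem
      obtain ⟨l', s, rfl⟩ := (List.eq_nil_or_concat' l).resolve_left fun h => by simp [h] at hl
      rw [List.length_append, List.length_singleton] at hl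
      have hY := ih l' (by omega) fun t ht => hmem t (List.mem_append_left _ ht)
      obtain ⟨h1, h2⟩ := hP s (hmem s (List.mem_append_right _ (List.mem_singleton.2 rfl)))
      rw [List.prod_append, List.prod_singleton]
      constructor
      · have := hY.trans (cj_mono h1 l'.prod)
        rwa [cj_normalizer, cj_cj] at this
      · have := hY.trans (cj_mono h2 l'.prod)
        rwa [cj_normalizer, cj_cj] at this
    intro l hl hmem
    obtain ⟨h1, h2⟩ := step l hl hmem
    obtain ⟨h3, -⟩ := step (l.map fun x => x⁻¹).reverse (by simpa using hl) (by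
      intro t ht
      obtain ⟨s, hs, rfl⟩ := List.mem_map.1 (List.mem_reverse.1 ht)
      exact hinv s (hmem s hs))
    rw [← List.prod_inv_reverse] at h3
    have h4 : cj Y l.prod ≤ Subgroup.normalizer (Y : Set G) := by
      have := cj_mono h3 l.prod
      rwa [cj_normalizer, cj_inv_cj] at this
    have h5 : ⁅Y, cj Y l.prod⁆ = ⊥ := by
      by_contra hne
      exact hasym ⟨l.prod, hne, le_inf (Subgroup.le_normalizer_iff_commutator_le_left.1 h4)
        (Subgroup.le_normalizer_iff_commutator_le_right.1 h1)⟩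
    have hYC : Y ≤ cj (Subgroup.centralizer (Y : Set G)) l.prod := by
      rw [cj_centralizer]; exact Subgroup.commutator_eq_bot_iff_le_centralizer.1 h5
    have hYp : IsPGroup p Y := hsyl.isPGroup.to_le hYP
    have h6 := (hsyl.cj l.prod).eq_of_le ((isPGroup_cj hsyl.isPGroup l.prod).to_sup_of_normal_left' hYp h2)
      le_sup_left (sup_le (cj_mono hPC _) hYC)
    exact le_sup_right.trans h6.le

/-- The standing facts about a member of `𝔐` for a large `Q`. -/
theorem facts (S : Sylow p G) {Q : Subgroup G} (hQp : IsPGroup p Q) (hQ1 : Q ≠ ⊥) (hQ : IsLarge Q) {M : Subgroup G}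
    (hSM : (S : Subgroup G) ≤ M) (hM : IsInFrakM p M) :
    SylIn p (pCoreOf p M) (Subgroup.centralizer ((largestPReducedOf p M : Subgroup G) : Set G)) ∧
      M ≤ Subgroup.normalizer ((pCoreOf p M : Subgroup G) : Set G) ∧
      Subgroup.centralizer ((pCoreOf p M : Subgroup G) : Set G) ≤ pCoreOf p M ∧
      ∀ R : Subgroup G, IsPGroup p R → R ≠ ⊥ → M ≤ Subgroup.normalizer (R : Set G) →
        Subgroup.normalizer (R : Set G) ≤ M ⊔ Subgroup.centralizer ((largestPReducedOf p M : Subgroup G) : Set G) := by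
  set Y := largestPReducedOf p M
  set C := Subgroup.centralizer (Y : Set G)
  set P := pCoreOf p M
  have hS : SylIn p (S : Subgroup G) ⊤ := sylIn_top S
  have hPS : P ≤ (S : Subgroup G) := pCoreOf_le_sylIn (hS.mono hSM le_top)
  have hYN := Red.le_normalizer_Y (p := p) M
  have hsC : SylIn p ((S : Subgroup G) ⊓ C) C :=
    (hS.mono (hSM.trans hYN) le_top).inf_normal (Subgroup.centralizer_le_normalizer _)
      (Red.le_normalizer_centralizer le_rfl)
  have hSC : (S : Subgroup G) ⊓ C = P := by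
    refine le_antisymm ?_ (le_inf hPS (Red.core_le_centralizer_Y M))
    have hMCn : M ≤ Subgroup.normalizer ((M ⊓ C : Subgroup G) : Set G) := fun m hm =>
      mem_normalizer_iff_cj.2 (by rw [cj_inf, cj_eq_self_of_mem hm, cj_eq_self (Red.le_normalizer_centralizer hYN hm)])
    have hsyl : SylIn p ((S : Subgroup G) ⊓ (M ⊓ C)) (M ⊓ C) := (hS.mono hSM le_top).inf_normal inf_le_left hMCn
    obtain ⟨R, hR⟩ := hsyl.exists_sylow_subgroupOf
    have hn : M ⊓ C ≤ Subgroup.normalizer (((S : Subgroup G) ⊓ (M ⊓ C) : Subgroup G) : Set G) :=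
      (Subgroup.normal_subgroupOf_iff_le_normalizer inf_le_right).1 (hR ▸ hM.2.2.2.2.1 R)
    refine le_trans (le_inf inf_le_left (le_inf (inf_le_left.trans hSM) inf_le_right)) ?_
    refine le_pCoreOf (inf_le_right.trans inf_le_left) (fun m hm => ?_) hsyl.isPGroup
    obtain ⟨x, hx, he⟩ := hsyl.conj_eq (hsyl.cj' (hMCn hm))
    exact mem_normalizer_iff_cj.2 (he.symm.trans (cj_eq_self (hn hx)))
  refine ⟨hSC ▸ hsC, le_normalizer_pCoreOf M, hM.1.2, fun R hR hR1 hMR => ?_⟩
  set N := Subgroup.normalizer (R : Set G)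
  have hN1 : pCore p ↥N ≠ ⊥ := fun h => hR1 (le_bot_iff.1
    ((le_pCoreOf Subgroup.le_normalizer le_rfl hR).trans (by rw [pCoreOf, h, Subgroup.map_bot])))
  have hNc : N ∈ charPSubgroups p G :=
    ⟨hN1, (Cfsg.Agent.S2845.result Q hQp hQ1 hQ).2.1 N ⟨S, hSM.trans hMR⟩ hN1⟩
  obtain ⟨X, hNX, hX⟩ := (Set.toFinite (charPSubgroups p G)).exists_le_maximal hNc
  have hXM : X ∈ maxCharPSubgroups p G := ⟨hX.1, fun L' hL' h => le_antisymm (hX.2 hL' h) h⟩
  exact hNX.trans (hM.2.2.1 X hXM (hMR.trans hNX)).le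

/-- `N(R) ≤ N(O_p(M))` for every `p`-group `R` containing `O_p(M)`. -/
theorem normalizer_le (S : Sylow p G) {Q : Subgroup G} (hQp : IsPGroup p Q) (hQ1 : Q ≠ ⊥) (hQ : IsLarge Q)
    {M : Subgroup G} (hSM : (S : Subgroup G) ≤ M) (hM : IsInFrakM p M)
    (hasym : ¬ IsSymmetricIn (largestPReducedOf p M)) {L : Subgroup G} (hL : IsPGroup p L) (hPL : pCoreOf p M ≤ L) :
    Subgroup.normalizer (L : Set G) ≤ Subgroup.normalizer ((pCoreOf p M : Subgroup G) : Set G) := by
  obtain ⟨hsyl, hMP, -, hmax⟩ := facts S hQp hQ1 hQ hSM hM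
  obtain ⟨Y, hY⟩ : ∃ Y, Y = largestPReducedOf p M := ⟨_, rfl⟩
  obtain ⟨P, hP⟩ : ∃ P, P = pCoreOf p M := ⟨_, rfl⟩
  rw [← hY] at hsyl hmax hasym
  rw [← hP] at hsyl hMP hPL ⊢
  have hYP : Y ≤ P := hY ▸ hP ▸ Red.Y_le_core M
  have hPC : P ≤ Subgroup.centralizer (Y : Set G) := hsyl.le
  have hMY : M ≤ Subgroup.normalizer (Y : Set G) := hY ▸ Red.le_normalizer_Y M
  have hMdag : M ⊔ Subgroup.centralizer (Y : Set G) ≤ Subgroup.normalizer (Y : Set G) :=
    sup_le hMY (Subgroup.centralizer_le_normalizer _)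
  have hP1 : P ≠ ⊥ := fun h => hM.1.1 ((Subgroup.map_eq_bot_iff_of_injective _ M.subtype_injective).1
    (hP.symm.trans h))
  have hPN : Subgroup.normalizer (P : Set G) ≤ Subgroup.normalizer (Y : Set G) :=
    (hmax P hsyl.isPGroup hP1 hMP).trans hMdag
  have key : ∀ R : Subgroup G, IsPGroup p R → P ≤ R → R ≤ Subgroup.normalizer (P : Set G) →
      ∀ g ∈ Subgroup.normalizer (R : Set G), cj P g = P := by
    intro R hR hPR hRP g hg
    have hg' : cj P g ≤ R := (cj_mono hPR g).trans (cj_eq_self hg).le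
    suffices hgM : g ∈ Subgroup.normalizer (Y : Set G) by
      refine cj_eq_of_cj_le ?_
      have h1 : cj P g ≤ Subgroup.centralizer (Y : Set G) := by
        have := cj_mono hPC g
        rwa [cj_centralizer, cj_eq_self hgM] at this
      have h2 := hsyl.eq_of_le (hR.to_le inf_le_left : IsPGroup p ↥(R ⊓ Subgroup.centralizer (Y : Set G)))
        (le_inf hPR hPC) inf_le_right
      exact (le_inf hg' h1).trans h2.le
    by_cases hY0 : Y = ⊥
    · rw [hY0, mem_normalizer_iff_cj, cj_bot]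
    obtain ⟨Γ, hΓ⟩ : ∃ Γ : Set G, Γ = (M : Set G) ∪ {g, g⁻¹} := ⟨_, rfl⟩
    have hinv : ∀ s ∈ Γ, s⁻¹ ∈ Γ := by
      subst hΓ
      rintro s (h | rfl | rfl)
      · exact Or.inl (inv_mem h)
      · exact Or.inr (Or.inr rfl)
      · exact Or.inr (Or.inl (inv_inv g))
    have hΓP : ∀ s ∈ Γ, P ≤ Subgroup.normalizer (cj Y s : Set G) ∧ P ≤ Subgroup.normalizer (cj P s : Set G) := by
      subst hΓ
      rintro s (h | h)
      · rw [cj_eq_self (hMY h), cj_eq_self (hMP h)]
        exact ⟨hP ▸ (Fusion.pCoreOf_le M).trans hMY, Subgroup.le_normalizer⟩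
      · have hs : s ∈ Subgroup.normalizer (R : Set G) := by
          rcases h with rfl | rfl
          exacts [hg, inv_mem hg]
        constructor
        · rw [← cj_normalizer]
          exact hPR.trans ((cj_eq_self hs).ge.trans (cj_mono (hRP.trans hPN) s))
        · rw [← cj_normalizer]
          exact hPR.trans ((cj_eq_self hs).ge.trans (cj_mono hRP s))
    have hall : ∀ w ∈ Submonoid.closure Γ, Y ≤ cj P w := by
      intro w hw
      obtain ⟨l, hl, rfl⟩ := Submonoid.exists_list_of_mem_closure hw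
      exact chain hYP hPC hsyl hasym hinv hΓP l hl
    obtain ⟨W, hW⟩ : ∃ W : Subgroup G, W = ⨆ w : Submonoid.closure Γ, cj Y (w : G) := ⟨_, rfl⟩
    have hWP : W ≤ P := hW ▸ iSup_le fun w => by
      have hw : (w : G)⁻¹ ∈ Submonoid.closure Γ := by
        obtain ⟨l, hl, e⟩ := Submonoid.exists_list_of_mem_closure w.2
        rw [← e, List.prod_inv_reverse]
        exact list_prod_mem fun t ht => by
          obtain ⟨s, hs, rfl⟩ := List.mem_map.1 (List.mem_reverse.1 ht)
          exact Submonoid.subset_closure (hinv s (hl s hs))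
      have := cj_mono (hall _ hw) (w : G)
      rwa [cj_inv_cj] at this
    have hWn : ∀ s ∈ Γ, s ∈ Subgroup.normalizer (W : Set G) := fun s hs => by
      refine mem_normalizer_of_cj_le (Subgroup.map_le_iff_le_comap.2 ?_)
      conv_lhs => rw [hW]
      refine iSup_le fun w => Subgroup.map_le_iff_le_comap.1 ?_
      show cj (cj Y (w : G)) s ≤ W
      rw [cj_cj, hW]
      exact le_iSup (fun w : Submonoid.closure Γ => cj Y (w : G))
        ⟨s * w, mul_mem (Submonoid.subset_closure hs) w.2⟩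
    have hYW : Y ≤ W := by
      rw [hW]
      exact (cj_one Y).ge.trans (le_iSup (fun w : Submonoid.closure Γ => cj Y (w : G)) ⟨1, one_mem _⟩)
    exact hMdag (hmax W (hsyl.isPGroup.to_le hWP) (fun h => hY0 (le_bot_iff.1 (h ▸ hYW)))
      (fun m hm => hWn m (hΓ ▸ Or.inl hm)) (hWn g (hΓ ▸ Or.inr (Or.inl rfl))))
  -- `L` itself normalizes `P`
  have hLP : L ≤ Subgroup.normalizer (P : Set G) := by
    by_contra hle
    obtain ⟨R, hR⟩ : ∃ R, R = L ⊓ Subgroup.normalizer (P : Set G) := ⟨_, rfl⟩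
    have hRne : R ≠ L := fun h => hle (h ▸ hR ▸ inf_le_right)
    obtain ⟨x, hx, hxR⟩ := SetLike.exists_of_lt (SylIn.normalizer_growth (hR ▸ inf_le_left) hRne hL)
    refine hxR (hR ▸ Subgroup.mem_inf.2 ⟨(Subgroup.mem_inf.1 hx).1, ?_⟩)
    exact mem_normalizer_iff_cj.2 (key R (hL.to_le (hR ▸ inf_le_left)) (hR ▸ le_inf hPL Subgroup.le_normalizer)
      (hR ▸ inf_le_right) x (Subgroup.mem_inf.1 hx).2)
  exact fun g hg => mem_normalizer_iff_cj.2 (key L hL hPL hLP g hg)

/-- `O_p(M)` is weakly closed. -/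
theorem weak (S : Sylow p G) {Q : Subgroup G} (hQp : IsPGroup p Q) (hQ1 : Q ≠ ⊥) (hQ : IsLarge Q)
    {M : Subgroup G} (hSM : (S : Subgroup G) ≤ M) (hM : IsInFrakM p M)
    (hasym : ¬ IsSymmetricIn (largestPReducedOf p M)) : IsWeaklyClosedSubgroup p (pCoreOf p M) :=
  Weak.of_normalizer (pCoreOf_isPGroup M) fun _ hR hPR => normalizer_le S hQp hQ1 hQ hSM hM hasym hR hPR

end Cfsg.Agent.LocalEven.Asym
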