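import Cfsg.Agent.Lib.LocalEven.Asymmetric
import Cfsg.Agent.Lib.LocalEven.CharP
import Cfsg.Agent.Lib.Solv.Zipper
import Cfsg.Agent.Lib.Perm.Subnormalizer

/-!
Minimal subgroups over an asymmetric `Y` inside a group with all proper overgroups of `P` having `Y` in the core.

The decisive point: for `u ∈ L` normalizing `Yd = Y ⊓ E`, the groups `P` and `P^u` act alike on the series
`E ≥ (E ⊓ C(L)) Yd ≥ Yd ≥ 1`, so `u` normalizes a `p`-group containing `P`, hence normalizes `Y`.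
-/

set_option autoImplicit false

open scoped commutatorElement Pointwise

namespace Cfsg.Agent.LocalEven.AsymMin

open Cfsg Cfsg.Agent.Fusion

variable {G : Type*} [Group G]

/-- The elements normalizing `E` and `J` and acting trivially on `E` modulo `J`. -/
def act (E J : Subgroup G) : Subgroup G where
  carrier := {x | x ∈ Subgroup.normalizer (E : Set G) ∧ x ∈ Subgroup.normalizer (J : Set G) ∧
    ∀ e ∈ E, ⁅x, e⁆ ∈ J}
  one_mem' := ⟨one_mem _, one_mem _, fun e _ => by rw [commutatorElement_one_left]; exact one_mem _⟩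
  mul_mem' {a b} ha hb := ⟨mul_mem ha.1 hb.1, mul_mem ha.2.1 hb.2.1, fun e he => by
    rw [show ⁅a * b, e⁆ = a * ⁅b, e⁆ * a⁻¹ * ⁅a, e⁆ by simp only [commutatorElement_def]; group]
    exact mul_mem ((Subgroup.mem_normalizer_iff.1 ha.2.1 _).1 (hb.2.2 e he)) (ha.2.2 e he)⟩
  inv_mem' {a} ha := ⟨inv_mem ha.1, inv_mem ha.2.1, fun e he => by
    have h1 : a⁻¹ * e * a ∈ E := by
      have := (Subgroup.mem_normalizer_iff.1 (inv_mem ha.1) e).1 he
      simpa using this
    have h2 := inv_mem (ha.2.2 _ h1)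
    rw [show ⁅a, a⁻¹ * e * a⁆⁻¹ = ⁅a⁻¹, e⁆ by simp only [commutatorElement_def]; group] at h2
    exact h2⟩

theorem mem_act {E J : Subgroup G} {x : G} : x ∈ act E J ↔ x ∈ Subgroup.normalizer (E : Set G) ∧
    x ∈ Subgroup.normalizer (J : Set G) ∧ ∀ e ∈ E, ⁅x, e⁆ ∈ J := Iff.rfl

theorem le_act {X E J : Subgroup G} (hE : X ≤ Subgroup.normalizer (E : Set G))
    (hJ : X ≤ Subgroup.normalizer (J : Set G)) (h : ⁅X, E⁆ ≤ J) : X ≤ act E J := fun _ hx =>
  ⟨hE hx, hJ hx, fun _ he => h (Subgroup.commutator_mem_commutator hx he)⟩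

theorem cj_act_le {E J : Subgroup G} {n : G} (hE : n ∈ Subgroup.normalizer (E : Set G))
    (hJ : n ∈ Subgroup.normalizer (J : Set G)) : cj (act E J) n ≤ act E J := by
  rintro _ ⟨x, hx, rfl⟩
  show n * x * n⁻¹ ∈ act E J
  refine ⟨mul_mem (mul_mem hE hx.1) (inv_mem hE), mul_mem (mul_mem hJ hx.2.1) (inv_mem hJ), fun e he => ?_⟩
  have h1 : n⁻¹ * e * n ∈ E := by
    have := (Subgroup.mem_normalizer_iff.1 (inv_mem hE) e).1 he
    simpa using this
  have h2 := (Subgroup.mem_normalizer_iff.1 hJ _).1 (hx.2.2 _ h1)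
  rw [show n * ⁅x, n⁻¹ * e * n⁆ * n⁻¹ = ⁅n * x * n⁻¹, e⁆ by
    simp only [commutatorElement_def]; group] at h2
  exact h2

/-- An element of order prime to `p` trivial on `E/J` and on `J` is trivial on the `p`-group `E`. -/
theorem fix_step {p : ℕ} [hp : Fact p.Prime] [Finite G] {E J : Subgroup G} (hEp : IsPGroup p E) (hJE : J ≤ E) {x : G}
    (hx : x ∈ act E J) (hxJ : x ∈ Subgroup.centralizer (J : Set G)) (hn : ¬ p ∣ orderOf x) :
    x ∈ Subgroup.centralizer (E : Set G) := by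
  refine Subgroup.mem_centralizer_iff.2 fun e he => ?_
  set f := ⁅x, e⁆ with hf
  have hfJ : f ∈ J := hx.2.2 e he
  have hxf : x * f = f * x := (Subgroup.mem_centralizer_iff.1 hxJ f hfJ).symm
  have key : ∀ n : ℕ, x ^ n * e * (x ^ n)⁻¹ = f ^ n * e := by
    intro n
    induction n with
    | zero => simp
    | succ n ih =>
      calc x ^ (n + 1) * e * (x ^ (n + 1))⁻¹ = x * (x ^ n * e * (x ^ n)⁻¹) * x⁻¹ := by
            rw [pow_succ']; group
        _ = x * (f ^ n * e) * x⁻¹ := by rw [ih]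
        _ = (x * f ^ n) * e * x⁻¹ := by group
        _ = (f ^ n * x) * e * x⁻¹ := by rw [(Commute.pow_right hxf n).eq]
        _ = f ^ n * (f * e) := by rw [hf, commutatorElement_def]; group
        _ = f ^ (n + 1) * e := by rw [pow_succ]; group
  have h1 : f ^ orderOf x = 1 := by
    have := key (orderOf x)
    rw [pow_orderOf_eq_one, one_mul, inv_one, mul_one] at this
    exact (mul_eq_right.1 this.symm)
  obtain ⟨k, hk⟩ := hEp ⟨f, hJE hfJ⟩
  have h2 : f ^ p ^ k = 1 := congrArg Subtype.val hk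
  have h3 : f = 1 := by
    have := pow_gcd_eq_one.2 ⟨h2, h1⟩
    rwa [((hp.out.coprime_iff_not_dvd.2 hn).pow_left k), pow_one] at this
  exact ((commutatorElement_eq_one_iff_mul_comm).1 h3).symm

theorem mem_centralizer_sup {A B : Subgroup G} {x : G} (ha : x ∈ Subgroup.centralizer (A : Set G))
    (hb : x ∈ Subgroup.centralizer (B : Set G)) : x ∈ Subgroup.centralizer ((A ⊔ B : Subgroup G) : Set G) :=
  Subgroup.zpowers_le.1 (Subgroup.le_centralizer_iff.1 (sup_le
    (Subgroup.le_centralizer_iff.1 (Subgroup.zpowers_le.2 ha))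
    (Subgroup.le_centralizer_iff.1 (Subgroup.zpowers_le.2 hb))))

variable [Finite G] {p : ℕ} [hp : Fact p.Prime]

/-- The standing hypotheses. -/
structure Setup (p : ℕ) (Y P H L : Subgroup G) : Prop where
  hYP : Y ≤ P
  hPC : P ≤ Subgroup.centralizer (Y : Set G)
  hPp : IsPGroup p P
  hNR : ∀ R : Subgroup G, IsPGroup p R → P ≤ R → Subgroup.normalizer (R : Set G) ≤ Subgroup.normalizer (Y : Set G)
  hasym : ∀ g : G, Y ≤ Subgroup.normalizer (cj Y g : Set G) → cj Y g ≤ Subgroup.normalizer (Y : Set G) →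
    cj Y g ≤ Subgroup.centralizer (Y : Set G)
  hPH : P ≤ H
  hchar : H ⊓ Subgroup.centralizer (pCoreOf p H : Set G) ≤ pCoreOf p H
  hprop : ∀ R : Subgroup G, P ≤ R → R < H → Y ≤ pCoreOf p R
  hLH : L ≤ H
  hYL : Y ≤ L
  hYO : ¬ Y ≤ pCoreOf p L
  hmin : ∀ X : Subgroup G, X ≤ L → Y ≤ X → ¬ Y ≤ pCoreOf p X → X = L

variable {Y P H L : Subgroup G}

theorem Setup.isPGroup_Y (s : Setup p Y P H L) : IsPGroup p Y := s.hPp.to_le s.hYP

theorem Setup.not_pgroup (s : Setup p Y P H L) : ¬ IsPGroup p L := fun h =>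
  s.hYO (s.hYL.trans (le_pCoreOf le_rfl Subgroup.le_normalizer h))

theorem Setup.proper (s : Setup p Y P H L) {X : Subgroup G} (hX : X ≤ L) (hYX : Y ≤ X) (hne : X ≠ L) :
    Y ≤ pCoreOf p X :=
  by_contra fun h => hne (s.hmin X hX hYX h)

theorem Setup.core_norm (s : Setup p Y P H L) : H ≤ Subgroup.normalizer (pCoreOf p H : Set G) :=
  le_normalizer_pCoreOf H

theorem Setup.core_le_normalizer (s : Setup p Y P H L) {x : G} (hx : x ∈ H) :
    pCoreOf p H ≤ Subgroup.normalizer (cj Y x : Set G) := by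
  have hR := (pCoreOf_isPGroup (p := p) H).to_sup_of_normal_left' s.hPp (s.hPH.trans s.core_norm)
  have h1 : pCoreOf p H ≤ Subgroup.normalizer (Y : Set G) :=
    le_sup_left.trans (Subgroup.le_normalizer.trans (s.hNR _ hR le_sup_right))
  rw [← cj_normalizer, ← cj_eq_self (s.core_norm hx)]
  exact cj_mono h1 x

theorem Setup.comm_core (s : Setup p Y P H L) {x : G} (hx : x ∈ H) :
    ⁅cj Y x, pCoreOf p H⁆ ≤ cj (Y ⊓ pCoreOf p H) x := by
  rw [cj_inf, cj_eq_self (s.core_norm hx)]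
  refine le_inf (Subgroup.le_normalizer_iff_commutator_le_left.1 (s.core_le_normalizer hx)) ?_
  exact Subgroup.le_normalizer_iff_commutator_le_right.1
    ((cj_mono (s.hYL.trans s.hLH) x).trans ((cj_eq_self_of_mem hx).le.trans s.core_norm))

theorem Setup.gen_P (s : Setup p Y P H L) : L ⊔ P = H := by
  by_contra hne
  have h := s.hprop _ le_sup_right (lt_of_le_of_ne (sup_le s.hLH s.hPH) hne)
  refine s.hYO ((le_inf h s.hYL).trans (le_pCoreOf inf_le_right (fun l hl => ?_)
    (pCoreOf_isPGroup _).to_inf_left))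
  exact mem_normalizer_iff_cj.2 (by
    rw [cj_inf, cj_eq_self (le_normalizer_pCoreOf (L ⊔ P) (le_sup_left (b := P) hl)),
      cj_eq_self_of_mem hl])

theorem Setup.closure_top (s : Setup p Y P H L) : Subgroup.normalClosure ((Y.subgroupOf L : Subgroup L) : Set L) = ⊤ := by
  by_contra hne
  set N := Subgroup.normalClosure ((Y.subgroupOf L : Subgroup L) : Set L) with hN
  have hXL : N.map L.subtype ≤ L := Subgroup.map_subtype_le _
  have hYX : Y ≤ N.map L.subtype := fun y hy => ⟨⟨y, s.hYL hy⟩, Subgroup.le_normalClosure hy, rfl⟩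
  have hXne : N.map L.subtype ≠ L := fun h => hne (Subgroup.map_injective L.subtype_injective
    (h.trans (by rw [← MonoidHom.range_eq_map, Subgroup.range_subtype])))
  refine s.hYO ((s.proper hXL hYX hXne).trans (pCore_map_le_of_normal hXL ?_))
  rw [Subgroup.subgroupOf, Subgroup.comap_map_eq_self_of_injective L.subtype_injective]
  exact Subgroup.normalClosure_normal

theorem Setup.exists_max (s : Setup p Y P H L) : ∃ L₀ : Subgroup G, Y ≤ L₀ ∧ L₀ < L ∧
    IsCoatom (L₀.subgroupOf L) ∧ ∀ X : Subgroup G, X ≤ L → Y ≤ X → X ≠ L → X ≤ L₀ := by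
  have hns : ¬ (Y.subgroupOf L).IsSubnormal := fun h => s.hYO fun y hy =>
    ⟨⟨y, s.hYL hy⟩, Perm.subnormal_pgroup_le_pCore h (s.isPGroup_Y.comap_subtype (K := L)) hy, rfl⟩
  have hb : Solv.SubnormalBelow (Y.subgroupOf L) := by
    intro K hK hYK
    have hXL : K.map L.subtype ≤ L := Subgroup.map_subtype_le _
    have hXne : K.map L.subtype ≠ L := fun h => hK (Subgroup.map_injective L.subtype_injective
      (h.trans (by rw [← MonoidHom.range_eq_map, Subgroup.range_subtype])))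
    have hYX : Y ≤ K.map L.subtype := fun y hy => ⟨⟨y, s.hYL hy⟩, hYK hy, rfl⟩
    set Z := ((pCoreOf p (K.map L.subtype)).subgroupOf L).subgroupOf K
    haveI : Z.Normal := ⟨fun n hn g =>
      (Subgroup.mem_normalizer_iff.1 (le_normalizer_pCoreOf (K.map L.subtype) ⟨(g : L), g.2, rfl⟩) _).1 hn⟩
    have hZp : IsPGroup p Z := ((pCoreOf_isPGroup _).comap_subtype (K := L)).comap_subtype (K := K)
    haveI : Group.IsNilpotent Z := hZp.isNilpotent
    exact Solv.isSubnormal_of_le_normal (N := Z) (fun y hy => s.proper hXL hYX hXne hy)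
      (Solv.isSubnormal_of_isNilpotent _)
  have hne : Y.subgroupOf L ≠ ⊤ := fun h => hns (h ▸ Subgroup.IsSubnormal.top)
  obtain ⟨M, hM, hYM⟩ := (eq_top_or_exists_le_coatom _).resolve_left hne
  have hsub : (M.map L.subtype).subgroupOf L = M := by
    rw [Subgroup.subgroupOf, Subgroup.comap_map_eq_self_of_injective L.subtype_injective]
  refine ⟨M.map L.subtype, fun y hy => ⟨⟨y, s.hYL hy⟩, hYM hy, rfl⟩, ?_, by rwa [hsub], fun X hXL hYX hX => ?_⟩
  · refine lt_of_le_of_ne (Subgroup.map_subtype_le _) fun h => hM.1 ?_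
    rw [← hsub, h, Subgroup.subgroupOf_self]
  · have h1 : X.subgroupOf L ≠ ⊤ := fun h => hX (le_antisymm hXL (Subgroup.subgroupOf_eq_top.1 h))
    obtain ⟨M', hM', hXM⟩ := (eq_top_or_exists_le_coatom _).resolve_left h1
    have h2 := Solv.zipper _ hb hns M' M hM' hM (le_trans (fun y hy => hYX hy) hXM) hYM
    intro x hx
    exact ⟨⟨x, hXL hx⟩, h2 ▸ hXM hx, rfl⟩

/-- `L` is generated by `Y` and a conjugate outside the maximal subgroup. -/
theorem Setup.exists_pair (s : Setup p Y P H L) : ∃ h ∈ L, Y ⊔ cj Y h = L := by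
  obtain ⟨L₀, hY0, hlt, -, hmax⟩ := s.exists_max
  have hnorm : L ⊓ Subgroup.normalizer (L₀ : Set G) ≠ L := by
    intro h
    haveI : (L₀.subgroupOf L).Normal :=
      (Subgroup.normal_subgroupOf_iff_le_normalizer hlt.le).2 (h.ge.trans inf_le_right)
    have h1 : (⊤ : Subgroup L) ≤ L₀.subgroupOf L :=
      s.closure_top ▸ Subgroup.normalClosure_le_normal (fun y hy => hY0 hy)
    exact hlt.ne (le_antisymm hlt.le (Subgroup.subgroupOf_eq_top.1 (top_le_iff.1 h1)))
  obtain ⟨h, hh, hh0⟩ := SetLike.exists_of_lt hlt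
  refine ⟨h, hh, by_contra fun hne => ?_⟩
  have hYh : cj Y h ≤ L := (cj_mono s.hYL h).trans (cj_eq_self_of_mem hh).le
  have h1 : cj Y h ≤ L₀ := le_sup_right.trans (hmax _ (sup_le s.hYL hYh) le_sup_left hne)
  have hne2 : cj L₀ h⁻¹ ≠ L := fun e => hlt.ne (Subgroup.eq_of_le_of_card_ge hlt.le
    (by rw [← e, card_cj]))
  have h2 := hmax (cj L₀ h⁻¹) ((cj_mono hlt.le _).trans (cj_eq_self_of_mem (inv_mem hh)).le)
    (cj_le_iff.1 h1) hne2
  have h3 : h⁻¹ ∈ L ⊓ Subgroup.normalizer (L₀ : Set G) :=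
    Subgroup.mem_inf.2 ⟨inv_mem hh, mem_normalizer_of_cj_le h2⟩
  have h4 := hmax _ inf_le_left (le_inf s.hYL (hY0.trans Subgroup.le_normalizer)) hnorm h3
  exact hh0 (by simpa using inv_mem h4)

theorem Setup.gen_conj (s : Setup p Y P H L) {h : G} (hh : h ∈ L) : L ⊔ cj P h = H := by
  have := congrArg (fun X => cj X h) s.gen_P
  simpa only [cj_sup, cj_eq_self_of_mem hh, cj_eq_self_of_mem (s.hLH hh)] using this

theorem Setup.pair_gen (s : Setup p Y P H L) {h : G} (hL : Y ⊔ cj Y h = L) : cj Y h ⊔ P = H := by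
  rw [← s.gen_P, ← hL]
  exact le_antisymm (sup_le (le_sup_of_le_left le_sup_right) le_sup_right)
    (sup_le (sup_le (le_sup_of_le_right s.hYP) le_sup_left) le_sup_right)

theorem Setup.Y_comm (s : Setup p Y P H L) : Y ≤ Subgroup.centralizer (Y : Set G) := s.hYP.trans s.hPC

/-- An element of `(Y ⊓ E)^h` centralizing `Y` lies in `Y ⊓ E`. -/
theorem Setup.fix_mem (s : Setup p Y P H L) {h x : G} (hh : h ∈ L) (hL : Y ⊔ cj Y h = L)
    (hx : x ∈ cj (Y ⊓ pCoreOf p H) h) (hxC : x ∈ Subgroup.centralizer (Y : Set G)) :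
    x ∈ Y ⊓ pCoreOf p H := by
  have hxY : x ∈ cj Y h := cj_mono inf_le_left h hx
  have hH : H ≤ Subgroup.centralizer (Subgroup.zpowers x : Set G) := by
    rw [← s.gen_conj hh, ← hL]
    refine sup_le (sup_le ?_ ?_) ?_ <;> rw [Subgroup.le_centralizer_iff, Subgroup.zpowers_le]
    · exact hxC
    · have := cj_mono s.Y_comm h hxY
      rwa [cj_centralizer] at this
    · have := cj_mono (Subgroup.le_centralizer_iff.1 s.hPC) h hxY
      rwa [cj_centralizer] at this
  have hc : x * h = h * x := Subgroup.mem_centralizer_iff.1 (hH (s.hLH hh)) x (Subgroup.mem_zpowers x)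
  have hx' := mem_cj.1 hx
  rwa [mul_assoc, hc, ← mul_assoc, inv_mul_cancel, one_mul] at hx'

/-- A conjugate of `Y` in `L` commuting with `Y` has the same intersection with the core. -/
theorem Setup.mem_normalizer_inter (s : Setup p Y P H L) {u : G} (hu : u ∈ L)
    (huC : cj Y u ≤ Subgroup.centralizer (Y : Set G)) :
    u ∈ Subgroup.normalizer ((Y ⊓ pCoreOf p H : Subgroup G) : Set G) := by
  obtain ⟨h, hh, hL⟩ := s.exists_pair
  set E := pCoreOf p H
  set Yd := Y ⊓ E
  have hhH := s.hLH hh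
  have hYdh : cj Yd h ≤ E := (cj_mono inf_le_right h).trans (cj_eq_self (s.core_norm hhH)).le
  have h1 : ⁅Y, E⁆ ≤ Yd := by simpa only [cj_one] using s.comm_core (one_mem H)
  have hnF : ∀ (X : Subgroup G) (D : Subgroup G), ⁅X, E⁆ ≤ D → D ≤ Yd ⊔ cj Yd h →
      X ≤ Subgroup.normalizer ((Yd ⊔ cj Yd h : Subgroup G) : Set G) := fun X D hX hD =>
    Subgroup.le_normalizer_iff_commutator_le_right.2
      ((Subgroup.commutator_mono le_rfl (sup_le inf_le_right hYdh)).trans (hX.trans hD))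
  have hLF : L ≤ Subgroup.normalizer ((Yd ⊔ cj Yd h : Subgroup G) : Set G) := by
    rw [← hL]
    exact sup_le (hnF _ _ h1 le_sup_left) (hnF _ _ (s.comm_core hhH) le_sup_right)
  refine mem_normalizer_of_cj_le fun x hx => ?_
  have hxF : x ∈ Yd ⊔ cj Yd h := (cj_mono le_sup_left u).trans (cj_eq_self (hLF hu)).le hx
  have hxC : x ∈ Subgroup.centralizer (Y : Set G) := huC (cj_mono inf_le_left u hx)
  have hnor : cj Yd h ≤ Subgroup.normalizer (Yd : Set G) := by
    refine hYdh.trans (le_trans (le_inf ?_ le_rfl) (Subgroup.inf_normalizer_le_normalizer_inf.trans' (inf_le_inf_left _ Subgroup.le_normalizer)))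
    simpa only [cj_one] using s.core_le_normalizer (one_mem H)
  obtain ⟨a, ha, b, hb, rfl⟩ : x ∈ (Yd : Set G) * (cj Yd h : Set G) := by
    rw [← Subgroup.coe_mul_of_right_le_normalizer_left _ _ hnor]; exact hxF
  have hbC : b ∈ Subgroup.centralizer (Y : Set G) := by
    have := mul_mem (inv_mem (s.Y_comm (inf_le_left (b := E) ha))) hxC
    rwa [← mul_assoc, inv_mul_cancel, one_mul] at this
  exact mul_mem ha (s.fix_mem hh hL hb hbC)

/-- A subgroup of `H` all whose `p'`-elements centralize the core is a `p`-group. -/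
theorem Setup.isPGroup_of_fix (s : Setup p Y P H L) {K : Subgroup G} (hK : K ≤ H)
    (h : ∀ x ∈ K, ¬ p ∣ orderOf x → x ∈ Subgroup.centralizer (pCoreOf p H : Set G)) : IsPGroup p K := by
  intro x
  obtain ⟨k, m, hm, hkm⟩ := Nat.exists_eq_pow_mul_and_not_dvd (orderOf_pos (x : G)).ne' p hp.out.ne_one
  refine ⟨k, Subtype.ext ?_⟩
  have ho : orderOf ((x : G) ^ p ^ k) = m := by
    rw [orderOf_pow_of_dvd (pow_ne_zero _ hp.out.ne_zero) (hkm ▸ dvd_mul_right _ _), hkm,
      Nat.mul_div_cancel_left _ (pow_pos hp.out.pos k)]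
  have hE := s.hchar ⟨hK (pow_mem x.2 _), h _ (pow_mem x.2 _) (ho ▸ hm)⟩
  obtain ⟨j, hj⟩ := pCoreOf_isPGroup (p := p) H ⟨_, hE⟩
  have hj' : ((x : G) ^ p ^ k) ^ p ^ j = 1 := congrArg Subtype.val hj
  have h1 := pow_gcd_eq_one.2
    ⟨hj', show ((x : G) ^ p ^ k) ^ m = 1 by rw [← ho]; exact pow_orderOf_eq_one _⟩
  rw [((hp.out.coprime_iff_not_dvd.2 hm).pow_left j), pow_one] at h1
  exact h1

/-- `[E, P]` centralizes `Y`. -/
theorem Setup.comm_P (s : Setup p Y P H L) : ⁅pCoreOf p H, P⁆ ≤ Subgroup.centralizer (Y : Set G) := by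
  set E := pCoreOf p H with hE
  set Yd := Y ⊓ E with hYd
  have h1 : ⁅Y, E⁆ ≤ Yd := by simpa only [cj_one] using s.comm_core (one_mem H)
  have hPYd : P ≤ Subgroup.centralizer (Yd : Set G) := s.hPC.trans (Subgroup.centralizer_le inf_le_left)
  refine Subgroup.commutator_eq_bot_iff_le_centralizer.1
      (Subgroup.commutator_commutator_eq_bot_of_rotate ?_ ?_)
  · rw [Subgroup.commutator_eq_bot_iff_le_centralizer.2 s.hPC, Subgroup.commutator_bot_left]
  · exact le_bot_iff.1 ((Subgroup.commutator_mono h1 le_rfl).trans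
      (Subgroup.commutator_eq_bot_iff_le_centralizer.2 (Subgroup.le_centralizer_iff.1 hPYd)).le)

/-- `H` acts trivially on the core modulo `C(Y^h) (Y ⊓ E)`. -/
theorem Setup.core_act (s : Setup p Y P H L) {h : G} (hh : h ∈ L) (hL : Y ⊔ cj Y h = L) :
    H ≤ act (pCoreOf p H) ((pCoreOf p H ⊓ Subgroup.centralizer (cj Y h : Set G)) ⊔ (Y ⊓ pCoreOf p H)) := by
  have hhH := s.hLH hh
  have h2 := s.comm_P
  set E := pCoreOf p H with hE
  set Yd := Y ⊓ E with hYd
  have h1 : ⁅Y, E⁆ ≤ Yd := by simpa only [cj_one] using s.comm_core (one_mem H)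
  set K := (E ⊓ Subgroup.centralizer (cj Y h : Set G)) ⊔ Yd with hK
  have hKE : K ≤ E := sup_le inf_le_left inf_le_right
  have hgen : ∀ X ≤ H, ⁅X, E⁆ ≤ K → X ≤ act E K := fun X hX hc =>
    le_act (hX.trans s.core_norm) (Subgroup.le_normalizer_iff_commutator_le_right.2
      ((Subgroup.commutator_mono le_rfl hKE).trans hc)) hc
  show H ≤ act E K
  conv_lhs => rw [← s.gen_conj hh, ← hL]
  refine sup_le (sup_le ?_ ?_) ?_
  · exact hgen _ (s.hYL.trans s.hLH) (h1.trans le_sup_right)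
  · refine hgen _ ((cj_mono (s.hYL.trans s.hLH) h).trans (cj_eq_self_of_mem hhH).le)
      ((s.comm_core hhH).trans (le_sup_of_le_left (le_inf ?_ ?_)))
    · exact (cj_mono inf_le_right h).trans (cj_eq_self (s.core_norm hhH)).le
    · rw [← cj_centralizer]
      exact cj_mono (inf_le_left.trans s.Y_comm) h
  · refine hgen _ ((cj_mono s.hPH h).trans (cj_eq_self_of_mem hhH).le) (le_sup_of_le_left ?_)
    calc ⁅cj P h, E⁆ = cj ⁅E, P⁆ h := by
          rw [cj_commutator, cj_eq_self (s.core_norm hhH), Subgroup.commutator_comm]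
      _ ≤ cj (E ⊓ Subgroup.centralizer (Y : Set G)) h := ?_
      _ = E ⊓ Subgroup.centralizer (cj Y h : Set G) := by
          rw [cj_inf, cj_centralizer, cj_eq_self (s.core_norm hhH)]
    exact cj_mono (le_inf (Subgroup.le_normalizer_iff_commutator_le_left.1 (s.hPH.trans s.core_norm)) h2) h

/-- An element of `L` normalizing `Y ⊓ E` normalizes `Y`. -/
theorem Setup.mem_normalizer_Y (s : Setup p Y P H L) {u : G} (hu : u ∈ L)
    (huY : u ∈ Subgroup.normalizer ((Y ⊓ pCoreOf p H : Subgroup G) : Set G)) :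
    u ∈ Subgroup.normalizer (Y : Set G) := by
  obtain ⟨h, hh, hL⟩ := s.exists_pair
  set E := pCoreOf p H with hE
  set Yd := Y ⊓ E with hYd
  have hhH := s.hLH hh
  have hEY : E ≤ Subgroup.normalizer (Y : Set G) := by
    simpa only [cj_one] using s.core_le_normalizer (one_mem H)
  have hEYd : E ≤ Subgroup.normalizer (Yd : Set G) :=
    le_trans (le_inf hEY Subgroup.le_normalizer) Subgroup.inf_normalizer_le_normalizer_inf
  set CL := E ⊓ Subgroup.centralizer (L : Set G) with hCL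
  set J := CL ⊔ Yd with hJ
  have hJE : J ≤ E := sup_le inf_le_left inf_le_right
  -- `[E, P] ≤ J`
  have h1 : ⁅Y, E⁆ ≤ Yd := by simpa only [cj_one] using s.comm_core (one_mem H)
  have hPYd : P ≤ Subgroup.centralizer (Yd : Set G) := s.hPC.trans (Subgroup.centralizer_le inf_le_left)
  have hHK := s.core_act hh hL
  have h2 : ⁅E, P⁆ ≤ Subgroup.centralizer (Y : Set G) := s.comm_P
  set K := (E ⊓ Subgroup.centralizer (cj Y h : Set G)) ⊔ Yd with hK
  have hPJ : ⁅P, E⁆ ≤ J := by
    intro x hx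
    have hxC : x ∈ Subgroup.centralizer (Y : Set G) := h2 (Subgroup.commutator_comm_le P E hx)
    have hxK : x ∈ K := (Subgroup.commutator_le.2 fun a ha e he => (hHK (s.hPH ha)).2.2 e he) hx
    have hn : Yd ≤ Subgroup.normalizer ((E ⊓ Subgroup.centralizer (cj Y h : Set G) : Subgroup G) : Set G) :=
      le_trans (le_inf (inf_le_right.trans Subgroup.le_normalizer)
        (inf_le_right.trans ((s.core_le_normalizer hhH).trans
          (Red.le_normalizer_centralizer le_rfl)))) Subgroup.inf_normalizer_le_normalizer_inf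
    obtain ⟨c, hc, a, ha, rfl⟩ : x ∈ ((E ⊓ Subgroup.centralizer (cj Y h : Set G) : Subgroup G) : Set G) * (Yd : Set G) := by
      rw [← Subgroup.coe_mul_of_right_le_normalizer_left _ _ hn]; exact hxK
    have hcC : c ∈ Subgroup.centralizer (Y : Set G) := by
      have := mul_mem hxC (inv_mem (s.Y_comm (inf_le_left (b := E) ha)))
      rwa [mul_inv_cancel_right] at this
    refine Subgroup.mul_mem_sup (Subgroup.mem_inf.2 ⟨hc.1, ?_⟩) ha
    rw [← hL]
    exact mem_centralizer_sup hcC hc.2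
  have hPnJ : P ≤ Subgroup.normalizer (J : Set G) :=
    Subgroup.le_normalizer_iff_commutator_le_right.2 ((Subgroup.commutator_mono le_rfl hJE).trans hPJ)
  have hPnYd : P ≤ Subgroup.normalizer (Yd : Set G) := hPYd.trans (Subgroup.centralizer_le_normalizer _)
  have huE : u ∈ Subgroup.normalizer (E : Set G) := s.core_norm (s.hLH hu)
  have hucom : ∀ c ∈ CL, u * c = c * u := fun c hc => Subgroup.mem_centralizer_iff.1 hc.2 u hu
  have huJ : u ∈ Subgroup.normalizer (J : Set G) := by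
    refine mem_normalizer_of_cj_le ?_
    rw [hJ, cj_sup, cj_eq_self huY]
    refine sup_le_sup_right ?_ _
    rintro _ ⟨c, hc, rfl⟩
    show u * c * u⁻¹ ∈ CL
    rwa [hucom c hc, mul_inv_cancel_right]
  have huA : u ∈ act J Yd := by
    refine ⟨huJ, huY, fun x hx => ?_⟩
    obtain ⟨c, hc, a, ha, rfl⟩ : x ∈ (CL : Set G) * (Yd : Set G) := by
      have hn : Yd ≤ Subgroup.normalizer (CL : Set G) := by
        refine Subgroup.le_normalizer_iff_commutator_le_right.2 (le_trans ?_ (bot_le : ⊥ ≤ CL))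
        refine (Subgroup.commutator_mono (inf_le_left : Yd ≤ Y) le_rfl).trans
          (Subgroup.commutator_eq_bot_iff_le_centralizer.2 ?_).le
        rw [Subgroup.le_centralizer_iff]
        exact inf_le_right.trans (Subgroup.centralizer_le s.hYL)
      rw [← Subgroup.coe_mul_of_right_le_normalizer_left _ _ hn]; exact hx
    have e : ⁅u, c * a⁆ = c * ⁅u, a⁆ * c⁻¹ := by
      rw [commutatorElement_def, ← mul_assoc u c a, hucom c hc, commutatorElement_def]; group
    rw [e]
    refine (Subgroup.mem_normalizer_iff.1 (hEYd hc.1) _).1 (mul_mem ?_ (inv_mem ha))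
    exact (Subgroup.mem_normalizer_iff.1 huY a).1 ha
  -- the kernel on the series
  set K₀ := H ⊓ act E J ⊓ act J Yd ⊓ Subgroup.centralizer (Yd : Set G) with hK0
  have hK0n : ∀ n ∈ H, n ∈ Subgroup.normalizer (J : Set G) → n ∈ Subgroup.normalizer (Yd : Set G) →
      cj K₀ n ≤ K₀ := fun n hn hnJ hnY => by
    rw [hK0, cj_inf, cj_inf, cj_inf, cj_eq_self_of_mem hn, cj_centralizer, cj_eq_self hnY]
    exact inf_le_inf_right _ (inf_le_inf (inf_le_inf_left _ (cj_act_le (s.core_norm hn) hnJ))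
      (cj_act_le hnJ hnY))
  have hK0p : IsPGroup p K₀ := by
    refine s.isPGroup_of_fix (inf_le_left.trans (inf_le_left.trans inf_le_left)) fun x hx hn => ?_
    exact fix_step (pCoreOf_isPGroup H) hJE hx.1.1.2
      (fix_step ((pCoreOf_isPGroup H).to_le hJE) le_sup_right hx.1.2 hx.2 hn) hn
  set R := K₀ ⊔ P with hR
  have hRp : IsPGroup p R := hK0p.to_sup_of_normal_left' s.hPp
    fun q hq => mem_normalizer_of_cj_le (hK0n q (s.hPH hq) (hPnJ hq) (hPnYd hq))
  have hPA : P ≤ act E J := le_act (s.hPH.trans s.core_norm) hPnJ hPJ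
  have hPR : cj P u ≤ R := by
    rintro _ ⟨q, hq, rfl⟩
    show u * q * u⁻¹ ∈ R
    have h3 : u * q * u⁻¹ * q⁻¹ ∈ K₀ := by
      refine Subgroup.mem_inf.2 ⟨Subgroup.mem_inf.2 ⟨Subgroup.mem_inf.2 ⟨mul_mem (mul_mem (mul_mem (s.hLH hu)
        (s.hPH hq)) (inv_mem (s.hLH hu))) (inv_mem (s.hPH hq)), ?_⟩, ?_⟩, ?_⟩
      · exact mul_mem (cj_act_le huE huJ ⟨q, hPA hq, rfl⟩) (inv_mem (hPA hq))
      · have h4 : q * u⁻¹ * q⁻¹ ∈ act J Yd :=
          cj_act_le (hPnJ hq) (hPnYd hq) ⟨u⁻¹, inv_mem huA, rfl⟩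
        have h5 := mul_mem huA h4
        rwa [show u * (q * u⁻¹ * q⁻¹) = u * q * u⁻¹ * q⁻¹ by group] at h5
      · have h4 := cj_mono hPYd u ⟨q, hq, rfl⟩
        rw [cj_centralizer, cj_eq_self huY] at h4
        exact mul_mem h4 (inv_mem (hPYd hq))
    have h6 := mul_mem (Subgroup.mem_sup_left (T := P) h3) (Subgroup.mem_sup_right (S := K₀) hq)
    rwa [inv_mul_cancel_right] at h6
  refine s.hNR R hRp le_sup_right (mem_normalizer_of_cj_le ?_)
  rw [hR, cj_sup]
  exact sup_le ((hK0n u (s.hLH hu) huJ huY).trans le_sup_left) hPR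

/-- Every `p`-subgroup of `L` over `Y` normalizes `Y`. -/
theorem Setup.pgroup_le_normalizer (s : Setup p Y P H L) {U : Subgroup G} (hU : IsPGroup p U)
    (hUL : U ≤ L) (hYU : Y ≤ U) : U ≤ Subgroup.normalizer (Y : Set G) := by
  by_contra hle
  set V := U ⊓ Subgroup.normalizer (Y : Set G) with hV
  obtain ⟨g, hg, hgV⟩ := SetLike.exists_of_lt
    (SylIn.normalizer_growth (inf_le_left : V ≤ U) (fun h => hle (h ▸ inf_le_right)) hU)
  have hYV : Y ≤ V := le_inf hYU Subgroup.le_normalizer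
  have hgY : cj Y g ≤ Subgroup.normalizer (Y : Set G) :=
    (cj_mono hYV g).trans ((cj_eq_self hg.2).le.trans inf_le_right)
  have hYg : Y ≤ Subgroup.normalizer (cj Y g : Set G) := by
    rw [← cj_normalizer]
    exact hYV.trans ((cj_eq_self hg.2).ge.trans (cj_mono inf_le_right g))
  exact hgV ⟨hg.1, s.mem_normalizer_Y (hUL hg.1) (s.mem_normalizer_inter (hUL hg.1) (s.hasym g hYg hgY))⟩

/-- Every proper subgroup of `L` over `Y` normalizes `Y`. -/
theorem Setup.le_normalizer_of_ne (s : Setup p Y P H L) {X : Subgroup G} (hX : X ≤ L) (hYX : Y ≤ X)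
    (hne : X ≠ L) : X ≤ Subgroup.normalizer (Y : Set G) := by
  intro u hu
  set Z := pCoreOf p X
  have hYZ : Y ≤ Z := s.proper hX hYX hne
  have hZN : Z ≤ Subgroup.normalizer (Y : Set G) :=
    s.pgroup_le_normalizer (pCoreOf_isPGroup X) ((pCoreOf_le X).trans hX) hYZ
  have hZu : cj Z u = Z := cj_eq_self (le_normalizer_pCoreOf X hu)
  refine s.mem_normalizer_Y (hX hu) (s.mem_normalizer_inter (hX hu) (s.hasym u ?_ ?_))
  · rw [← cj_normalizer]
    exact hYZ.trans (hZu.ge.trans (cj_mono hZN u))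
  · exact (cj_mono hYZ u).trans (hZu.le.trans hZN)

theorem Setup.not_le_normalizer (s : Setup p Y P H L) : ¬ L ≤ Subgroup.normalizer (Y : Set G) := fun h =>
  s.hYO (le_pCoreOf s.hYL h s.isPGroup_Y)

theorem Setup.pair_of_not_mem (s : Setup p Y P H L) {h : G} (hh : h ∈ L)
    (hn : h ∉ Subgroup.normalizer (Y : Set G)) : Y ⊔ cj Y h = L := by
  by_contra hne
  have hX : Y ⊔ cj Y h ≤ L := sup_le s.hYL ((cj_mono s.hYL h).trans (cj_eq_self_of_mem hh).le)
  set N := L ⊓ Subgroup.normalizer (Y : Set G) with hN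
  have hNL : N ≠ L := fun e => s.not_le_normalizer (e.ge.trans inf_le_right)
  have h1 : cj Y h ≤ N :=
    le_sup_right.trans (le_inf hX (s.le_normalizer_of_ne hX le_sup_left hne))
  have h2 : cj N h⁻¹ ≤ L := (cj_mono inf_le_left _).trans (cj_eq_self_of_mem (inv_mem hh)).le
  have hne2 : cj N h⁻¹ ≠ L := fun e => hNL (Subgroup.eq_of_le_of_card_ge inf_le_left
    (by rw [← e, card_cj]))
  have h3 : cj N h⁻¹ ≤ N := le_inf h2 (s.le_normalizer_of_ne h2 (cj_le_iff.1 h1) hne2)
  -- `h⁻¹` normalizes `N`, and `L ⊓ N(N)` is proper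
  have h4 : L ⊓ Subgroup.normalizer (N : Set G) ≠ L := by
    intro e
    haveI : (N.subgroupOf L).Normal :=
      (Subgroup.normal_subgroupOf_iff_le_normalizer inf_le_left).2 (e.ge.trans inf_le_right)
    have h5 : (⊤ : Subgroup L) ≤ N.subgroupOf L := s.closure_top ▸
      Subgroup.normalClosure_le_normal (fun y hy => ⟨s.hYL hy, Subgroup.le_normalizer hy⟩)
    exact hNL (le_antisymm inf_le_left (Subgroup.subgroupOf_eq_top.1 (top_le_iff.1 h5)))
  have h5 := s.le_normalizer_of_ne inf_le_left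
    (le_inf s.hYL ((le_inf s.hYL Subgroup.le_normalizer : Y ≤ N).trans Subgroup.le_normalizer)) h4
    (Subgroup.mem_inf.2 ⟨inv_mem hh, mem_normalizer_of_cj_le h3⟩)
  exact hn (by simpa using inv_mem h5)

/-- `Y`-minimality, with the normalizer as unique maximal subgroup. -/
theorem Setup.minimalOver (s : Setup p Y P H L) : IsMinimalOver (Y.subgroupOf L) ∧
    L ⊓ Subgroup.normalizer (Y : Set G) < L ∧
    ∀ X : Subgroup G, Y ≤ X → X < L → X ≤ L ⊓ Subgroup.normalizer (Y : Set G) := by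
  obtain ⟨L₀, hY0, hlt, hco, hmax⟩ := s.exists_max
  refine ⟨⟨s.closure_top, L₀.subgroupOf L, ⟨hco, fun y hy => hY0 hy⟩, fun M hM => ?_⟩,
    lt_of_le_of_ne inf_le_left fun e => s.not_le_normalizer (e.ge.trans inf_le_right),
    fun X hYX hX => le_inf hX.le (s.le_normalizer_of_ne hX.le hYX hX.ne)⟩
  have hne : M.map L.subtype ≠ L := fun h => hM.1.1 (Subgroup.map_injective L.subtype_injective
      (h.trans (by rw [← MonoidHom.range_eq_map, Subgroup.range_subtype])))
  have h1 := hmax _ (Subgroup.map_subtype_le _) (fun y hy => ⟨⟨y, s.hYL hy⟩, hM.2 hy, rfl⟩) hne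
  exact ((hM.1.le_iff.1 fun x hx => h1 ⟨x, hx, rfl⟩).resolve_left hco.1).symm

theorem Setup.core_le_normalizer_L (s : Setup p Y P H L) :
    pCoreOf p H ≤ Subgroup.normalizer (L : Set G) := by
  obtain ⟨h, hh, hL⟩ := s.exists_pair
  intro e he
  refine mem_normalizer_iff_cj.2 ?_
  rw [← hL, cj_sup, cj_eq_self (s.core_le_normalizer (s.hLH hh) he)]
  have := s.core_le_normalizer (one_mem H) he
  rw [cj_one] at this
  rw [cj_eq_self this]

/-- `L` has characteristic `p`. -/
theorem Setup.charP (s : Setup p Y P H L) :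
    L ⊓ Subgroup.centralizer (pCoreOf p L : Set G) ≤ pCoreOf p L := by
  set E := pCoreOf p H
  set C := L ⊓ Subgroup.centralizer (pCoreOf p L : Set G)
  have hLE : L ≤ Subgroup.normalizer (E : Set G) := s.hLH.trans s.core_norm
  have hI : L ⊓ E ≤ pCoreOf p L := le_pCoreOf inf_le_left (fun l hl => mem_normalizer_iff_cj.2
    (by rw [cj_inf, cj_eq_self_of_mem hl, cj_eq_self (hLE hl)])) (pCoreOf_isPGroup H).to_inf_right
  have hA : L ≤ act E (L ⊓ E) := le_act hLE
    (le_trans (le_inf Subgroup.le_normalizer hLE) Subgroup.inf_normalizer_le_normalizer_inf)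
    (le_inf (Subgroup.le_normalizer_iff_commutator_le_left.1 s.core_le_normalizer_L)
      (Subgroup.le_normalizer_iff_commutator_le_right.1 hLE))
  refine le_pCoreOf inf_le_left (fun l hl => mem_normalizer_iff_cj.2 ?_)
    (s.isPGroup_of_fix (inf_le_left.trans s.hLH) fun x hx hn =>
      fix_step (pCoreOf_isPGroup H) inf_le_right (hA hx.1) (Subgroup.centralizer_le hI hx.2) hn)
  rw [cj_inf, cj_eq_self_of_mem hl, cj_centralizer, cj_eq_self (le_normalizer_pCoreOf L hl)]

/-- `Y ⊓ O_p(L)` lies in the core of `H`. -/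
theorem Setup.inter_le_core (s : Setup p Y P H L) : pCoreOf p L ⊓ Y ≤ pCoreOf p H := by
  obtain ⟨h, hh, hL⟩ := s.exists_pair
  set E := pCoreOf p H
  set Yd := Y ⊓ E
  set A := pCoreOf p L
  have hhH := s.hLH hh
  have hAN : A ≤ Subgroup.normalizer (Y : Set G) := by
    have hp' : IsPGroup p ↥(A ⊔ Y) := (pCoreOf_isPGroup L).to_sup_of_normal_left' s.isPGroup_Y
      (s.hYL.trans (le_normalizer_pCoreOf L))
    exact le_sup_left.trans (s.pgroup_le_normalizer hp' (sup_le (pCoreOf_le L) s.hYL) le_sup_right)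
  have h1 : ⁅Y, E⁆ ≤ Yd := by simpa only [cj_one] using s.comm_core (one_mem H)
  set Z := Yd ⊓ Subgroup.centralizer (H : Set G)
  set EH := ⁅E, H⁆ ⊔ Z with hEH
  have hEHE : EH ≤ E := sup_le (Subgroup.le_normalizer_iff_commutator_le_left.1 s.core_norm)
    (inf_le_left.trans inf_le_right)
  set K := (E ⊓ Subgroup.centralizer (cj Y h : Set G)) ⊔ Yd
  have hHK : H ≤ act E K := s.core_act hh hL
  have hEHK : EH ≤ K := sup_le (Subgroup.commutator_le.2 fun e he x hx => by
    rw [← commutatorElement_inv]; exact inv_mem ((hHK hx).2.2 e he)) (inf_le_left.trans le_sup_right)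
  set S := H ⊓ act E EH ⊓ act EH Z ⊓ Subgroup.centralizer (Z : Set G) with hS
  have hZc : Z ≤ Subgroup.centralizer (H : Set G) := inf_le_right
  have hHZ : H ≤ Subgroup.normalizer (Z : Set G) :=
    (Subgroup.le_centralizer_iff.1 hZc).trans (Subgroup.centralizer_le_normalizer _)
  have hHEH : H ≤ Subgroup.normalizer (EH : Set G) := fun n hn => mem_normalizer_iff_cj.2 (by
    rw [hEH, cj_sup, cj_eq_self (hHZ hn), cj_commutator, cj_eq_self (s.core_norm hn), cj_eq_self_of_mem hn])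
  have hSn : H ≤ Subgroup.normalizer (S : Set G) := fun n hn => mem_normalizer_of_cj_le (by
    rw [hS, cj_inf, cj_inf, cj_inf, cj_eq_self_of_mem hn, cj_centralizer, cj_eq_self (hHZ hn)]
    exact inf_le_inf_right _ (inf_le_inf (inf_le_inf_left _ (cj_act_le (s.core_norm hn) (hHEH hn)))
      (cj_act_le (hHEH hn) (hHZ hn))))
  have hSp : IsPGroup p S := by
    refine s.isPGroup_of_fix (inf_le_left.trans (inf_le_left.trans inf_le_left)) fun x hx hn => ?_
    exact fix_step (pCoreOf_isPGroup H) hEHE hx.1.1.2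
      (fix_step ((pCoreOf_isPGroup H).to_le hEHE) le_sup_right hx.1.2 hx.2 hn) hn
  refine le_trans (fun b hb => ?_) (le_pCoreOf (inf_le_left.trans (inf_le_left.trans inf_le_left)) hSn hSp)
  have hbH : b ∈ H := s.hLH (s.hYL hb.2)
  have hbZ : b ∈ Subgroup.centralizer (Z : Set G) := Subgroup.le_centralizer_iff.1 hZc hbH
  refine ⟨⟨⟨hbH, ⟨s.core_norm hbH, hHEH hbH, fun e he => Subgroup.mem_sup_left ?_⟩⟩,
    ⟨hHEH hbH, hHZ hbH, fun x hx => ?_⟩⟩, hbZ⟩
  · rw [Subgroup.commutator_comm]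
    exact Subgroup.commutator_mem_commutator hbH he
  have hn : Yd ≤ Subgroup.normalizer ((E ⊓ Subgroup.centralizer (cj Y h : Set G) : Subgroup G) : Set G) :=
    le_trans (le_inf (inf_le_right.trans Subgroup.le_normalizer)
      (inf_le_right.trans ((s.core_le_normalizer hhH).trans
        (Red.le_normalizer_centralizer le_rfl)))) Subgroup.inf_normalizer_le_normalizer_inf
  obtain ⟨c, hc, a, ha, rfl⟩ :
      x ∈ ((E ⊓ Subgroup.centralizer (cj Y h : Set G) : Subgroup G) : Set G) * (Yd : Set G) := by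
    rw [← Subgroup.coe_mul_of_right_le_normalizer_left _ _ hn]; exact hEHK hx
  have hab : b⁻¹ * a = a * b⁻¹ :=
    (Subgroup.mem_centralizer_iff.1 (s.Y_comm (inf_le_left (b := E) ha)) _ (inv_mem hb.2))
  have e : ⁅b, c * a⁆ = ⁅b, c⁆ := by
    calc ⁅b, c * a⁆ = b * c * (a * b⁻¹) * a⁻¹ * c⁻¹ := by rw [commutatorElement_def]; group
      _ = b * c * (b⁻¹ * a) * a⁻¹ * c⁻¹ := by rw [hab]
      _ = ⁅b, c⁆ := by rw [commutatorElement_def]; group
  rw [e]
  have hfY : ⁅b, c⁆ ∈ Yd := h1 (Subgroup.commutator_mem_commutator hb.2 hc.1)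
  have hbN : b ∈ Subgroup.normalizer (cj Y h : Set G) := by
    have h6 : b ∈ cj A h := by
      rw [cj_eq_self (le_normalizer_pCoreOf L hh)]; exact hb.1
    have h7 := cj_mono hAN h h6
    rwa [cj_normalizer] at h7
  have hfC : ⁅b, c⁆ ∈ Subgroup.centralizer (cj Y h : Set G) :=
    mul_mem ((Subgroup.mem_normalizer_iff.1 (Red.le_normalizer_centralizer le_rfl hbN) c).1 hc.2) (inv_mem hc.2)
  refine Subgroup.mem_inf.2 ⟨hfY, ?_⟩
  rw [← s.pair_gen hL]
  exact mem_centralizer_sup hfC (Subgroup.le_centralizer_iff.1 s.hPC (inf_le_left (b := E) hfY))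

end Cfsg.Agent.LocalEven.AsymMin
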