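import Mathlib
import Cfsg.Agent.Lib.LocalEven.Reduced
import Cfsg.Agent.Lib.Fusion.WeakClosureFunctor
import Cfsg.Agent.Lib.Perm.Subnormalizer

/-!
`Y_L` for a subgroup `L` of the ambient group.
-/

set_option autoImplicit false

open scoped commutatorElement Pointwise

namespace Cfsg.Agent.LocalEven.Red

open Cfsg Cfsg.Agent.Fusion

variable {H : Type*} [Group H] [Finite H] {p : ℕ} [Fact p.Prime] {L : Subgroup H}

theorem le_normalizer_of_map (N : Subgroup L) [N.Normal] :
    L ≤ Subgroup.normalizer ((N.map L.subtype : Subgroup H) : Set H) := by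
  intro l hl
  refine mem_normalizer_of_cj_le ?_
  rintro _ ⟨_, ⟨n, hn, rfl⟩, rfl⟩
  exact ⟨⟨l, hl⟩ * n * ⟨l, hl⟩⁻¹, ‹N.Normal›.conj_mem n hn _, by simp⟩

theorem le_normalizer_Y (L : Subgroup H) :
    L ≤ Subgroup.normalizer ((largestPReducedOf p L : Subgroup H) : Set H) := by
  haveI : (largestPReduced p ↥L).Normal := Subgroup.sSup_normal _ fun V hV => hV.1
  exact le_normalizer_of_map _

theorem le_normalizer_centralizer {V X : Subgroup H} (h : X ≤ Subgroup.normalizer (V : Set H)) :
    X ≤ Subgroup.normalizer ((Subgroup.centralizer (V : Set H) : Subgroup H) : Set H) := fun x hx =>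
  mem_normalizer_iff_cj.2 (by rw [cj_centralizer, cj_eq_self (h hx)])

theorem Y_le_core (L : Subgroup H) : largestPReducedOf p L ≤ pCoreOf p L :=
  Subgroup.map_mono (le_pCore (largest_reduced (p := p) (L := ↥L)))

theorem core_le_centralizer_Y (L : Subgroup H) :
    pCoreOf p L ≤ Subgroup.centralizer ((largestPReducedOf p L : Subgroup H) : Set H) := by
  rintro _ ⟨x, hx, rfl⟩
  rw [Subgroup.mem_centralizer_iff]
  rintro _ ⟨y, hy, rfl⟩
  exact congrArg Subtype.val
    (Subgroup.mem_centralizer_iff.1 (core_le_centralizer (largest_reduced (p := p) (L := ↥L)) hx) y hy)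

theorem Y_le_omega (L : Subgroup H) : largestPReducedOf p L ≤
    omegaOne p (pCoreOf p L ⊓ Subgroup.centralizer ((pCoreOf p L : Subgroup H) : Set H)) := by
  intro y hy
  refine mem_omega_center.2 ⟨Y_le_core L hy,
    fun s hs => (Subgroup.mem_centralizer_iff.1 (core_le_centralizer_Y L hs) y hy).symm, ?_⟩
  obtain ⟨v, hv, rfl⟩ := hy
  rw [← map_pow, (largest_reduced (p := p) (L := ↥L)).2.1.2 v hv, map_one]

theorem closure_le_Y (L : Subgroup H)
    (hL : Subgroup.centralizer (pCore p ↥L : Set ↥L) ≤ pCore p ↥L) :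
    sylowCenterClosure p L ≤ largestPReducedOf p L := by
  refine iSup_le fun S => ?_
  intro x hx
  obtain ⟨hxS, hxc, hxp⟩ := mem_omega_center.1 hx
  obtain ⟨s, hs, rfl⟩ := hxS
  refine ⟨s, ?_, rfl⟩
  set X : Set ↥L := ((omegaOne p ((S : Subgroup ↥L) ⊓ Subgroup.centralizer ((S : Subgroup ↥L) : Set ↥L)) : Subgroup ↥L) : Set ↥L)
  have hs' : s ∈ X := mem_omega_center.2 ⟨hs, fun t ht => Subtype.ext (hxc t ⟨t, ht, rfl⟩),
    Subtype.ext (by simpa using hxp)⟩
  have hred : IsPReducedNormal p (Subgroup.normalClosure X) := by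
    refine reduced_closure S (fun y hy => ?_) fun M _ _ _ t ht => ?_
    · obtain ⟨h1, h2, h3⟩ := mem_omega_center.1 hy
      exact mem_omega_center.2 ⟨hL (Subgroup.mem_centralizer_iff.2 fun z hz => h2 z (pCore_le_sylow S hz)),
        fun z hz => h2 z (pCore_le_sylow S hz), h3⟩
    · exact Subgroup.mem_centralizer_iff.2 fun y hy =>
        ((mem_omega_center.1 hy).2.1 t (Subgroup.mem_inf.1 ht).1).symm
  exact le_largest hred (Subgroup.subset_normalClosure hs')

theorem omega_le_closure (T : Sylow p H) (hTL : (T : Subgroup H) ≤ L) :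
    omegaOne p ((T : Subgroup H) ⊓ Subgroup.centralizer (((T : Subgroup H) : Set H))) ≤
      sylowCenterClosure p L := by
  obtain ⟨S, hS⟩ := ((sylIn_top T).mono hTL le_top).exists_sylow_subgroupOf
  refine le_trans (le_of_eq ?_) (le_iSup (fun S : Sylow p ↥L =>
    omegaOne p (((S : Subgroup L).map L.subtype) ⊓
      Subgroup.centralizer (((S : Subgroup L).map L.subtype : Subgroup H) : Set H))) S)
  rw [hS, Subgroup.subgroupOf_map_subtype, inf_eq_left.2 hTL]

omit [Fact p.Prime] in
/-- A subnormal subgroup sees no `p`-subgroup modulo the centralizer of a reduced module. -/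
theorem le_centralizer_of_subnormal [Fact p.Prime] {V : Subgroup H} (hV : IsPReducedNormal p V) {M : Subgroup H}
    (hM : M.IsSubnormal) (hp : PMod p M (Subgroup.centralizer (V : Set H))) :
    M ≤ Subgroup.centralizer (V : Set H) := by
  haveI := hV.1
  obtain ⟨-, -, hC, hbot⟩ := hV
  haveI := hC
  set π := QuotientGroup.mk' (Subgroup.centralizer (V : Set H))
  have h1 : IsPGroup p (M.map π) := by
    rintro ⟨_, x, hx, rfl⟩
    obtain ⟨k, hk⟩ := hp x hx
    exact ⟨k, Subtype.ext (by
      show π x ^ p ^ k = 1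
      rw [← map_pow]; exact (QuotientGroup.eq_one_iff _).2 hk)⟩
  have h2 := Cfsg.Agent.Perm.subnormal_pgroup_le_pCore
    (hM.map (f := π) (QuotientGroup.mk'_surjective _)) h1
  rw [hbot, le_bot_iff, Subgroup.map_eq_bot_iff, QuotientGroup.ker_mk'] at h2
  exact h2

end Cfsg.Agent.LocalEven.Red
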