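import Mathlib
import Cfsg.Agent.Lib.LocalEven.ReducedOf

/-!
Comparing `Y_L` for two subgroups with the same action.
-/

set_option autoImplicit false

open scoped commutatorElement Pointwise

namespace Cfsg.Agent

open Cfsg

theorem LocalEven.Red.Y_mono_of_fac {H : Type*} [Group H] [Finite H] {p : ℕ} [Fact p.Prime]
    (T : Sylow p H) (L M : Subgroup H) (hTL : (T : Subgroup H) ≤ L) (hTM : (T : Subgroup H) ≤ M)
    (hfac : L ⊔ Subgroup.centralizer ((largestPReducedOf p M : Subgroup H) : Set H) =
      M ⊔ Subgroup.centralizer ((largestPReducedOf p M : Subgroup H) : Set H)) :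
    largestPReducedOf p M ≤ largestPReducedOf p L := by
  set Y : Subgroup H := largestPReducedOf p M
  set C := Subgroup.centralizer (Y : Set H) with hC
  have hMN := LocalEven.Red.le_normalizer_Y (p := p) M
  have hLN : L ≤ Subgroup.normalizer (Y : Set H) :=
    (le_sup_left.trans hfac.le).trans (sup_le hMN (Subgroup.centralizer_le_normalizer _))
  have hLC := LocalEven.Red.le_normalizer_centralizer hLN
  have hMC := LocalEven.Red.le_normalizer_centralizer hMN
  have hYL : Y ≤ L := ((LocalEven.Red.Y_le_core M).trans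
    (Fusion.pCoreOf_le_sylIn ((Fusion.sylIn_top T).mono hTM le_top))).trans hTL
  have hred : IsPReducedNormal p (Y.subgroupOf L) := by
    refine (LocalEven.Red.reduced_iff _).2 ⟨Subgroup.normal_subgroupOf_of_le_normalizer hLN, ?_, fun N hN hp => ?_⟩
    · have hel : IsElementaryAbelian p Y := LocalEven.Red.elementary_mono
        (LocalEven.Red.elementary_omega_center (pCoreOf p M)) (LocalEven.Red.Y_le_omega M)
      exact ⟨⟨⟨fun a b => Subtype.ext (Subtype.ext (congrArg Subtype.val
        (hel.1.is_comm.comm (⟨_, a.2⟩ : Y) ⟨_, b.2⟩) :))⟩⟩, fun a ha => Subtype.ext (hel.2 _ ha)⟩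
    · haveI := hN
      set A : Subgroup H := N.map L.subtype
      have hLA : L ≤ Subgroup.normalizer (A : Set H) := LocalEven.Red.le_normalizer_of_map N
      have hAC : A ≤ Subgroup.normalizer (C : Set H) := (Subgroup.map_subtype_le N).trans hLC
      have hpA : ∀ a ∈ A, ∃ k : ℕ, a ^ p ^ k ∈ C := by
        rintro _ ⟨a, ha, rfl⟩
        obtain ⟨k, hk⟩ := hp a ha
        refine ⟨k, Subgroup.mem_centralizer_iff.2 fun y hy => ?_⟩
        exact congrArg Subtype.val (Subgroup.mem_centralizer_iff.1 hk ⟨y, hYL hy⟩ hy)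
      have hpow : ∀ a ∈ A, ∀ c ∈ C, ∀ n : ℕ, (a * c) ^ n * (a ^ n)⁻¹ ∈ C := by
        intro a ha c hc n
        induction n with
        | zero => simp
        | succ n ih =>
          have e : (a * c) ^ (n + 1) * (a ^ (n + 1))⁻¹ =
              ((a * c) ^ n * (a ^ n)⁻¹) * (a ^ (n + 1) * c * (a ^ (n + 1))⁻¹) := by
            rw [pow_succ (a * c), pow_succ a]; group
          rw [e]
          exact mul_mem ih ((Subgroup.mem_normalizer_iff.1 (hAC (pow_mem ha _)) c).1 hc)
      set D := (A ⊔ C) ⊓ M
      have hMAC : M ≤ Subgroup.normalizer ((A ⊔ C : Subgroup H) : Set H) := by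
        refine (le_sup_left.trans hfac.ge).trans (sup_le (fun l hl => Fusion.mem_normalizer_iff_cj.2 ?_)
          (le_sup_right.trans Subgroup.le_normalizer))
        rw [Fusion.cj_sup, Fusion.cj_eq_self (hLA hl), Fusion.cj_eq_self (hLC hl)]
      haveI : (D.subgroupOf M).Normal := Subgroup.normal_subgroupOf_of_le_normalizer fun m hm =>
        Fusion.mem_normalizer_iff_cj.2 (by rw [Fusion.cj_inf, Fusion.cj_eq_self (hMAC hm), Fusion.cj_eq_self_of_mem hm])
      have hD := ((LocalEven.Red.reduced_iff _).1 (LocalEven.Red.largest_reduced (p := p) (L := ↥M))).2.2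
        (D.subgroupOf M) inferInstance fun x hx => by
          have hx' : (x : H) ∈ A ⊔ C := (Subgroup.mem_inf.1 hx).1
          rw [← SetLike.mem_coe, Subgroup.coe_mul_of_left_le_normalizer_right _ _ hAC] at hx'
          obtain ⟨a, ha, c, hc, he⟩ := hx'
          obtain ⟨k, hk⟩ := hpA a ha
          refine ⟨k, Subgroup.mem_centralizer_iff.2 fun y hy => Subtype.ext ?_⟩
          have h1 : (x : H) ^ p ^ k ∈ C := by
            rw [← he]
            have := mul_mem (hpow a ha c hc (p ^ k)) hk
            simpa using this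
          exact Subgroup.mem_centralizer_iff.1 h1 y ⟨y, hy, rfl⟩
      intro n hn
      have hn' : (n : H) ∈ M ⊔ C := hfac.le (Subgroup.mem_sup_left n.2)
      rw [← SetLike.mem_coe, Subgroup.coe_mul_of_left_le_normalizer_right _ _ hMC] at hn'
      obtain ⟨m, hm, c, hc, he⟩ := hn'
      have hmD : m ∈ D := by
        refine Subgroup.mem_inf.2 ⟨?_, hm⟩
        rw [show m = (n : H) * c⁻¹ by rw [← he]; simp]
        exact mul_mem (Subgroup.mem_sup_left ⟨n, hn, rfl⟩) (Subgroup.mem_sup_right (inv_mem hc))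
      have hmC : m ∈ C := Subgroup.mem_centralizer_iff.2 (by
        rintro _ ⟨y, hy, rfl⟩
        exact congrArg Subtype.val (Subgroup.mem_centralizer_iff.1 (hD (show (⟨m, hm⟩ : ↥M) ∈ D.subgroupOf M from hmD)) y hy))
      have hnC : (n : H) ∈ C := he ▸ mul_mem hmC hc
      exact Subgroup.mem_centralizer_iff.2 fun y hy => Subtype.ext (Subgroup.mem_centralizer_iff.1 hnC y hy)
  intro y hy
  exact ⟨⟨y, hYL hy⟩, LocalEven.Red.le_largest hred hy, rfl⟩

end Cfsg.Agent
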