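import Cfsg.Agent.Lib.LocalEven.ReducedFac
import Cfsg.Agent.Lib.LocalEven.PIrred
import Cfsg.Agent.S2824

/-!
Existence of subgroups with the basic property.
-/

set_option autoImplicit false
set_option maxHeartbeats 1000000

open scoped commutatorElement Pointwise

namespace Cfsg.Agent.LocalEven.Basic

open Cfsg Cfsg.Agent.Fusion

variable {H : Type*} [Group H] [Finite H] {p : ℕ} [Fact p.Prime]

theorem centralizer_subtype {L : Subgroup H} (h : L ∈ charPSubgroups p H) :
    Subgroup.centralizer (pCore p ↥L : Set ↥L) ≤ pCore p ↥L := by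
  intro x hx
  obtain ⟨y, hy, e⟩ := h.2 (show (x : H) ∈ Subgroup.centralizer (((pCore p ↥L).map L.subtype : Subgroup H) : Set H) by
    rw [Subgroup.mem_centralizer_iff]
    rintro _ ⟨z, hz, rfl⟩
    exact congrArg Subtype.val (Subgroup.mem_centralizer_iff.1 hx z hz))
  exact Subtype.ext e ▸ hy

theorem core_le_sylow (T : Sylow p H) {L : Subgroup H} (hTL : (T : Subgroup H) ≤ L) :
    pCoreOf p L ≤ (T : Subgroup H) :=
  pCoreOf_le_sylIn ((sylIn_top T).mono hTL le_top)

theorem core_antitone (T : Sylow p H) {A B : Subgroup H} (hTA : (T : Subgroup H) ≤ A) (hAB : A ≤ B) :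
    pCoreOf p B ≤ pCoreOf p A :=
  le_pCoreOf ((core_le_sylow T (hTA.trans hAB)).trans hTA) (hAB.trans (le_normalizer_pCoreOf B))
    (pCoreOf_isPGroup B)

theorem charP_of_le (T : Sylow p H) {A B : Subgroup H} (hTA : (T : Subgroup H) ≤ A) (hAB : A ≤ B)
    (hB : B ∈ charPSubgroups p H) : A ∈ charPSubgroups p H := by
  have h := core_antitone T hTA hAB
  refine ⟨fun h0 => hB.1 ?_, (Subgroup.centralizer_le h).trans (hB.2.trans h)⟩
  rw [pCoreOf, pCoreOf, h0, Subgroup.map_bot, le_bot_iff,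
    Subgroup.map_eq_bot_iff_of_injective _ B.subtype_injective] at h
  exact h

theorem Y_le_of_le (T : Sylow p H) {A B : Subgroup H} (hTA : (T : Subgroup H) ≤ A) (hAB : A ≤ B)
    (hB : B ∈ charPSubgroups p H) : largestPReducedOf p A ≤ largestPReducedOf p B := by
  have hXA : largestPReducedOf p A ≤ A := Subgroup.map_subtype_le _
  obtain ⟨S, hS⟩ := ((sylIn_top T).mono (hTA.trans hAB) le_top).exists_sylow_subgroupOf
  have hred : IsPReducedNormal p (Subgroup.normalClosure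
      (((largestPReducedOf p A).subgroupOf B : Subgroup ↥B) : Set ↥B)) := by
    refine Red.reduced_closure S (fun x hx => ?_) fun N hN _ hp => ?_
    · have hc : ∀ z ∈ pCore p ↥B, z * x = x * z := fun z hz => Subtype.ext
        (Subgroup.mem_centralizer_iff.1 (Red.core_le_centralizer_Y A (core_antitone T hTA hAB ⟨z, hz, rfl⟩))
          x hx).symm
      exact mem_omega_center.2 ⟨centralizer_subtype hB (Subgroup.mem_centralizer_iff.2 hc), hc,
        Subtype.ext (by simpa using (mem_omega_center.1 (Red.Y_le_omega A hx)).2.2)⟩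
    · haveI := hN
      haveI : (N.comap (Subgroup.inclusion hAB)).Normal := inferInstance
      have h1 := ((Red.reduced_iff _).1 (Red.largest_reduced (p := p) (L := ↥A))).2.2
        (N.comap (Subgroup.inclusion hAB)) inferInstance fun a ha => by
          obtain ⟨k, hk⟩ := hp _ ha
          refine ⟨k, Subgroup.mem_centralizer_iff.2 fun y hy => Subtype.ext ?_⟩
          have h3 := congrArg Subtype.val (Subgroup.mem_centralizer_iff.1 hk ⟨y, hAB y.2⟩
            (Subgroup.subset_normalClosure (show (⟨y, hAB y.2⟩ : ↥B) ∈ _ from ⟨y, hy, rfl⟩)))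
          simpa using h3
      intro t ht
      obtain ⟨htS, htN⟩ := Subgroup.mem_inf.1 ht
      rw [hS, Subgroup.mem_subgroupOf] at htS
      refine Subgroup.mem_centralizer_iff.2 fun x hx => ?_
      obtain ⟨y, hy, e⟩ := hx
      have h2 := Subgroup.mem_centralizer_iff.1 (h1 (show (⟨t, hTA htS⟩ : ↥A) ∈ _ from htN)) y hy
      refine Subtype.ext ?_
      simp only [Subgroup.coe_mul]
      change (y : H) = (x : H) at e
      rw [← e]
      exact congrArg Subtype.val h2
  intro x hx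
  exact ⟨⟨x, hAB (hXA hx)⟩, Red.le_largest hred (Subgroup.subset_normalClosure hx), rfl⟩

theorem inf_sup_centralizer {A C Z : Subgroup H} (hA : A ≤ Subgroup.normalizer (C : Set H)) (hCZ : C ≤ Z) :
    (A ⊔ C) ⊓ Z ≤ (A ⊓ Z) ⊔ C := by
  intro x hx'
  obtain ⟨hx, hxZ⟩ := Subgroup.mem_inf.1 hx'
  rw [← SetLike.mem_coe, Subgroup.coe_mul_of_left_le_normalizer_right _ _ hA] at hx
  obtain ⟨a, ha, c, hc, rfl⟩ := hx
  refine mul_mem (Subgroup.mem_sup_left ⟨ha, ?_⟩) (Subgroup.mem_sup_right hc)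
  have := mul_mem hxZ (inv_mem (hCZ hc))
  simpa using this

/-- The basic property: `M` and `Ls`. -/
theorem exists_basic (hH : IsOfParabolicCharacteristic p H) (T : Sylow p H) (L : Subgroup H)
    (hTL : (T : Subgroup H) ≤ L) (hL : L ∈ charPSubgroups p H) :
    ∃ M Ls : Subgroup H, (T : Subgroup H) ≤ M ∧ IsInFrakM p M ∧ (T : Subgroup H) ≤ Ls ∧ Ls ≤ M ∧
      Ls ∈ charPSubgroups p H ∧ largestPReducedOf p L = largestPReducedOf p Ls ∧
      largestPReducedOf p L ≤ largestPReducedOf p M ∧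
      L ⊔ Subgroup.centralizer ((largestPReducedOf p L : Subgroup H) : Set H) =
        Ls ⊔ Subgroup.centralizer ((largestPReducedOf p L : Subgroup H) : Set H) := by
  classical
  obtain ⟨Y, hY⟩ : ∃ Y, Y = largestPReducedOf p L := ⟨_, rfl⟩
  obtain ⟨C, hC⟩ : ∃ C, C = Subgroup.centralizer (Y : Set H) := ⟨_, rfl⟩
  rw [← hY, ← hC]
  -- the normalizer of a nontrivial `Y_A` is a member
  have hY0 : Y ≠ ⊥ := by
    intro h0
    have h1 := (Red.omega_le_closure T hTL).trans ((Red.closure_le_Y L (centralizer_subtype hL)).trans hY.ge)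
    rw [h0, le_bot_iff] at h1
    have hT : (T : Subgroup H) ≠ ⊥ := fun h => hL.1 ((Subgroup.map_eq_bot_iff_of_injective _ L.subtype_injective).1
      (le_bot_iff.1 (h ▸ core_le_sylow T hTL : pCoreOf p L ≤ ⊥)))
    haveI : Nontrivial ↥(T : Subgroup H) := (Subgroup.nontrivial_iff_ne_bot _).2 hT
    haveI := T.isPGroup'.center_nontrivial
    obtain ⟨z, hz⟩ := exists_ne (1 : Subgroup.center ↥(T : Subgroup H))
    obtain ⟨k, hk⟩ := IsPGroup.iff_orderOf.1 T.isPGroup' (z : ↥(T : Subgroup H))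
    rcases k with _ | k
    · exact hz (Subtype.ext (orderOf_eq_one_iff.1 (by rw [hk, pow_zero])))
    · set w : H := ((z : ↥(T : Subgroup H)) : H) ^ p ^ k
      have hw : w ∈ omegaOne p ((T : Subgroup H) ⊓ Subgroup.centralizer ((T : Subgroup H) : Set H)) := by
        refine mem_omega_center.2 ⟨pow_mem (z : ↥(T : Subgroup H)).2 _, fun s hs => ?_, ?_⟩
        · exact ((show Commute s ((z : ↥(T : Subgroup H)) : H) from
            congrArg Subtype.val (Subgroup.mem_center_iff.1 z.2 ⟨s, hs⟩)).pow_right _).eq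
        · rw [← pow_mul, ← pow_succ, ← hk, ← Subgroup.orderOf_coe, pow_orderOf_eq_one]
      rw [h1, Subgroup.mem_bot] at hw
      have := orderOf_dvd_of_pow_eq_one hw
      rw [Subgroup.orderOf_coe, hk] at this
      have := (Nat.pow_dvd_pow_iff_le_right (Fact.out : p.Prime).one_lt).1 this
      omega
  have hNY : ∀ Z A : Subgroup H, Z = largestPReducedOf p A → Z ≠ ⊥ → (T : Subgroup H) ≤ A →
      Subgroup.normalizer (Z : Set H) ∈ charPSubgroups p H := by
    intro Z A hZ hZ0 hTA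
    have hTN : (T : Subgroup H) ≤ Subgroup.normalizer (Z : Set H) := hZ ▸ hTA.trans (Red.le_normalizer_Y A)
    have hZp : IsPGroup p Z := hZ ▸ (Red.isPGroup_of_elementary (Red.largest_reduced (p := p) (L := ↥A)).2.1).map _
    obtain ⟨N, hN⟩ : ∃ N, N = Subgroup.normalizer (Z : Set H) := ⟨_, rfl⟩
    have h := hH Z hZp hZ0 ⟨T, hTN⟩
    rw [← hN] at h hTN ⊢
    have hZc : Z ≤ (pCore p ↥N).map N.subtype :=
      le_pCoreOf (hN ▸ Subgroup.le_normalizer) (hN ▸ le_rfl) hZp
    refine ⟨fun h0 => hZ0 (le_bot_iff.1 (hZc.trans (by rw [h0, Subgroup.map_bot]))), fun x hx => ?_⟩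
    have hxN : x ∈ N := hN ▸ Subgroup.centralizer_le_normalizer _ (Subgroup.centralizer_le hZc hx)
    refine ⟨⟨x, hxN⟩, h (Subgroup.mem_centralizer_iff.2 fun z hz => Subtype.ext ?_), rfl⟩
    exact Subgroup.mem_centralizer_iff.1 hx z ⟨z, hz, rfl⟩
  have hCN : C ≤ Subgroup.normalizer (Y : Set H) := hC ▸ Subgroup.centralizer_le_normalizer _
  have hLY : L ≤ Subgroup.normalizer (Y : Set H) := hY ▸ Red.le_normalizer_Y L
  have hTC : ∀ {A : Subgroup H}, A ≤ Subgroup.normalizer (Y : Set H) → A ≤ Subgroup.normalizer (C : Set H) :=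
    fun h => hC ▸ Red.le_normalizer_centralizer h
  -- choice of the maximal member
  obtain ⟨S, hS⟩ : ∃ S, S = {X : Subgroup H | X ∈ maxCharPSubgroups p H ∧ (T : Subgroup H) ≤ X ∧
      Y ≤ largestPReducedOf p X ∧ L ≤ (X ⊓ Subgroup.normalizer (Y : Set H)) ⊔ C} := ⟨_, rfl⟩
  have hSne : S.Nonempty := by
    obtain ⟨X, hLX, hX⟩ := (Set.toFinite (charPSubgroups p H)).exists_le_maximal hL
    have hXM : X ∈ maxCharPSubgroups p H := ⟨hX.1, fun L' hL' h => le_antisymm (hX.2 hL' h) h⟩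
    exact ⟨X, hS ▸ ⟨hXM, hTL.trans hLX, hY ▸ Y_le_of_le T hTL hLX hX.1,
      (le_inf hLX hLY).trans le_sup_left⟩⟩
  obtain ⟨X, hXS, hmax⟩ := (Set.toFinite S).exists_maximalFor (largestPReducedOf p) _ hSne
  rw [hS] at hXS
  obtain ⟨hXM, hTX, hYX, hLX⟩ := hXS
  obtain ⟨Z, hZ⟩ : ∃ Z, Z = largestPReducedOf p X := ⟨_, rfl⟩
  rw [← hZ] at hYX
  have hZ0 : Z ≠ ⊥ := fun h => hY0 (le_bot_iff.1 (h ▸ hYX))
  have hXN : Subgroup.normalizer (Z : Set H) = X :=
    hXM.2 _ (hNY Z X hZ hZ0 hTX) (hZ ▸ Red.le_normalizer_Y X)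
  have hCX : Subgroup.centralizer (Z : Set H) ≤ X := (Subgroup.centralizer_le_normalizer _).trans hXN.le
  -- the minimal supplement
  obtain ⟨M, -, hMmin⟩ := Finite.exists_le_minimal
    (p := fun M : Subgroup H => (T : Subgroup H) ≤ M ∧ M ≤ X ∧ M ⊔ Subgroup.centralizer (Z : Set H) = X)
    (a := X) ⟨hTX, le_rfl, sup_eq_left.2 hCX⟩
  obtain ⟨hTM, hMX, hMC⟩ := hMmin.1
  have hMc : M ∈ charPSubgroups p H := charP_of_le T hTM hMX hXM.1
  have hYMX : largestPReducedOf p M = Z := le_antisymm (hZ ▸ Y_le_of_le T hTM hMX hXM.1)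
    (hZ ▸ Red.Y_mono_of_fac T M X hTM hTX (by rw [← hZ, hMC, sup_eq_left.2 hCX]))
  have hCC : Subgroup.centralizer (Z : Set H) ≤ C := hC ▸ Subgroup.centralizer_le hYX
  have hLM : L ≤ (M ⊓ Subgroup.normalizer (Y : Set H)) ⊔ C := by
    refine hLX.trans (sup_le ?_ le_sup_right)
    refine le_trans ?_ (sup_le_sup_left hCC _)
    conv_lhs => rw [← hMC]
    exact inf_sup_centralizer (hMX.trans (hXN ▸ Red.le_normalizer_centralizer le_rfl)) (hCC.trans hCN)
  have hMnZ : M ≤ Subgroup.normalizer ((Subgroup.centralizer (Z : Set H) : Subgroup H) : Set H) :=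
    Red.le_normalizer_centralizer (hMX.trans hXN.ge)
  obtain ⟨D, hD⟩ : ∃ D, D = M ⊓ Subgroup.centralizer (Z : Set H) := ⟨_, rfl⟩
  have hMD : M ≤ Subgroup.normalizer (D : Set H) := fun m hm => by
    rw [mem_normalizer_iff_cj, hD, cj_inf, cj_eq_self_of_mem hm, cj_eq_self (hMnZ hm)]
  have hTD : SylIn p ((T : Subgroup H) ⊓ D) D :=
    ((sylIn_top T).mono hTM le_top).inf_normal (hD ▸ inf_le_left) hMD
  have hNT : M ≤ Subgroup.normalizer (((T : Subgroup H) ⊓ D : Subgroup H) : Set H) := by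
    refine le_trans (hMmin.2 ⟨le_inf hTM (fun t ht => ?_), inf_le_left.trans hMX, ?_⟩ inf_le_left) inf_le_right
    · rw [mem_normalizer_iff_cj, cj_inf, cj_eq_self_of_mem ht, cj_eq_self (hMD (hTM ht))]
    · refine le_antisymm (sup_le (inf_le_left.trans hMX) hCX) ?_
      conv_lhs => rw [← hMC]
      refine sup_le (fun m hm => ?_) le_sup_right
      obtain ⟨n, hn, hnm⟩ := frattini_conj (H := M) hTD hMD hm
      have h1 := mul_mem (Subgroup.mem_sup_right (S := M ⊓ Subgroup.normalizer (((T : Subgroup H) ⊓ D : Subgroup H) : Set H))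
        (inv_mem ((hD ▸ hn : n ∈ M ⊓ _).2))) (Subgroup.mem_sup_left
        (Subgroup.mem_inf.2 ⟨mul_mem ((hD ▸ hn : n ∈ M ⊓ _).1) hm, hnm⟩))
      simpa using h1
  have hTDc : (T : Subgroup H) ⊓ D ≤ pCoreOf p M :=
    le_pCoreOf (inf_le_left.trans hTM) hNT (T.isPGroup'.to_le inf_le_left)
  have hdag : M ⊔ Subgroup.centralizer ((largestPReducedOf p M : Subgroup H) : Set H) = X := by rw [hYMX, hMC]
  have hFrak : IsInFrakM p M := by
    refine ⟨hMc, hdag.symm ▸ hXM, fun X' hX' hMX' => ?_, by rw [hdag, hYMX, hZ], ?_, ?_⟩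
    · rw [hdag]
      have hTX' := hTM.trans hMX'
      have hle : Z ≤ largestPReducedOf p X' := hYMX ▸ Y_le_of_le T hTM hMX' hX'.1
      have hX'S : X' ∈ S := hS ▸ ⟨hX', hTX', hYX.trans hle,
        hLM.trans (sup_le_sup_right (inf_le_inf_right _ hMX') C)⟩
      have heq : largestPReducedOf p X' = Z := le_antisymm (hZ ▸ hmax hX'S (hZ ▸ hle)) hle
      exact (hX'.2 X hXM.1 (hXN ▸ heq ▸ Red.le_normalizer_Y X')).symm
    · rw [hYMX, ← hD]
      obtain ⟨P, hP⟩ := hTD.exists_sylow_subgroupOf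
      rw [PIrr.pclosed_iff P, hP]
      haveI : (((T : Subgroup H) ⊓ D).subgroupOf D).Normal :=
        Subgroup.normal_subgroupOf_of_le_normalizer ((hD ▸ inf_le_left : D ≤ M).trans hNT)
      exact Fusion.le_pCore ((T.isPGroup'.to_le inf_le_left).comap_of_injective D.subtype D.subtype_injective)
    · rw [hYMX, ← hD]
      refine le_iInf₂ fun V (hV : IsCoatom V) => ?_
      by_contra hle
      obtain ⟨π, hπ⟩ : ∃ π : ↥M →* ↥M ⧸ pCore p ↥M, π = QuotientGroup.mk' _ := ⟨_, rfl⟩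
      have hs : Function.Surjective π := hπ ▸ QuotientGroup.mk'_surjective _
      rw [← hπ] at hle
      obtain ⟨U, hU⟩ : ∃ U, U = (V.comap π).map M.subtype := ⟨_, rfl⟩
      have hUM : U ≤ M := hU ▸ Subgroup.map_subtype_le _
      have hPU : pCoreOf p M ≤ U := by
        rw [hU]
        refine Subgroup.map_mono fun x hx => ?_
        rw [Subgroup.mem_comap, show π x = 1 by rw [hπ]; exact (QuotientGroup.eq_one_iff x).2 hx]
        exact one_mem V
      haveI hDn : (D.subgroupOf M).Normal := Subgroup.normal_subgroupOf_of_le_normalizer hMD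
      have hDU : M ≤ D ⊔ U := by
        have htop : V ⊔ (D.subgroupOf M).map π = ⊤ := hV.2 _ (left_lt_sup.2 hle)
        intro m hm
        have h1 : π ⟨m, hm⟩ ∈ ((V.comap π) ⊔ D.subgroupOf M).map π := by
          rw [Subgroup.map_sup, Subgroup.map_comap_eq_self_of_surjective hs, htop]; exact Subgroup.mem_top _
        obtain ⟨x, hx, e⟩ := h1
        have h2 : ⟨m, hm⟩ ∈ D.subgroupOf M ⊔ V.comap π := by
          have h3 : x⁻¹ * ⟨m, hm⟩ ∈ V.comap π := by
            rw [Subgroup.mem_comap, map_mul, map_inv, e, inv_mul_cancel]; exact one_mem V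
          have := mul_mem (sup_comm (V.comap π) (D.subgroupOf M) ▸ hx) (Subgroup.mem_sup_right (S := D.subgroupOf M) h3)
          simpa using this
        obtain ⟨d, hd, u, hu, e'⟩ := Subgroup.mem_sup_of_normal_left.1 h2
        rw [show m = ((d * u : ↥M) : H) by rw [e'], Subgroup.coe_mul]
        exact mul_mem (Subgroup.mem_sup_left hd) (Subgroup.mem_sup_right (hU ▸ ⟨u, hu, rfl⟩))
      -- a Sylow subgroup of `U` is one of `M`
      obtain ⟨P, hP, -⟩ := exists_sylIn_ge (p := p) (IsPGroup.of_bot : IsPGroup p (⊥ : Subgroup H)) (bot_le : ⊥ ≤ U)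
      obtain ⟨g, hg, hPg⟩ := ((sylIn_top T).mono hTM le_top).conj_le hP.isPGroup (hP.le.trans hUM)
      have hg' : g ∈ D ⊔ U := hDU hg
      rw [← SetLike.mem_coe, Subgroup.coe_mul_of_right_le_normalizer_left _ _ (hUM.trans hMD)] at hg'
      obtain ⟨d, hd, u, hu, rfl⟩ := hg'
      have hTU : ∀ t ∈ (T : Subgroup H), ∃ w ∈ U, w⁻¹ * (d⁻¹ * t * d) ∈ D := by
        intro t ht
        have h1 : d⁻¹ * t * d ∈ D ⊔ U :=
          hDU (mul_mem (mul_mem (inv_mem (hD ▸ hd : d ∈ M ⊓ _).1) (hTM ht)) (hD ▸ hd : d ∈ M ⊓ _).1)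
        rw [sup_comm, ← SetLike.mem_coe, Subgroup.coe_mul_of_left_le_normalizer_right _ _ (hUM.trans hMD)] at h1
        obtain ⟨w, hw, c, hc, e⟩ := h1
        exact ⟨w, hw, by rw [← e]; simpa using hc⟩
      -- the index of `U` in `M` is prime to `p`
      have hidx : ¬ p ∣ U.relIndex M := by
        have h1 : U.relIndex M = (U ⊓ D).relIndex D := by
          rw [Subgroup.inf_relIndex_right]
          refine (Nat.card_congr (Equiv.ofBijective _
            ⟨(Subgroup.quotientSubgroupOfEmbeddingOfLE U (hD ▸ inf_le_left : D ≤ M)).injective, ?_⟩)).symm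
          intro q
          obtain ⟨⟨m, hm⟩, rfl⟩ := QuotientGroup.mk_surjective q
          have hm' := hDU hm
          rw [← SetLike.mem_coe, Subgroup.coe_mul_of_right_le_normalizer_left _ _ (hUM.trans hMD)] at hm'
          obtain ⟨a, ha, b, hb, rfl⟩ := hm'
          refine ⟨QuotientGroup.mk ⟨a, ha⟩, ?_⟩
          rw [Subgroup.quotientSubgroupOfEmbeddingOfLE_apply_mk]
          exact QuotientGroup.eq.2 (by simpa [Subgroup.mem_subgroupOf] using hb)
        rw [h1]
        intro hd'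
        refine hTD.not_dvd (hd'.trans (Subgroup.relIndex_dvd_of_le_left D ?_))
        exact le_inf (hTDc.trans hPU) inf_le_right
      have hPM : SylIn p P M := ⟨hP.le.trans hUM, hP.isPGroup, fun h => by
        rw [← Subgroup.relIndex_mul_relIndex P U M hP.le hUM] at h
        exact ((Fact.out : p.Prime).dvd_mul.1 h).elim hP.not_dvd hidx⟩
      have hPT : cj P (d * u) = (T : Subgroup H) :=
        ((hPM.cj (d * u)).eq_of_le T.isPGroup' hPg ((cj_eq_self_of_mem (mul_mem (hD ▸ hd : d ∈ M ⊓ _).1 (hUM hu))).ge.trans' hTM)).symm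
      rw [← cj_cj] at hPT
      have hTcU : (T : Subgroup H) ≤ cj U d := by
        rw [← hPT]
        exact cj_mono ((cj_mono hP.le u).trans (cj_eq_self_of_mem hu).le) d
      have hdM : d ∈ M := (hD ▸ hd : d ∈ M ⊓ _).1
      have hUdM : cj U d ≤ M := (cj_mono hUM d).trans (cj_eq_self_of_mem hdM).le
      have hMU : M ≤ cj U d := hMmin.2 ⟨hTcU, hUdM.trans hMX, by
        refine le_antisymm (sup_le (hUdM.trans hMX) hCX) ?_
        conv_lhs => rw [← hMC]
        refine sup_le ?_ le_sup_right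
        have h3 := cj_mono hDU d
        rw [cj_eq_self_of_mem hdM, cj_sup, cj_eq_self_of_mem hd] at h3
        exact h3.trans (sup_le ((hD ▸ inf_le_right : D ≤ Subgroup.centralizer (Z : Set H)).trans le_sup_right) le_sup_left)⟩ hUdM
      have hMU' : M ≤ U := by
        have := cj_mono hMU d⁻¹
        rwa [cj_eq_self_of_mem (inv_mem hdM), cj_cj_inv] at this
      refine hV.1 (top_le_iff.1 fun v _ => ?_)
      obtain ⟨⟨m, hm⟩, rfl⟩ := hs v
      obtain ⟨x, hx, e⟩ := hU ▸ hMU' hm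
      exact (Subtype.ext e : x = ⟨m, hm⟩) ▸ hx
  -- the subgroup `Ls`
  obtain ⟨T₀, hT₀⟩ : ∃ T₀, T₀ = (T : Subgroup H) ⊓ C := ⟨_, rfl⟩
  obtain ⟨M', hM'⟩ : ∃ M', M' = M ⊓ (L ⊔ C) := ⟨_, rfl⟩
  have hTM' : (T : Subgroup H) ≤ M' := hM' ▸ le_inf hTM (hTL.trans le_sup_left)
  have hfac : M' ⊔ C = L ⊔ C := by
    refine le_antisymm (sup_le (hM' ▸ inf_le_right) le_sup_right) (sup_le ?_ le_sup_right)
    intro l hl
    have h := hLM hl
    rw [← SetLike.mem_coe, Subgroup.coe_mul_of_left_le_normalizer_right _ _ (hTC inf_le_right)] at h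
    obtain ⟨a, ha, c, hc, rfl⟩ := h
    refine mul_mem (Subgroup.mem_sup_left (hM' ▸ Subgroup.mem_inf.2 ⟨ha.1, ?_⟩)) (Subgroup.mem_sup_right hc)
    have := mul_mem (Subgroup.mem_sup_left (T := C) hl) (Subgroup.mem_sup_right (S := L) (inv_mem hc))
    simpa using this
  have hM'c : M' ∈ charPSubgroups p H := charP_of_le T hTM' (hM' ▸ inf_le_left) hMc
  obtain ⟨hLs1, hLs2⟩ := Cfsg.Agent.S2824.result T L M' hTL hTM' (centralizer_subtype hL) (centralizer_subtype hM'c)
    T₀ (by rw [hT₀, hC, hY]) (by rw [← hY, ← hC]; exact hfac) (M' ⊓ Subgroup.normalizer (T₀ : Set H)) rfl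
  rw [← hY, ← hC] at hLs2
  rw [← hY] at hLs1
  have hTLs : (T : Subgroup H) ≤ M' ⊓ Subgroup.normalizer (T₀ : Set H) := le_inf hTM' fun t ht => by
    rw [mem_normalizer_iff_cj, hT₀, cj_inf, cj_eq_self_of_mem ht, cj_eq_self (hTC hLY (hTL ht))]
  have hLsM : M' ⊓ Subgroup.normalizer (T₀ : Set H) ≤ M := inf_le_left.trans (hM' ▸ inf_le_left)
  exact ⟨M, _, hTM, hFrak, hTLs, hLsM, charP_of_le T hTLs hLsM hMc, hLs1.symm, hYMX.symm ▸ hYX, hLs2⟩

end Cfsg.Agent.LocalEven.Basic
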