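import Cfsg.Agent.Lib.LocalEven.ResidualOf
import Cfsg.Agent.Lib.LocalEven.AmalgamBasic
import Cfsg.Agent.Lib.Fusion.ThompsonBasics
import Cfsg.Agent.Lib.Fusion.ChiefCommutator
import Cfsg.Agent.Lib.Local.FS.Sat
import Cfsg.Prelude.Def_BaumannBlocks

/-!
The Baumann subgroup is weakly closed, and `p`-groups normalized by it and by `E = [E, B]`
normalize `E`.
-/

set_option autoImplicit false

open scoped commutatorElement Pointwise

namespace Cfsg.Agent.LocalEven.Block

open Cfsg Cfsg.Agent.Fusion

variable {G : Type*} [Group G] [Finite G] {p : ℕ} [hp : Fact p.Prime]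

omit hp in
theorem jElem_map_eq (H : Subgroup G) (e : G ≃* G) :
    (jElem p H).map e.toMonoidHom = jElem p (H.map e.toMonoidHom) := by
  refine le_antisymm (map_jElem_le H e) ?_
  have h := Subgroup.map_mono (f := e.toMonoidHom) (map_jElem_le (p := p) (H.map e.toMonoidHom) e.symm)
  rw [Subgroup.map_map, Subgroup.map_map] at h
  simpa [Subgroup.map_map] using h

omit hp in
theorem baumann_eq (T : Subgroup G) : baumannSubgroupOf p T =
    T ⊓ Subgroup.centralizer (omegaOne p (zElem p T) : Set G) := by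
  rw [baumannSubgroupOf, zElem_eq]

theorem baumann_map (T : Subgroup G) (e : G ≃* G) :
    (baumannSubgroupOf p T).map e.toMonoidHom = baumannSubgroupOf p (T.map e.toMonoidHom) := by
  have hi : ∀ A B : Subgroup G,
      (A ⊓ B).map e.toMonoidHom = A.map e.toMonoidHom ⊓ B.map e.toMonoidHom :=
    fun A B => Subgroup.map_inf A B _ e.injective
  rw [baumann_eq, baumann_eq, hi, Amalgam.map_centralizer_equiv, Amalgam.map_omegaOne_equiv, zElem, hi,
    Amalgam.map_centralizer_equiv, jElem_map_eq]
  rfl

theorem jElem_le_baumann (T : Subgroup G) : jElem p T ≤ baumannSubgroupOf p T := by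
  rw [baumann_eq]
  refine le_inf (jElem_le T) (Subgroup.le_centralizer_iff.1 ?_)
  exact (Amalgam.omegaOne_le _).trans inf_le_right

omit hp in
theorem baumann_le (T : Subgroup G) : baumannSubgroupOf p T ≤ T := inf_le_left

omit [Finite G] hp in
theorem le_normalizer_inf {H A C : Subgroup G} (hA : H ≤ Subgroup.normalizer (A : Set G))
    (hC : H ≤ Subgroup.normalizer (C : Set G)) :
    H ≤ Subgroup.normalizer ((A ⊓ C : Subgroup G) : Set G) := fun g hg =>
  Subgroup.mem_normalizer_iff.2 fun x =>
    and_congr (Subgroup.mem_normalizer_iff.1 (hA hg) x) (Subgroup.mem_normalizer_iff.1 (hC hg) x)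

theorem sylow_conj (S S' : Sylow p G) :
    ∃ g : G, (S : Subgroup G).map (MulAut.conj g).toMonoidHom = (S' : Subgroup G) := by
  obtain ⟨g, rfl⟩ := MulAction.exists_smul_eq G S S'
  exact ⟨g, rfl⟩

/-- If a Sylow subgroup contains `B(T)`, it has the same Baumann subgroup. -/
theorem baumann_eq_of_le (T T' : Sylow p G) (h : baumannSubgroupOf p (T : Subgroup G) ≤ T') :
    baumannSubgroupOf p (T' : Subgroup G) = baumannSubgroupOf p (T : Subgroup G) := by
  obtain ⟨g, hg⟩ := sylow_conj T T'
  have hJ : jElem p (T : Subgroup G) ≤ jElem p (T' : Subgroup G) := by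
    refine sSup_le fun A hA => le_sSup ⟨?_, hA.2.1, fun B hB hB' => ?_⟩
    · exact ((le_sSup hA).trans (jElem_le_baumann _)).trans h
    · obtain ⟨g', hg'⟩ := sylow_conj T' T
      have h1 := hA.2.2 _ (hg' ▸ Subgroup.map_mono hB)
        ((replFamily_elementary p).map_equiv hB' (MulAut.conj g'))
      rwa [Subgroup.card_map_of_injective
        (f := (MulAut.conj g').toMonoidHom) (MulAut.conj g').injective] at h1
  have hJe : jElem p (T : Subgroup G) = jElem p (T' : Subgroup G) := by
    refine Subgroup.eq_of_le_of_card_ge hJ ?_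
    rw [← hg, ← jElem_map_eq, Subgroup.card_map_of_injective
      (f := (MulAut.conj g).toMonoidHom) (MulAut.conj g).injective]
  have hB : baumannSubgroupOf p (T : Subgroup G) ≤ baumannSubgroupOf p (T' : Subgroup G) := by
    rw [baumann_eq (T' : Subgroup G), zElem, ← hJe, ← zElem]
    refine le_inf h ?_
    rw [baumann_eq]
    exact inf_le_right
  refine (Subgroup.eq_of_le_of_card_ge hB ?_).symm
  rw [← hg, ← baumann_map, Subgroup.card_map_of_injective
    (f := (MulAut.conj g).toMonoidHom) (MulAut.conj g).injective]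

/-- A `p`-group containing `B(T)` normalizes it. -/
theorem le_normalizer_baumann (T : Sylow p G) {P : Subgroup G} (hP : IsPGroup p P)
    (h : baumannSubgroupOf p (T : Subgroup G) ≤ P) :
    P ≤ Subgroup.normalizer (baumannSubgroupOf p (T : Subgroup G) : Set G) := by
  obtain ⟨T', hT'⟩ := hP.exists_le_sylow
  rw [← baumann_eq_of_le T T' (h.trans hT')]
  intro x hx
  refine mem_normalizer_of_cj_le ?_
  refine le_of_eq ?_
  rw [show cj (baumannSubgroupOf p (T' : Subgroup G)) x =
      (baumannSubgroupOf p (T' : Subgroup G)).map (MulAut.conj x).toMonoidHom from rfl, baumann_map]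
  congr 1
  exact cj_eq_self (Subgroup.le_normalizer (hT' hx))

/-- If `E = O^p(E)` and every conjugate of an element of `E` by `x` lies in `E P` for a `p`-group
`P` normalizing `E`, then `x` normalizes `E`. -/
theorem mem_normalizer_of_res {E P : Subgroup G} (hE : pResidualOf p E = E) (hP : IsPGroup p P)
    (hPE : P ≤ Subgroup.normalizer (E : Set G)) {x : G} (hx : ∀ e ∈ E, x * e * x⁻¹ ∈ E ⊔ P) :
    x ∈ Subgroup.normalizer (E : Set G) := by
  refine mem_normalizer_of_cj_le ?_
  have hX : E.map (MulAut.conj x).toMonoidHom ≤ E ⊔ P := by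
    rintro _ ⟨e, he, rfl⟩
    exact hx e he
  have h1 : ((pResidual p ↥E).map E.subtype).map (MulAut.conj x).toMonoidHom ≤
      (pResidual p ↥E).map E.subtype :=
    (Res.map_le _ (MulAut.conj x).injective E).trans (Res.le_of_sup hP hPE hX)
  rw [show (pResidual p ↥E).map E.subtype = E from hE] at h1
  exact h1

/-- A `p`-group normalized by `B(T)` and by `E = O^p(E) = [E, B(T)]` normalizes `E`. -/
theorem pgroup_le_normalizer (T : Sylow p G) {E Q : Subgroup G} (hE : pResidualOf p E = E)
    (hEB : ⁅E, baumannSubgroupOf p (T : Subgroup G)⁆ = E) (hQ : IsPGroup p Q)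
    (hBQ : baumannSubgroupOf p (T : Subgroup G) ≤ Subgroup.normalizer (Q : Set G))
    (hEQ : E ≤ Subgroup.normalizer (Q : Set G)) :
    Q ≤ Subgroup.normalizer (E : Set G) := by
  set B := baumannSubgroupOf p (T : Subgroup G) with hBdef
  have hBE : B ≤ Subgroup.normalizer (E : Set G) :=
    Subgroup.le_normalizer_iff_commutator_le_left.2 hEB.le
  have hBp : IsPGroup p B := T.2.to_le (baumann_le _)
  have hQB : Q ⊔ B ≤ Subgroup.normalizer (B : Set G) :=
    le_normalizer_baumann T (hQ.to_sup_of_normal_left' hBp hBQ) le_sup_right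
  set N := Q ⊓ Subgroup.normalizer (E : Set G) with hN
  by_contra hne
  have hlt : N < Q := lt_of_le_of_ne inf_le_left fun h => hne (inf_eq_left.1 h)
  have hN1 : N < Q ⊓ Subgroup.normalizer (N : Set G) :=
    Local.FS.lt_normalizerIn hQ hlt
  set N1 := Q ⊓ Subgroup.normalizer (N : Set G) with hN1d
  have hinv : ∀ H : Subgroup G, H ≤ Subgroup.normalizer (Q : Set G) →
      H ≤ Subgroup.normalizer (E : Set G) → H ≤ Subgroup.normalizer (N : Set G) := fun H h1 h2 =>
    le_normalizer_inf h1 (h2.trans Subgroup.le_normalizer)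
  have hEN := hinv E hEQ Subgroup.le_normalizer
  have hBN := hinv B hBQ hBE
  have h1 : ⁅B, N1⁆ ≤ N := by
    refine Subgroup.commutator_le.2 fun b hb x hx => ?_
    have hbQ : ⁅b, x⁆ ∈ Q :=
      (Subgroup.le_normalizer_iff_commutator_le_right.1 hBQ)
        (Subgroup.commutator_mem_commutator hb hx.1)
    have hbB : ⁅b, x⁆ ∈ B :=
      (Subgroup.le_normalizer_iff_commutator_le_left.1 (le_sup_left.trans hQB))
        (Subgroup.commutator_mem_commutator hb hx.1)
    exact ⟨hbQ, hBE hbB⟩
  have h2 : ⁅⁅E, B⁆, N1⁆ ≤ N := by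
    refine Fusion.three_subgroup hEN hBN inf_le_right ?_ ?_
    · exact (Subgroup.commutator_mono h1 le_rfl).trans
        (Subgroup.le_normalizer_iff_commutator_le_left.1 hEN)
    · have hi : ⁅N1, E⁆ ≤ N1 := Subgroup.le_normalizer_iff_commutator_le_left.1
        (le_normalizer_inf hEQ (hEN.trans Subgroup.le_normalizer))
      refine (Subgroup.commutator_mono hi le_rfl).trans ?_
      rw [Subgroup.commutator_comm]
      exact h1
  rw [hEB] at h2
  have h3 : N1 ≤ Subgroup.normalizer (E : Set G) := by
    intro x hx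
    refine mem_normalizer_of_res hE (hQ.to_le (inf_le_left : N ≤ Q)) inf_le_right fun e he => ?_
    have : ⁅e, x⁆ ∈ N := h2 (Subgroup.commutator_mem_commutator he hx)
    have e1 : x * e * x⁻¹ = ⁅e, x⁆⁻¹ * e := by simp [commutatorElement_def, mul_assoc]
    rw [e1]
    exact mul_mem (Subgroup.mem_sup_right (inv_mem this)) (Subgroup.mem_sup_left he)
  exact hN1.ne (le_antisymm hN1.le (le_inf inf_le_left h3))

/-- A finite group `E = O^p(E)` acting trivially on `W/W₁` and on the abelian `p`-group `W₁ ≤ W`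
acts trivially on `W`. -/
theorem centralizes_of_twice {E W : Subgroup G} (hE : pResidualOf p E = E) (hW : IsPGroup p W)
    (hEW : E ≤ Subgroup.normalizer (W : Set G))
    (h : ⁅⁅W, E⁆, E⁆ = ⊥) : W ≤ Subgroup.centralizer (E : Set G) := by
  rw [← Subgroup.le_centralizer_iff, ← show (pResidual p ↥E).map E.subtype = E from hE]
  refine Res.res_le fun e he hc => Subgroup.mem_centralizer_iff.2 fun w hw => ?_
  set a := ⁅w, e⁆ with ha
  have haW : a ∈ ⁅W, E⁆ := Subgroup.commutator_mem_commutator hw he
  have hae : Commute e a :=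
    (Subgroup.mem_centralizer_iff.1 (Subgroup.commutator_eq_bot_iff_le_centralizer.1 h haW) e he)
  have hconj : ∀ k : ℕ, w * e ^ k * w⁻¹ = a ^ k * e ^ k := by
    intro k
    rw [← conj_pow, show w * e * w⁻¹ = a * e by simp [ha, commutatorElement_def],
      hae.symm.mul_pow]
  have h1 : a ^ orderOf e = 1 := by
    have := hconj (orderOf e)
    rwa [pow_orderOf_eq_one, mul_one, mul_inv_cancel, mul_one, eq_comm] at this
  obtain ⟨k, hk⟩ := hW ⟨a, (Subgroup.le_normalizer_iff_commutator_le_left.1 hEW) haW⟩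
  have hk' : a ^ p ^ k = 1 := congrArg Subtype.val hk
  have : orderOf a ∣ Nat.gcd (orderOf e) (p ^ k) :=
    Nat.dvd_gcd (orderOf_dvd_of_pow_eq_one h1) (orderOf_dvd_of_pow_eq_one hk')
  rw [(hc.pow_right k).gcd_eq_one, Nat.dvd_one, orderOf_eq_one_iff] at this
  have h2 := hconj 1
  simp only [pow_one, this, one_mul] at h2
  calc w * e = (w * e * w⁻¹) * w := by group
    _ = e * w := by rw [h2]

end Cfsg.Agent.LocalEven.Block
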