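import Cfsg.Agent.Lib.LocalEven.BlockSection
import Cfsg.Agent.Lib.Fusion.KInf

/-!
First facts on blocks: `W = Ω₁(Z(O_p(E)))`, its section `W / C_W(E)`, and the action of a normal
`p`-subgroup.
-/

set_option autoImplicit false

open scoped commutatorElement Pointwise

namespace Cfsg.Agent.LocalEven.Block

open Cfsg Cfsg.Agent.Fusion

variable {G : Type*} [Group G] [Finite G] {p : ℕ} [hp : Fact p.Prime]

omit [Finite G] hp in
/-- Invariant subgroups of a section with an irreducible model. -/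
theorem section_dichotomy {E W Z : Subgroup G} (hZW : Z ≤ W) {M : Type*} [AddCommGroup M]
    (ψ : ↥W →* Multiplicative M) (Φ : ↥E → M → M) (hker : ∀ u : ↥W, ψ u = 1 ↔ (u : G) ∈ Z)
    (hact : ∀ (e : ↥E) (u : ↥W), ∃ w : ↥W, (w : G) = (e : G) * (u : G) * (e : G)⁻¹ ∧
      Multiplicative.toAdd (ψ w) = Φ e (Multiplicative.toAdd (ψ u)))
    (hirr : ∀ S : AddSubgroup M, (∀ e, ∀ v ∈ S, Φ e v ∈ S) →
      (∀ v ∈ S, ∃ u : ↥W, Multiplicative.toAdd (ψ u) = v) →
      (∀ v ∈ S, v = 0) ∨ ∀ u : ↥W, Multiplicative.toAdd (ψ u) ∈ S)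
    (U : Subgroup G) (hZU : Z ≤ U) (hUW : U ≤ W) (hEU : E ≤ Subgroup.normalizer (U : Set G)) :
    U = Z ∨ U = W := by
  set S : AddSubgroup M := Subgroup.toAddSubgroup' ((U.subgroupOf W).map ψ) with hS
  have hmem : ∀ v, v ∈ S ↔ ∃ u : ↥W, (u : G) ∈ U ∧ Multiplicative.toAdd (ψ u) = v := by
    intro v
    constructor
    · rintro ⟨u, hu, he⟩
      exact ⟨u, hu, congrArg Multiplicative.toAdd he⟩
    · rintro ⟨u, hu, rfl⟩
      exact ⟨u, hu, rfl⟩
  have hinv : ∀ e, ∀ v ∈ S, Φ e v ∈ S := by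
    intro e v hv
    obtain ⟨u, hu, rfl⟩ := (hmem v).1 hv
    obtain ⟨w, hw, hwe⟩ := hact e u
    refine (hmem _).2 ⟨w, ?_, hwe⟩
    rw [hw]
    exact (Subgroup.mem_normalizer_iff.1 (hEU e.2) _).1 hu
  have himg : ∀ v ∈ S, ∃ u : ↥W, Multiplicative.toAdd (ψ u) = v := by
    intro v hv
    obtain ⟨u, -, hu⟩ := (hmem v).1 hv
    exact ⟨u, hu⟩
  rcases hirr S hinv himg with h | h
  · refine Or.inl (le_antisymm (fun x hx => ?_) hZU)
    refine (hker ⟨x, hUW hx⟩).1 ?_
    exact Multiplicative.toAdd.injective (h _ ((hmem _).2 ⟨⟨x, hUW hx⟩, hx, rfl⟩))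
  · refine Or.inr (le_antisymm hUW fun x hx => ?_)
    obtain ⟨u, hu, he⟩ := (hmem _).1 (h ⟨x, hx⟩)
    have : ψ (u⁻¹ * ⟨x, hx⟩) = 1 := by
      rw [map_mul, map_inv, Multiplicative.toAdd.injective he, inv_mul_cancel]
    have h2 : (u : G)⁻¹ * x ∈ U := hZU (by simpa using (hker _).1 this)
    simpa using mul_mem hu h2

omit [Finite G] hp in
theorem omegaOneCenter_props {X : Subgroup G} {x : G} (hx : x ∈ omegaOneCenter p X) :
    x ∈ X ∧ x ∈ Subgroup.centralizer (X : Set G) ∧ x ^ p = 1 := by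
  induction hx using Subgroup.closure_induction with
  | mem y hy => exact ⟨hy.1.1, hy.1.2, hy.2⟩
  | one => exact ⟨one_mem _, one_mem _, one_pow _⟩
  | mul a b _ _ iha ihb =>
    refine ⟨mul_mem iha.1 ihb.1, mul_mem iha.2.1 ihb.2.1, ?_⟩
    have hab : Commute a b := Subgroup.mem_centralizer_iff.1 ihb.2.1 a iha.1
    rw [hab.mul_pow, iha.2.2, ihb.2.2, one_mul]
  | inv a _ iha => exact ⟨inv_mem iha.1, inv_mem iha.2.1, by rw [inv_pow, iha.2.2, inv_one]⟩

omit [Finite G] hp in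
theorem mem_omegaOneCenter {X : Subgroup G} {x : G} (h1 : x ∈ X)
    (h2 : x ∈ Subgroup.centralizer (X : Set G)) (h3 : x ^ p = 1) : x ∈ omegaOneCenter p X :=
  Subgroup.subset_closure ⟨⟨h1, h2⟩, h3⟩

/-- A `p`-group acting on a `p`-group fixes an element outside any proper subgroup modulo it. -/
theorem fixed_mod {R W Z : Subgroup G} (hR : IsPGroup p R) (hW : IsPGroup p W) (hZW : Z < W)
    (hRW : R ≤ Subgroup.normalizer (W : Set G)) :
    ∃ w ∈ W, w ∉ Z ∧ ∀ r ∈ R, ⁅r, w⁆ ∈ Z := by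
  set P := W ⊔ R with hP
  have hPp : IsPGroup p P := hW.to_sup_of_normal_left' hR hRW
  haveI : Group.IsNilpotent P := hPp.isNilpotent
  obtain ⟨x, hx, hxZ, hfix⟩ := Fusion.exists_fixed_mod (P := P) (N := Z.subgroupOf P)
    (C := W.subgroupOf P) (Q := R.subgroupOf P)
    (fun q hq => Subgroup.mem_normalizer_iff.2 fun y => Subgroup.mem_normalizer_iff.1 (hRW hq) (y : G))
    (fun h => hZW.not_ge fun w hw => h (x := ⟨w, Subgroup.mem_sup_left hw⟩) hw)
  refine ⟨x, hx, hxZ, fun r hr => ?_⟩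
  rw [← commutatorElement_inv]
  exact inv_mem (hfix ⟨r, Subgroup.mem_sup_right hr⟩ hr)

/-- What the definition of a block says about `W = Ω₁(Z(O_p(E)))` in both cases. -/
theorem block_section {T E : Subgroup G} (hE : IsBaumannBlock p T E) :
    E ≤ Subgroup.normalizer (omegaOneCenter p (pCoreOf p E) : Set G) ∧
      ¬ omegaOneCenter p (pCoreOf p E) ≤ Subgroup.centralizer (E : Set G) ∧
      ∀ U : Subgroup G, omegaOneCenter p (pCoreOf p E) ⊓ Subgroup.centralizer (E : Set G) ≤ U →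
        U ≤ omegaOneCenter p (pCoreOf p E) → E ≤ Subgroup.normalizer (U : Set G) →
        U = omegaOneCenter p (pCoreOf p E) ⊓ Subgroup.centralizer (E : Set G) ∨
          U = omegaOneCenter p (pCoreOf p E) := by
  obtain ⟨hres, -, -, hΩ, hcase⟩ := hE
  set W := omegaOneCenter p (pCoreOf p E) with hW
  rcases hcase with ⟨F, _, _, n, -, -, ⟨hn, -, ρ, ψ, hρ, hψ, hker, hact⟩, -⟩ |
    ⟨hp2, m, ⟨iso⟩, ⟨hn, -, ρ, ψ, hρ, hev, hψ, hker, hact⟩, -⟩
  · refine ⟨hn, fun hle => ?_, section_dichotomy inf_le_left ψ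
      (fun e v => ((ρ e : Matrix.SpecialLinearGroup (Fin 2) F) : Matrix (Fin 2) (Fin 2) F).mulVec v)
      hker hact fun S hS _ => ?_⟩
    · obtain ⟨u, hu⟩ := hψ (Multiplicative.ofAdd ![1, 0])
      have h1 : ψ u = 1 := (hker u).2 ⟨u.2, hle u.2⟩
      rw [h1] at hu
      have := congrFun (congrArg Multiplicative.toAdd hu) 0
      simp at this
    · refine (sl2_irred S fun M hM v hv => ?_).imp_right fun h u => h _
      obtain ⟨e, rfl⟩ : M ∈ ρ.range := hρ ▸ hM
      exact hS e v hv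
  · refine ⟨hn, fun hle => ?_, section_dichotomy inf_le_left ψ
      (fun e v => fun l => v ((ρ e)⁻¹ l)) hker (fun e u => ?_) fun S hS hS' => ?_⟩
    · have hm : m ≠ 0 := by
        rintro rfl
        apply hΩ
        haveI : Subsingleton (Equiv.Perm (Fin (2 * 0 + 1))) :=
          ⟨fun a b => Equiv.ext fun i => Fin.ext (by omega)⟩
        have h1 : Subsingleton (↥E ⧸ pCore p ↥E) := iso.toEquiv.subsingleton
        have htop : pCore p ↥E = ⊤ := Subgroup.eq_top_iff' _ |>.2 fun x =>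
          (QuotientGroup.eq_one_iff x).1 (Subsingleton.elim _ _)
        have hbot : E = ⊥ := by
          rw [← hres, pResidualOf, Subgroup.map_eq_bot_iff_of_injective _ E.subtype_injective,
            pResidual, Subgroup.closure_eq_bot_iff]
          intro g hg
          obtain ⟨k, hk⟩ := isPGroup_pCore p ↥E ⟨g, htop ▸ Subgroup.mem_top g⟩
          have hk' : g ^ p ^ k = 1 := congrArg Subtype.val hk
          have := Nat.Coprime.eq_one_of_dvd ((show (orderOf g).Coprime p from hg).pow_right k)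
            (orderOf_dvd_of_pow_eq_one hk')
          exact orderOf_eq_one_iff.1 this
        rw [hbot, Subgroup.commutator_bot_left]
      obtain ⟨u, hu⟩ := hψ (pairVec ⟨0, by omega⟩ ⟨1, by omega⟩) (by
        rw [Finset.sum_eq_add (f := pairVec ⟨0, by omega⟩ ⟨1, by omega⟩)
          (⟨0, by omega⟩ : Fin (2 * m + 1)) ⟨1, by omega⟩ (by simp)
          (fun l _ hl => if_neg (fun h => h.elim hl.1 hl.2)) (by simp) (by simp)]
        simp [pairVec]
        rfl)
      have h1 : ψ u = 1 := (hker u).2 ⟨u.2, hle u.2⟩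
      rw [h1] at hu
      have := congrFun hu ⟨0, by omega⟩
      simp [pairVec] at this
    · obtain ⟨w, hw, hw'⟩ := hact e u
      exact ⟨w, hw, funext hw'⟩
    · refine (perm_irred m S (fun σ hσ v hv => ?_) fun v hv => ?_).imp_right fun h u => h _ (hev u)
      · obtain ⟨e, rfl⟩ : σ ∈ ρ.range := hρ ▸ hσ
        exact hS e v hv
      · obtain ⟨u, rfl⟩ := hS' v hv
        exact hev u

variable (T : Sylow p G) {E R : Subgroup G}

/-- A normal `p`-subgroup normalizes each block. -/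
theorem normal_le_normalizer (hE : IsBaumannBlock p (T : Subgroup G) E) [R.Normal] (hR : IsPGroup p R) :
    R ≤ Subgroup.normalizer (E : Set G) :=
  pgroup_le_normalizer T hE.1 hE.2.1 hR (Subgroup.normalizer_eq_top (H := R) ▸ le_top)
    (Subgroup.normalizer_eq_top (H := R) ▸ le_top)

omit [Finite G] in
theorem pCoreOf_le (E : Subgroup G) : pCoreOf p E ≤ E := Subgroup.map_subtype_le _

/-- The commutator of `E` with a `p`-subgroup normalized by `E` and normalizing `E`. -/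
theorem commutator_le_pCoreOf {P : Subgroup G} (hP : IsPGroup p P)
    (hEP : E ≤ Subgroup.normalizer (P : Set G)) (hPE : P ≤ Subgroup.normalizer (E : Set G)) :
    ⁅P, E⁆ ≤ pCoreOf p E :=
  (le_inf (Subgroup.le_normalizer_iff_commutator_le_left.1 hEP)
    (Subgroup.le_normalizer_iff_commutator_le_right.1 hPE)).trans
    (Fusion.le_pCoreOf inf_le_right (le_normalizer_inf hEP Subgroup.le_normalizer)
      (hP.to_le inf_le_left))

/-- A normal `p`-subgroup `R` centralizes `W / C_W(E)`, and `[W, E]`. -/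
theorem normal_centralizes (hE : IsBaumannBlock p (T : Subgroup G) E) [hRn : R.Normal]
    (hR : IsPGroup p R) :
    ⁅omegaOneCenter p (pCoreOf p E), E⁆ ≤ Subgroup.centralizer (R : Set G) := by
  obtain ⟨hn, hnc, hirr⟩ := block_section hE
  set W := omegaOneCenter p (pCoreOf p E) with hW
  set Z := W ⊓ Subgroup.centralizer (E : Set G) with hZ
  have hnR := normal_le_normalizer (R := R) T hE hR
  have hEnR : E ≤ Subgroup.normalizer (R : Set G) := Subgroup.normalizer_eq_top (H := R) ▸ le_top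
  have hRE : ∀ r ∈ R, ∀ e ∈ E, ⁅r, e⁆ ∈ pCoreOf p E := fun r hr e he =>
    commutator_le_pCoreOf hR hEnR hnR (Subgroup.commutator_mem_commutator hr he)
  -- `R` normalizes `W` and `Z`
  have hNE : ∀ r ∈ R, ∀ e, (e ∈ E ↔ r * e * r⁻¹ ∈ E) := fun r hr =>
    Subgroup.mem_normalizer_iff.1 (hnR hr)
  have hQn : ∀ r ∈ R, ∀ x, x ∈ pCoreOf p E → r * x * r⁻¹ ∈ pCoreOf p E := by
    intro r hr x hx
    simpa [commutatorElement_def, mul_assoc] using mul_mem (hRE r hr x (pCoreOf_le E hx)) hx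
  have hWn : ∀ r ∈ R, ∀ x ∈ W, r * x * r⁻¹ ∈ W := by
    intro r hr x hx
    obtain ⟨h1, h2, h3⟩ := omegaOneCenter_props hx
    refine mem_omegaOneCenter (hQn r hr x h1) (Subgroup.mem_centralizer_iff.2 fun y hy => ?_) ?_
    · have := Subgroup.mem_centralizer_iff.1 h2 _ (by simpa using hQn r⁻¹ (inv_mem hr) y hy)
      calc y * (r * x * r⁻¹) = r * ((r⁻¹ * y * r) * x) * r⁻¹ := by group
        _ = r * (x * (r⁻¹ * y * r)) * r⁻¹ := by rw [this]
        _ = _ := by group
    · rw [conj_pow, h3, mul_one, mul_inv_cancel]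
  have hZn : ∀ r ∈ R, ∀ x ∈ Z, r * x * r⁻¹ ∈ Z := by
    intro r hr x hx
    refine ⟨hWn r hr x hx.1, Subgroup.mem_centralizer_iff.2 fun e he => ?_⟩
    have h1 : r⁻¹ * e * r ∈ E := by simpa using (hNE r⁻¹ (inv_mem hr) e).1 he
    calc e * (r * x * r⁻¹) = r * ((r⁻¹ * e * r) * x) * r⁻¹ := by group
      _ = r * (x * (r⁻¹ * e * r)) * r⁻¹ := by rw [Subgroup.mem_centralizer_iff.1 hx.2 _ h1]
      _ = _ := by group
  have hZW : Z ≤ W := inf_le_left
  -- conjugates by `E` of commutators with `R`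
  have hkey : ∀ r ∈ R, ∀ e ∈ E, ∀ w ∈ W, ⁅r, w⁆ ∈ Z → ⁅r, e * w * e⁻¹⁆ = ⁅r, w⁆ ∧
      e * w * e⁻¹ ∈ W := by
    intro r hr e he w hw hz
    have hw' : e * w * e⁻¹ ∈ W := (Subgroup.mem_normalizer_iff.1 (hn he) w).1 hw
    refine ⟨?_, hw'⟩
    obtain ⟨-, hz2⟩ := hz
    have hq : ⁅r, e⁆ ∈ pCoreOf p E := hRE r hr e he
    have hc : ∀ u ∈ W, ⁅r, e⁆ * u * ⁅r, e⁆⁻¹ = u := by
      intro u hu
      rw [Subgroup.mem_centralizer_iff.1 (omegaOneCenter_props hu).2.1 _ hq, mul_inv_cancel_right]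
    have e1 : r * (e * w * e⁻¹) * r⁻¹ = ⁅r, e⁆ * (e * (r * w * r⁻¹) * e⁻¹) * ⁅r, e⁆⁻¹ := by
      simp [commutatorElement_def, mul_assoc]
    have hm : e * (r * w * r⁻¹) * e⁻¹ ∈ W :=
      (Subgroup.mem_normalizer_iff.1 (hn he) _).1 (hWn r hr w hw)
    rw [hc _ hm] at e1
    have e2 : e * ⁅r, w⁆ * e⁻¹ = ⁅r, w⁆ := by
      rw [Subgroup.mem_centralizer_iff.1 hz2 e he, mul_inv_cancel_right]
    calc ⁅r, e * w * e⁻¹⁆ = r * (e * w * e⁻¹) * r⁻¹ * (e * w * e⁻¹)⁻¹ := commutatorElement_def _ _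
      _ = e * ⁅r, w⁆ * e⁻¹ := by rw [e1, commutatorElement_def]; group
      _ = _ := e2
  -- the fixed points of `R` on `W / Z`
  let U : Subgroup G :=
    { carrier := {w | w ∈ W ∧ ∀ r ∈ R, ⁅r, w⁆ ∈ Z}
      one_mem' := ⟨one_mem _, fun r _ => by simp⟩
      mul_mem' := by
        rintro a b ⟨ha, ha'⟩ ⟨hb, hb'⟩
        refine ⟨mul_mem ha hb, fun r hr => ?_⟩
        rw [commutatorElement_mul_right_eq_mul_conj]
        have : Commute a ⁅r, b⁆ :=
          Subgroup.mem_centralizer_iff.1 (omegaOneCenter_props (hZW (hb' r hr))).2.1 a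
            (omegaOneCenter_props ha).1
        have e : a * ⁅r, b⁆ * a⁻¹ = ⁅r, b⁆ := by rw [this.eq, mul_inv_cancel_right]
        simpa [mul_assoc, e] using mul_mem (ha' r hr) (hb' r hr)
      inv_mem' := by
        rintro a ⟨ha, ha'⟩
        refine ⟨inv_mem ha, fun r hr => ?_⟩
        rw [commutatorElement_inv_right]
        have : Commute a ⁅a, r⁆ :=
          Subgroup.mem_centralizer_iff.1
            (omegaOneCenter_props (hZW (commutatorElement_inv (g₁ := r) (g₂ := a) ▸ inv_mem (ha' r hr)))).2.1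
            a (omegaOneCenter_props ha).1
        rw [mul_assoc, ← this.eq, inv_mul_cancel_left, ← commutatorElement_inv]
        exact inv_mem (ha' r hr) }
  have hUW : U = W := by
    refine (hirr U ?_ (fun w hw => hw.1) ?_).resolve_left ?_
    · exact fun z hz => ⟨hz.1, fun r hr => mul_mem (hZn r hr z hz) (inv_mem hz)⟩
    · refine Subgroup.le_normalizer_iff.2 fun e he w hw => ?_
      refine ⟨(Subgroup.mem_normalizer_iff.1 (hn he) w).1 hw.1, fun r hr => ?_⟩
      rw [(hkey r hr e he w hw.1 (hw.2 r hr)).1]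
      exact hw.2 r hr
    · intro hU
      have hWZ : Z < W := lt_of_le_of_ne hZW fun h => hnc (h ▸ inf_le_right)
      -- `W / Z` is a nontrivial `p`-group acted on by the `p`-group `R`
      have hWp : IsPGroup p W :=
        (Fusion.pCoreOf_isPGroup (p := p) E).to_le fun x hx => (omegaOneCenter_props hx).1
      have hRW : R ≤ Subgroup.normalizer (W : Set G) :=
        Subgroup.le_normalizer_iff.2 hWn
      obtain ⟨w, hw, hwZ, hwc⟩ := fixed_mod hR hWp hWZ hRW
      exact hwZ (hU ▸ ⟨hw, hwc⟩)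
  refine Subgroup.commutator_le.2 fun w hw e he => Subgroup.mem_centralizer_iff.2 fun r hr => ?_
  have hz : ⁅r, w⁆ ∈ Z := (hUW.symm ▸ hw : w ∈ U).2 r hr
  obtain ⟨h1, h2⟩ := hkey r hr e he w hw hz
  have hWc : ∀ a ∈ W, ∀ b ∈ W, a * b = b * a := fun a ha b hb =>
    Subgroup.mem_centralizer_iff.1 (omegaOneCenter_props hb).2.1 a (omegaOneCenter_props ha).1
  have e0 : ⁅w, e⁆ = w * (e * w * e⁻¹)⁻¹ := by simp [commutatorElement_def, mul_assoc]
  rw [e0]
  have e1 : ⁅r, w * (e * w * e⁻¹)⁻¹⁆ = 1 := by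
    set b := e * w * e⁻¹
    set z := ⁅r, w⁆ with hzdef
    have hb : r * b * r⁻¹ = z * b := by rw [← h1]; simp [commutatorElement_def, mul_assoc]
    have hw' : r * w * r⁻¹ = z * w := by rw [hzdef]; simp [commutatorElement_def, mul_assoc]
    have hc : Commute z (w * b⁻¹) :=
      (Commute.mul_right (hWc _ (hZW hz) _ hw) (Commute.inv_right (hWc _ (hZW hz) _ h2)))
    have h3 : r * (w * b⁻¹) * r⁻¹ = w * b⁻¹ :=
      calc r * (w * b⁻¹) * r⁻¹ = (r * w * r⁻¹) * (r * b * r⁻¹)⁻¹ := by group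
        _ = z * (w * b⁻¹) * z⁻¹ := by rw [hb, hw']; group
        _ = w * b⁻¹ := by rw [hc.eq, mul_inv_cancel_right]
    rw [commutatorElement_def, h3, mul_inv_cancel]
  exact commutatorElement_eq_one_iff_mul_comm.1 e1

end Cfsg.Agent.LocalEven.Block
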