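import Mathlib
import Cfsg.Prelude.Def_LocalEven
import Cfsg.Agent.Lib.Small.SL2.Classes

/-!
# Coordinates on a natural SL₂-module
-/

set_option autoImplicit false

open Cfsg Matrix

namespace Cfsg.Agent.NatSL2

variable {F : Type*} [Field F]

local notation "SL" => Matrix.SpecialLinearGroup (Fin 2) F

/-- The transvection `(1 a; 0 1)`. -/
def u (a : F) : SL := ⟨!![1, a; 0, 1], by simp [Matrix.det_fin_two]⟩

theorem u_mul (a b : F) : u a * u b = u (a + b) := by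
  ext i j
  rw [Matrix.SpecialLinearGroup.coe_mul]
  fin_cases i <;> fin_cases j <;> simp [u, Matrix.mul_apply, Fin.sum_univ_two, add_comm]

theorem u_inj : Function.Injective (u : F → SL) := fun a b h => by
  have := congrArg (fun M : SL => (M : Matrix (Fin 2) (Fin 2) F) 0 1) h
  simpa [u] using this

variable (F) in
/-- The group of transvections `(1 a; 0 1)`. -/
def uni : Subgroup SL where
  carrier := Set.range u
  one_mem' := ⟨0, by ext i j; fin_cases i <;> fin_cases j <;> simp [u]⟩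
  mul_mem' := by rintro _ _ ⟨a, rfl⟩ ⟨b, rfl⟩; exact ⟨a + b, (u_mul a b).symm⟩
  inv_mem' := by
    rintro _ ⟨a, rfl⟩
    refine ⟨-a, eq_inv_of_mul_eq_one_left ?_⟩
    rw [u_mul, neg_add_cancel]
    ext i j; fin_cases i <;> fin_cases j <;> simp [u]

theorem mem_uni {M : SL} : M ∈ uni F ↔ ∃ a, u a = M := Iff.rfl

variable [Fintype F]

theorem card_uni : Nat.card ↥(uni F) = Fintype.card F := by
  rw [← Nat.card_eq_fintype_card]
  exact (Nat.card_congr (Equiv.ofInjective (u : F → SL) u_inj)).symm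

theorem charP_of_card {p n : ℕ} [hp : Fact p.Prime] (hF : Fintype.card F = p ^ n) : CharP F p := by
  obtain ⟨r, hr⟩ := CharP.exists F
  obtain ⟨m, hr', hc⟩ := FiniteField.card F r
  have h1 : r ∣ p ^ n := by rw [← hF, hc]; exact dvd_pow_self r m.ne_zero
  have h2 : r = p := (Nat.prime_dvd_prime_iff_eq hr' hp.out).1 (hr'.dvd_of_dvd_pow h1)
  exact h2 ▸ hr

theorem exp_pos {p n : ℕ} (hF : Fintype.card F = p ^ n) : n ≠ 0 := by
  rintro rfl
  have := Fintype.one_lt_card (α := F)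
  simp [hF] at this

theorem uni_sylow {p n : ℕ} [hp : Fact p.Prime] (hF : Fintype.card F = p ^ n) :
    ∃ P : Sylow p SL, (P : Subgroup SL) = uni F := by
  have h0 := exp_pos hF
  have hP : IsPGroup p ↥(uni F) := IsPGroup.of_card (card_uni.trans hF)
  refine ⟨hP.toSylow ?_, rfl⟩
  intro hd
  have h1 := (uni F).card_mul_index
  rw [card_uni, Small.SL2C.card_SL2] at h1
  rw [mul_left_cancel₀ Fintype.card_ne_zero h1, hF] at hd
  have h2 : p ∣ (p ^ n) ^ 2 := dvd_pow (dvd_pow_self p h0) two_ne_zero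
  have h3 : 1 ≤ (p ^ n) ^ 2 := Nat.one_le_pow _ _ (Nat.pow_pos hp.out.pos)
  have h4 := Nat.dvd_sub h2 hd
  rw [Nat.sub_sub_self h3, Nat.dvd_one] at h4
  exact hp.out.one_lt.ne' h4

/-- Conjugation by `M` as an automorphism of column vectors. -/
def vecEquiv (M : SL) : (Fin 2 → F) ≃+ (Fin 2 → F) where
  toFun v := (M : Matrix (Fin 2) (Fin 2) F).mulVec v
  invFun v := ((M⁻¹ : SL) : Matrix (Fin 2) (Fin 2) F).mulVec v
  left_inv v := by
    show ((M⁻¹ : SL) : Matrix (Fin 2) (Fin 2) F).mulVec ((M : Matrix (Fin 2) (Fin 2) F).mulVec v) = v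
    rw [Matrix.mulVec_mulVec, ← Matrix.SpecialLinearGroup.coe_mul, inv_mul_cancel]; simp
  right_inv v := by
    show (M : Matrix (Fin 2) (Fin 2) F).mulVec (((M⁻¹ : SL) : Matrix (Fin 2) (Fin 2) F).mulVec v) = v
    rw [Matrix.mulVec_mulVec, ← Matrix.SpecialLinearGroup.coe_mul, mul_inv_cancel]; simp
  map_add' := Matrix.mulVec_add _

/-- Coordinates for a faithful natural `SL₂(F)`-module with `T` the transvections. -/
structure Model {G : Type*} [Group G] (V L T : Subgroup G) (F : Type*) [Field F] where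
  norm : L ≤ Subgroup.normalizer (V : Set G)
  ρ : ↥L ≃* Matrix.SpecialLinearGroup (Fin 2) F
  ψ : Additive ↥V ≃+ (Fin 2 → F)
  act : ∀ (l : ↥L) (v : ↥V) (h : (l : G) * v * (l : G)⁻¹ ∈ V),
    ψ (Additive.ofMul ⟨(l : G) * v * (l : G)⁻¹, h⟩) =
      ((ρ l : Matrix.SpecialLinearGroup (Fin 2) F) : Matrix (Fin 2) (Fin 2) F).mulVec
        (ψ (Additive.ofMul v))
  le : T ≤ L
  mem : ∀ l : ↥L, (l : G) ∈ T ↔ ρ l ∈ uni F

theorem exists_model {G : Type*} [Group G] [Finite G] {p n : ℕ} [hp : Fact p.Prime]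
    (hF : Fintype.card F = p ^ n) {V L T : Subgroup G} (hnat : IsNaturalSL2Module F V L)
    (hf : L ⊓ Subgroup.centralizer (V : Set G) = ⊥) (S : Sylow p ↥L)
    (hT : T = (S : Subgroup ↥L).map L.subtype) : Nonempty (Model V L T F) := by
  obtain ⟨hn, ρ, ψ, hρs, hρk, hact⟩ := hnat
  have hinj : Function.Injective ρ := by
    rw [← MonoidHom.ker_eq_bot_iff, hρk, eq_bot_iff]
    intro x hx
    have : (x : G) ∈ L ⊓ Subgroup.centralizer (V : Set G) :=
      Subgroup.mem_inf.2 ⟨x.2, hx⟩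
    rw [hf, Subgroup.mem_bot] at this
    rw [Subgroup.mem_bot]
    exact Subtype.ext this
  set e : ↥L ≃* SL := MulEquiv.ofBijective ρ ⟨hinj, hρs⟩
  obtain ⟨P, hP⟩ := uni_sylow (F := F) hF
  obtain ⟨g, hg⟩ := MulAction.exists_smul_eq SL (S.mapSurjective (f := e.toMonoidHom) e.surjective) P
  refine ⟨⟨hn, e.trans (MulAut.conj g), ψ.trans (vecEquiv g), fun l v h => ?_,
    hT ▸ Subgroup.map_subtype_le _, fun l => ?_⟩⟩
  · obtain ⟨w, hw, hw'⟩ := hact l v
    rw [show (⟨(l : G) * v * (l : G)⁻¹, h⟩ : ↥V) = w from Subtype.ext hw.symm]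
    show (g : Matrix (Fin 2) (Fin 2) F).mulVec (ψ (Additive.ofMul w)) =
      ((g * ρ l * g⁻¹ : SL) : Matrix (Fin 2) (Fin 2) F).mulVec
        ((g : Matrix (Fin 2) (Fin 2) F).mulVec (ψ (Additive.ofMul v)))
    rw [hw', Matrix.mulVec_mulVec, Matrix.mulVec_mulVec, ← Matrix.SpecialLinearGroup.coe_mul,
      ← Matrix.SpecialLinearGroup.coe_mul, inv_mul_cancel_right]
  · have h1 : ((S : Subgroup ↥L).map e.toMonoidHom).map (MulAut.conj g).toMonoidHom = uni F := by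
      rw [← hP, ← hg]; rfl
    rw [← h1, hT]
    constructor
    · rintro ⟨s, hs, hsl⟩
      obtain rfl : s = l := Subtype.ext hsl
      exact ⟨_, ⟨s, hs, rfl⟩, rfl⟩
    · rintro ⟨_, ⟨s, hs, rfl⟩, hsl⟩
      exact ⟨s, hs, congrArg Subtype.val (e.injective ((MulAut.conj g).injective hsl))⟩

namespace Model

variable {G : Type*} [Group G] {V L T : Subgroup G} (D : Model V L T F)
include D

omit [Fintype F]

theorem conj_mem {l x : G} (hl : l ∈ L) (hx : x ∈ V) : l * x * l⁻¹ ∈ V :=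
  (Subgroup.mem_normalizer_iff.1 (D.norm hl) x).1 hx

/-- Coordinates of an element of `V`. -/
noncomputable def c (x : G) : Fin 2 → F :=
  letI := Classical.propDecidable (x ∈ V)
  if h : x ∈ V then D.ψ (Additive.ofMul (⟨x, h⟩ : ↥V)) else 0

theorem c_inj {x y : G} (hx : x ∈ V) (hy : y ∈ V) (h : D.c x = D.c y) : x = y := by
  rw [c, c, dif_pos hx, dif_pos hy] at h
  exact congrArg Subtype.val (Additive.ofMul.injective (D.ψ.injective h))

theorem c_surj (w : Fin 2 → F) : ∃ x ∈ V, D.c x = w := by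
  obtain ⟨a, ha⟩ := D.ψ.surjective w
  refine ⟨(Additive.toMul a : ↥V), SetLike.coe_mem _, ?_⟩
  rw [c, dif_pos (SetLike.coe_mem _)]
  exact ha

theorem c_mul {x y : G} (hx : x ∈ V) (hy : y ∈ V) : D.c (x * y) = D.c x + D.c y := by
  rw [c, c, c, dif_pos hx, dif_pos hy, dif_pos (mul_mem hx hy), ← map_add]
  rfl

theorem c_one : D.c 1 = 0 := by
  rw [c, dif_pos (one_mem V)]; exact D.ψ.map_zero

theorem c_inv {x : G} (hx : x ∈ V) : D.c x⁻¹ = -D.c x := by
  rw [c, c, dif_pos hx, dif_pos (inv_mem hx), ← map_neg]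
  rfl

theorem c_conj {l x : G} (hl : l ∈ L) (hx : x ∈ V) :
    D.c (l * x * l⁻¹) = ((D.ρ ⟨l, hl⟩ : Matrix.SpecialLinearGroup (Fin 2) F) :
      Matrix (Fin 2) (Fin 2) F).mulVec (D.c x) := by
  rw [c, c, dif_pos (D.conj_mem hl hx), dif_pos hx]
  exact D.act ⟨l, hl⟩ ⟨x, hx⟩ (D.conj_mem hl hx)

theorem exists_t {t : G} (ht : t ∈ T) :
    ∃ a : F, D.ρ ⟨t, D.le ht⟩ = u a ∧ (t ≠ 1 → a ≠ 0) := by
  obtain ⟨a, ha⟩ := (D.mem ⟨t, D.le ht⟩).1 ht
  refine ⟨a, ha.symm, fun h1 h0 => h1 ?_⟩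
  subst h0
  have h2 : D.ρ ⟨t, D.le ht⟩ = D.ρ 1 := by
    rw [← ha, map_one]
    ext i j; fin_cases i <;> fin_cases j <;> simp [u]
  exact congrArg Subtype.val (D.ρ.injective h2)

theorem exists_of_a (a : F) : ∃ t, ∃ h : t ∈ L, t ∈ T ∧ D.ρ ⟨t, h⟩ = u a := by
  refine ⟨D.ρ.symm (u a), SetLike.coe_mem _, ?_, by simp⟩
  rw [D.mem, MulEquiv.apply_symm_apply]
  exact ⟨a, rfl⟩

theorem c_t {t x : G} (ht : t ∈ T) (hx : x ∈ V) {a : F} (ha : D.ρ ⟨t, D.le ht⟩ = u a) :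
    D.c (t * x * t⁻¹) = ![D.c x 0 + a * D.c x 1, D.c x 1] := by
  rw [D.c_conj (D.le ht) hx, ha]
  funext i
  fin_cases i <;> simp [u, Matrix.mulVec, dotProduct, Fin.sum_univ_two]

theorem centralizes_iff {t x : G} (ht : t ∈ T) (hx : x ∈ V) {a : F}
    (ha : D.ρ ⟨t, D.le ht⟩ = u a) : t * x = x * t ↔ a * D.c x 1 = 0 := by
  rw [← mul_inv_eq_iff_eq_mul]
  constructor
  · intro h
    have h1 := congrFun (D.c_t ht hx ha) 0
    rw [h] at h1
    simpa using h1
  · intro h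
    refine D.c_inj (D.conj_mem (D.le ht) hx) hx ?_
    rw [D.c_t ht hx ha, h, add_zero]
    funext i; fin_cases i <;> rfl

/-- The fixed line. -/
theorem mem_fix {x : G} : x ∈ V ⊓ Subgroup.centralizer (T : Set G) ↔ x ∈ V ∧ D.c x 1 = 0 := by
  rw [Subgroup.mem_inf]
  refine and_congr_right fun hx => ?_
  rw [Subgroup.mem_centralizer_iff]
  constructor
  · intro h
    obtain ⟨t, htL, ht, ha⟩ := D.exists_of_a (1 : F)
    simpa using (D.centralizes_iff ht hx ha).1 (h t ht)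
  · intro h t ht
    obtain ⟨a, ha, -⟩ := D.exists_t ht
    exact (D.centralizes_iff ht hx ha).2 (by rw [h, mul_zero])

theorem comm_mem_fix {t x : G} (ht : t ∈ T) (hx : x ∈ V) {a : F}
    (ha : D.ρ ⟨t, D.le ht⟩ = u a) :
    x * t * x⁻¹ * t⁻¹ ∈ V ∧ D.c (x * t * x⁻¹ * t⁻¹) = ![-(a * D.c x 1), 0] := by
  have h1 : x * t * x⁻¹ * t⁻¹ = x * (t * x⁻¹ * t⁻¹) := by group
  rw [h1]
  have h2 := D.conj_mem (D.le ht) (inv_mem hx)
  refine ⟨mul_mem hx h2, ?_⟩
  rw [D.c_mul hx h2, D.c_t ht (inv_mem hx) ha, D.c_inv hx]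
  funext i; fin_cases i <;> simp

end Model

end Cfsg.Agent.NatSL2
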