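import Cfsg.Agent.Lib.LocalEven.BaumannWeak
import Cfsg.Agent.Lib.Fusion.WeakClosureFunctor

/-!
The section `W / C_W(E)` of a block: irreducibility, and the consequences for a normal `p`-subgroup.
-/

set_option autoImplicit false

open scoped commutatorElement Pointwise

namespace Cfsg.Agent.LocalEven.Block

open Cfsg Cfsg.Agent.Fusion

/-! ### The two kinds of natural modules -/

section natural

variable {F : Type*} [Field F]

theorem sum_two_squares [Fintype F] (x : F) : ∃ a b : F, x = a * a + b * b := by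
  classical
  by_cases h2 : ringChar F = 2
  · obtain ⟨a, ha⟩ := FiniteField.isSquare_of_char_two h2 x
    exact ⟨a, 0, by simp [ha]⟩
  · obtain ⟨a, b, hab⟩ := FiniteField.exists_root_sum_quadratic
      (f := (Polynomial.X : Polynomial F) ^ 2) (g := Polynomial.X ^ 2 - Polynomial.C x)
      (Polynomial.degree_X_pow 2) (Polynomial.degree_X_pow_sub_C two_pos x)
      (FiniteField.odd_card_of_char_ne_two h2)
    refine ⟨a, b, ?_⟩
    simp only [Polynomial.eval_sub, Polynomial.eval_pow, Polynomial.eval_X, Polynomial.eval_C] at hab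
    linear_combination -hab

def trU (x : F) : Matrix.SpecialLinearGroup (Fin 2) F :=
  ⟨!![1, x; 0, 1], by simp [Matrix.det_fin_two]⟩

def weylW : Matrix.SpecialLinearGroup (Fin 2) F :=
  ⟨!![0, 1; -1, 0], by simp [Matrix.det_fin_two]⟩

/-- An additive subgroup of `F²` invariant under the derived group of `SL₂(F)` is trivial or
everything. -/
theorem sl2_irred [Fintype F] (S : AddSubgroup (Fin 2 → F))
    (hS : ∀ M ∈ commutator (Matrix.SpecialLinearGroup (Fin 2) F), ∀ v ∈ S,
      ((M : Matrix.SpecialLinearGroup (Fin 2) F) : Matrix (Fin 2) (Fin 2) F).mulVec v ∈ S) :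
    (∀ v ∈ S, v = 0) ∨ ∀ v, v ∈ S := by
  have hc : ∀ (g h : Matrix.SpecialLinearGroup (Fin 2) F), ∀ v ∈ S,
      ((⁅g, h⁆ : Matrix.SpecialLinearGroup (Fin 2) F) : Matrix (Fin 2) (Fin 2) F).mulVec v ∈ S :=
    fun g h => hS _ (Subgroup.commutator_mem_commutator (Subgroup.mem_top g) (Subgroup.mem_top h))
  have e1 : ∀ (x : F) (v : Fin 2 → F),
      ((⁅weylW (F := F), trU x⁆ : Matrix.SpecialLinearGroup (Fin 2) F) : Matrix (Fin 2) (Fin 2) F).mulVec v =
        ![v 0 - x * v 1, -x * v 0 + (1 + x * x) * v 1] := by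
    intro x v
    rw [commutatorElement_def, Matrix.SpecialLinearGroup.coe_mul, Matrix.SpecialLinearGroup.coe_mul,
      Matrix.SpecialLinearGroup.coe_mul, Matrix.SpecialLinearGroup.coe_inv, Matrix.SpecialLinearGroup.coe_inv]
    simp only [weylW, trU, Matrix.adjugate_fin_two_of]
    ext i
    fin_cases i <;> simp [Matrix.mulVec, dotProduct, Fin.sum_univ_two, Matrix.mul_apply] <;> ring_nf <;> simp
  have e2 : ∀ (x : F) (v : Fin 2 → F),
      ((⁅trU x, weylW (F := F)⁆ : Matrix.SpecialLinearGroup (Fin 2) F) : Matrix (Fin 2) (Fin 2) F).mulVec v =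
        ![(1 + x * x) * v 0 + x * v 1, x * v 0 + v 1] := by
    intro x v
    rw [commutatorElement_def, Matrix.SpecialLinearGroup.coe_mul, Matrix.SpecialLinearGroup.coe_mul,
      Matrix.SpecialLinearGroup.coe_mul, Matrix.SpecialLinearGroup.coe_inv, Matrix.SpecialLinearGroup.coe_inv]
    simp only [weylW, trU, Matrix.adjugate_fin_two_of]
    ext i
    fin_cases i <;> simp [Matrix.mulVec, dotProduct, Fin.sum_univ_two, Matrix.mul_apply] <;> ring_nf <;> simp
  have hsq : ∀ (x : F), ∀ v ∈ S, (x * x) • v ∈ S := by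
    intro x v hv
    have := S.sub_mem (S.sub_mem (S.add_mem (hc weylW (trU x) v hv) (hc (trU x) weylW v hv)) hv) hv
    convert this using 1
    rw [e1, e2]
    refine funext (Fin.forall_fin_two.2 ⟨?_, ?_⟩) <;> simp [Matrix.vecHead, Matrix.vecTail] <;> ring
  have hsmul : ∀ (x : F), ∀ v ∈ S, x • v ∈ S := by
    intro x v hv
    obtain ⟨a, b, rfl⟩ := sum_two_squares x
    rw [add_smul]
    exact S.add_mem (hsq a v hv) (hsq b v hv)
  by_cases h0 : ∀ v ∈ S, v = 0
  · exact Or.inl h0
  push Not at h0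
  obtain ⟨v, hv, hv0⟩ := h0
  refine Or.inr fun w => ?_
  obtain ⟨x, hx, hx'⟩ : ∃ x : F, x ≠ 0 ∧ v 0 * v 0 - x * v 0 * v 1 - v 1 * v 1 ≠ 0 := by
    by_cases h1 : v 0 * v 0 - 1 * v 0 * v 1 - v 1 * v 1 ≠ 0
    · exact ⟨1, one_ne_zero, h1⟩
    push Not at h1
    have hab : v 0 * v 1 ≠ 0 := by
      intro h
      apply hv0
      rcases mul_eq_zero.1 h with h | h <;>
        (ext i; fin_cases i <;> simp [h] at h1 ⊢ <;> simpa using h1)
    by_cases h2 : ∃ x : F, x ≠ 0 ∧ x ≠ 1
    · obtain ⟨x, hx0, hx1⟩ := h2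
      refine ⟨x, hx0, fun h => ?_⟩
      exact mul_ne_zero (sub_ne_zero.2 hx1) hab (by linear_combination h1 - h)
    · push Not at h2
      rw [h2 (v 0) (left_ne_zero_of_mul hab), h2 (v 1) (right_ne_zero_of_mul hab)] at h1
      simp at h1
  set d : Fin 2 → F := ![-x * v 1, -x * v 0 + x * x * v 1] with hdd
  have hd : d ∈ S := by
    convert S.sub_mem (hc weylW (trU x) v hv) hv using 1
    rw [e1, hdd]
    refine funext (Fin.forall_fin_two.2 ⟨?_, ?_⟩) <;> simp <;> ring
  set D := v 0 * d 1 - v 1 * d 0 with hD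
  have hD0 : D ≠ 0 := by
    have : D = -x * (v 0 * v 0 - x * v 0 * v 1 - v 1 * v 1) := by
      simp [hD, hdd]; ring
    rw [this]
    exact mul_ne_zero (neg_ne_zero.2 hx) hx'
  have hw : w = ((w 0 * d 1 - w 1 * d 0) / D) • v + ((v 0 * w 1 - v 1 * w 0) / D) • d := by
    refine funext (Fin.forall_fin_two.2 ⟨?_, ?_⟩) <;>
      simp only [Pi.add_apply, Pi.smul_apply, smul_eq_mul] <;>
      field_simp <;> rw [hD] <;> ring
  rw [hw]
  exact S.add_mem (hsmul _ v hv) (hsmul _ d hd)

end natural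

section perm

open Equiv

theorem even_pair {n : ℕ} (a b c d : Fin n) (hab : a ≠ b) (hcd : c ≠ d) :
    ∃ σ ∈ alternatingGroup (Fin n),
      (σ a = c ∧ σ b = d) ∨ (σ a = d ∧ σ b = c) := by
  set s := swap (swap a c b) d * swap a c with hs
  have hne : c ≠ swap a c b := fun h => hab ((swap a c).injective (by simp [← h]))
  have ha : s a = c := by
    simp [hs, swap_apply_of_ne_of_ne hne hcd]
  have hb : s b = d := by simp [hs]
  rcases Int.units_eq_one_or (Perm.sign s) with h | h
  · exact ⟨s, Perm.mem_alternatingGroup.2 h, Or.inl ⟨ha, hb⟩⟩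
  · refine ⟨swap c d * s, Perm.mem_alternatingGroup.2 ?_, Or.inr ⟨by simp [ha], by simp [hb]⟩⟩
    rw [map_mul, h, Perm.sign_swap hcd]
    rfl

/-- The indicator of two letters. -/
def pairVec {n : ℕ} (a b : Fin n) : Fin n → ZMod 2 :=
  fun l => if l = a ∨ l = b then 1 else 0

theorem zmod_two_cases : ∀ x : ZMod 2, x = 0 ∨ x = 1 := by decide

/-- An additive subgroup of even-weight vectors invariant under the alternating group of odd degree
is trivial or contains all of them. -/
theorem perm_irred (m : ℕ) (S : AddSubgroup (Fin (2 * m + 1) → ZMod 2))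
    (hS : ∀ σ ∈ alternatingGroup (Fin (2 * m + 1)), ∀ v ∈ S, (fun l => v (σ⁻¹ l)) ∈ S)
    (heven : ∀ v ∈ S, ∑ l, v l = 0) :
    (∀ v ∈ S, v = 0) ∨ ∀ v : Fin (2 * m + 1) → ZMod 2, ∑ l, v l = 0 → v ∈ S := by
  classical
  by_cases h0 : ∀ v ∈ S, v = 0
  · exact Or.inl h0
  push Not at h0
  obtain ⟨v, hv, hv0⟩ := h0
  refine Or.inr ?_
  obtain ⟨i, hi⟩ := Function.ne_iff.1 hv0
  have hi' : v i = 1 := (zmod_two_cases _).resolve_left hi
  obtain ⟨j, hji, hj⟩ : ∃ j, j ≠ i ∧ v j = 1 := by
    by_contra h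
    push Not at h
    have := heven v hv
    rw [Finset.sum_eq_single i
      (fun l _ hl => (zmod_two_cases _).resolve_right (h l hl)) (by simp), hi'] at this
    exact one_ne_zero this
  obtain ⟨k, hk⟩ : ∃ k, v k = 0 := by
    by_contra h
    push Not at h
    have := heven v hv
    rw [Finset.sum_congr rfl (fun l _ => (zmod_two_cases _).resolve_left (h l))] at this
    simp [show (2 : ZMod 2) = 0 from rfl] at this
  have hki : k ≠ i := fun h => by simp [h, hi'] at hk
  have hkj : k ≠ j := fun h => by simp [h, hj] at hk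
  have hσ : swap i j * swap j k ∈ alternatingGroup (Fin (2 * m + 1)) := by
    rw [Perm.mem_alternatingGroup, map_mul, Perm.sign_swap hji.symm, Perm.sign_swap hkj.symm]
    rfl
  have hp : pairVec i k ∈ S := by
    convert S.add_mem hv (hS _ hσ v hv) using 1
    ext l
    have hone : (1 : ZMod 2) + 1 = 0 := rfl
    by_cases hl1 : l = i
    · subst hl1
      simp [pairVec, swap_apply_of_ne_of_ne, hi', hk, hji, hki, hji.symm, hki.symm, hkj, hkj.symm]
    by_cases hl2 : l = j
    · subst hl2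
      simp [pairVec, swap_apply_of_ne_of_ne, hi', hj, hone, hji, hki, hji.symm, hki.symm, hkj, hkj.symm]
    by_cases hl3 : l = k
    · subst hl3
      simp [pairVec, swap_apply_of_ne_of_ne, hk, hj, hji, hki, hji.symm, hki.symm, hkj, hkj.symm]
    rcases zmod_two_cases (v l) with h | h <;>
      simp [pairVec, swap_apply_of_ne_of_ne, h, hone, hl1, hl2, hl3]
  have hall : ∀ c d, c ≠ d → pairVec c d ∈ S := by
    intro c d hcd
    obtain ⟨σ, hσ, h⟩ := even_pair i k c d hki.symm hcd
    convert hS σ hσ _ hp using 1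
    ext l
    have e : ∀ a, σ⁻¹ l = a ↔ l = σ a := fun a => Perm.inv_eq_iff_eq
    simp only [pairVec, e]
    rcases h with ⟨h1, h2⟩ | ⟨h1, h2⟩ <;> simp [h1, h2, or_comm]
  intro w hw
  have e : w = ∑ l, if l ≠ i ∧ w l = 1 then pairVec i l else 0 := by
    ext l
    rw [Finset.sum_apply]
    by_cases hl : l = i
    · subst hl
      rw [← Finset.add_sum_erase _ _ (Finset.mem_univ l)] at hw ⊢
      simp only [ne_eq, not_true_eq_false, false_and, if_false, Pi.zero_apply, zero_add]
      rw [eq_neg_of_add_eq_zero_left hw, ZMod.neg_eq_self_mod_two]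
      refine Finset.sum_congr rfl fun t ht => ?_
      have : t ≠ l := by simpa using ht
      rcases zmod_two_cases (w t) with h | h <;> simp [this, h, pairVec]
    · rw [Finset.sum_eq_single l (fun t _ ht => ?_) (by simp)]
      · rcases zmod_two_cases (w l) with h | h <;> simp [hl, h, pairVec]
      · split_ifs <;> simp [pairVec, hl, Ne.symm ht]
  rw [e]
  refine S.sum_mem fun l _ => ?_
  split_ifs with h
  · exact hall i l h.1.symm
  · exact S.zero_mem

end perm

end Cfsg.Agent.LocalEven.Block
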