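import Cfsg.Prelude.Def_BaumannBlocks
import Cfsg.Agent.Lib.Solv.SetMul

/-!
# The Chermak–Delgado measure of a finite group
-/

set_option autoImplicit false

open scoped Pointwise

namespace Cfsg.Agent.CDLattice

variable {P : Type*} [Group P] [Finite P]

/-- The measure. -/
noncomputable def cdVal (R : Subgroup P) : ℕ :=
  Nat.card R * Nat.card (Subgroup.centralizer (R : Set P))

theorem bddAbove_vals : BddAbove {k : ℕ | ∃ R : Subgroup P, cdVal R = k} :=
  (Set.finite_range (cdVal (P := P))).bddAbove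

theorem val_le (R : Subgroup P) : cdVal R ≤ Cfsg.maxCentralizerProduct P :=
  le_csSup bddAbove_vals ⟨R, rfl⟩

theorem exists_large : ∃ R : Subgroup P, Cfsg.IsCentralizerLarge R :=
  Nat.sSup_mem (s := {k : ℕ | ∃ R : Subgroup P, cdVal R = k}) ⟨_, ⊥, rfl⟩ bddAbove_vals

theorem large_of_ge {R : Subgroup P} (h : Cfsg.maxCentralizerProduct P ≤ cdVal R) :
    Cfsg.IsCentralizerLarge R :=
  le_antisymm (val_le R) h

theorem large_centralizer {Q : Subgroup P} (hQ : Cfsg.IsCentralizerLarge Q) :
    Cfsg.IsCentralizerLarge (Subgroup.centralizer (Q : Set P)) ∧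
      Q = Subgroup.centralizer ((Subgroup.centralizer (Q : Set P) : Subgroup P) : Set P) := by
  set C := Subgroup.centralizer (Q : Set P)
  have hle : Q ≤ Subgroup.centralizer (C : Set P) := Subgroup.le_centralizer_iff.1 le_rfl
  have h1 : Cfsg.maxCentralizerProduct P ≤ cdVal C := by
    rw [← hQ, cdVal, mul_comm (Nat.card C)]
    exact Nat.mul_le_mul_right _ (Subgroup.card_le_of_le hle)
  refine ⟨large_of_ge h1, Subgroup.eq_of_le_of_card_ge hle ?_⟩
  have h2 := val_le C
  rw [← hQ, cdVal, mul_comm (Nat.card C)] at h2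
  exact Nat.le_of_mul_le_mul_right h2 Nat.card_pos

omit [Finite P] in
theorem centralizer_sup' (Q R : Subgroup P) :
    Subgroup.centralizer ((Q ⊔ R : Subgroup P) : Set P) =
      Subgroup.centralizer (Q : Set P) ⊓ Subgroup.centralizer (R : Set P) := by
  refine le_antisymm (le_inf (Subgroup.centralizer_le (SetLike.coe_subset_coe.2 le_sup_left))
    (Subgroup.centralizer_le (SetLike.coe_subset_coe.2 le_sup_right))) ?_
  rw [Subgroup.le_centralizer_iff]
  exact sup_le (Subgroup.le_centralizer_iff.1 inf_le_left) (Subgroup.le_centralizer_iff.1 inf_le_right)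

omit [Finite P] in
theorem set_mul_subset (Q R X : Subgroup P) (hQ : Q ≤ X) (hR : R ≤ X) :
    (Q : Set P) * (R : Set P) ⊆ (X : Set P) := by
  rintro _ ⟨q, hq, r, hr, rfl⟩
  exact mul_mem (hQ hq) (hR hr)

/-- The join and meet of two subgroups of largest measure. -/
theorem large_sup_inf {Q R : Subgroup P} (hQ : Cfsg.IsCentralizerLarge Q) (hR : Cfsg.IsCentralizerLarge R) :
    ((Q ⊔ R : Subgroup P) : Set P) = (Q : Set P) * (R : Set P) ∧
      Cfsg.IsCentralizerLarge (Q ⊔ R) ∧ Cfsg.IsCentralizerLarge (Q ⊓ R) ∧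
      (Subgroup.centralizer ((Q ⊓ R : Subgroup P) : Set P) : Set P) =
        (Subgroup.centralizer (Q : Set P) : Set P) * (Subgroup.centralizer (R : Set P) : Set P) := by
  set A := Subgroup.centralizer (Q : Set P) with hA
  set B := Subgroup.centralizer (R : Set P) with hB
  set M := Cfsg.maxCentralizerProduct P
  set C := Subgroup.centralizer ((Q ⊓ R : Subgroup P) : Set P)
  have hs1 : Nat.card ((Q : Set P) * (R : Set P) : Set P) ≤ Nat.card (Q ⊔ R : Subgroup P) :=
    Nat.card_mono (Set.toFinite _) (set_mul_subset Q R _ le_sup_left le_sup_right)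
  have hs2 : Nat.card ((A : Set P) * (B : Set P) : Set P) ≤ Nat.card C :=
    Nat.card_mono (Set.toFinite _) (set_mul_subset A B _
      (Subgroup.centralizer_le (SetLike.coe_subset_coe.2 inf_le_left))
      (Subgroup.centralizer_le (SetLike.coe_subset_coe.2 inf_le_right)))
  have e1 := Cfsg.Agent.Solv.card_mul_set_mul_card_inf Q R
  have e2 := Cfsg.Agent.Solv.card_mul_set_mul_card_inf A B
  set s := Nat.card ((Q : Set P) * (R : Set P) : Set P)
  set t := Nat.card ((A : Set P) * (B : Set P) : Set P)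
  set q := Nat.card (Q ⊔ R : Subgroup P) with hq
  set i := Nat.card (Q ⊓ R : Subgroup P) with hi
  set j := Nat.card (A ⊓ B : Subgroup P) with hj
  set c := Nat.card C with hc
  have hv1 : cdVal (Q ⊔ R) = q * j := by rw [cdVal, centralizer_sup']
  have hv2 : cdVal (Q ⊓ R) = i * c := rfl
  have hQv : Nat.card Q * Nat.card A = M := hQ
  have hRv : Nat.card R * Nat.card B = M := hR
  have hprod : s * i * (t * j) = M * M := by
    calc s * i * (t * j) = Nat.card Q * Nat.card R * (Nat.card A * Nat.card B) := by rw [e1, e2]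
      _ = Nat.card Q * Nat.card A * (Nat.card R * Nat.card B) := by ring
      _ = M * M := by rw [hQv, hRv]
  have hi0 : 0 < i := Nat.card_pos
  have hj0 : 0 < j := Nat.card_pos
  have hc0 : 0 < c := Nat.card_pos
  have hq0 : 0 < q := Nat.card_pos
  have b1 : q * j ≤ M := hv1 ▸ val_le _
  have b2 : i * c ≤ M := hv2 ▸ val_le _
  have hall : M * M ≤ q * j * (i * c) := by
    rw [← hprod]; calc s * i * (t * j) ≤ q * i * (c * j) := by gcongr
      _ = q * j * (i * c) := by ring
  have hM0 : 0 < M := (Nat.mul_pos hq0 hj0).trans_le b1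
  have hq1 : q * j = M := le_antisymm b1 (Nat.le_of_mul_le_mul_right
    (hall.trans (Nat.mul_le_mul_left _ b2)) hM0)
  have hi1 : i * c = M := le_antisymm b2 (Nat.le_of_mul_le_mul_left
    (hall.trans (Nat.mul_le_mul_right _ b1)) hM0)
  have hst : s * t = q * c := by
    refine Nat.eq_of_mul_eq_mul_right (Nat.mul_pos hi0 hj0) ?_
    calc s * t * (i * j) = s * i * (t * j) := by ring
      _ = q * j * (i * c) := by rw [hprod, hq1, hi1]
      _ = q * c * (i * j) := by ring
  have hs : s = q := by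
    refine le_antisymm hs1 (Nat.le_of_mul_le_mul_right ?_ hc0)
    rw [← hst]; exact Nat.mul_le_mul_left _ hs2
  have ht : t = c := by
    rw [hs] at hst
    exact Nat.eq_of_mul_eq_mul_left hq0 hst
  refine ⟨(Set.eq_of_subset_of_ncard_le (set_mul_subset Q R _ le_sup_left le_sup_right) ?_).symm,
    large_of_ge (by rw [hv1, hq1]), large_of_ge (by rw [hv2, hi1]),
    (Set.eq_of_subset_of_ncard_le (set_mul_subset A B C
      (Subgroup.centralizer_le (SetLike.coe_subset_coe.2 inf_le_left))
      (Subgroup.centralizer_le (SetLike.coe_subset_coe.2 inf_le_right))) ?_).symm⟩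
  · rw [← Nat.card_coe_set_eq, ← Nat.card_coe_set_eq]; exact le_of_eq hs.symm
  · rw [← Nat.card_coe_set_eq, ← Nat.card_coe_set_eq]; exact le_of_eq ht.symm

omit [Finite P] in
theorem card_center_eq_inf (R : Subgroup P) :
    Nat.card (Subgroup.center R) = Nat.card (R ⊓ Subgroup.centralizer (R : Set P) : Subgroup P) := by
  rw [← Subgroup.card_map_of_injective (f := R.subtype) R.subtype_injective]
  congr 2
  ext x
  constructor
  · rintro ⟨y, hy, rfl⟩
    exact ⟨y.2, Subgroup.mem_centralizer_iff.2 fun r hr =>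
      congrArg Subtype.val (Subgroup.mem_center_iff.1 hy ⟨r, hr⟩)⟩
  · rintro ⟨hx, hxc⟩
    exact ⟨⟨x, hx⟩, Subgroup.mem_center_iff.2 fun r => Subtype.ext
      (Subgroup.mem_centralizer_iff.1 hxc r r.2), rfl⟩

theorem large_sup_centralizer {Q : Subgroup P} (hQ : Cfsg.IsCentralizerLarge Q) :
    Subgroup.centralizer ((Q ⊔ Subgroup.centralizer (Q : Set P) : Subgroup P) : Set P) ≤
      Q ⊔ Subgroup.centralizer (Q : Set P) := by
  rw [centralizer_sup']
  exact inf_le_left.trans le_sup_right

theorem maxCentralProduct_eq : Cfsg.maxCentralProduct P = Cfsg.maxCentralizerProduct P := by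
  have hle : ∀ R : Subgroup P, Nat.card R * Nat.card (Subgroup.center R) ≤ cdVal R := fun R => by
    rw [card_center_eq_inf]
    exact Nat.mul_le_mul_left _ (Subgroup.card_le_of_le inf_le_right)
  refine IsGreatest.csSup_eq ⟨?_, ?_⟩
  · obtain ⟨Q, hQ⟩ := exists_large (P := P)
    have hX := (large_sup_inf hQ (large_centralizer hQ).1).2.1
    refine ⟨Q ⊔ Subgroup.centralizer (Q : Set P), ?_⟩
    rw [card_center_eq_inf, inf_eq_right.2 (large_sup_centralizer hQ)]
    exact hX
  · rintro k ⟨R, rfl⟩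
    exact (hle R).trans (val_le R)

theorem centrallyLarge_iff {R : Subgroup P} :
    Cfsg.IsCentrallyLarge R ↔ Cfsg.IsCentralizerLarge R ∧ Subgroup.centralizer (R : Set P) ≤ R := by
  unfold Cfsg.IsCentrallyLarge Cfsg.IsCentralizerLarge
  rw [maxCentralProduct_eq, card_center_eq_inf]
  constructor
  · intro h
    have h1 : Nat.card (R ⊓ Subgroup.centralizer (R : Set P) : Subgroup P) ≤
        Nat.card (Subgroup.centralizer (R : Set P)) := Subgroup.card_le_of_le inf_le_right
    have h2 := val_le R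
    have h3 : cdVal R = Cfsg.maxCentralizerProduct P :=
      le_antisymm h2 (h ▸ Nat.mul_le_mul_left _ h1)
    refine ⟨h3, inf_eq_right.1 (Subgroup.eq_of_le_of_card_ge inf_le_right ?_)⟩
    exact le_of_eq (Nat.eq_of_mul_eq_mul_left Nat.card_pos (h3.trans h.symm))
  · rintro ⟨h1, h2⟩
    rw [inf_eq_right.2 h2]
    exact h1

theorem centrallyLarge_sup {Q R : Subgroup P} (hQ : Cfsg.IsCentrallyLarge Q)
    (hR : Cfsg.IsCentrallyLarge R) :
    ((Q ⊔ R : Subgroup P) : Set P) = (Q : Set P) * (R : Set P) ∧ Cfsg.IsCentrallyLarge (Q ⊔ R) := by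
  obtain ⟨hQ1, hQ2⟩ := centrallyLarge_iff.1 hQ
  obtain ⟨hR1, -⟩ := centrallyLarge_iff.1 hR
  obtain ⟨h1, h2, -, -⟩ := large_sup_inf hQ1 hR1
  refine ⟨h1, centrallyLarge_iff.2 ⟨h2, ?_⟩⟩
  rw [centralizer_sup']
  exact inf_le_left.trans (hQ2.trans le_sup_left)

theorem centrallyLarge_sSup {s : Set (Subgroup P)} (hne : s.Nonempty)
    (h : ∀ R ∈ s, Cfsg.IsCentrallyLarge R) : Cfsg.IsCentrallyLarge (sSup s) := by
  classical
  have hfin : s.Finite := Set.toFinite _
  obtain ⟨t, rfl⟩ := hfin.exists_finset_coe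
  rw [← Finset.sup_id_eq_sSup]
  have hne' : t.Nonempty := Finset.coe_nonempty.1 hne
  rw [← Finset.sup'_eq_sup hne']
  exact Finset.sup'_induction hne' id (p := fun X => Cfsg.IsCentrallyLarge X)
    (fun A hA B hB => (centrallyLarge_sup hA hB).2) fun A hA => h A hA

theorem exists_centrallyLarge : ∃ R : Subgroup P, Cfsg.IsCentrallyLarge R := by
  obtain ⟨Q, hQ⟩ := exists_large (P := P)
  exact ⟨_, centrallyLarge_iff.2 ⟨(large_sup_inf hQ (large_centralizer hQ).1).2.1, large_sup_centralizer hQ⟩⟩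

end Cfsg.Agent.CDLattice
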