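import Cfsg.Agent.Lib.LocalEven.CDLattice
import Cfsg.Prelude.Def_PLocal

/-!
# Centrally large subgroups and abelian subgroups of largest order
-/

set_option autoImplicit false

open scoped Pointwise commutatorElement

namespace Cfsg.Agent.CDLattice

variable {P : Type*} [Group P] [Finite P]

omit [Finite P] in
theorem centralizer_eq_of_maxAbelian [Finite P] {A : Subgroup P} (hA : A ∈ Cfsg.maxAbelianSubgroups P) :
    Subgroup.centralizer (A : Set P) = A := by
  haveI := hA.1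
  have hle : A ≤ Subgroup.centralizer (A : Set P) := Subgroup.le_centralizer A
  refine le_antisymm (fun x hx => ?_) hle
  have hcom : IsMulCommutative (A ⊔ Subgroup.zpowers x : Subgroup P) := by
    have h : (A ⊔ Subgroup.zpowers x : Subgroup P) ≤
        Subgroup.centralizer ((A ⊔ Subgroup.zpowers x : Subgroup P) : Set P) := by
      rw [centralizer_sup']
      refine sup_le (le_inf hle ?_) (le_inf (Subgroup.zpowers_le.2 hx) (Subgroup.le_centralizer _))
      rw [Subgroup.le_centralizer_iff]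
      exact Subgroup.zpowers_le.2 hx
    exact ⟨⟨fun a b => Subtype.ext (Subgroup.mem_centralizer_iff.1 (h b.2) a a.2)⟩⟩
  have heq := Subgroup.eq_of_le_of_card_ge (le_sup_left : A ≤ A ⊔ Subgroup.zpowers x) (hA.2 _ hcom)
  exact heq.ge (Subgroup.mem_sup_right (Subgroup.mem_zpowers x))

omit [Finite P] in
theorem isMulCommutative_iff_le_centralizer {A : Subgroup P} :
    IsMulCommutative A ↔ A ≤ Subgroup.centralizer (A : Set P) :=
  ⟨fun _ => Subgroup.le_centralizer A,
    fun h => ⟨⟨fun a b => Subtype.ext (Subgroup.mem_centralizer_iff.1 (h b.2) a a.2)⟩⟩⟩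

omit [Finite P] in
theorem coe_sup_of_comm {H K : Subgroup P} (h : ∀ a ∈ H, ∀ b ∈ K, a * b = b * a) :
    ((H ⊔ K : Subgroup P) : Set P) = (H : Set P) * (K : Set P) := by
  refine Subgroup.coe_mul_of_right_le_normalizer_left H K (fun b hb => ?_)
  refine Subgroup.centralizer_le_normalizer _ ?_
  exact Subgroup.mem_centralizer_iff.2 fun a ha => h a ha b hb

/-- The data attached to a centrally large `Q` and an abelian subgroup `A` of largest order. -/
theorem sup_maxAbelian {Q A : Subgroup P} (hQ : Cfsg.IsCentrallyLarge Q)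
    (hA : A ∈ Cfsg.maxAbelianSubgroups P) :
    ((Q ⊔ A : Subgroup P) : Set P) = (Q : Set P) * (A : Set P) ∧ Cfsg.IsCentrallyLarge (Q ⊔ A) ∧
      ((Q ⊓ A) ⊔ Subgroup.centralizer (Q : Set P) ∈ Cfsg.maxAbelianSubgroups P) := by
  obtain ⟨hQ1, hQ2⟩ := centrallyLarge_iff.1 hQ
  have hCA := centralizer_eq_of_maxAbelian hA
  haveI := hA.1
  obtain ⟨Z, hZ⟩ : ∃ Z, Z = Subgroup.centralizer (Q : Set P) := ⟨_, rfl⟩
  rw [← hZ] at hQ2 ⊢
  obtain ⟨Y, hY⟩ : ∃ Y, Y = Q ⊓ A := ⟨_, rfl⟩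
  rw [← hY]
  have hYZ : ∀ a ∈ Y, ∀ b ∈ Z, a * b = b * a := fun a ha b hb =>
    Subgroup.mem_centralizer_iff.1 (hZ ▸ hb : b ∈ Subgroup.centralizer (Q : Set P)) a
      ((show Y ≤ Q from hY ▸ inf_le_left) ha)
  have hZZ : Z ≤ Subgroup.centralizer (Z : Set P) :=
    hQ2.trans (hZ ▸ Subgroup.le_centralizer_iff.1 le_rfl)
  have hB : IsMulCommutative (Y ⊔ Z : Subgroup P) := by
    rw [isMulCommutative_iff_le_centralizer, centralizer_sup']
    refine sup_le (le_inf ?_ ?_) (le_inf ?_ hZZ)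
    · exact (show Y ≤ A from hY ▸ inf_le_right).trans (hCA.ge.trans
        (Subgroup.centralizer_le (SetLike.coe_subset_coe.2 (hY ▸ inf_le_right))))
    · exact fun a ha => Subgroup.mem_centralizer_iff.2 fun b hb => (hYZ a ha b hb).symm
    · exact fun b hb => Subgroup.mem_centralizer_iff.2 fun a ha => hYZ a ha b hb
  have hBle : Nat.card (Y ⊔ Z : Subgroup P) ≤ Nat.card A := hA.2 _ hB
  have hYZinf : Y ⊓ Z = A ⊓ Z := by
    rw [hY]
    exact le_antisymm (inf_le_inf_right _ inf_le_right)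
      (le_inf (le_inf (inf_le_right.trans hQ2) inf_le_left) inf_le_right)
  have eB := Solv.card_mul_set_mul_card_inf Y Z
  rw [← coe_sup_of_comm hYZ, hYZinf] at eB
  have eX := Solv.card_mul_set_mul_card_inf Q A
  rw [← hY] at eX
  have hCX : Subgroup.centralizer ((Q ⊔ A : Subgroup P) : Set P) = A ⊓ Z := by
    rw [centralizer_sup', hCA, ← hZ, inf_comm]
  have hsub : (Q : Set P) * (A : Set P) ⊆ ((Q ⊔ A : Subgroup P) : Set P) :=
    set_mul_subset Q A _ le_sup_left le_sup_right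
  obtain ⟨s, hs⟩ : ∃ s, s = Nat.card ((Q : Set P) * (A : Set P) : Set P) := ⟨_, rfl⟩
  have hs1 : s ≤ Nat.card (Q ⊔ A : Subgroup P) := hs ▸ Nat.card_mono (Set.toFinite _) hsub
  rw [← hs] at eX
  change Nat.card (Y ⊔ Z : Subgroup P) * _ = _ at eB
  have hM : Nat.card Q * Nat.card Z = Cfsg.maxCentralizerProduct P := by rw [hZ]; exact hQ1
  have hval := val_le (Q ⊔ A)
  rw [cdVal, hCX] at hval
  obtain ⟨j, hj⟩ : ∃ j, j = Nat.card (A ⊓ Z : Subgroup P) := ⟨_, rfl⟩
  rw [← hj] at eB hval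
  have hy0 : 0 < Nat.card Y := Nat.card_pos
  have hj0 : 0 < j := hj ▸ Nat.card_pos
  have key : Nat.card Q * Nat.card Z ≤ s * j := by
    refine Nat.le_of_mul_le_mul_right ?_ hy0
    calc Nat.card Q * Nat.card Z * Nat.card Y = Nat.card Q * (Nat.card Y * Nat.card Z) := by ring
      _ = Nat.card Q * (Nat.card (Y ⊔ Z : Subgroup P) * j) := by rw [eB]
      _ ≤ Nat.card Q * (Nat.card A * j) := by gcongr
      _ = Nat.card Q * Nat.card A * j := by ring
      _ = s * j * Nat.card Y := by rw [← eX]; ring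
  have hsX : s = Nat.card (Q ⊔ A : Subgroup P) := by
    refine le_antisymm hs1 (Nat.le_of_mul_le_mul_right ?_ hj0)
    exact hval.trans (hM ▸ key)
  have hset : ((Q ⊔ A : Subgroup P) : Set P) = (Q : Set P) * (A : Set P) :=
    (Set.eq_of_subset_of_ncard_le hsub (by
      rw [← Nat.card_coe_set_eq, ← Nat.card_coe_set_eq, ← hs]; exact hsX.ge)).symm
  refine ⟨hset, centrallyLarge_iff.2 ⟨large_of_ge ?_, ?_⟩, hB, fun C hC => (hA.2 C hC).trans (le_of_eq ?_)⟩
  · rw [cdVal, hCX, ← hj, ← hM, ← hsX]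
    exact key
  · rw [hCX]
    exact inf_le_left.trans le_sup_right
  · rw [← hsX] at hval
    have he : Nat.card Q * Nat.card Z = s * j := le_antisymm key (hM ▸ hval)
    refine Nat.eq_of_mul_eq_mul_right (Nat.mul_pos (Nat.card_pos (α := Q)) hj0) ?_
    calc Nat.card A * (Nat.card Q * j) = Nat.card Q * Nat.card A * j := by ring
      _ = s * j * Nat.card Y := by rw [← eX]; ring
      _ = Nat.card Q * (Nat.card Y * Nat.card Z) := by rw [← he]; ring
      _ = Nat.card (Y ⊔ Z : Subgroup P) * (Nat.card Q * j) := by rw [← eB]; ring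

theorem exists_maxAbelian : ∃ A : Subgroup P, A ∈ Cfsg.maxAbelianSubgroups P := by
  classical
  haveI : Fintype {A : Subgroup P // IsMulCommutative A} := Fintype.ofFinite _
  have hbot : IsMulCommutative (⊥ : Subgroup P) := inferInstance
  obtain ⟨A, -, hA⟩ := Finset.exists_max_image (Finset.univ : Finset {A : Subgroup P // IsMulCommutative A})
    (fun A => Nat.card A.1) ⟨⟨⊥, hbot⟩, Finset.mem_univ _⟩
  exact ⟨A.1, A.2, fun B hB => hA ⟨B, hB⟩ (Finset.mem_univ _)⟩

theorem le_thompsonA {A : Subgroup P} (hA : A ∈ Cfsg.maxAbelianSubgroups P) :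
    A ≤ Cfsg.thompsonSubgroupA P :=
  le_sSup (s := Cfsg.maxAbelianSubgroups P) hA

/-- `C(Z(J))` lies in every centrally large subgroup containing `J`. -/
theorem centralizer_centerJ_le {W : Subgroup P} (hW : Cfsg.IsCentrallyLarge W)
    (hJ : Cfsg.thompsonSubgroupA P ≤ W) :
    Subgroup.centralizer ((Cfsg.thompsonSubgroupA P ⊓
      Subgroup.centralizer (Cfsg.thompsonSubgroupA P : Set P) : Subgroup P) : Set P) ≤ W := by
  obtain ⟨A, hA⟩ := exists_maxAbelian (P := P)
  have h1 : Subgroup.centralizer (W : Set P) ≤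
      Subgroup.centralizer (Cfsg.thompsonSubgroupA P : Set P) :=
    Subgroup.centralizer_le (SetLike.coe_subset_coe.2 hJ)
  have h2 : Subgroup.centralizer (W : Set P) ≤ Cfsg.thompsonSubgroupA P ⊓
      Subgroup.centralizer (Cfsg.thompsonSubgroupA P : Set P) := by
    refine le_inf ((h1.trans ?_).trans (le_thompsonA hA)) h1
    exact (Subgroup.centralizer_le (SetLike.coe_subset_coe.2 (le_thompsonA hA))).trans
      (centralizer_eq_of_maxAbelian hA).le
  refine (Subgroup.centralizer_le (SetLike.coe_subset_coe.2 h2)).trans (le_of_eq ?_)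
  exact (large_centralizer (centrallyLarge_iff.1 hW).1).2.symm

theorem sup_thompsonA {Q : Subgroup P} (hQ : Cfsg.IsCentrallyLarge Q) :
    Cfsg.IsCentrallyLarge (Q ⊔ Cfsg.thompsonSubgroupA P) := by
  obtain ⟨A, hA⟩ := exists_maxAbelian (P := P)
  have h : Q ⊔ Cfsg.thompsonSubgroupA P =
      sSup ((fun A => Q ⊔ A) '' Cfsg.maxAbelianSubgroups P) := by
    refine le_antisymm (sup_le ?_ (sSup_le fun B hB => ?_)) (sSup_le ?_)
    · exact le_sup_left.trans (le_sSup (Set.mem_image_of_mem (fun A => Q ⊔ A) hA))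
    · exact le_sup_right.trans (le_sSup (Set.mem_image_of_mem (fun A => Q ⊔ A) hB))
    · rintro _ ⟨B, hB, rfl⟩
      exact sup_le_sup_left (le_thompsonA hB) Q
  rw [h]
  refine centrallyLarge_sSup ⟨_, Set.mem_image_of_mem (fun A => Q ⊔ A) hA⟩ ?_
  rintro _ ⟨B, hB, rfl⟩
  exact (sup_maxAbelian hQ hB).2.1

omit [Finite P] in
theorem commutator_sup_central {D Z Q : Subgroup P} (hD : D ≤ Q) (hZQ : Z ≤ Q)
    (hZ : Z ≤ Subgroup.centralizer (Q : Set P)) (hset : (Q : Set P) = (D : Set P) * (Z : Set P)) :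
    ⁅Q, Q⁆ = ⁅D, D⁆ := by
  refine le_antisymm ?_ (Subgroup.commutator_mono hD hD)
  rw [Subgroup.commutator_le]
  intro x hx y hy
  obtain ⟨a, ha, b, hb, rfl⟩ : x ∈ (D : Set P) * (Z : Set P) := hset ▸ hx
  obtain ⟨c, hc, d, hd, rfl⟩ : y ∈ (D : Set P) * (Z : Set P) := hset ▸ hy
  have hc' : ∀ z ∈ Z, ∀ q ∈ Q, Commute q z := fun z hz q hq => Subgroup.mem_centralizer_iff.1 (hZ hz) q hq
  have e1 : (a * b)⁻¹ = a⁻¹ * b⁻¹ := by
    rw [mul_inv_rev]
    exact ((hc' b hb a (hD ha)).symm.inv_inv).eq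
  have e2 : (c * d)⁻¹ = c⁻¹ * d⁻¹ := by
    rw [mul_inv_rev]
    exact ((hc' d hd c (hD hc)).symm.inv_inv).eq
  have hbc : Commute c b := hc' b hb c (hD hc)
  have hda : Commute a d := hc' d hd a (hD ha)
  have hbd : Commute b d := hc' d hd b (hZQ hb)
  have : ⁅a * b, c * d⁆ = ⁅a, c⁆ := by
    rw [commutatorElement_def, commutatorElement_def, e1, e2]
    calc a * b * (c * d) * (a⁻¹ * b⁻¹) * (c⁻¹ * d⁻¹)
        = a * (b * c) * (d * a⁻¹) * (b⁻¹ * c⁻¹) * d⁻¹ := by group
      _ = a * (c * b) * (a⁻¹ * d) * (c⁻¹ * b⁻¹) * d⁻¹ := by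
          rw [hbc.eq, hda.inv_left.eq, hbc.inv_inv.eq]
      _ = a * c * (b * a⁻¹) * (d * c⁻¹) * (b⁻¹ * d⁻¹) := by group
      _ = a * c * (a⁻¹ * b) * (c⁻¹ * d) * (d⁻¹ * b⁻¹) := by
          rw [((hc' b hb a (hD ha)).inv_left).eq, ((hc' d hd c (hD hc)).inv_left).eq, (hbd.inv_inv).eq]
      _ = a * c * a⁻¹ * (b * c⁻¹) * b⁻¹ := by group
      _ = _ := by rw [← hbc.inv_left.eq]; group
  rw [this]
  exact Subgroup.commutator_mem_commutator ha hc

/-- The structure of two minimal centrally large subgroups. -/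
theorem minimal_pair {Q R : Subgroup P} (hQ : Cfsg.IsMinimalCentrallyLarge Q)
    (hR : Cfsg.IsMinimalCentrallyLarge R) :
    (Q ⊓ R) ⊔ Subgroup.centralizer (Q : Set P) = Q ∧
      (Q : Set P) = ((Q ⊓ R : Subgroup P) : Set P) * (Subgroup.centralizer (Q : Set P) : Set P) := by
  obtain ⟨hQ1, hQ2⟩ := centrallyLarge_iff.1 hQ.1
  obtain ⟨hR1, hR2⟩ := centrallyLarge_iff.1 hR.1
  obtain ⟨-, -, hD, hCD⟩ := large_sup_inf hQ1 hR1
  obtain ⟨hset, hX, -, -⟩ := large_sup_inf hD (large_centralizer hQ1).1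
  obtain ⟨Z, hZ⟩ : ∃ Z, Z = Subgroup.centralizer (Q : Set P) := ⟨_, rfl⟩
  rw [← hZ] at hQ2 hset hX ⊢
  have hCX : Subgroup.centralizer ((Q ⊓ R ⊔ Z : Subgroup P) : Set P) ≤ Q ⊓ R ⊔ Z := by
    rw [centralizer_sup', hZ, ← (large_centralizer hQ1).2]
    intro x hx
    obtain ⟨hx1, hx2⟩ := Subgroup.mem_inf.1 hx
    have hx1' : x ∈ (Subgroup.centralizer (Q : Set P) : Set P) * (Subgroup.centralizer (R : Set P) : Set P) :=
      hCD ▸ hx1
    obtain ⟨u, hu, w, hw, rfl⟩ := hx1'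
    rw [← hZ] at hu ⊢
    refine mul_mem (Subgroup.mem_sup_right hu) (Subgroup.mem_sup_left (Subgroup.mem_inf.2 ⟨?_, hR2 hw⟩))
    exact (Q.mul_mem_cancel_left (hQ2 hu)).1 hx2
  have hle : Q ⊓ R ⊔ Z ≤ Q := sup_le inf_le_left hQ2
  have heq := hQ.2 _ hle (centrallyLarge_iff.2 ⟨hX, hCX⟩)
  refine ⟨heq, ?_⟩
  rw [heq] at hset
  exact hset

theorem minimal_cards {Q R : Subgroup P} (hQ : Cfsg.IsMinimalCentrallyLarge Q)
    (hR : Cfsg.IsMinimalCentrallyLarge R) :
    ⁅Q, Q⁆ = ⁅R, R⁆ ∧ Nat.card Q = Nat.card R ∧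
      Nat.card (Subgroup.centralizer (Q : Set P)) = Nat.card (Subgroup.centralizer (R : Set P)) := by
  obtain ⟨hQ1, hQ2⟩ := centrallyLarge_iff.1 hQ.1
  obtain ⟨hR1, hR2⟩ := centrallyLarge_iff.1 hR.1
  have hq := (minimal_pair hQ hR).2
  have hr := (minimal_pair hR hQ).2
  rw [inf_comm R Q] at hr
  refine ⟨?_, ?_⟩
  · rw [commutator_sup_central inf_le_left hQ2 le_rfl hq, commutator_sup_central inf_le_right hR2 le_rfl hr]
  have eq1 := Solv.card_mul_set_mul_card_inf (Q ⊓ R) (Subgroup.centralizer (Q : Set P))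
  have eq2 := Solv.card_mul_set_mul_card_inf (Q ⊓ R) (Subgroup.centralizer (R : Set P))
  rw [← hq] at eq1
  rw [← hr] at eq2
  change Nat.card Q * _ = _ at eq1
  change Nat.card R * _ = _ at eq2
  have hcen : (Q ⊓ R) ⊓ Subgroup.centralizer (Q : Set P) = (Q ⊓ R) ⊓ Subgroup.centralizer (R : Set P) := by
    have key : ∀ (A B : Subgroup P), (A : Set P) = ((A ⊓ B : Subgroup P) : Set P) * (Subgroup.centralizer (A : Set P) : Set P) →
        (A ⊓ B) ⊓ Subgroup.centralizer (B : Set P) ≤ (A ⊓ B) ⊓ Subgroup.centralizer (A : Set P) := by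
      intro A B hA x hx
      obtain ⟨hxD, hxB⟩ := Subgroup.mem_inf.1 hx
      refine Subgroup.mem_inf.2 ⟨hxD, Subgroup.mem_centralizer_iff.2 fun a ha => ?_⟩
      rw [hA] at ha
      obtain ⟨d, hd, z, hz, rfl⟩ := ha
      have e1 : Commute d x := Subgroup.mem_centralizer_iff.1 hxB d (Subgroup.mem_inf.1 hd).2
      have e2 : Commute x z := Subgroup.mem_centralizer_iff.1 hz x (Subgroup.mem_inf.1 hxD).1
      exact (e1.mul_left e2.symm).eq
    refine le_antisymm ?_ (key Q R hq)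
    have := key R Q (by rw [inf_comm R Q]; exact hr)
    rwa [inf_comm R Q] at this
  rw [← hcen] at eq2
  have hM : Nat.card Q * Nat.card (Subgroup.centralizer (Q : Set P)) =
      Nat.card R * Nat.card (Subgroup.centralizer (R : Set P)) := hQ1.trans hR1.symm
  have hQ0 : 0 < Nat.card Q := Nat.card_pos
  have hcc : Nat.card Q = Nat.card R := by
    refine (Nat.pow_left_inj (n := 2) (by norm_num)).1 ?_
    refine Nat.eq_of_mul_eq_mul_right (Nat.mul_pos (Nat.card_pos (α := ((Q ⊓ R) ⊓ Subgroup.centralizer (Q : Set P) : Subgroup P)))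
      (Nat.card_pos (α := Subgroup.centralizer (R : Set P)))) ?_
    calc Nat.card Q ^ 2 * (Nat.card ((Q ⊓ R) ⊓ Subgroup.centralizer (Q : Set P) : Subgroup P) * Nat.card (Subgroup.centralizer (R : Set P)))
        = Nat.card Q * (Nat.card Q * Nat.card ((Q ⊓ R) ⊓ Subgroup.centralizer (Q : Set P) : Subgroup P)) * Nat.card (Subgroup.centralizer (R : Set P)) := by ring
      _ = Nat.card Q * Nat.card (Subgroup.centralizer (Q : Set P)) *
          (Nat.card (Q ⊓ R : Subgroup P) * Nat.card (Subgroup.centralizer (R : Set P))) := by rw [eq1]; ring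
      _ = Nat.card R * Nat.card (Subgroup.centralizer (R : Set P)) *
          (Nat.card R * Nat.card ((Q ⊓ R) ⊓ Subgroup.centralizer (Q : Set P) : Subgroup P)) := by rw [hM, eq2]
      _ = _ := by ring
  exact ⟨hcc, Nat.eq_of_mul_eq_mul_left hQ0 (hcc ▸ hM)⟩

theorem exists_minimal : ∃ Q : Subgroup P, Cfsg.IsMinimalCentrallyLarge Q := by
  obtain ⟨R, hR⟩ := exists_centrallyLarge (P := P)
  obtain ⟨m, -, hm⟩ := Finite.exists_le_minimal (p := fun X : Subgroup P => Cfsg.IsCentrallyLarge X) (a := R) hR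
  exact ⟨m, hm.1, fun X hXm hX => le_antisymm hXm (hm.2 hX hXm)⟩

/-- With an abelian minimal centrally large subgroup these are the abelian subgroups of largest order. -/
theorem minimal_iff_maxAbelian {Q : Subgroup P} (hQ : Cfsg.IsMinimalCentrallyLarge Q)
    (hQc : IsMulCommutative Q) (X : Subgroup P) :
    Cfsg.IsMinimalCentrallyLarge X ↔ X ∈ Cfsg.maxAbelianSubgroups P := by
  obtain ⟨hQ1, hQ2⟩ := centrallyLarge_iff.1 hQ.1
  have hQZ : Subgroup.centralizer (Q : Set P) = Q :=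
    le_antisymm hQ2 (isMulCommutative_iff_le_centralizer.1 hQc)
  have hmax : ∀ A : Subgroup P, IsMulCommutative A → Nat.card A ≤ Nat.card Q := by
    intro A hA
    have h := val_le A
    rw [← hQ1, cdVal, hQZ] at h
    have h2 : Nat.card A * Nat.card A ≤ Nat.card Q * Nat.card Q :=
      (Nat.mul_le_mul_left _ (Subgroup.card_le_of_le (isMulCommutative_iff_le_centralizer.1 hA))).trans h
    exact Nat.mul_self_le_mul_self_iff.1 h2
  constructor
  · intro hX
    have hXc : IsMulCommutative X := by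
      have h := (minimal_cards hQ hX).1
      have hbot : ⁅Q, Q⁆ = ⊥ := Subgroup.commutator_eq_bot_iff_le_centralizer.2
        (isMulCommutative_iff_le_centralizer.1 hQc)
      rw [hbot, eq_comm, Subgroup.commutator_eq_bot_iff_le_centralizer] at h
      exact isMulCommutative_iff_le_centralizer.2 h
    exact ⟨hXc, fun B hB => (minimal_cards hQ hX).2.1 ▸ hmax B hB⟩
  · intro hX
    have hCX := centralizer_eq_of_maxAbelian hX
    have hcard : Nat.card X = Nat.card Q := le_antisymm (hmax X hX.1) (hX.2 Q hQc)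
    refine ⟨centrallyLarge_iff.2 ⟨?_, hCX.le⟩, fun R hR hRl => ?_⟩
    · unfold Cfsg.IsCentralizerLarge at hQ1 ⊢
      rw [hQZ] at hQ1
      rw [hCX, hcard]
      exact hQ1
    · refine le_antisymm hR ?_
      have h1 : Subgroup.centralizer (R : Set P) ≤ R := (centrallyLarge_iff.1 hRl).2
      refine le_trans ?_ h1
      exact hCX.ge.trans (Subgroup.centralizer_le (SetLike.coe_subset_coe.2 hR))

/-- If every minimal centrally large subgroup is abelian, `C(Z(J)) = J`. -/
theorem centralizer_centerJ_eq (h : ∀ Q : Subgroup P, Cfsg.IsMinimalCentrallyLarge Q → IsMulCommutative Q) :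
    Subgroup.centralizer ((Cfsg.thompsonSubgroupA P ⊓
      Subgroup.centralizer (Cfsg.thompsonSubgroupA P : Set P) : Subgroup P) : Set P) = Cfsg.thompsonSubgroupA P := by
  obtain ⟨Q, hQ⟩ := exists_minimal (P := P)
  obtain ⟨A, hA⟩ := exists_maxAbelian (P := P)
  have hJ : Cfsg.IsCentrallyLarge (Cfsg.thompsonSubgroupA P) :=
    centrallyLarge_sSup (s := Cfsg.maxAbelianSubgroups P) ⟨A, hA⟩
      fun B hB => ((minimal_iff_maxAbelian hQ (h Q hQ) B).2 hB).1
  refine le_antisymm (centralizer_centerJ_le hJ le_rfl) ?_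
  exact Subgroup.le_centralizer_iff.1 inf_le_right

end Cfsg.Agent.CDLattice
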