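import Cfsg.Agent.Lib.LocalEven.CentrallyLarge
import Cfsg.Agent.Lib.Solv.PGroupPhi
import Cfsg.Agent.Lib.Solv.Kulakoff
import Cfsg.Agent.Lib.Fusion.Basic

/-!
# A minimal centrally large subgroup normalized by the Thompson subgroup and all the others
-/

set_option autoImplicit false

open scoped Pointwise commutatorElement

namespace Cfsg.Agent.CDLattice

variable {P : Type*} [Group P] [Finite P] {p : ℕ} [hp : Fact p.Prime]

/-- An abelian member of the lattice of subgroups of largest measure. -/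
def IsAM (S : Subgroup P) : Prop :=
  Cfsg.IsCentralizerLarge S ∧ S ≤ Subgroup.centralizer (S : Set P)

/-- The subgroups we allow as generators. -/
def IsGen (U : Subgroup P) : Prop :=
  IsAM U ∨ U ∈ Cfsg.maxAbelianSubgroups P

omit [Finite P] hp in
theorem map_centralizer_mulEquiv (e : P ≃* P) (S : Subgroup P) :
    Subgroup.centralizer ((S.map e.toMonoidHom : Subgroup P) : Set P) =
      (Subgroup.centralizer (S : Set P)).map e.toMonoidHom := by
  ext x
  constructor
  · intro hx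
    refine ⟨e.symm x, Subgroup.mem_centralizer_iff.2 fun s hs => ?_, e.apply_symm_apply x⟩
    have h := Subgroup.mem_centralizer_iff.1 hx (e s) ⟨s, hs, rfl⟩
    apply e.injective
    simp only [map_mul, e.apply_symm_apply]
    exact h
  · rintro ⟨y, hy, rfl⟩
    rw [Subgroup.mem_centralizer_iff]
    rintro _ ⟨s, hs, rfl⟩
    show e s * e y = e y * e s
    rw [← map_mul, ← map_mul, Subgroup.mem_centralizer_iff.1 hy s hs]

omit hp in
theorem large_map (e : P ≃* P) {S : Subgroup P} (h : Cfsg.IsCentralizerLarge S) :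
    Cfsg.IsCentralizerLarge (S.map e.toMonoidHom) := by
  unfold Cfsg.IsCentralizerLarge at h ⊢
  rw [map_centralizer_mulEquiv, Subgroup.card_map_of_injective (f := e.toMonoidHom) e.injective,
    Subgroup.card_map_of_injective (f := e.toMonoidHom) e.injective]
  exact h

omit hp in
theorem isAM_map (e : P ≃* P) {S : Subgroup P} (h : IsAM S) : IsAM (S.map e.toMonoidHom) := by
  refine ⟨large_map e h.1, ?_⟩
  rw [map_centralizer_mulEquiv]
  exact Subgroup.map_mono h.2

omit hp in
theorem maxAbelian_map (e : P ≃* P) {A : Subgroup P} (h : A ∈ Cfsg.maxAbelianSubgroups P) :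
    A.map e.toMonoidHom ∈ Cfsg.maxAbelianSubgroups P := by
  refine ⟨?_, fun B hB => ?_⟩
  · rw [isMulCommutative_iff_le_centralizer, map_centralizer_mulEquiv]
    exact Subgroup.map_mono (isMulCommutative_iff_le_centralizer.1 h.1)
  · rw [Subgroup.card_map_of_injective (f := e.toMonoidHom) e.injective]
    exact h.2 B hB

omit hp in
theorem isGen_map (e : P ≃* P) {U : Subgroup P} (h : IsGen U) : IsGen (U.map e.toMonoidHom) :=
  h.imp (isAM_map e) (maxAbelian_map e)

omit hp in
theorem gen_abelian {U : Subgroup P} (h : IsGen U) : U ≤ Subgroup.centralizer (U : Set P) :=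
  h.elim (fun h => h.2) fun h => isMulCommutative_iff_le_centralizer.1 h.1

omit hp in
theorem large_sInf {s : Set (Subgroup P)} (hne : s.Nonempty)
    (h : ∀ R ∈ s, Cfsg.IsCentralizerLarge R) : Cfsg.IsCentralizerLarge (sInf s) := by
  classical
  obtain ⟨t, rfl⟩ := (Set.toFinite s).exists_finset_coe
  rw [← Finset.inf_id_eq_sInf]
  have hne' : t.Nonempty := Finset.coe_nonempty.1 hne
  rw [← Finset.inf'_eq_inf hne']
  exact Finset.inf'_induction hne' id (p := fun X => Cfsg.IsCentralizerLarge X)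
    (fun A hA B hB => (large_sup_inf hA hB).2.2.1) fun A hA => h A hA

omit hp in
theorem large_sSup {s : Set (Subgroup P)} (hne : s.Nonempty)
    (h : ∀ R ∈ s, Cfsg.IsCentralizerLarge R) : Cfsg.IsCentralizerLarge (sSup s) := by
  classical
  obtain ⟨t, rfl⟩ := (Set.toFinite s).exists_finset_coe
  rw [← Finset.sup_id_eq_sSup]
  have hne' : t.Nonempty := Finset.coe_nonempty.1 hne
  rw [← Finset.sup'_eq_sup hne']
  exact Finset.sup'_induction hne' id (p := fun X => Cfsg.IsCentralizerLarge X)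
    (fun A hA B hB => (large_sup_inf hA hB).2.1) fun A hA => h A hA

omit hp in
/-- The two properties of a generator: `⟨Z^U⟩ ⊆ Z U` and `U ∩ ⟨Z^U⟩` has largest measure. -/
theorem gen_props {U Z : Subgroup P} (hU : IsGen U) (hZ : IsAM Z) :
    let T := sSup (Set.range fun u : U => Z.map (MulAut.conj (u : P)).toMonoidHom)
    (T : Set P) ⊆ (Z : Set P) * (U : Set P) ∧ Cfsg.IsCentralizerLarge (U ⊓ T) := by
  intro T
  have hTm : Cfsg.IsCentralizerLarge T := large_sSup ⟨_, ⟨1, rfl⟩⟩ (by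
    rintro _ ⟨u, rfl⟩
    exact large_map _ hZ.1)
  have hconj : ∀ X : Subgroup P, Z ≤ X → U ≤ X → T ≤ X := by
    intro X hZX hUX
    refine sSup_le ?_
    rintro _ ⟨u, rfl⟩
    rintro _ ⟨z, hz, rfl⟩
    exact mul_mem (mul_mem (hUX u.2) (hZX hz)) (inv_mem (hUX u.2))
  rcases hU with hU | hA
  · refine ⟨?_, (large_sup_inf hU.1 hTm).2.2.1⟩
    rw [← (large_sup_inf hZ.1 hU.1).1]
    exact SetLike.coe_subset_coe.2 (hconj _ le_sup_left le_sup_right)
  · obtain ⟨hC1, hCC⟩ := large_centralizer hZ.1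
    obtain ⟨Q, hQ⟩ : ∃ Q, Q = Subgroup.centralizer (Z : Set P) := ⟨_, rfl⟩
    rw [← hQ] at hC1 hCC
    have hZQ : Z ≤ Q := hQ ▸ hZ.2
    have hQcl : Cfsg.IsCentrallyLarge Q := centrallyLarge_iff.2 ⟨hC1, hCC.ge.trans hZQ⟩
    obtain ⟨hset, -, hB⟩ := sup_maxAbelian hQcl hA
    rw [← hCC] at hB
    haveI := hA.1
    have hAA : U ≤ Subgroup.centralizer (U : Set P) := Subgroup.le_centralizer U
    obtain ⟨N, hN⟩ : ∃ N, N = (Q ⊔ U) ⊓ Subgroup.centralizer ((Q ⊓ U : Subgroup P) : Set P) := ⟨_, rfl⟩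
    have hUN : U ≤ N := hN ▸ le_inf le_sup_right
      (hAA.trans (Subgroup.centralizer_le (SetLike.coe_subset_coe.2 inf_le_right)))
    have hZN : Z ≤ N := hN ▸ le_inf (hZQ.trans le_sup_left)
      (hCC.le.trans (Subgroup.centralizer_le (SetLike.coe_subset_coe.2 inf_le_left)))
    have hTZU : (T : Set P) ⊆ (Z : Set P) * (U : Set P) := by
      intro x hx
      have hxN : x ∈ N := hconj N hZN hUN hx
      rw [hN] at hxN
      obtain ⟨hxX, hxC⟩ := Subgroup.mem_inf.1 hxN
      obtain ⟨q, hq, a, ha, rfl⟩ : x ∈ (Q : Set P) * (U : Set P) := hset ▸ hxX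
      have hqC : q ∈ Subgroup.centralizer ((Q ⊓ U : Subgroup P) : Set P) :=
        ((Subgroup.centralizer ((Q ⊓ U : Subgroup P) : Set P)).mul_mem_cancel_right
          ((hAA.trans (Subgroup.centralizer_le (SetLike.coe_subset_coe.2 inf_le_right))) ha)).1 hxC
      have hqB : q ∈ (Q ⊓ U) ⊔ Z := by
        refine (centralizer_eq_of_maxAbelian hB).le ?_
        rw [centralizer_sup', ← hQ]
        exact Subgroup.mem_inf.2 ⟨hqC, hq⟩
      have hcomm : ∀ y ∈ Q ⊓ U, ∀ z ∈ Z, y * z = z * y := fun y hy z hz =>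
        (Subgroup.mem_centralizer_iff.1 (hQ ▸ (Subgroup.mem_inf.1 hy).1 : y ∈ Subgroup.centralizer (Z : Set P))
          z hz).symm
      obtain ⟨y, hy, z, hz, rfl⟩ : q ∈ ((Q ⊓ U : Subgroup P) : Set P) * (Z : Set P) :=
        coe_sup_of_comm hcomm ▸ hqB
      refine ⟨z, hz, y * a, mul_mem (Subgroup.mem_inf.1 hy).2 ha, ?_⟩
      show z * (y * a) = y * z * a
      rw [hcomm y hy z hz, mul_assoc]
    refine ⟨hTZU, ?_⟩
    obtain ⟨E, hE⟩ : ∃ E, E = U ⊓ T := ⟨_, rfl⟩
    rw [← hE]
    have hZT : Z ≤ T := by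
      refine le_trans ?_ (le_sSup (s := Set.range fun u : U => Z.map (MulAut.conj (u : P)).toMonoidHom) ⟨1, rfl⟩)
      intro z hz
      exact ⟨z, hz, by simp⟩
    have hEU : E ≤ U := hE ▸ inf_le_left
    have hTset : (T : Set P) = (Z : Set P) * (E : Set P) := by
      refine Set.Subset.antisymm (fun x hx => ?_) (set_mul_subset Z E T hZT (hE ▸ inf_le_right))
      obtain ⟨z, hz, a, ha, rfl⟩ := hTZU hx
      exact ⟨z, hz, a, hE ▸ Subgroup.mem_inf.2 ⟨ha, (T.mul_mem_cancel_left (hZT hz)).1 hx⟩, rfl⟩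
    obtain ⟨K, hK⟩ : ∃ K, K = Q ⊓ Subgroup.centralizer (E : Set P) := ⟨_, rfl⟩
    have hCT : Subgroup.centralizer (T : Set P) = K := by
      ext x
      rw [hK, Subgroup.mem_inf, hQ, Subgroup.mem_centralizer_iff, Subgroup.mem_centralizer_iff,
        Subgroup.mem_centralizer_iff]
      constructor
      · exact fun h => ⟨fun z hz => h z (hZT hz), fun e he => h e ((hE ▸ inf_le_right : E ≤ T) he)⟩
      · rintro ⟨h1, h2⟩ t ht
        rw [hTset] at ht
        obtain ⟨z, hz, e, he, rfl⟩ := ht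
        exact ((show Commute z x from h1 z hz).mul_left (show Commute e x from h2 e he)).eq
    have hUCE : U ≤ Subgroup.centralizer (E : Set P) :=
      hAA.trans (Subgroup.centralizer_le (SetLike.coe_subset_coe.2 hEU))
    have eKU := Solv.card_mul_set_mul_card_inf K U
    have hKU : Nat.card ((K : Set P) * (U : Set P) : Set P) ≤ Nat.card (Subgroup.centralizer (E : Set P)) :=
      Nat.card_mono (Set.toFinite _) (set_mul_subset K U _ (hK ▸ inf_le_right) hUCE)
    have hKUinf : K ⊓ U = Q ⊓ U := by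
      rw [hK]
      exact le_antisymm (inf_le_inf_right _ inf_le_left)
        (le_inf (le_inf inf_le_left (inf_le_right.trans hUCE)) inf_le_right)
    rw [hKUinf] at eKU
    have eT := Solv.card_mul_set_mul_card_inf Z E
    rw [← hTset] at eT
    change Nat.card T * _ = _ at eT
    have hZEinf : Z ⊓ E = Z ⊓ U := by
      rw [hE]
      exact le_antisymm (inf_le_inf_left _ inf_le_left)
        (le_inf inf_le_left (le_inf inf_le_right (inf_le_left.trans hZT)))
    rw [hZEinf] at eT
    have hcomm : ∀ y ∈ Q ⊓ U, ∀ z ∈ Z, y * z = z * y := fun y hy z hz =>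
      (Subgroup.mem_centralizer_iff.1 (hQ ▸ (Subgroup.mem_inf.1 hy).1 : y ∈ Subgroup.centralizer (Z : Set P))
        z hz).symm
    have eB := Solv.card_mul_set_mul_card_inf (Q ⊓ U) Z
    rw [← coe_sup_of_comm hcomm] at eB
    change Nat.card ((Q ⊓ U) ⊔ Z : Subgroup P) * _ = _ at eB
    have hYZ : (Q ⊓ U) ⊓ Z = Z ⊓ U :=
      le_antisymm (le_inf inf_le_right (inf_le_left.trans inf_le_right))
        (le_inf (le_inf (inf_le_left.trans hZQ) inf_le_right) inf_le_left)
    rw [hYZ, le_antisymm (hA.2 _ hB.1) (hB.2 U hA.1)] at eB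
    refine large_of_ge ?_
    rw [← hTm, cdVal, hCT]
    refine Nat.le_of_mul_le_mul_right ?_ (Nat.mul_pos (Nat.card_pos (α := (Z ⊓ U : Subgroup P)))
      (Nat.card_pos (α := (Q ⊓ U : Subgroup P))))
    calc Nat.card T * Nat.card K * (Nat.card (Z ⊓ U : Subgroup P) * Nat.card (Q ⊓ U : Subgroup P))
        = Nat.card T * Nat.card (Z ⊓ U : Subgroup P) * Nat.card (Q ⊓ U : Subgroup P) * Nat.card K := by ring
      _ = Nat.card (Q ⊓ U : Subgroup P) * Nat.card Z * Nat.card E * Nat.card K := by rw [eT]; ring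
      _ = Nat.card E * (Nat.card K * Nat.card U) * Nat.card (Z ⊓ U : Subgroup P) := by rw [← eB]; ring
      _ = Nat.card E * Nat.card ((K : Set P) * (U : Set P) : Set P) *
          (Nat.card (Z ⊓ U : Subgroup P) * Nat.card (Q ⊓ U : Subgroup P)) := by rw [← eKU]; ring
      _ ≤ _ := by gcongr

theorem key_fixed (hP : IsPGroup p P) : ∀ (n : ℕ) (G : Subgroup P), Nat.card G ≤ n →
    (∀ x ∈ G, x ∈ sSup {U : Subgroup P | IsGen U ∧ U ≤ G}) →
    ∀ X : Subgroup P, IsAM X → G ≤ Subgroup.normalizer (X : Set P) →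
      (∀ X' : Subgroup P, IsAM X' → G ≤ Subgroup.normalizer (X' : Set P) → X ≤ X' → X' = X) →
      ∀ X' : Subgroup P, IsAM X' → X ≤ X' → X' = X := by
  classical
  intro n
  induction n with
  | zero => intro G h; exact absurd h (not_le.2 Nat.card_pos)
  | succ n ih =>
    intro G hn hgen X hX hXn hXmax X₁ hX₁ hXX₁
    by_contra hne
    let 𝒩 : Set (Subgroup P) := {H | H ≤ G ∧ H ≠ G ∧ G ≤ Subgroup.normalizer (H : Set P) ∧
      (∀ x ∈ H, x ∈ sSup {U : Subgroup P | IsGen U ∧ U ≤ H})}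
    have hGne : G ≠ ⊥ := by
      rintro rfl
      exact hne (hXmax X₁ hX₁ bot_le hXX₁)
    have hbot : (⊥ : Subgroup P) ∈ 𝒩 := by
      refine ⟨bot_le, hGne.symm, fun g _ => Subgroup.normalizer_eq_top (⊥ : Subgroup P) ▸ Subgroup.mem_top g,
        fun x hx => ?_⟩
      rw [Subgroup.mem_bot.1 hx]
      exact one_mem _
    obtain ⟨H, -, hH⟩ := Finite.exists_le_maximal (p := fun H : Subgroup P => H ∈ 𝒩) (a := ⊥) hbot
    obtain ⟨⟨hHG, hHne, hHn, hHgen⟩, hHmax⟩ := hH
    obtain ⟨U, hU, hUH⟩ : ∃ U ∈ {U : Subgroup P | IsGen U ∧ U ≤ G}, ¬ U ≤ H := by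
      by_contra h
      push Not at h
      exact hHne (le_antisymm hHG fun x hx => sSup_le h (hgen x hx))
    obtain ⟨hUgen, hUG⟩ := hU
    -- `G = H ⊔ U`
    have hGHU : H ⊔ U = G := by
      by_contra hne'
      have hle : H ⊔ U ≤ G := sup_le hHG hUG
      have hlt : (H ⊔ U).subgroupOf G ≠ ⊤ := fun h => hne' (le_antisymm hle (Subgroup.subgroupOf_eq_top.1 h))
      obtain ⟨M, hM, hHUM⟩ := (eq_top_or_exists_le_coatom ((H ⊔ U).subgroupOf G)).resolve_left hlt
      haveI := Solv.coatom_normal (hP.to_subgroup G) hM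
      let C := sSup (Set.range fun g : G => U.map (MulAut.conj (g : P)).toMonoidHom)
      have hUC : U ≤ C := by
        refine le_trans ?_ (le_sSup (s := Set.range fun g : G => U.map (MulAut.conj (g : P)).toMonoidHom) ⟨1, rfl⟩)
        intro u hu
        exact ⟨u, hu, by simp⟩
      have hCn : G ≤ Subgroup.normalizer (C : Set P) := by
        intro g hg
        refine Fusion.mem_normalizer_of_cj_le ?_
        show C.map (MulAut.conj g).toMonoidHom ≤ C
        rw [Subgroup.map_le_iff_le_comap]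
        refine sSup_le ?_
        rintro _ ⟨k, rfl⟩
        rw [← Subgroup.map_le_iff_le_comap, Subgroup.map_map]
        refine le_trans (le_of_eq ?_) (le_sSup ⟨⟨g * k, mul_mem hg k.2⟩, rfl⟩)
        congr 1
        ext x
        simp [mul_assoc]
      have hCM : ∀ g : G, U.map (MulAut.conj (g : P)).toMonoidHom ≤ M.map G.subtype := by
        intro g
        rintro _ ⟨u, hu, rfl⟩
        have h1 : (⟨u, hUG hu⟩ : G) ∈ M := hHUM (Subgroup.mem_subgroupOf.2 (Subgroup.mem_sup_right hu))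
        exact ⟨g * ⟨u, hUG hu⟩ * g⁻¹, (inferInstance : M.Normal).conj_mem _ h1 g, rfl⟩
      have hnew : H ⊔ C ∈ 𝒩 := by
        refine ⟨sup_le hHG (sSup_le ?_), fun h => ?_, ?_, fun x hx => ?_⟩
        · rintro _ ⟨g, rfl⟩
          exact (hCM g).trans (Subgroup.map_subtype_le M)
        · apply hM.1
          refine eq_top_iff.2 fun y _ => ?_
          have hle' : H ⊔ C ≤ M.map G.subtype := by
            refine sup_le (fun x hx => ?_) (sSup_le ?_)
            · exact ⟨⟨x, hHG hx⟩, hHUM (Subgroup.mem_subgroupOf.2 (Subgroup.mem_sup_left hx)), rfl⟩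
            · rintro _ ⟨g, rfl⟩; exact hCM g
          obtain ⟨m, hm, hmy⟩ := hle' (h.ge y.2)
          exact (Subtype.ext hmy : m = y) ▸ hm
        · exact fun g hg => Fusion.mem_normalizer_of_cj_le (by
            rw [Fusion.cj_sup, Fusion.cj_eq_self (hHn hg), Fusion.cj_eq_self (hCn hg)])
        · refine (sup_le ?_ (sSup_le ?_) : H ⊔ C ≤ _) hx
          · intro y hy
            exact sSup_le_sSup (fun V (hV : IsGen V ∧ V ≤ H) =>
              (⟨hV.1, hV.2.trans le_sup_left⟩ : IsGen V ∧ V ≤ H ⊔ C)) (hHgen y hy)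
          · rintro _ ⟨g, rfl⟩
            exact le_sSup ⟨isGen_map _ hUgen,
              le_sup_of_le_right (le_sSup (s := Set.range fun g : G => U.map (MulAut.conj (g : P)).toMonoidHom) ⟨g, rfl⟩)⟩
      exact hUH ((hUC.trans le_sup_right).trans (hHmax hnew le_sup_left))
    -- a member `Z > X` fixed by `H`
    have hHcard : Nat.card H ≤ n := by
      have : Nat.card H < Nat.card G := lt_of_le_of_ne (Subgroup.card_le_of_le hHG) fun h =>
        hHne (Subgroup.eq_of_le_of_card_ge hHG h.ge)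
      omega
    obtain ⟨Z, hZ, hZn, hXZ, hZne⟩ : ∃ Z, IsAM Z ∧ H ≤ Subgroup.normalizer (Z : Set P) ∧ X ≤ Z ∧ Z ≠ X := by
      by_contra hcon
      push Not at hcon
      exact hne (ih H hHcard hHgen X hX (hHG.trans hXn) (fun X' h1 h2 h3 => hcon X' h1 h2 h3) X₁ hX₁ hXX₁)
    obtain ⟨hTsub, hE⟩ := gen_props hUgen hZ
    obtain ⟨T, hT⟩ : ∃ T, T = sSup (Set.range fun u : U => Z.map (MulAut.conj (u : P)).toMonoidHom) := ⟨_, rfl⟩
    rw [← hT] at hTsub hE
    have hZT : Z ≤ T := by
      rw [hT]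
      refine le_trans ?_ (le_sSup (s := Set.range fun u : U => Z.map (MulAut.conj (u : P)).toMonoidHom) ⟨1, rfl⟩)
      intro z hz
      exact ⟨z, hz, by simp⟩
    -- conjugates of `Z` under `U` are fixed by `H`
    have hZu : ∀ u : U, H ≤ Subgroup.normalizer ((Z.map (MulAut.conj (u : P)).toMonoidHom : Subgroup P) : Set P) := by
      intro u h hh
      show h ∈ Subgroup.normalizer ((Fusion.cj Z (u : P) : Subgroup P) : Set P)
      rw [← Fusion.cj_normalizer]
      refine Fusion.cj_mono hZn (u : P) ?_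
      rw [Fusion.cj_eq_self (hHn (hUG u.2))]
      exact hh
    -- the intersection of the conjugates is `X`
    obtain ⟨S, hS⟩ : ∃ S, S = sInf (Set.range fun u : U => Z.map (MulAut.conj (u : P)).toMonoidHom) := ⟨_, rfl⟩
    have hSle : S ≤ Z := by
      rw [hS]
      refine le_trans (sInf_le ⟨1, rfl⟩) ?_
      rintro _ ⟨z, hz, rfl⟩
      simpa using hz
    have hXconj : ∀ g ∈ G, X.map (MulAut.conj g).toMonoidHom = X := fun g hg => Fusion.cj_eq_self (hXn hg)
    have hXS : X ≤ S := by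
      rw [hS]
      refine le_sInf ?_
      rintro _ ⟨u, rfl⟩
      calc X = X.map (MulAut.conj (u : P)).toMonoidHom := (hXconj u (hUG u.2)).symm
        _ ≤ _ := Subgroup.map_mono hXZ
    have hSn : G ≤ Subgroup.normalizer (S : Set P) := by
      rw [← hGHU]
      refine sup_le (fun h hh => Fusion.mem_normalizer_of_cj_le ?_) (fun u hu => Fusion.mem_normalizer_of_cj_le ?_)
      · rw [hS]
        refine le_sInf ?_
        rintro _ ⟨v, rfl⟩
        calc _ ≤ Fusion.cj (Z.map (MulAut.conj (v : P)).toMonoidHom) h :=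
              Fusion.cj_mono (sInf_le (Set.mem_range_self v)) h
          _ = _ := Fusion.cj_eq_self (hZu v hh)
      · rw [hS]
        refine le_sInf ?_
        rintro _ ⟨v, rfl⟩
        calc _ ≤ Fusion.cj (Z.map (MulAut.conj ((⟨u, hu⟩⁻¹ * v : U) : P)).toMonoidHom) u :=
              Fusion.cj_mono (sInf_le (Set.mem_range_self (⟨u, hu⟩⁻¹ * v : U))) u
          _ = _ := by
              show Fusion.cj (Fusion.cj Z _) u = Fusion.cj Z v
              rw [Fusion.cj_cj]
              simp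
    have hSX : S = X := by
      refine hXmax S ⟨?_, ?_⟩ hSn hXS
      · rw [hS]
        exact large_sInf ⟨_, ⟨1, rfl⟩⟩ (by rintro _ ⟨u, rfl⟩; exact large_map _ hZ.1)
      · exact hSle.trans (hZ.2.trans (Subgroup.centralizer_le (SetLike.coe_subset_coe.2 hSle)))
    -- `X` is central in `T`, and `G` normalizes `T`
    have hTX : T ≤ Subgroup.centralizer (X : Set P) := by
      rw [hT]
      refine sSup_le ?_
      rintro _ ⟨u, rfl⟩
      show Z.map (MulAut.conj (u : P)).toMonoidHom ≤ _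
      rw [← hXconj u (hUG u.2), map_centralizer_mulEquiv]
      exact Subgroup.map_mono (hZ.2.trans (Subgroup.centralizer_le (SetLike.coe_subset_coe.2 hXZ)))
    have hTn : G ≤ Subgroup.normalizer (T : Set P) := by
      rw [← hGHU]
      refine sup_le (fun h hh => Fusion.mem_normalizer_of_cj_le ?_) (fun u hu => Fusion.mem_normalizer_of_cj_le ?_)
      · rw [hT]
        show Subgroup.map (MulAut.conj h).toMonoidHom _ ≤ _
        rw [Subgroup.map_le_iff_le_comap]
        refine sSup_le ?_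
        rintro _ ⟨v, rfl⟩
        rw [← Subgroup.map_le_iff_le_comap]
        exact (Fusion.cj_eq_self (hZu v hh)).le.trans (le_sSup (Set.mem_range_self v))
      · rw [hT]
        show Subgroup.map (MulAut.conj u).toMonoidHom _ ≤ _
        rw [Subgroup.map_le_iff_le_comap]
        refine sSup_le ?_
        rintro _ ⟨v, rfl⟩
        rw [← Subgroup.map_le_iff_le_comap]
        refine le_trans (le_of_eq ?_) (le_sSup (Set.mem_range_self (⟨u, hu⟩ * v : U)))
        show Fusion.cj (Fusion.cj Z (v : P)) u = Fusion.cj Z _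
        rw [Fusion.cj_cj]
        rfl
    -- a fixed point of `G` on `T / X`
    obtain ⟨v, hvT, hvX, hvfix⟩ : ∃ v ∈ T, v ∉ X ∧ ∀ g ∈ G, ⁅g, v⁆ ∈ X := by
      obtain ⟨K, hK⟩ : ∃ K, K = T ⊔ G := ⟨_, rfl⟩
      have hXK : K ≤ Subgroup.normalizer (X : Set P) := hK ▸ sup_le
        (hTX.trans (Subgroup.centralizer_le_normalizer _)) hXn
      have hTK : K ≤ Subgroup.normalizer (T : Set P) := hK ▸ sup_le Subgroup.le_normalizer hTn
      haveI : (X.subgroupOf K).Normal :=
        Subgroup.normal_subgroupOf_of_le_normalizer hXK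
      haveI : (T.subgroupOf K).Normal :=
        Subgroup.normal_subgroupOf_of_le_normalizer hTK
      let π := QuotientGroup.mk' (X.subgroupOf K)
      haveI : ((T.subgroupOf K).map π).Normal :=
        Subgroup.Normal.map inferInstance _ (QuotientGroup.mk'_surjective _)
      have hne2 : (T.subgroupOf K).map π ≠ ⊥ := by
        intro h
        rw [Subgroup.map_eq_bot_iff, QuotientGroup.ker_mk'] at h
        refine hZne (le_antisymm (fun z hz => ?_) hXZ)
        have hzK : z ∈ K := hK ▸ Subgroup.mem_sup_left (hZT hz)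
        exact Subgroup.mem_subgroupOf.1 (h (show (⟨z, hzK⟩ : K) ∈ T.subgroupOf K from hZT hz))
      have hKp : IsPGroup p (K ⧸ X.subgroupOf K) := (hP.to_subgroup K).to_quotient _
      obtain ⟨c, hc, hc'⟩ : ∃ c ∈ (T.subgroupOf K).map π, c ∈ Subgroup.center (K ⧸ X.subgroupOf K) ∧ c ≠ 1 := by
        obtain ⟨c, hc, hcz, hco⟩ := Solv.exists_central_order hKp _ hne2
        exact ⟨c, hc, hcz, fun h => hp.out.ne_one (by rw [← hco, h, orderOf_one])⟩
      obtain ⟨⟨v, hvK⟩, hv, rfl⟩ := hc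
      refine ⟨v, hv, fun h => hc'.2 ((QuotientGroup.eq_one_iff _).2 (Subgroup.mem_subgroupOf.2 h)), fun g hg => ?_⟩
      have h2 := Subgroup.mem_center_iff.1 hc'.1 (π ⟨g, hK ▸ Subgroup.mem_sup_right hg⟩)
      rw [← commutatorElement_eq_one_iff_mul_comm, ← map_commutatorElement, QuotientGroup.mk'_apply,
        QuotientGroup.eq_one_iff, Subgroup.mem_subgroupOf] at h2
      exact h2
    obtain ⟨z, hz, a, ha, rfl⟩ := hTsub hvT
    have haT : a ∈ U ⊓ T := Subgroup.mem_inf.2 ⟨ha, (T.mul_mem_cancel_left (hZT hz)).1 hvT⟩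
    have hzX : z ∈ X := by
      rw [← hSX, hS, Subgroup.mem_sInf]
      rintro _ ⟨u, rfl⟩
      have hu' : (u : P)⁻¹ * z * (u : P) ∈ Z := by
        have hfix := hXZ (hvfix _ (inv_mem (hUG u.2)))
        rw [commutatorElement_def, inv_inv] at hfix
        have hau : Commute a (u : P) := Subgroup.mem_centralizer_iff.1 (gen_abelian hUgen u.2) a ha
        have e : (u : P)⁻¹ * (z * a) * (u : P) * (z * a)⁻¹ = (u : P)⁻¹ * z * (u : P) * z⁻¹ := by
          rw [mul_inv_rev, ← mul_assoc _ z a, mul_assoc _ a (u : P), hau.eq]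
          group
        rw [e] at hfix
        have := mul_mem hfix hz
        rwa [inv_mul_cancel_right] at this
      exact ⟨_, hu', by simp [mul_assoc]⟩
    -- the smallest member containing `X` and `v` is abelian and fixed by `G`
    obtain ⟨hX2, hSm, -, -⟩ := large_sup_inf hX.1 hE
    have hEab : IsAM (X ⊔ U ⊓ T) := by
      refine ⟨hSm, ?_⟩
      rw [centralizer_sup']
      have hEX : U ⊓ T ≤ Subgroup.centralizer (X : Set P) := inf_le_right.trans hTX
      refine sup_le (le_inf hX.2 (Subgroup.le_centralizer_iff.1 hEX)) (le_inf hEX ?_)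
      exact (inf_le_left.trans (gen_abelian hUgen)).trans
        (Subgroup.centralizer_le (SetLike.coe_subset_coe.2 inf_le_left))
    obtain ⟨S', hS'⟩ : ∃ S', S' = sInf {R : Subgroup P | Cfsg.IsCentralizerLarge R ∧ X ≤ R ∧ z * a ∈ R} := ⟨_, rfl⟩
    have hmem : z * a ∈ X ⊔ U ⊓ T := mul_mem (Subgroup.mem_sup_left hzX) (Subgroup.mem_sup_right haT)
    have hS'le : S' ≤ X ⊔ U ⊓ T := hS' ▸ sInf_le ⟨hSm, le_sup_left, hmem⟩
    have hXS' : X ≤ S' := hS' ▸ le_sInf fun R hR => hR.2.1
    have hvS' : z * a ∈ S' := by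
      rw [hS', Subgroup.mem_sInf]
      exact fun R hR => hR.2.2
    have hS'n : G ≤ Subgroup.normalizer (S' : Set P) := by
      intro g hg
      refine Fusion.mem_normalizer_of_cj_le ?_
      rw [hS']
      refine le_sInf fun R hR => ?_
      have hR' : R.map (MulAut.conj g⁻¹).toMonoidHom ∈
          {R : Subgroup P | Cfsg.IsCentralizerLarge R ∧ X ≤ R ∧ z * a ∈ R} := by
        refine ⟨large_map _ hR.1, ?_, ?_⟩
        · exact (hXconj _ (inv_mem hg)).ge.trans (Subgroup.map_mono hR.2.1)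
        · have h3 := hR.2.1 (hvfix g hg)
          rw [commutatorElement_def] at h3
          have h4 := mul_mem h3 hR.2.2
          rw [inv_mul_cancel_right] at h4
          exact ⟨g * (z * a) * g⁻¹, h4, by simp [mul_assoc]⟩
      calc _ ≤ Fusion.cj (R.map (MulAut.conj g⁻¹).toMonoidHom) g := Fusion.cj_mono (sInf_le hR') g
        _ = R := Fusion.cj_inv_cj R g
    have hS'AM : IsAM S' := by
      refine ⟨hS' ▸ large_sInf ⟨_, hSm, le_sup_left, hmem⟩ (fun R hR => hR.1), ?_⟩
      exact hS'le.trans (hEab.2.trans (Subgroup.centralizer_le (SetLike.coe_subset_coe.2 hS'le)))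
    exact hvX ((hXmax S' hS'AM hS'n hXS').le hvS')

/-- A minimal centrally large subgroup normalized by `J(P)` and by all minimal centrally large ones. -/
theorem exists_normalized (hP : IsPGroup p P) : ∃ Q : Subgroup P, Cfsg.IsMinimalCentrallyLarge Q ∧
    Cfsg.thompsonSubgroupA P ≤ Subgroup.normalizer (Q : Set P) ∧
    Cfsg.minimalCentrallyLargeJoin P ≤ Subgroup.normalizer (Q : Set P) := by
  classical
  obtain ⟨G, hG⟩ : ∃ G, G = sSup {U : Subgroup P | IsGen U} := ⟨_, rfl⟩
  obtain ⟨W, hW⟩ : ∃ W, W = Cfsg.centrallyLargeJoin P := ⟨_, rfl⟩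
  obtain ⟨R0, hR0⟩ := exists_centrallyLarge (P := P)
  have hWcl : Cfsg.IsCentrallyLarge W := hW ▸ centrallyLarge_sSup ⟨R0, hR0⟩ fun X hX => hX
  obtain ⟨hW1, hW2⟩ := centrallyLarge_iff.1 hWcl
  have hWn : ∀ g : P, W.map (MulAut.conj g).toMonoidHom ≤ W := by
    intro g
    rw [hW, Subgroup.map_le_iff_le_comap]
    refine sSup_le fun R hR => ?_
    rw [← Subgroup.map_le_iff_le_comap]
    refine le_sSup (centrallyLarge_iff.2 ⟨large_map _ (centrallyLarge_iff.1 hR).1, ?_⟩)
    rw [map_centralizer_mulEquiv]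
    exact Subgroup.map_mono (centrallyLarge_iff.1 hR).2
  have hX0 : IsAM (Subgroup.centralizer (W : Set P)) :=
    ⟨(large_centralizer hW1).1, hW2.trans (large_centralizer hW1).2.le⟩
  have hX0n : G ≤ Subgroup.normalizer (Subgroup.centralizer (W : Set P) : Set P) := by
    intro g _
    refine Fusion.mem_normalizer_of_cj_le ?_
    show (Subgroup.centralizer (W : Set P)).map (MulAut.conj g).toMonoidHom ≤ _
    rw [← map_centralizer_mulEquiv]
    refine Subgroup.centralizer_le (SetLike.coe_subset_coe.2 ?_)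
    exact (Fusion.cj_inv_cj W g).ge.trans (Fusion.cj_mono (hWn g⁻¹) g)
  obtain ⟨X, -, ⟨hX, hXn⟩, hXmax⟩ := Finite.exists_le_maximal
    (p := fun X : Subgroup P => IsAM X ∧ G ≤ Subgroup.normalizer (X : Set P))
    (a := Subgroup.centralizer (W : Set P)) ⟨hX0, hX0n⟩
  have hkey := key_fixed hP (Nat.card G) G le_rfl (fun x hx => by
      rw [hG] at hx
      refine sSup_le_sSup (fun U (hU : IsGen U) => (⟨hU, ?_⟩ : IsGen U ∧ U ≤ G)) hx
      rw [hG]; exact le_sSup hU) X hX hXn
    (fun X' h1 h2 h3 => le_antisymm (hXmax ⟨h1, h2⟩ h3) h3)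
  obtain ⟨hQ1, hXX⟩ := large_centralizer hX.1
  obtain ⟨Q, hQ⟩ : ∃ Q, Q = Subgroup.centralizer (X : Set P) := ⟨_, rfl⟩
  rw [← hQ] at hQ1 hXX
  have hQcl : Cfsg.IsCentrallyLarge Q := centrallyLarge_iff.2 ⟨hQ1, hXX.ge.trans (hQ ▸ hX.2)⟩
  have hQm : Cfsg.IsMinimalCentrallyLarge Q := by
    refine ⟨hQcl, fun R hR hRcl => ?_⟩
    obtain ⟨hR1, hR2⟩ := centrallyLarge_iff.1 hRcl
    have hXR : X ≤ Subgroup.centralizer (R : Set P) :=
      hXX.le.trans (Subgroup.centralizer_le (SetLike.coe_subset_coe.2 hR))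
    have h := hkey _ ⟨(large_centralizer hR1).1, hR2.trans (large_centralizer hR1).2.le⟩ hXR
    rw [(large_centralizer hR1).2, h, hQ]
  have hGQ : G ≤ Subgroup.normalizer (Q : Set P) := by
    intro g hg
    refine Fusion.mem_normalizer_of_cj_le ?_
    show Q.map (MulAut.conj g).toMonoidHom ≤ Q
    rw [hQ, ← map_centralizer_mulEquiv, show X.map (MulAut.conj g).toMonoidHom = X from Fusion.cj_eq_self (hXn hg)]
  refine ⟨Q, hQm, le_trans (sSup_le fun A hA => hG ▸ le_sSup (Or.inr hA)) hGQ, sSup_le fun R hR => ?_⟩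
  obtain ⟨hR1, hR2⟩ := centrallyLarge_iff.1 hR.1
  rw [← (minimal_pair hR hQm).1]
  refine sup_le (inf_le_right.trans Subgroup.le_normalizer) (le_trans ?_ hGQ)
  rw [hG]
  exact le_sSup (Or.inl ⟨(large_centralizer hR1).1, hR2.trans (large_centralizer hR1).2.le⟩)

end Cfsg.Agent.CDLattice
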