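import Cfsg.Agent.Lib.LocalEven.SL2Displacement
import Cfsg.Prelude.Def_EvenType
import Cfsg.Agent.Lib.Fusion.Cores

/-!
# Index of fixed points of `p`-elements of groups with an `L₂(q)` quotient
-/

set_option autoImplicit false

open scoped commutatorElement

namespace Cfsg.Agent.LocalEven.DispCount

open Cfsg Cfsg.Agent.Small Cfsg.Agent.Small.SL2C

variable {G : Type*} [Group G] [Finite G] {p : ℕ} [hp : Fact p.Prime] {V H : Subgroup G}

omit hp in
theorem relIndex_mul_card {U W : Subgroup G} (hU : U ≤ W) : U.relIndex W * Nat.card U = Nat.card W := by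
  rw [← Subgroup.relIndex_bot_left U, ← Subgroup.relIndex_bot_left W, mul_comm,
    Subgroup.relIndex_mul_relIndex _ _ _ bot_le hU]

omit [Finite G] in
theorem isPGroup_elemAb (hV : IsElementaryAbelian p V) : IsPGroup p V :=
  fun v => ⟨1, Subtype.ext (by rw [pow_one]; exact hV.2 v v.2)⟩

/-- An element of prime power order `r ^ (l + 1)` acting faithfully: the index `p ^ d` of the fixed points
of its part of order `r` satisfies `r ^ (l + 1) ∣ p ^ d - 1`. -/
theorem free_count (hV : IsElementaryAbelian p V) (hHV : H ≤ Subgroup.normalizer (V : Set G))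
    (hf : H ⊓ Subgroup.centralizer (V : Set G) = ⊥) {r l : ℕ} (hr : r.Prime) (hrp : r ≠ p) {y : G}
    (hy : y ∈ H) (hoy : orderOf y = r ^ (l + 1)) :
    ∃ d : ℕ, 1 ≤ d ∧ (V ⊓ Subgroup.centralizer ({y ^ r ^ l} : Set G)).relIndex V = p ^ d ∧
      r ^ (l + 1) ∣ p ^ d - 1 := by
  classical
  have hp' := hp.out
  have hVp := isPGroup_elemAb hV
  set z := y ^ r ^ l with hz
  set D := V ⊓ Subgroup.centralizer ({z} : Set G) with hD
  obtain ⟨d, hd⟩ := hVp.index (D.subgroupOf V)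
  have hd1 : 1 ≤ d := by
    by_contra h
    have h0 : d = 0 := by omega
    rw [h0, pow_zero, Subgroup.index_eq_one, Subgroup.subgroupOf_eq_top] at hd
    have h1 : z ∈ H ⊓ Subgroup.centralizer (V : Set G) :=
      ⟨pow_mem hy _, Subgroup.mem_centralizer_iff.2 fun v hv =>
        (Subgroup.mem_centralizer_iff.1 (hd hv).2 z rfl).symm⟩
    rw [hf, Subgroup.mem_bot] at h1
    have h2 := Nat.le_of_dvd (pow_pos hr.pos l) (hoy ▸ orderOf_dvd_of_pow_eq_one h1)
    exact absurd h2 (not_le.2 (Nat.pow_lt_pow_right hr.one_lt (Nat.lt_succ_self l)))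
  refine ⟨d, hd1, hd, ?_⟩
  let σ : G → G → G := fun h v => h * v * h⁻¹
  have hmemH : ∀ h ∈ Subgroup.zpowers y, h ∈ H := fun h hh => Subgroup.zpowers_le.2 hy hh
  have hzy : ∀ h ∈ Subgroup.zpowers y, Commute z h := by
    rintro _ ⟨i, rfl⟩
    exact ((Commute.refl y).pow_left _).zpow_right i
  let X := {v : G // v ∈ V ∧ v ∉ D}
  have hmem : ∀ h ∈ Subgroup.zpowers y, ∀ v : G, v ∈ V → v ∉ D → σ h v ∈ V ∧ σ h v ∉ D := by
    intro h hh v hv hvD
    refine ⟨(Subgroup.mem_normalizer_iff.1 (hHV (hmemH h hh)) v).1 hv,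
      fun hc => hvD ⟨hv, Subgroup.mem_centralizer_iff.2 ?_⟩⟩
    rintro w rfl
    have h1 : z * σ h v = σ h v * z := Subgroup.mem_centralizer_iff.1 hc.2 _ rfl
    have h2 : z * h = h * z := (hzy h hh).eq
    refine mul_left_cancel (a := h) (mul_right_cancel (b := h⁻¹) ?_)
    calc h * (z * v) * h⁻¹ = z * σ h v := by simp only [σ]; rw [← mul_assoc, ← h2]; group
      _ = h * (v * z) * h⁻¹ := by
          rw [h1]; simp only [σ]
          rw [mul_assoc _ h⁻¹ z, (Commute.inv_right h2).eq.symm]; group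
  letI : MulAction (Subgroup.zpowers y) X :=
    { smul := fun h v => ⟨σ h v, hmem h h.2 v v.2.1 v.2.2⟩
      one_smul := fun v => Subtype.ext (show σ (1 : G) v = v by simp [σ])
      mul_smul := fun h h' v => Subtype.ext (show σ ((h : G) * h') v = σ h (σ h' v) by
        simp [σ, mul_assoc]) }
  have hfree : ∀ v : X, MulAction.stabilizer (Subgroup.zpowers y) v = ⊥ := by
    intro v
    by_contra hne
    obtain ⟨⟨h, hh⟩, hh1'⟩ := Subgroup.ne_bot_iff_exists_ne_one.1 hne
    have hh1 : h ≠ 1 := fun e => hh1' (Subtype.ext e)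
    have hzh : z ∈ Subgroup.zpowers (h : G) := by
      obtain ⟨i, hi⟩ := Subgroup.mem_zpowers_iff.1 h.2
      obtain ⟨e, he', hge⟩ := (Nat.dvd_prime_pow hr).1 (Nat.gcd_dvd_right i.natAbs (r ^ (l + 1)))
      rcases eq_or_lt_of_le he' with rfl | hlt
      · exfalso
        apply hh1
        apply Subtype.ext
        rw [OneMemClass.coe_one, ← hi, ← orderOf_dvd_iff_zpow_eq_one, hoy]
        exact Int.natCast_dvd.2 (hge ▸ Nat.gcd_dvd_left _ _)
      · have hb1 := Int.gcd_eq_gcd_ab i ((r ^ (l + 1) : ℕ) : ℤ)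
        have hb2 : Int.gcd i ((r ^ (l + 1) : ℕ) : ℤ) = r ^ e := by
          rw [Int.gcd_def, Int.natAbs_natCast, hge]
        have hy1 : y ^ ((r ^ (l + 1) : ℕ) : ℤ) = 1 := by rw [zpow_natCast, ← hoy, pow_orderOf_eq_one]
        have h5 : y ^ r ^ e ∈ Subgroup.zpowers (h : G) := by
          refine Subgroup.mem_zpowers_iff.2 ⟨Int.gcdA i ((r ^ (l + 1) : ℕ) : ℤ), ?_⟩
          rw [← zpow_natCast y (r ^ e), ← hb2, hb1, zpow_add, zpow_mul, zpow_mul, hy1, one_zpow,
            mul_one, hi]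
        rw [hz, show r ^ l = r ^ e * r ^ (l - e) by rw [← pow_add]; congr 1; omega, pow_mul]
        exact pow_mem h5 _
    have hvh : σ (h : G) v = v := congrArg Subtype.val (MulAction.mem_stabilizer_iff.1 hh)
    refine v.2.2 ⟨v.2.1, Subgroup.mem_centralizer_iff.2 ?_⟩
    rintro w rfl
    obtain ⟨i, hi⟩ := Subgroup.mem_zpowers_iff.1 hzh
    rw [← hi]
    exact Commute.zpow_left (mul_inv_eq_iff_eq_mul.1 hvh) i
  haveI : Fintype X := Fintype.ofFinite _
  have hdvd : r ^ (l + 1) ∣ Nat.card X := by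
    rw [← hoy, ← Nat.card_zpowers]
    refine ⟨Nat.card (Quotient (MulAction.orbitRel (Subgroup.zpowers y) X)), ?_⟩
    rw [Nat.card_congr (MulAction.selfEquivSigmaOrbits (Subgroup.zpowers y) X), Nat.card_sigma]
    rw [Finset.sum_congr rfl fun ω _ => ?_, Finset.sum_const, Finset.card_univ,
      ← Nat.card_eq_fintype_card, smul_eq_mul, mul_comm]
    rw [Nat.card_congr (MulAction.orbitEquivQuotientStabilizer (Subgroup.zpowers y) ω.out), hfree]
    exact Nat.card_congr (QuotientGroup.quotientBot (G := Subgroup.zpowers y)).toEquiv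
  have hX : Nat.card X + Nat.card D = Nat.card V := by
    rw [← Nat.card_sum]
    refine Nat.card_congr
      { toFun := fun s => s.elim (fun v => ⟨v.1, v.2.1⟩) (fun v => ⟨v.1, v.2.1⟩)
        invFun := fun v => if h : (v : G) ∈ D then Sum.inr ⟨v, h⟩ else Sum.inl ⟨v, v.2, h⟩
        left_inv := ?_
        right_inv := ?_ }
    · rintro (v | v)
      · simp [v.2.2]
      · simp [v.2]
    · intro v
      by_cases h : (v : G) ∈ D <;> simp [h]
  have hXeq : Nat.card X = (p ^ d - 1) * Nat.card D := by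
    have := relIndex_mul_card (U := D) (W := V) inf_le_left
    rw [Subgroup.relIndex, hd] at this
    rw [Nat.sub_mul, one_mul]
    omega
  rw [hXeq] at hdvd
  refine Nat.Coprime.dvd_of_dvd_mul_right ?_ hdvd
  obtain ⟨c, hc⟩ := IsPGroup.iff_card.1 (hVp.to_le (inf_le_left : D ≤ V))
  rw [hc]
  exact Nat.Coprime.pow _ _ ((Nat.coprime_primes hr hp').2 hrp)

/-- A commutator with an element of primitive order bounds the fixed points. -/
theorem bound (hV : IsElementaryAbelian p V) (hHV : H ≤ Subgroup.normalizer (V : Set G))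
    (hf : H ⊓ Subgroup.centralizer (V : Set G) = ⊥) {r l N : ℕ} (hr : r.Prime) (hrp : r ≠ p)
    (hprim : ∀ d : ℕ, 1 ≤ d → d < 2 * N → ¬ r ^ (l + 1) ∣ p ^ d - 1) {a g : G} (ha : a ∈ H) (hg : g ∈ H)
    (hord : r ^ (l + 1) ∣ orderOf ⁅a, g⁆) :
    p ^ N ≤ (V ⊓ Subgroup.centralizer ({a} : Set G)).relIndex V ∧ p ^ (2 * N) ≤ Nat.card V := by
  have hp' := hp.out
  set x := ⁅a, g⁆ with hx
  have hxH : x ∈ H := mul_mem (mul_mem (mul_mem ha hg) (inv_mem ha)) (inv_mem hg)
  set y := x ^ (orderOf x / r ^ (l + 1)) with hy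
  have hoy : orderOf y = r ^ (l + 1) := by
    rw [hy, orderOf_pow_orderOf_div (orderOf_pos x).ne' hord]
  obtain ⟨d, hd1, hd, hdvd⟩ := free_count hV hHV hf hr hrp (pow_mem hxH _) hoy
  have hNd : 2 * N ≤ d := not_lt.1 fun h => hprim d hd1 h hdvd
  set C := V ⊓ Subgroup.centralizer ({a} : Set G) with hC
  set C' := C.map (MulAut.conj g).toMonoidHom with hC'
  have hC'V : C' ≤ V := by
    rintro _ ⟨v, hv, rfl⟩
    exact (Subgroup.mem_normalizer_iff.1 (hHV hg) v).1 hv.1
  have hsub : C ⊓ C' ≤ V ⊓ Subgroup.centralizer ({y ^ r ^ l} : Set G) := by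
    rintro v ⟨⟨hv, hva⟩, ⟨u, ⟨-, hu⟩, huv⟩⟩
    refine ⟨hv, Subgroup.mem_centralizer_iff.2 ?_⟩
    rintro w rfl
    have h1 : Commute a v := Subgroup.mem_centralizer_iff.1 hva _ rfl
    have h2 : Commute (g * a⁻¹ * g⁻¹) v := by
      have h3 : Commute a⁻¹ u := Commute.inv_left (Subgroup.mem_centralizer_iff.1 hu _ rfl)
      rw [← huv]
      exact h3.map (MulAut.conj g).toMonoidHom
    have h4 : Commute x v := by
      rw [hx, show ⁅a, g⁆ = a * (g * a⁻¹ * g⁻¹) by rw [commutatorElement_def]; group]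
      exact h1.mul_left h2
    exact (((h4.pow_left _)).pow_left _)
  have hindex : C'.relIndex V = C.relIndex V := by
    have h1 := relIndex_mul_card hC'V
    have h2 := relIndex_mul_card (inf_le_left : C ≤ V)
    rw [hC', Subgroup.card_map_of_injective (f := (MulAut.conj g).toMonoidHom) (MulAut.conj g).injective,
      ← h2] at h1
    exact Nat.eq_of_mul_eq_mul_right Nat.card_pos h1
  have h1 : p ^ d ≤ C.relIndex V * C.relIndex V := by
    rw [← hd]
    refine le_trans (Subgroup.relIndex_le_of_le_left hsub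
      (Subgroup.index_ne_zero_of_finite (H := (C ⊓ C').subgroupOf V))) ?_
    refine Subgroup.relIndex_inf_le.trans ?_
    rw [hindex]
  refine ⟨?_, ?_⟩
  · have h2 : p ^ N * p ^ N ≤ C.relIndex V * C.relIndex V := by
      refine le_trans ?_ h1
      rw [← pow_add]
      exact Nat.pow_le_pow_right hp'.pos (by omega)
    exact Nat.mul_self_le_mul_self_iff.1 h2
  · refine (Nat.pow_le_pow_right hp'.pos hNd).trans ?_
    rw [← hd]
    exact Nat.le_of_dvd Nat.card_pos (Subgroup.relIndex_dvd_card _ _)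

variable {F : Type*} [Field F] [Fintype F]

omit hp in
theorem primitive_ne_two (hp' : p.Prime) {r k n : ℕ} (hn : 2 ≤ n) (hk : r ^ k ∣ p ^ n + 1) (hk1 : 1 ≤ k)
    (hprim : ∀ d : ℕ, 1 ≤ d → d < 2 * n → ¬ r ^ k ∣ p ^ d - 1) : r ≠ 2 ∧ r ≠ p := by
  have hrp : r ≠ p := by
    rintro rfl
    exact hp'.not_dvd_one ((Nat.dvd_add_right (dvd_pow_self r (by omega))).1
      ((dvd_pow_self r (by omega)).trans hk))
  refine ⟨?_, hrp⟩
  rintro rfl
  obtain ⟨c, hc⟩ := hp'.odd_of_ne_two (Ne.symm hrp)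
  rcases Nat.even_or_odd n with ⟨m, hm⟩ | ⟨m, hm⟩
  · have h4 : p ^ n % 4 = 1 := by
      rw [hm, ← two_mul, pow_mul, Nat.pow_mod]
      have : p ^ 2 % 4 = 1 := by
        rw [hc, show (2 * c + 1) ^ 2 = 1 + 4 * (c * c + c) by ring, Nat.add_mul_mod_self_left]
      rw [this, one_pow]; rfl
    have h2 : k = 1 := by
      by_contra h
      have := (pow_dvd_pow 2 (show 2 ≤ k by omega)).trans hk
      omega
    subst h2
    exact hprim 1 le_rfl (by omega) (by rw [pow_one, pow_one]; omega)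
  · refine hprim 2 (by omega) (by omega) ?_
    have h1 : p ^ n + 1 = (p + 1) * (∑ i ∈ Finset.range n, (-(p : ℤ)) ^ i).natAbs := by
      have h := geom_sum_mul (-(p : ℤ)) n
      have ho : Odd n := ⟨m, hm⟩
      rw [ho.neg_pow] at h
      have h' := congrArg Int.natAbs h
      rw [Int.natAbs_mul, show -(p : ℤ) - 1 = -((p + 1 : ℕ) : ℤ) by push_cast; ring,
        show -((p : ℤ) ^ n) - 1 = -((p ^ n + 1 : ℕ) : ℤ) by push_cast; ring, Int.natAbs_neg,
        Int.natAbs_neg, Int.natAbs_natCast, Int.natAbs_natCast] at h'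
      rw [← h', mul_comm]
    have hodd : Odd (∑ i ∈ Finset.range n, (-(p : ℤ)) ^ i).natAbs := by
      have key : ∀ j : ℕ, (Even (∑ i ∈ Finset.range j, (-(p : ℤ)) ^ i)) ↔ Even j := by
        intro j
        induction j with
        | zero => simp
        | succ j ih =>
          have ho : ¬ Even ((-(p : ℤ)) ^ j) :=
            Int.not_even_iff_odd.2 (((Int.odd_coe_nat p).2 ⟨c, hc⟩).neg.pow)
          rw [Finset.sum_range_succ, Int.even_add, ih, Nat.even_add_one]
          tauto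
      rw [Int.natAbs_odd, ← Int.not_even_iff_odd, key, Nat.not_even_iff_odd]
      exact ⟨m, hm⟩
    rw [h1] at hk
    have h2 : 2 ^ k ∣ p + 1 :=
      (Nat.Coprime.pow_left k (Nat.coprime_two_left.2 hodd)).dvd_of_dvd_mul_right hk
    refine h2.trans ⟨p - 1, ?_⟩
    rw [← Nat.sq_sub_sq, one_pow]

/-- The displacement bound for a group with quotient `L₂(q)`. -/
theorem psl_bound (hV : IsElementaryAbelian p V) (hHV : H ≤ Subgroup.normalizer (V : Set G))
    (hf : H ⊓ Subgroup.centralizer (V : Set G) = ⊥) {n : ℕ} (hn : 2 ≤ n) (hF : Fintype.card F = p ^ n)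
    (φ : ↥H →* Matrix.ProjectiveSpecialLinearGroup (Fin 2) F) (hφ : Function.Surjective φ)
    {s : ↥H} {k : ℕ} (hsk : s ^ p ^ k = 1) (hs : φ s ≠ 1) :
    p ^ n ≤ (V ⊓ Subgroup.centralizer ({(s : G)} : Set G)).relIndex V ∧ p ^ (2 * n) ≤ Nat.card V := by
  classical
  haveI : CharP F p := by
    obtain ⟨r, hr⟩ := CharP.exists F
    obtain ⟨m, hr', hc⟩ := FiniteField.card F r
    have h1 : r ∣ p ^ n := by rw [← hF, hc]; exact dvd_pow_self r m.ne_zero
    exact (Nat.prime_dvd_prime_iff_eq hr' hp.out).1 (hr'.dvd_of_dvd_pow h1) ▸ hr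
  obtain ⟨β₀, hβ₀⟩ := PSL2.pr_surjective (φ s)
  have hz : ∀ γ : Matrix.SpecialLinearGroup (Fin 2) F, PSL2.pr γ = 1 → γ * γ = 1 := by
    intro γ hγ
    apply Subtype.ext
    rw [val_mul']
    rcases isSc_SL (pr_eq_one_iff.1 hγ) with e | e <;> rw [e] <;> simp
  have hβpk : PSL2.pr (β₀ ^ p ^ k) = 1 := by rw [map_pow, hβ₀, ← map_pow, hsk, map_one]
  obtain ⟨β, hβ, hβk⟩ : ∃ β, PSL2.pr β = φ s ∧ β ^ p ^ k = 1 := by
    by_cases hp2 : p = 2
    · refine ⟨β₀, hβ₀, ?_⟩
      subst hp2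
      have h2 : (2 : F) = 0 := by exact_mod_cast CharP.cast_eq_zero F 2
      rcases isSc_SL (pr_eq_one_iff.1 hβpk) with e | e <;> apply Subtype.ext <;> rw [e]
      · simp
      · ext i j
        fin_cases i <;> fin_cases j <;> simp [show (-1 : F) = 1 by linear_combination -h2]
    · obtain ⟨c, hc⟩ := (hp.out.odd_of_ne_two hp2).pow (n := k)
      refine ⟨β₀ ^ (p ^ k + 1), ?_, ?_⟩
      · rw [map_pow, hβ₀, pow_succ, ← map_pow, hsk, map_one, one_mul]
      · rw [← pow_mul, mul_comm, pow_mul, show p ^ k + 1 = 2 * (c + 1) by omega, pow_mul, pow_two, hz _ hβpk,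
          one_pow]
  have hβ1 : β ≠ 1 := fun h => hs (by rw [← hβ, h, map_one])
  obtain ⟨g, hg⟩ := SL2Disp.exists_commutator p hn hF hβ1 hβk
  obtain ⟨r, e, hr, he, hre, hprim⟩ := SL2Disp.exists_primitive (n := n) hp.out hn
  obtain ⟨hr2, hrp⟩ := primitive_ne_two hp.out hn hre he hprim
  obtain ⟨l, rfl⟩ : ∃ l, e = l + 1 := ⟨e - 1, by omega⟩
  obtain ⟨h, hh⟩ := hφ (PSL2.pr g)
  refine bound hV hHV hf hr hrp hprim s.2 h.2 ?_
  have e1 : PSL2.pr ⁅β, g⁆ = φ ⁅s, h⁆ := by
    rw [map_commutatorElement, map_commutatorElement, hβ, hh]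
  have hco : Nat.Coprime (r ^ (l + 1)) 2 := ((Nat.coprime_primes hr Nat.prime_two).2 hr2).pow_left _
  have e2 : ⁅(s : G), (h : G)⁆ = ((⁅s, h⁆ : ↥H) : G) := rfl
  rw [e2, Subgroup.orderOf_coe]
  refine dvd_trans ?_ (orderOf_map_dvd φ _)
  rw [← e1]
  refine hco.dvd_of_dvd_mul_right (dvd_trans (hF ▸ hre) (hg ▸ orderOf_dvd_of_pow_eq_one ?_))
  rw [pow_mul, pow_two]
  exact hz _ (by rw [map_pow, pow_orderOf_eq_one])

end Cfsg.Agent.LocalEven.DispCount

namespace Cfsg.Agent.LocalEven.DispCount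

open Cfsg

/-- A `p`-element acting faithfully on an elementary abelian `p`-group needs two dimensions. -/
theorem sq_le_card {G : Type*} [Group G] [Finite G] {p : ℕ} [hp : Fact p.Prime] {V H : Subgroup G}
    (hV : IsElementaryAbelian p V) (hHV : H ≤ Subgroup.normalizer (V : Set G))
    (hf : H ⊓ Subgroup.centralizer (V : Set G) = ⊥) {s : G} (hs : s ∈ H) {k : ℕ} (hsk : s ^ p ^ k = 1)
    (hs1 : s ≠ 1) :
    p ≤ (V ⊓ Subgroup.centralizer ({s} : Set G)).relIndex V ∧ p ^ 2 ≤ Nat.card V := by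
  have hVp := isPGroup_elemAb hV
  obtain ⟨j, hj⟩ := hVp.index ((V ⊓ Subgroup.centralizer ({s} : Set G)).subgroupOf V)
  have hj0 : j ≠ 0 := by
    rintro rfl
    rw [pow_zero, Subgroup.index_eq_one, Subgroup.subgroupOf_eq_top] at hj
    have h1 : s ∈ H ⊓ Subgroup.centralizer (V : Set G) :=
      ⟨hs, Subgroup.mem_centralizer_iff.2 fun v hv =>
        (Subgroup.mem_centralizer_iff.1 (hj hv).2 s rfl).symm⟩
    rw [hf, Subgroup.mem_bot] at h1
    exact hs1 h1
  refine ⟨by rw [Subgroup.relIndex, hj]; exact Nat.le_self_pow hj0 p, ?_⟩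
  obtain ⟨d, hd⟩ := IsPGroup.iff_card.1 hVp
  rw [hd]
  refine Nat.pow_le_pow_right hp.out.pos ?_
  by_contra hd2
  have hd1 : Nat.card V = p := by
    rcases Nat.lt_succ_iff.1 (not_le.1 hd2) |>.eq_or_lt with h | h
    · rw [hd, h, pow_one]
    · exfalso
      obtain rfl : d = 0 := by omega
      rw [pow_zero, Subgroup.card_eq_one] at hd
      have h1 : s ∈ H ⊓ Subgroup.centralizer (V : Set G) :=
        ⟨hs, Subgroup.mem_centralizer_iff.2 fun v hv => by
          rw [hd] at hv; rw [Subgroup.mem_bot.1 hv, one_mul, mul_one]⟩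
      rw [hf, Subgroup.mem_bot] at h1
      exact hs1 h1
  haveI : IsCyclic V := isCyclic_of_prime_card hd1
  obtain ⟨v, hv⟩ := IsCyclic.exists_generator (α := V)
  obtain ⟨i, hi⟩ := Subgroup.mem_zpowers_iff.1 (hv ⟨s * v * s⁻¹, (Subgroup.mem_normalizer_iff.1 (hHV hs) v).1 v.2⟩)
  have hi' : s * (v : G) * s⁻¹ = (v : G) ^ i := (congrArg Subtype.val hi).symm.trans rfl
  have hpow : ∀ m : ℕ, s ^ m * (v : G) * (s ^ m)⁻¹ = (v : G) ^ (i ^ m) := by
    intro m
    induction m with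
    | zero => simp
    | succ m ih =>
      calc s ^ (m + 1) * (v : G) * (s ^ (m + 1))⁻¹ = s * (s ^ m * v * (s ^ m)⁻¹) * s⁻¹ := by
            rw [pow_succ']; group
        _ = (s * v * s⁻¹) ^ (i ^ m) := by rw [ih, conj_zpow]
        _ = _ := by rw [hi', ← zpow_mul, pow_succ']
  have h2 := hpow (p ^ k)
  rw [hsk, one_mul, inv_one, mul_one] at h2
  have hov : orderOf (v : G) = p := by
    rw [Subgroup.orderOf_coe, orderOf_eq_card_of_forall_mem_zpowers hv, hd1]
  have h3 : ((i : ZMod p)) ^ p ^ k = 1 := by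
    have h4 : (v : G) ^ (i ^ p ^ k - 1) = 1 := by rw [zpow_sub, ← h2, zpow_one, mul_inv_cancel]
    have h5 := orderOf_dvd_iff_zpow_eq_one.2 h4
    rw [hov, ← ZMod.intCast_zmod_eq_zero_iff_dvd] at h5
    push_cast at h5
    exact sub_eq_zero.1 h5
  rw [ZMod.pow_card_pow] at h3
  have h6 : (v : G) ^ i = v := by
    have h7 : ((i - 1 : ℤ) : ZMod p) = 0 := by push_cast; rw [h3, sub_self]
    rw [ZMod.intCast_zmod_eq_zero_iff_dvd, ← hov] at h7
    rw [show i = (i - 1) + 1 by ring, zpow_add_one, orderOf_dvd_iff_zpow_eq_one.1 h7, one_mul]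
  rw [h6] at hi'
  have h1 : s ∈ H ⊓ Subgroup.centralizer (V : Set G) := by
    refine ⟨hs, Subgroup.mem_centralizer_iff.2 fun w hw => ?_⟩
    obtain ⟨m, hm⟩ := Subgroup.mem_zpowers_iff.1 (hv ⟨w, hw⟩)
    have hm' : (v : G) ^ m = w := congrArg Subtype.val hm
    rw [← hm']
    exact ((show Commute s (v : G) from mul_inv_eq_iff_eq_mul.1 hi').zpow_right m).symm.eq
  rw [hf, Subgroup.mem_bot] at h1
  exact hs1 h1

end Cfsg.Agent.LocalEven.DispCount

namespace Cfsg.Agent.LocalEven.DispCount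

open Cfsg

/-- The statement for groups whose quotient by `O_{p'}` is `L₂(q)`. -/
theorem psl_main {G : Type*} [Group G] [Finite G] {p : ℕ} [hp : Fact p.Prime] {V H : Subgroup G}
    (hV : IsElementaryAbelian p V) (hHV : H ≤ Subgroup.normalizer (V : Set G))
    (hf : H ⊓ Subgroup.centralizer (V : Set G) = ⊥) {F : Type*} [Field F] [Fintype F] {q : ℕ}
    (hF : Fintype.card F = q) {n : ℕ} (hq : q = p ^ n)
    (hiso : Nonempty (↥H ⧸ pPrimeCore p ↥H ≃* Matrix.ProjectiveSpecialLinearGroup (Fin 2) F))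
    (S : Sylow p ↥H) {A : Subgroup G} (hA : A ≤ (S : Subgroup ↥H).map H.subtype) (hA1 : A ≠ ⊥) :
    q ^ 2 ≤ Nat.card V ∧ q ≤ (V ⊓ Subgroup.centralizer (A : Set G)).relIndex V ∧
      ∀ s ∈ (S : Subgroup ↥H).map H.subtype, s ≠ 1 →
        q ^ 2 ≤ ((V ⊓ Subgroup.centralizer ({s} : Set G)).relIndex V) ^ 3 := by
  obtain ⟨iso⟩ := hiso
  set φ := iso.toMonoidHom.comp (QuotientGroup.mk' (pPrimeCore p ↥H)) with hφ
  have hφs : Function.Surjective φ := iso.surjective.comp (QuotientGroup.mk'_surjective _)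
  have key : ∀ s ∈ (S : Subgroup ↥H).map H.subtype, s ≠ 1 →
      q ≤ (V ⊓ Subgroup.centralizer ({s} : Set G)).relIndex V ∧ q ^ 2 ≤ Nat.card V := by
    rintro _ ⟨s, hs, rfl⟩ hs1
    obtain ⟨k, hk⟩ := S.2 ⟨s, hs⟩
    have hsk : s ^ p ^ k = 1 := congrArg Subtype.val hk
    have hsG : (s : G) ^ p ^ k = 1 := congrArg Subtype.val hsk
    have hne : φ s ≠ 1 := by
      intro h
      rw [hφ, MonoidHom.comp_apply, MulEquiv.coe_toMonoidHom, MulEquiv.map_eq_one_iff,
        QuotientGroup.mk'_apply, QuotientGroup.eq_one_iff] at h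
      have h1 := (Fusion.mem_pPrimeCore_orderOf h).pow_right k
      exact hs1 (by
        rw [orderOf_eq_one_iff.1 (Nat.Coprime.eq_one_of_dvd h1 (orderOf_dvd_of_pow_eq_one hsk))]; rfl)
    by_cases hn : n ≤ 1
    · have hn1 : n = 1 := by
        rcases Nat.eq_zero_or_pos n with h | h
        · exfalso
          have := Fintype.one_lt_card (α := F)
          rw [hF, hq, h, pow_zero] at this
          omega
        · omega
      subst hn1
      rw [hq, pow_one]
      exact sq_le_card hV hHV hf s.2 hsG hs1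
    · obtain ⟨h1, h2⟩ := psl_bound hV hHV hf (by omega) (hF.trans hq) φ hφs hsk hne
      rw [hq, ← pow_mul, mul_comm]
      exact ⟨h1, h2⟩
  obtain ⟨a, ha, ha1⟩ := (Subgroup.bot_or_exists_ne_one A).resolve_left hA1
  refine ⟨(key a (hA ha) ha1).2, (key a (hA ha) ha1).1.trans ?_, fun s hs hs1 => ?_⟩
  · refine Subgroup.relIndex_le_of_le_left (inf_le_inf_left V (Subgroup.centralizer_le ?_))
      (Subgroup.index_ne_zero_of_finite (H := (V ⊓ Subgroup.centralizer (A : Set G)).subgroupOf V))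
    exact Set.singleton_subset_iff.2 ha
  · have h1 := (key s hs hs1).1
    have hq0 : 0 < q := hq ▸ Nat.pow_pos hp.out.pos
    calc q ^ 2 ≤ ((V ⊓ Subgroup.centralizer ({s} : Set G)).relIndex V) ^ 2 := Nat.pow_le_pow_left h1 2
      _ ≤ _ := Nat.pow_le_pow_right (by omega) (by omega)

end Cfsg.Agent.LocalEven.DispCount
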