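import Cfsg.Prelude.Def_SylowChains
import Cfsg.Agent.Lib.LocalEven.SylowGraph

/-!
Regularity of normaliser functors and products of subgroups containing a Sylow subgroup.
-/

set_option autoImplicit false

namespace Cfsg.Agent.LocalEven.FunctorRegular

open Cfsg
open Cfsg.Agent.Fusion
open Cfsg.Agent.LocalEven

variable {G : Type*} [Group G] {p : ℕ}

theorem conjRight_conjRight (a b : G) (A : Set G) : conjRight b (conjRight a A) = conjRight (a * b) A := by
  rw [conjRight, conjRight, conjRight, Set.image_image]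
  refine Set.image_congr fun x _ => ?_
  group

theorem mem_cj_conjRight {H : Subgroup G} {A : Set G} {g : G} (h : conjRight g A ⊆ H) : A ⊆ (cj H g : Set G) :=
  fun a ha => mem_cj.2 (h ⟨a, ha, rfl⟩)

/-- A factorisation of `g` inside `M` by elements of the normalisers of members of `f`. -/
inductive Walk (p : ℕ) (f : Subgroup G → Set (Subgroup G)) (M S : Subgroup G) : Set G → G → Prop
  | base {A : Set G} {g : G} : g ∈ M → g ∈ Subgroup.normalizer (S : Set G) → Walk p f M S A g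
  | step {A : Set G} {g y : G} (P F : Subgroup G) : SylIn p P M → F ∈ f P →
      S ≤ Subgroup.normalizer (F : Set G) → y ∈ M → y ∈ Subgroup.normalizer (F : Set G) →
      conjRight y A ⊆ (S : Set G) → Walk p f M S (conjRight y A) g → Walk p f M S A (y * g)

variable {f : Subgroup G → Set (Subgroup G)} {M S : Subgroup G}

theorem walk_mono [Finite G] [Fact p.Prime] {N : Subgroup G} (hMN : M ≤ N) (hS : SylIn p S ⊤) (hSM : S ≤ M)
    {A : Set G} {g : G} (h : Walk p f M S A g) : Walk p f N S A g := by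
  induction h with
  | base hg hn => exact .base (hMN hg) hn
  | step P F hP hF hSF hy hyn hA _ ih =>
    refine .step P F ?_ hF hSF (hMN hy) hyn hA ih
    obtain ⟨x, hx, hxP⟩ := (hS.mono hSM le_top).conj_eq hP
    have : SylIn p P ⊤ := hxP ▸ hS.cj' (Subgroup.le_normalizer (Subgroup.mem_top x))
    exact this.mono (hP.le.trans hMN) le_top

theorem cj_eq_of_mem_normalizer {H : Subgroup G} {n : G} (hn : n ∈ Subgroup.normalizer (H : Set G)) :
    cj H n = H := cj_eq_self hn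

theorem walk_normalizer_mul [Finite G] (hf : IsNormalizerFunctor p f) {A : Set G} {h n : G} (hnM : n ∈ M)
    (hn : n ∈ Subgroup.normalizer (S : Set G)) (hw : Walk p f M S (conjRight n A) h) :
    Walk p f M S A (n * h) := by
  generalize hB : conjRight n A = B at hw
  induction hw generalizing A with
  | base hg hgn => exact .base (Subgroup.mul_mem _ hnM hg) (Subgroup.mul_mem _ hn hgn)
  | @step B g y P F hP hF hSF hy hyn hA _ ih =>
    subst hB
    rw [show n * (y * g) = (n * y * n⁻¹) * (n * g) by group]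
    have hnM' : n ∈ Subgroup.normalizer (M : Set G) := Subgroup.le_normalizer hnM
    have hA' : conjRight (n * y * n⁻¹) A = conjRight n⁻¹ (conjRight y (conjRight n A)) := by
      rw [conjRight_conjRight, conjRight_conjRight, mul_assoc]
    refine .step (cj P n) (cj F n) (hP.cj' hnM') ?_ ?_ ?_ ?_ ?_ (ih ?_)
    · exact ((hf P hP.isPGroup).2 n).symm ▸ ⟨F, hF, rfl⟩
    · rw [← cj_normalizer, ← cj_eq_self hn]; exact cj_mono hSF n
    · exact Subgroup.mul_mem _ (Subgroup.mul_mem _ hnM hy) (Subgroup.inv_mem _ hnM)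
    · rw [← cj_normalizer]; exact conj_mem_cj hyn
    · rw [hA']
      rintro _ ⟨u, hu, rfl⟩
      rw [inv_inv]
      exact (Subgroup.mem_normalizer_iff.1 hn u).1 (hA hu)
    · rw [conjRight_conjRight, show n * y * n⁻¹ * n = n * y by group, conjRight_conjRight]

theorem walk_trans [Finite G] (hf : IsNormalizerFunctor p f) {A : Set G} {g h : G} (hg : Walk p f M S A g)
    (hh : Walk p f M S (conjRight g A) h) : Walk p f M S A (g * h) := by
  induction hg with
  | base hgM hgn => exact walk_normalizer_mul hf hgM hgn hh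
  | step P F hP hF hSF hy hyn hA _ ih =>
    rw [mul_assoc]
    exact .step P F hP hF hSF hy hyn hA (ih (by rw [conjRight_conjRight]; exact hh))

variable [Finite G] [Fact p.Prime]

theorem normalSet_family (hf : IsNormalizerFunctor p f) (M : Subgroup G) :
    IsNormalSet ((fun X : Subgroup G => X.subgroupOf M) '' functorFamily p f M) := by
  rintro _ ⟨_, ⟨P, F, hF, rfl⟩, rfl⟩ g
  have hP := sylIn_map M P
  have hg : (g : G)⁻¹ ∈ M := Subgroup.inv_mem _ g.2
  obtain ⟨Q, hQ⟩ := (hP.cj' (Subgroup.le_normalizer hg)).exists_sylow_subgroupOf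
  have hQ' : (Q : Subgroup ↥M).map M.subtype = cj ((P : Subgroup ↥M).map M.subtype) (g : G)⁻¹ := by
    rw [hQ, Subgroup.map_subgroupOf_eq_of_le (hP.cj' (Subgroup.le_normalizer hg)).le]
  refine ⟨M ⊓ Subgroup.normalizer (cj F (g : G)⁻¹ : Set G), ⟨Q, cj F (g : G)⁻¹, ?_, rfl⟩, ?_⟩
  · rw [hQ']
    exact ((hf _ hP.isPGroup).2 (g : G)⁻¹).symm ▸ ⟨F, hF, rfl⟩
  · ext x
    show (x : G) ∈ M ⊓ Subgroup.normalizer (cj F (g : G)⁻¹ : Set G) ↔
      x ∈ cj ((M ⊓ Subgroup.normalizer (F : Set G)).subgroupOf M) g⁻¹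
    rw [mem_cj, Subgroup.mem_subgroupOf, ← cj_normalizer, Subgroup.mem_inf, Subgroup.mem_inf, mem_cj]
    simp
    exact fun _ => (g * x * g⁻¹).2

/-- Regularity gives walks. -/
theorem walk_of_regular (hf : IsNormalizerFunctor p f) {T : Sylow p G} (hTM : (T : Subgroup G) ≤ M)
    (hr : IsFunctorRegular p f M) {A : Set G} {g : G} (hg : g ∈ M) (hA : A ⊆ (T : Set G))
    (hA1 : ∃ a ∈ A, a ≠ 1) (hAg : conjRight g A ⊆ (T : Set G)) : Walk p f M T A g := by
  have hTsyl : SylIn p (T : Subgroup G) M := (sylIn_top T).mono hTM le_top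
  obtain ⟨T', hT'⟩ := hTsyl.exists_sylow_subgroupOf
  have hmemT : ∀ {w : ↥M}, w ∈ (T' : Subgroup ↥M) ↔ (w : G) ∈ (T : Subgroup G) := fun {w} => by
    rw [hT', Subgroup.mem_subgroupOf]
  have hc := SylowGraph.strongly_of_controls (normalSet_family hf M) hr
  obtain ⟨a, ha, ha1⟩ := hA1
  obtain ⟨n, Y, y, y₀, hy₀, hY, hgy, hpre⟩ := hc T' (Subtype.val ⁻¹' A) ⟨g, hg⟩
    (fun w hw => hmemT.2 (hA hw)) ⟨⟨a, hTM (hA ha)⟩, ha, fun h => ha1 (congrArg Subtype.val h)⟩
    (by rintro _ ⟨w, hw, rfl⟩; exact hmemT.2 (hAg ⟨w, hw, rfl⟩))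
  have hy₀n : (y₀ : G) ∈ Subgroup.normalizer ((T : Subgroup G) : Set G) := mem_normalizer_of_cj_le (by
    rintro _ ⟨u, hu, rfl⟩
    exact hmemT.1 ((Subgroup.mem_normalizer_iff.1 hy₀ ⟨u, hTM hu⟩).1 (hmemT.2 hu)))
  -- the members contain `T` in their normaliser
  have hmem : ∀ i, ∃ P F : Subgroup G, SylIn p P M ∧ F ∈ f P ∧ (T : Subgroup G) ≤ Subgroup.normalizer (F : Set G) ∧
      (y i : G) ∈ Subgroup.normalizer (F : Set G) := by
    intro i
    obtain ⟨⟨⟨_, ⟨P, F, hF, rfl⟩, hYi⟩, Q, hQ⟩, hyi⟩ := hY i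
    have hP := sylIn_map M P
    have hPF : (P : Subgroup ↥M).map M.subtype ≤ Subgroup.normalizer (F : Set G) :=
      Subgroup.le_normalizer.trans ((hf _ hP.isPGroup).1 F hF).2
    refine ⟨_, F, hP, hF, fun u hu => ?_, ?_⟩
    swap
    · rw [← hYi] at hyi; exact hyi.2
    -- the intersection with `T` is a Sylow subgroup of the member
    have hQm := sylIn_map (Y i) Q
    rw [hQ] at hQm
    have h1 : Nat.card ↥((P : Subgroup ↥M)) ≤ Nat.card ↥((T' : Subgroup ↥M) ⊓ Y i) :=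
      hQm.card_le P.isPGroup' (fun w hw => by
        rw [← hYi]
        exact ⟨w.2, hPF ⟨w, hw, rfl⟩⟩)
    have h2 : (T' : Subgroup ↥M) ⊓ Y i = (T' : Subgroup ↥M) :=
      Subgroup.eq_of_le_of_card_ge inf_le_left ((le_of_eq (Sylow.card_eq_multiplicity T')).trans
        ((le_of_eq (Sylow.card_eq_multiplicity P).symm).trans h1))
    have h3 := inf_eq_left.1 h2 (hmemT.2 hu : (⟨u, hTM hu⟩ : ↥M) ∈ (T' : Subgroup ↥M))
    rw [← hYi] at h3
    exact h3.2
  -- assemble
  have key : ∀ (k i : ℕ), i + k = n → Walk p f M T (conjRight ((((List.ofFn y).take i).prod : ↥M) : G) A)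
      ((((List.ofFn y).drop i).prod * y₀ : ↥M) : G) := by
    intro k
    induction k with
    | zero =>
      intro i hi
      rw [List.drop_eq_nil_of_le (by simp; omega), List.prod_nil, one_mul]
      exact .base y₀.2 hy₀n
    | succ k ih =>
      intro i hi
      have hin : i < n := by omega
      obtain ⟨P, F, hP, hF, hTF, hyF⟩ := hmem ⟨i, hin⟩
      rw [List.drop_eq_getElem_cons (by simpa using hin), List.prod_cons, List.getElem_ofFn, mul_assoc,
        Subgroup.coe_mul]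
      have hcr : conjRight (y ⟨i, hin⟩ : G) (conjRight ((((List.ofFn y).take i).prod : ↥M) : G) A) =
          conjRight ((((List.ofFn y).take (i + 1)).prod : ↥M) : G) A := by
        rw [conjRight_conjRight, ← Subgroup.coe_mul, List.prod_take_succ _ _ (by simpa using hin), List.getElem_ofFn]
      refine .step P F hP hF hTF (y ⟨i, hin⟩).2 hyF ?_ ?_
      · rw [hcr]
        rintro _ ⟨u, hu, rfl⟩
        exact hmemT.1 ((hpre ⟨i, hin⟩) ⟨⟨u, hTM (hA hu)⟩, hu, rfl⟩).1
      · rw [hcr]; exact ih (i + 1) (by omega)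
  have h0 := key n 0 (by omega)
  rw [List.take_zero, List.prod_nil, List.drop_zero, ← hgy] at h0
  rwa [show conjRight (((1 : ↥M) : G)) A = A by simp [conjRight]] at h0

/-- Walks in `G` give regularity. -/
theorem regular_top (hf : IsNormalizerFunctor p f)
    (h : ∀ (T : Sylow p G) (A : Set G) (g : G), A ⊆ (T : Set G) → (∃ a ∈ A, a ≠ 1) →
      conjRight g A ⊆ (T : Set G) → Walk p f ⊤ T A g) : IsFunctorRegular p f ⊤ := by
  refine SylowGraph.controls_of_strongly (normalSet_family hf ⊤) ?_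
  intro T' A' g' hA hA1 hAg
  have hT := sylIn_map ⊤ T'
  obtain ⟨T, hTc⟩ := hT.exists_sylow
  have hmemT : ∀ {w : ↥(⊤ : Subgroup G)}, (w : G) ∈ (T : Subgroup G) ↔ w ∈ (T' : Subgroup ↥(⊤ : Subgroup G)) :=
    fun {w} => by rw [hTc]; exact Subgroup.mem_map_iff_mem (Subgroup.subtype_injective _)
  have hw := h T (Subtype.val '' A') g' (by rintro _ ⟨a, ha, rfl⟩; exact hmemT.2 (hA ha))
    (let ⟨a, ha, ha1⟩ := hA1; ⟨a, ⟨a, ha, rfl⟩, fun he => ha1 (Subtype.ext he)⟩)
    (by rintro _ ⟨_, ⟨a, ha, rfl⟩, rfl⟩; exact hmemT.2 (hAg ⟨a, ha, rfl⟩))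
  clear h hA1 hAg
  generalize hB : Subtype.val '' A' = B at hw
  generalize hb : (g' : G) = b at hw
  induction hw generalizing A' g' with
  | @base B b _ hn =>
    subst hb
    refine ⟨0, Fin.elim0, Fin.elim0, g', ?_, fun i => i.elim0, by simp, fun i => i.elim0⟩
    refine Subgroup.mem_normalizer_iff.2 fun w => ?_
    rw [← hmemT, ← hmemT, Subgroup.coe_mul, Subgroup.coe_mul, InvMemClass.coe_inv]
    exact Subgroup.mem_normalizer_iff.1 hn w
  | @step B b y P F hP hF hTF _ hyF hAy _ ih =>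
    subst hB
    let y' : ↥(⊤ : Subgroup G) := ⟨y, Subgroup.mem_top _⟩
    have hA2 : conjRight y' A' ⊆ (T' : Set ↥(⊤ : Subgroup G)) := by
      rintro _ ⟨a, ha, rfl⟩
      exact hmemT.1 (hAy ⟨a, ⟨a, ha, rfl⟩, rfl⟩)
    obtain ⟨n, Y, ys, y₀, hy₀, hY, hgy, hpre⟩ := ih (conjRight y' A') (y'⁻¹ * g') hA2
      (by rw [conjRight, conjRight, Set.image_image, Set.image_image]; rfl)
      (by rw [Subgroup.coe_mul, hb, InvMemClass.coe_inv]; exact inv_mul_cancel_left y b)
    obtain ⟨P', hP'⟩ := hP.exists_sylow_subgroupOf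
    have hP'm : (P' : Subgroup ↥(⊤ : Subgroup G)).map (⊤ : Subgroup G).subtype = P := by
      rw [hP', Subgroup.map_subgroupOf_eq_of_le hP.le]
    set X := ((⊤ : Subgroup G) ⊓ Subgroup.normalizer (F : Set G)).subgroupOf ⊤ with hX
    have hTX : (T' : Subgroup ↥(⊤ : Subgroup G)) ≤ X := fun w hw => ⟨w.2, hTF (hmemT.2 hw)⟩
    have hXm : X ∈ sylowMembers p ((fun Z : Subgroup G => Z.subgroupOf ⊤) '' functorFamily p f ⊤)
        (T' : Subgroup ↥(⊤ : Subgroup G)) := by
      refine ⟨⟨_, ⟨P', F, hP'm ▸ hF, rfl⟩, rfl⟩, T'.subtype hTX, ?_⟩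
      rw [Sylow.coe_subtype, Subgroup.map_subgroupOf_eq_of_le hTX, inf_eq_left.2 hTX]
    refine ⟨n + 1, Fin.cons X Y, Fin.cons y' ys, y₀, hy₀, fun i => ?_, ?_, fun i => ?_⟩
    · induction i using Fin.cases with
      | zero => simpa using ⟨hXm, show y' ∈ X from ⟨y'.2, hyF⟩⟩
      | succ i => simpa using hY i
    · rw [List.ofFn_cons, List.prod_cons, mul_assoc, ← hgy, mul_inv_cancel_left]
    · induction i using Fin.cases with
      | zero =>
        simp only [List.ofFn_cons, Fin.val_zero, zero_add, List.take_succ_cons, List.take_zero, List.prod_singleton,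
          Fin.cons_zero]
        exact fun w hw => ⟨hA2 hw, hTX (hA2 hw)⟩
      | succ i =>
        simp only [List.ofFn_cons, Fin.val_succ, List.take_succ_cons, List.prod_cons, Fin.cons_succ]
        rw [← conjRight_conjRight]
        exact hpre i

/-- A product of two regular subgroups containing a Sylow subgroup is regular. -/
theorem regular_of_product (hf : IsNormalizerFunctor p f) (S : Sylow p G) (G₁ G₂ : Subgroup G)
    (h₁ : (S : Subgroup G) ≤ G₁) (h₂ : (S : Subgroup G) ≤ G₂)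
    (hprod : ∀ g : G, ∃ g₁ ∈ G₁, ∃ g₂ ∈ G₂, g = g₁ * g₂)
    (hr₁ : IsFunctorRegular p f G₁) (hr₂ : IsFunctorRegular p f G₂) : IsFunctorRegular p f ⊤ := by
  refine regular_top hf fun T A g hA hA1 hAg => ?_
  -- move `T` to `S`
  obtain ⟨u, hu⟩ := MulAction.exists_smul_eq G S T
  have hTS : (T : Subgroup G) = cj (S : Subgroup G) u := by rw [← hu]; rfl
  have hmemT : ∀ {x : G}, x ∈ (T : Subgroup G) ↔ u⁻¹ * x * u ∈ (S : Subgroup G) := fun {x} => by
    rw [hTS, mem_cj]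
  set A' := conjRight u A with hA'
  set g' := u⁻¹ * g * u with hg'
  have hA'S : A' ⊆ (S : Set G) := by rintro _ ⟨a, ha, rfl⟩; exact hmemT.1 (hA ha)
  have hA'g : conjRight g' A' ⊆ (S : Set G) := by
    rw [hA', conjRight_conjRight, hg', show u * (u⁻¹ * g * u) = g * u by group]
    rintro _ ⟨a, ha, rfl⟩
    have := hmemT.1 (hAg ⟨a, ha, rfl⟩)
    show (g * u)⁻¹ * a * (g * u) ∈ (S : Subgroup G)
    simpa [mul_assoc] using this
  obtain ⟨g₁, hg₁, g₂, hg₂, hg12⟩ := hprod g'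
  set V := Subgroup.closure (conjRight g₁ A') with hV
  have hV₁ : V ≤ cj (S : Subgroup G) g₁⁻¹ := (Subgroup.closure_le _).2 (by
    rintro _ ⟨a, ha, rfl⟩
    exact mem_cj.2 (by rw [show g₁⁻¹⁻¹ * (g₁⁻¹ * a * g₁) * g₁⁻¹ = a by group]; exact hA'S ha))
  have hV₂ : V ≤ G₂ := (Subgroup.closure_le _).2 (by
    rintro _ ⟨a, ha, rfl⟩
    have h1 := h₂ (hA'g ⟨a, ha, rfl⟩)
    rw [hg12] at h1
    have h2 := Subgroup.mul_mem _ (Subgroup.mul_mem _ hg₂ h1) (Subgroup.inv_mem _ hg₂)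
    show g₁⁻¹ * a * g₁ ∈ G₂
    simpa [mul_assoc] using h2)
  have hVp : IsPGroup p V := (isPGroup_cj S.isPGroup' _).to_le hV₁
  have hV₁' : V ≤ G₁ := hV₁.trans ((cj_mono h₁ _).trans (cj_eq_self_of_mem (Subgroup.inv_mem _ hg₁)).le)
  obtain ⟨k, hk, hkS⟩ := ((sylIn_top S).mono (le_inf h₁ h₂) le_top).conj_le hVp (le_inf hV₁' hV₂)
  -- the two walks
  have hA1' : ∃ a ∈ A', a ≠ 1 := by
    obtain ⟨a, ha, ha1⟩ := hA1
    refine ⟨u⁻¹ * a * u, ⟨a, ha, rfl⟩, fun h => ha1 ?_⟩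
    rwa [show u⁻¹ * a * u = u⁻¹ * a * u⁻¹⁻¹ by rw [inv_inv], conj_eq_one_iff] at h
  have hmid : conjRight (g₁ * k⁻¹) A' ⊆ (S : Set G) := by
    rw [← conjRight_conjRight]
    rintro _ ⟨w, hw, rfl⟩
    have := hkS (conj_mem_cj (g := k) (Subgroup.subset_closure hw : w ∈ V))
    show k⁻¹⁻¹ * w * k⁻¹ ∈ (S : Subgroup G)
    rwa [inv_inv]
  have hmid1 : ∃ a ∈ conjRight (g₁ * k⁻¹) A', a ≠ 1 := by
    obtain ⟨a, ha, ha1⟩ := hA1'
    refine ⟨(g₁ * k⁻¹)⁻¹ * a * (g₁ * k⁻¹), ⟨a, ha, rfl⟩, fun h => ha1 ?_⟩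
    rwa [show (g₁ * k⁻¹)⁻¹ * a * (g₁ * k⁻¹) = (g₁ * k⁻¹)⁻¹ * a * (g₁ * k⁻¹)⁻¹⁻¹ by rw [inv_inv],
      conj_eq_one_iff] at h
  have hend : conjRight (k * g₂) (conjRight (g₁ * k⁻¹) A') ⊆ (S : Set G) := by
    rw [conjRight_conjRight, show g₁ * k⁻¹ * (k * g₂) = g' by rw [hg12]; group]
    exact hA'g
  have w1 := walk_mono le_top (sylIn_top S) h₁
    (walk_of_regular hf h₁ hr₁ (Subgroup.mul_mem _ hg₁ (Subgroup.inv_mem _ hk.1)) hA'S hA1' hmid)
  have w2 := walk_mono le_top (sylIn_top S) h₂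
    (walk_of_regular hf h₂ hr₂ (Subgroup.mul_mem _ hk.2 hg₂) hmid hmid1 hend)
  have w := walk_trans hf w1 w2
  rw [show g₁ * k⁻¹ * (k * g₂) = g' by rw [hg12]; group] at w
  -- move back
  suffices ∀ (B : Set G) (b : G), Walk p f ⊤ (S : Subgroup G) B b →
      Walk p f ⊤ (T : Subgroup G) (conjRight u⁻¹ B) (u * b * u⁻¹) by
    have h := this _ _ w
    rw [hA', conjRight_conjRight, mul_inv_cancel, hg', show u * (u⁻¹ * g * u) * u⁻¹ = g by group] at h
    rwa [show conjRight (1 : G) A = A by simp [conjRight]] at h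
  intro B b hb
  induction hb with
  | base _ hn =>
    refine .base (Subgroup.mem_top _) ?_
    rw [hTS, ← cj_normalizer]
    exact conj_mem_cj hn
  | @step B b y P F hP hF hSF _ hyF hBy _ ih =>
    rw [show u * (y * b) * u⁻¹ = (u * y * u⁻¹) * (u * b * u⁻¹) by group]
    have hcr : conjRight (u * y * u⁻¹) (conjRight u⁻¹ B) = conjRight u⁻¹ (conjRight y B) := by
      rw [conjRight_conjRight, conjRight_conjRight]; group
    refine .step (cj P u) (cj F u) (hP.cj' (Subgroup.le_normalizer (Subgroup.mem_top u)))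
      (((hf P hP.isPGroup).2 u).symm ▸ ⟨F, hF, rfl⟩) ?_ (Subgroup.mem_top _) ?_ ?_ (hcr ▸ ih)
    · rw [hTS, ← cj_normalizer]; exact cj_mono hSF u
    · rw [← cj_normalizer]; exact conj_mem_cj hyF
    · rw [hcr]
      rintro _ ⟨w, hw, rfl⟩
      rw [inv_inv, SetLike.mem_coe, hTS]
      exact conj_mem_cj (hBy hw)

end Cfsg.Agent.LocalEven.FunctorRegular
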