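import Cfsg.Agent.Lib.Fusion.GFitting
import Cfsg.Agent.Lib.Fusion.Cores
import Cfsg.Agent.Lib.Solv.Coprime
import Cfsg.Agent.Lib.Solv.Subnormal
import Cfsg.Agent.Lib.LocalEven.CharP
import Cfsg.Agent.Lib.Solv.MaxCentralizer
import Cfsg.Agent.Lib.Perm.Schmidt

/-!
A `p`-group acting on a generalized Fitting group without `p`-part in its Fitting subgroup.
-/

set_option autoImplicit false
set_option linter.style.haveILetI false

open scoped commutatorElement

namespace Cfsg.Agent.LocalEven.GFitAct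

open Cfsg

variable {G : Type*} [Group G] [Finite G] {p : ℕ} [Fact p.Prime]

theorem fitting_coprime {X : Type*} [Group X] [Finite X] (hO : pCore p X = ⊥) :
    (Nat.card ↥(fittingSubgroup X)).Coprime p := by
  haveI : (fittingSubgroup X).Normal := Solv.fittingSubgroup_normal
  rw [Fusion.coprime_card_iff_not_dvd]
  intro hd
  obtain ⟨S⟩ : Nonempty (Sylow p ↥(fittingSubgroup X)) := inferInstance
  haveI := Sylow.characteristic_of_normal S
    (Perm.sylow_normal_of_nilpotent Solv.fittingSubgroup_nilpotent S)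
  have h1 : (S : Subgroup ↥(fittingSubgroup X)).map (fittingSubgroup X).subtype ≤ ⊥ :=
    hO ▸ Fusion.le_pCore (hn := ConjAct.normal_of_characteristic_of_normal) (S.isPGroup'.map _)
  have h2 := S.dvd_card_of_dvd_card hd
  rw [(Subgroup.map_eq_bot_iff_of_injective _ (fittingSubgroup X).subtype_injective).1 (le_bot_iff.1 h1),
    Subgroup.card_bot] at h2
  exact (Fact.out : p.Prime).ne_one (Nat.dvd_one.1 h2)

/-- subnormal subgroups of `F*(H)` in a group without `p`-core -/
theorem hyps_of_subnormal {H : Subgroup G} (hO : pCore p ↥H = ⊥) {L : Subgroup G}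
    (hLF : L ≤ (generalizedFittingSubgroup ↥H).map H.subtype) (hLsn : (L.subgroupOf H).IsSubnormal) :
    generalizedFittingSubgroup ↥L = ⊤ ∧ (Nat.card ↥(fittingSubgroup ↥L)).Coprime p := by
  have hLH : L ≤ H := hLF.trans (Subgroup.map_subtype_le _)
  obtain ⟨E, hE⟩ : ∃ E, E = generalizedFittingSubgroup ↥H := ⟨_, rfl⟩
  have hLE : L.subgroupOf H ≤ E := by
    intro x hx
    obtain ⟨y, hy, hxy⟩ := hLF hx
    rw [hE, ← show y = x from Subtype.ext hxy]
    exact hy
  haveI : E.Normal := hE ▸ Local.gfit_normal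
  have hsn : ((L.subgroupOf H).subgroupOf E).IsSubnormal := Solv.isSubnormal_subgroupOf hLsn
  have hEE : generalizedFittingSubgroup ↥E = ⊤ := hE ▸ Fusion.gfit_self _
  have h1 := Fusion.gfit_top_of_subnormal hEE hsn
  have e : ↥((L.subgroupOf H).subgroupOf E) ≃* ↥L :=
    (Subgroup.subgroupOfEquivOfLe hLE).trans (Subgroup.subgroupOfEquivOfLe hLH)
  refine ⟨?_, ?_⟩
  · rw [eq_top_iff, ← Subgroup.map_top_of_surjective e.toMonoidHom e.surjective, ← h1,
      generalizedFittingSubgroup, Subgroup.map_sup]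
    refine sup_le_sup ?_ (Solv.fitting_map_equiv e)
    rw [Subgroup.map_le_iff_le_comap]
    refine sSup_le fun K hK => Subgroup.map_le_iff_le_comap.1 (Solv.component_le_layer ?_)
    exact ⟨Subgroup.IsSubnormal.map (f := e.toMonoidHom) e.surjective hK.1,
      Local.isQuasisimple_congr (K.equivMapOfInjective _ e.injective) hK.2⟩
  · refine (fitting_coprime (p := p) hO).coprime_dvd_left ?_
    haveI : (fittingSubgroup ↥L).Normal := Solv.fittingSubgroup_normal
    let ι : ↥L →* ↥H := Subgroup.inclusion hLH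
    have hι : Function.Injective ι := Subgroup.inclusion_injective hLH
    haveI := Solv.fittingSubgroup_nilpotent (G := ↥L)
    have hnil : Group.IsNilpotent ↥((fittingSubgroup ↥L).map ι) :=
      Group.nilpotent_of_mulEquiv (Subgroup.equivMapOfInjective _ ι hι)
    have hle : (fittingSubgroup ↥L).map ι ≤ L.subgroupOf H := by
      rintro _ ⟨x, -, rfl⟩
      exact x.2
    have hn : (((fittingSubgroup ↥L).map ι).subgroupOf (L.subgroupOf H)).Normal := by
      rw [Subgroup.normal_subgroupOf_iff hle]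
      rintro _ g ⟨x, hx, rfl⟩ hg
      exact ⟨⟨(g : G), hg⟩ * x * ⟨(g : G), hg⟩⁻¹, (inferInstance : (fittingSubgroup ↥L).Normal).conj_mem x hx _, rfl⟩
    have hFsn := Subgroup.IsSubnormal.step _ _ hle hLsn hn
    rw [← Subgroup.card_map_of_injective hι]
    exact Subgroup.card_dvd_of_le (Solv.subnormal_nilpotent_le_fitting hFsn hnil)

theorem hyps_of_subnormal' {H : Type*} [Group H] [Finite H] (hO : pCore p H = ⊥) {L : Subgroup H}
    (hLF : L ≤ generalizedFittingSubgroup H) (hLsn : L.IsSubnormal) :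
    generalizedFittingSubgroup ↥L = ⊤ ∧ (Nat.card ↥(fittingSubgroup ↥L)).Coprime p := by
  refine hyps_of_subnormal (H := (⊤ : Subgroup H)) ?_ ?_ (Solv.isSubnormal_subgroupOf hLsn)
  · refine (Subgroup.map_eq_bot_iff_of_injective _ (f := (Subgroup.topEquiv (G := H)).toMonoidHom) Subgroup.topEquiv.injective).1 ?_
    rw [Fusion.map_pCore_equiv, hO]
  · haveI : (generalizedFittingSubgroup H).Normal := Local.gfit_normal
    rwa [← Fusion.gfit_inf_normal (⊤ : Subgroup H), inf_top_eq]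

variable {L Y : Subgroup G}

/-- `L = [L, Y] C_L(Y)` -/
theorem split (hgf : generalizedFittingSubgroup ↥L = ⊤) (hfc : (Nat.card ↥(fittingSubgroup ↥L)).Coprime p)
    (hY : IsPGroup p ↥Y) (hYL : Y ≤ Subgroup.normalizer (L : Set G)) :
    ⁅L, Y⁆ ⊔ (L ⊓ Subgroup.centralizer (Y : Set G)) = L := by
  obtain ⟨hD1, hD2, -⟩ := Solv.commutator_normal_in hYL
  refine le_antisymm (sup_le hD1 inf_le_left) ?_
  have hLmap : L = (generalizedFittingSubgroup ↥L).map L.subtype := by
    rw [hgf, ← MonoidHom.range_eq_map, Subgroup.range_subtype]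
  refine hLmap.le.trans ?_
  rw [generalizedFittingSubgroup, Subgroup.map_sup]
  refine sup_le ?_ ?_
  · rw [Subgroup.map_le_iff_le_comap]
    refine sSup_le fun K hK => ?_
    rw [← Subgroup.map_le_iff_le_comap]
    by_cases hcen : K.map L.subtype ≤ Subgroup.centralizer (Y : Set G)
    · exact le_sup_of_le_right (le_inf (Subgroup.map_subtype_le K) hcen)
    refine le_sup_of_le_left ?_
    haveI hDn : (⁅L, Y⁆.subgroupOf L).Normal :=
      (Subgroup.normal_subgroupOf_iff_le_normalizer hD1).2 hD2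
    rcases Solv.component_normal_dichotomy hK (⁅L, Y⁆.subgroupOf L) with h | h
    · rintro _ ⟨k, hk, rfl⟩
      exact h hk
    exfalso
    apply hcen
    rintro _ ⟨k, hk, rfl⟩
    refine Subgroup.mem_centralizer_iff.2 fun y hy => ?_
    obtain ⟨α, hα⟩ : ∃ α : ↥L ≃* ↥L, ∀ x : ↥L, (α x : G) = y * x * y⁻¹ :=
      ⟨L.normalizerMonoidHom ⟨y, hYL hy⟩, fun x => rfl⟩
    obtain ⟨K', hK'⟩ : ∃ K', K' = K.map α.toMonoidHom := ⟨_, rfl⟩
    have hK'c : IsComponent K' := hK' ▸ ⟨Subgroup.IsSubnormal.map (f := α.toMonoidHom) α.surjective hK.1,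
      Local.isQuasisimple_congr (K.equivMapOfInjective _ α.injective) hK.2⟩
    have hu : ∀ a : ↥L, a * (α a)⁻¹ ∈ ⁅L, Y⁆.subgroupOf L := fun a => by
      rw [Subgroup.mem_subgroupOf]
      show (a : G) * ((α a : ↥L) : G)⁻¹ ∈ _
      rw [hα, show (a : G) * (y * a * y⁻¹)⁻¹ = ⁅(a : G), y⁆ by rw [commutatorElement_def]; group]
      exact Subgroup.commutator_mem_commutator a.2 hy
    have hcD : ∀ a : ↥L, ∀ b ∈ K, b * (a * (α a)⁻¹) = (a * (α a)⁻¹) * b := fun a b hb => by
      have := Subgroup.commutator_eq_bot_iff_le_centralizer.1 h hb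
      exact (Subgroup.mem_centralizer_iff.1 this _ (hu a)).symm
    have heq : K' = K := by
      by_contra hne
      have hab := Solv.components_commute hK'c hK hne
      refine Solv.qs_not_le_centralizer hK.2 (Subgroup.commutator_eq_bot_iff_le_centralizer.2 fun a ha => ?_)
      refine Subgroup.mem_centralizer_iff.2 fun b hb => ?_
      have hαa : b * α a = α a * b := Subgroup.mem_centralizer_iff.1
        (Subgroup.commutator_eq_bot_iff_le_centralizer.1 hab (hK' ▸ Subgroup.mem_map_of_mem _ ha)) b hb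
      have h1 : b * (a * (α a)⁻¹ * α a) = (a * (α a)⁻¹ * α a) * b :=
        (show Commute b (a * (α a)⁻¹) from hcD a b hb).mul_right hαa
      rwa [inv_mul_cancel_right] at h1
    have hαK : ∀ a ∈ K, α a ∈ K := fun a ha => heq ▸ hK' ▸ Subgroup.mem_map_of_mem α.toMonoidHom ha
    let ψ : ↥K →* ↥K := MonoidHom.mk' (fun a => ⟨(a : ↥L) * (α a)⁻¹, mul_mem a.2 (inv_mem (hαK _ a.2))⟩)
      fun a b => Subtype.ext (by
        show ((a : ↥L) * b) * (α ((a : ↥L) * b))⁻¹ = ((a : ↥L) * (α a)⁻¹) * ((b : ↥L) * (α b)⁻¹)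
        have hab := hcD (b : ↥L) (α a)⁻¹ (inv_mem (hαK _ a.2))
        rw [map_mul, mul_inv_rev, mul_assoc (a : ↥L) (α a)⁻¹, hab]
        group)
    have hperf : Group.IsPerfect ↥K := hK.2.1
    have hker : commutator ↥K ≤ ψ.ker := by
      rw [commutator_def, Subgroup.commutator_le]
      intro a _ b _
      rw [MonoidHom.mem_ker, map_commutatorElement, commutatorElement_eq_one_iff_mul_comm]
      exact Subtype.ext (hcD (b : ↥L) _ (ψ a).2)
    haveI := hperf
    rw [Group.IsPerfect.commutator_eq_top] at hker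
    have h2 : k * (α k)⁻¹ = 1 := congrArg Subtype.val (MonoidHom.mem_ker.1 (hker (Subgroup.mem_top (⟨k, hk⟩ : ↥K))))
    have h3 := congrArg Subtype.val (mul_inv_eq_one.1 h2)
    rw [hα] at h3
    exact (eq_mul_inv_iff_mul_eq.1 h3).symm
  · obtain ⟨F, hF⟩ : ∃ F, F = (fittingSubgroup ↥L).map L.subtype := ⟨_, rfl⟩
    rw [← hF]
    have hYF : Y ≤ Subgroup.normalizer (F : Set G) :=
      hF ▸ hYL.trans (normalizer_le_char L _)
    obtain ⟨n, hn⟩ := IsPGroup.iff_card.1 hY
    have hco : (Nat.card ↥Y).Coprime (Nat.card ↥F) := by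
      rw [hn, hF, Subgroup.card_map_of_injective L.subtype_injective]
      exact hfc.symm.pow_left n
    haveI := hY.isNilpotent
    rw [← Solv.commutator_sup_fixed hYF hco (Or.inl inferInstance)]
    have hFL : F ≤ L := hF ▸ Subgroup.map_subtype_le _
    exact sup_le_sup (Subgroup.commutator_mono hFL le_rfl) (inf_le_inf_right _ hFL)

/-- `[L, Y, Y] = [L, Y]` -/
theorem idem (hgf : generalizedFittingSubgroup ↥L = ⊤) (hfc : (Nat.card ↥(fittingSubgroup ↥L)).Coprime p)
    (hY : IsPGroup p ↥Y) (hYL : Y ≤ Subgroup.normalizer (L : Set G)) :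
    ⁅⁅L, Y⁆, Y⁆ = ⁅L, Y⁆ := by
  obtain ⟨hD1, hD2, hD3⟩ := Solv.commutator_normal_in hYL
  refine le_antisymm (Subgroup.commutator_mono hD1 le_rfl) ?_
  obtain ⟨-, hE2, hE3⟩ := Solv.commutator_normal_in hD3
  have hsplit := split hgf hfc hY hYL
  -- `[L, Y, Y]` is normalised by `L`
  have hCn : L ⊓ Subgroup.centralizer (Y : Set G) ≤ Subgroup.normalizer ((⁅⁅L, Y⁆, Y⁆ : Subgroup G) : Set G) := by
    intro c hc
    refine Fusion.mem_normalizer_of_cj_le ?_
    rw [Fusion.cj_commutator, Fusion.cj_eq_self (hD2 hc.1),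
      Fusion.cj_eq_self (Subgroup.centralizer_le_normalizer _ hc.2)]
  have hLn : L ≤ Subgroup.normalizer ((⁅⁅L, Y⁆, Y⁆ : Subgroup G) : Set G) :=
    hsplit.ge.trans (sup_le hE2 hCn)
  -- the elements moved into it form a subgroup
  let T : Subgroup G :=
    { carrier := {a | a ∈ L ∧ ∀ y ∈ Y, ⁅a, y⁆ ∈ ⁅⁅L, Y⁆, Y⁆}
      one_mem' := ⟨one_mem L, fun y _ => by rw [commutatorElement_one_left]; exact one_mem _⟩
      mul_mem' := fun {a b} ha hb => ⟨mul_mem ha.1 hb.1, fun y hy => by
        rw [show ⁅a * b, y⁆ = a * ⁅b, y⁆ * a⁻¹ * ⁅a, y⁆ by simp only [commutatorElement_def]; group]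
        exact mul_mem ((Subgroup.mem_normalizer_iff.1 (hLn ha.1) _).1 (hb.2 y hy)) (ha.2 y hy)⟩
      inv_mem' := fun {a} ha => ⟨inv_mem ha.1, fun y hy => by
        rw [show ⁅a⁻¹, y⁆ = a⁻¹ * ⁅a, y⁆⁻¹ * a⁻¹⁻¹ by simp only [commutatorElement_def]; group]
        exact (Subgroup.mem_normalizer_iff.1 (hLn (inv_mem ha.1)) _).1 (inv_mem (ha.2 y hy))⟩ }
  have hLT : L ≤ T := hsplit.ge.trans (sup_le (fun d hd => ⟨hD1 hd, fun y hy => Subgroup.commutator_mem_commutator hd hy⟩)
    fun c hc => ⟨hc.1, fun y hy => by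
      rw [commutatorElement_eq_one_iff_mul_comm.2 (Subgroup.mem_centralizer_iff.1 hc.2 y hy).symm]
      exact one_mem _⟩)
  exact Subgroup.commutator_le.2 fun a ha y hy => (hLT ha).2 y hy

omit [Fact p.Prime] in
/-- a `p`-subgroup centralising `F*(H)` is trivial -/
theorem eq_bot_of_centralizes [Fact p.Prime] {H : Type*} [Group H] [Finite H] (hO : pCore p H = ⊥) {B : Subgroup H}
    (hB : IsPGroup p ↥B) (hc : B ≤ Subgroup.centralizer (generalizedFittingSubgroup H : Set H)) : B = ⊥ := by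
  haveI : (generalizedFittingSubgroup H).Normal := Local.gfit_normal
  obtain ⟨Z, hZ⟩ : ∃ Z, Z = Subgroup.centralizer (generalizedFittingSubgroup H : Set H) := ⟨_, rfl⟩
  haveI : Z.Normal := hZ ▸ inferInstance
  have hZE : Z ≤ generalizedFittingSubgroup H := hZ ▸ Solv.centralizer_gfit_le
  have hnil : Group.IsNilpotent ↥Z := Solv.MaxCentralizer.nilpotent_of_comm fun a b => Subtype.ext
    ((Subgroup.mem_centralizer_iff.1 (hZ.le b.2) a (hZE a.2)))
  have hBF : B ≤ fittingSubgroup H := hc.trans (hZ ▸ Solv.normal_le_fitting hnil)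
  obtain ⟨n, hn⟩ := IsPGroup.iff_card.1 hB
  exact Subgroup.card_eq_one.1 (Nat.eq_one_of_dvd_coprimes ((fitting_coprime (p := p) hO).pow_right n)
    (Subgroup.card_dvd_of_le hBF) hn.dvd)

theorem centralizer_coprime {H : Type*} [Group H] [Finite H] (hO : pCore p H = ⊥) {X : Subgroup H}
    (h : ∀ B : Subgroup H, IsPGroup p ↥B → B ≤ X → B = ⊥) : (Nat.card ↥X).Coprime p := by
  rw [Fusion.coprime_card_iff_not_dvd]
  intro hd
  obtain ⟨S⟩ : Nonempty (Sylow p ↥X) := inferInstance
  have h2 := S.dvd_card_of_dvd_card hd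
  rw [(Subgroup.map_eq_bot_iff_of_injective _ X.subtype_injective).1
    (h _ (S.isPGroup'.map _) (Subgroup.map_subtype_le _)), Subgroup.card_bot] at h2
  exact (Fact.out : p.Prime).ne_one (Nat.dvd_one.1 h2)

end Cfsg.Agent.LocalEven.GFitAct
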