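import Cfsg.Agent.Lib.LocalEven.TwoPointGroups

/-!
# Subgroups of `GL₂(p)` of order prime to `p` with large tori on many lines
-/

set_option autoImplicit false

open scoped LinearAlgebra.Projectivization Matrix

namespace Cfsg.Agent.LocalEven

open Projectivization

/-- A non-scalar `2 × 2` matrix whose order is invertible has exactly two eigenlines. -/
theorem two_eigenlines {K : Type*} [Field K] [IsAlgClosed K] (M : Matrix (Fin 2) (Fin 2) K)
    (k : ℕ) (hk : (k : K) ≠ 0) (hM : M ^ k = 1) (hns : ∀ a : K, M ≠ a • (1 : Matrix (Fin 2) (Fin 2) K)) :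
    ∃ v₁ v₂ : Fin 2 → K, v₁ ≠ 0 ∧ v₂ ≠ 0 ∧ (∀ a : K, a • v₁ ≠ v₂) ∧
      (∃ μ : K, M *ᵥ v₁ = μ • v₁) ∧ (∃ μ : K, M *ᵥ v₂ = μ • v₂) ∧
      ∀ v : Fin 2 → K, v ≠ 0 → (∃ μ : K, M *ᵥ v = μ • v) → (∃ a : K, a • v₁ = v) ∨ ∃ a : K, a • v₂ = v := by
  obtain ⟨μ₁, hμ₁⟩ := IsAlgClosed.exists_root
    (Polynomial.X ^ 2 - Polynomial.C (M 0 0 + M 1 1) * Polynomial.X + Polynomial.C (M 0 0 * M 1 1 - M 0 1 * M 1 0))
    (by
      intro h
      have h2 : (Polynomial.X ^ 2 - Polynomial.C (M 0 0 + M 1 1) * Polynomial.X +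
        Polynomial.C (M 0 0 * M 1 1 - M 0 1 * M 1 0)).natDegree = 2 := by compute_degree!
      have := Polynomial.natDegree_eq_of_degree_eq_some (n := 0) h
      omega)
  simp only [Polynomial.IsRoot, Polynomial.eval_add, Polynomial.eval_sub, Polynomial.eval_pow,
    Polynomial.eval_X, Polynomial.eval_mul, Polynomial.eval_C] at hμ₁
  obtain ⟨μ₂, hμ₂⟩ : ∃ μ, μ = M 0 0 + M 1 1 - μ₁ := ⟨_, rfl⟩
  set N₁ := M - μ₁ • (1 : Matrix (Fin 2) (Fin 2) K) with hN₁
  set N₂ := M - μ₂ • (1 : Matrix (Fin 2) (Fin 2) K) with hN₂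
  have h12 : N₁ * N₂ = 0 := by
    ext i j
    fin_cases i <;> fin_cases j <;>
      simp [hN₁, hN₂, hμ₂, Matrix.mul_apply, Fin.sum_univ_two, Matrix.smul_apply] <;>
      first | linear_combination hμ₁ | linear_combination -hμ₁ | ring1
  have h21 : N₂ * N₁ = 0 := by
    ext i j
    fin_cases i <;> fin_cases j <;>
      simp [hN₁, hN₂, hμ₂, Matrix.mul_apply, Fin.sum_univ_two, Matrix.smul_apply] <;>
      first | linear_combination hμ₁ | linear_combination -hμ₁ | ring1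
  have hN₁0 : N₁ ≠ 0 := fun h => hns μ₁ (sub_eq_zero.1 h)
  have hN₂0 : N₂ ≠ 0 := fun h => hns μ₂ (sub_eq_zero.1 h)
  have hne : μ₁ ≠ μ₂ := by
    intro he
    have hN : N₁ * N₁ = 0 := by
      have : N₂ = N₁ := by rw [hN₁, hN₂, he]
      rw [this] at h12; exact h12
    obtain ⟨a, ha⟩ : ∃ a, a = μ₁ := ⟨_, rfl⟩
    have hMe : M = a • (1 : Matrix (Fin 2) (Fin 2) K) + N₁ := by rw [hN₁, ha]; abel
    have hpow : ∀ m : ℕ, M ^ (m + 1) = a ^ (m + 1) • (1 : Matrix (Fin 2) (Fin 2) K) + (((m + 1 : ℕ) : K) * a ^ m) • N₁ := by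
      intro m
      induction m with
      | zero => simpa using hMe
      | succ m ih =>
        rw [pow_succ, ih, hMe]
        simp only [add_mul, mul_add, smul_mul_assoc, mul_smul_comm, hN, smul_zero, one_mul, mul_one,
          add_zero]
        push_cast
        module
    obtain ⟨m, rfl⟩ : ∃ m, k = m + 1 := ⟨k - 1, by
      rcases k with _ | k
      · exact absurd Nat.cast_zero hk
      · rfl⟩
    have h1 : (((m + 1 : ℕ) : K) * a ^ m) • N₁ = (1 - a ^ (m + 1)) • (1 : Matrix (Fin 2) (Fin 2) K) := by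
      rw [sub_smul, one_smul]
      exact eq_sub_of_add_eq' (by rw [← hpow, hM])
    have h2 := congrArg (fun X => X * X) h1
    simp only [smul_mul_smul_comm, hN, smul_zero, one_mul] at h2
    have h3 : 1 - a ^ (m + 1) = 0 := by
      have := congrFun (congrFun h2 0) 0
      simpa using this.symm
    rw [h3, zero_smul, smul_eq_zero] at h1
    rcases h1 with h | h
    · rcases mul_eq_zero.1 h with h | h
      · exact hk h
      · rw [sub_eq_zero] at h3
        rw [pow_succ, h, zero_mul] at h3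
        exact one_ne_zero h3
    · exact hN₁0 h
  obtain ⟨w₁, hw₁⟩ : ∃ w, N₂ *ᵥ w ≠ 0 := by
    by_contra h
    push Not at h
    exact hN₂0 (Matrix.ext_of_mulVec_single fun i => by rw [h, Matrix.zero_mulVec])
  obtain ⟨w₂, hw₂⟩ : ∃ w, N₁ *ᵥ w ≠ 0 := by
    by_contra h
    push Not at h
    exact hN₁0 (Matrix.ext_of_mulVec_single fun i => by rw [h, Matrix.zero_mulVec])
  have he₁ : M *ᵥ (N₂ *ᵥ w₁) = μ₁ • (N₂ *ᵥ w₁) := by
    have h : N₁ *ᵥ (N₂ *ᵥ w₁) = 0 := by rw [Matrix.mulVec_mulVec, h12, Matrix.zero_mulVec]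
    rwa [hN₁, Matrix.sub_mulVec, Matrix.smul_mulVec, Matrix.one_mulVec, sub_eq_zero] at h
  have he₂ : M *ᵥ (N₁ *ᵥ w₂) = μ₂ • (N₁ *ᵥ w₂) := by
    have h : N₂ *ᵥ (N₁ *ᵥ w₂) = 0 := by rw [Matrix.mulVec_mulVec, h21, Matrix.zero_mulVec]
    rwa [hN₂, Matrix.sub_mulVec, Matrix.smul_mulVec, Matrix.one_mulVec, sub_eq_zero] at h
  refine ⟨_, _, hw₁, hw₂, fun a ha => ?_, ⟨μ₁, he₁⟩, ⟨μ₂, he₂⟩, ?_⟩
  · have h := he₂
    rw [← ha, Matrix.mulVec_smul, he₁, smul_comm, ← sub_eq_zero, ← sub_smul, smul_eq_zero, sub_eq_zero] at h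
    rcases h with h | h
    · exact hne h
    · exact hw₂ (by rw [← ha, h])
  rintro v hv ⟨μ, hμ⟩
  have key : ∀ (ν : K) (u : Fin 2 → K), u ≠ 0 → M *ᵥ u = ν • u → M *ᵥ v = ν • v → ∃ a : K, a • u = v := by
    intro ν u hu hu' hv'
    by_cases hD : u 0 * v 1 - u 1 * v 0 = 0
    · rcases eq_or_ne (u 0) 0 with h0 | h0
      · have hu1 : u 1 ≠ 0 := fun h1 => hu (funext fun i => by fin_cases i <;> assumption)
        have hv0 : v 0 = 0 := by
          rw [h0, zero_mul, zero_sub, neg_eq_zero, mul_eq_zero] at hD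
          exact hD.resolve_left hu1
        refine ⟨v 1 / u 1, funext fun i => ?_⟩
        fin_cases i <;> simp [h0, hv0, hu1]
      · refine ⟨v 0 / u 0, funext fun i => ?_⟩
        fin_cases i
        · simp [h0]
        · show v 0 / u 0 * u 1 = v 1
          field_simp
          linear_combination -hD
    · exfalso
      refine hns ν ?_
      have a0 := congrFun hu' 0
      have a1 := congrFun hu' 1
      have b0 := congrFun hv' 0
      have b1 := congrFun hv' 1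
      simp only [Matrix.mulVec, dotProduct, Fin.sum_univ_two, Pi.smul_apply, smul_eq_mul] at a0 a1 b0 b1
      have e00 : (M 0 0 - ν) * (u 0 * v 1 - u 1 * v 0) = 0 := by linear_combination v 1 * a0 - u 1 * b0
      have e01 : M 0 1 * (u 0 * v 1 - u 1 * v 0) = 0 := by linear_combination -v 0 * a0 + u 0 * b0
      have e10 : M 1 0 * (u 0 * v 1 - u 1 * v 0) = 0 := by linear_combination v 1 * a1 - u 1 * b1
      have e11 : (M 1 1 - ν) * (u 0 * v 1 - u 1 * v 0) = 0 := by linear_combination -v 0 * a1 + u 0 * b1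
      simp only [mul_eq_zero, hD, or_false, sub_eq_zero] at e00 e01 e10 e11
      ext i j
      fin_cases i <;> fin_cases j <;> simp [e00, e01, e10, e11]
  have hμ' : μ = μ₁ ∨ μ = μ₂ := by
    have h : N₁ *ᵥ (N₂ *ᵥ v) = 0 := by rw [Matrix.mulVec_mulVec, h12, Matrix.zero_mulVec]
    have hN : ∀ (ν : K) (u : Fin 2 → K), M *ᵥ u = μ • u →
        (M - ν • (1 : Matrix (Fin 2) (Fin 2) K)) *ᵥ u = (μ - ν) • u := fun ν u hu => by
      rw [Matrix.sub_mulVec, Matrix.smul_mulVec, Matrix.one_mulVec, hu, sub_smul]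
    rw [hN₂, hN μ₂ v hμ, Matrix.mulVec_smul, hN₁, hN μ₁ v hμ, smul_smul, smul_eq_zero, mul_eq_zero,
      sub_eq_zero, sub_eq_zero] at h
    tauto
  rcases hμ' with rfl | rfl
  · exact Or.inl (key _ _ hw₁ he₁ hμ)
  · exact Or.inr (key _ _ hw₂ he₂ hμ)

/-- Lines on which a subgroup of `GL₂(p)` of order prime to `p` has elements with eigenvalue `t⁻¹` and
determinant `t`, for a generator `t` of the multiplicative group. -/
theorem lines_bound {p : ℕ} [Fact p.Prime] (H : Subgroup (GL (Fin 2) (ZMod p)))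
    (hH : (Nat.card H).Coprime p) {ι : Type*} [Fintype ι] (v : ι → Fin 2 → ZMod p) (hv : ∀ i, v i ≠ 0)
    (hind : ∀ i j, ∀ c : ZMod p, v j = c • v i → i = j) (t : (ZMod p)ˣ) (ht : orderOf t = p - 1)
    (hh : ∀ i, ∃ h ∈ H, (h : Matrix (Fin 2) (Fin 2) (ZMod p)) *ᵥ v i = ((t⁻¹ : (ZMod p)ˣ) : ZMod p) • v i ∧
      (h : Matrix (Fin 2) (Fin 2) (ZMod p)).det = (t : ZMod p)) :
    (11 ≤ p → Fintype.card ι ≤ 12) ∧ (17 ≤ p ∨ p = 11 → Fintype.card ι ≤ 2) := by
  classical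
  let K := AlgebraicClosure (ZMod p)
  let φ := algebraMap (ZMod p) K
  haveI : CharP K p := charP_of_injective_algebraMap φ.injective p
  let ψ : GL (Fin 2) (ZMod p) →* Equiv.Perm (ℙ K (Fin 2 → K)) :=
    (MulAction.toPermHom (LinearMap.GeneralLinearGroup K (Fin 2 → K)) (ℙ K (Fin 2 → K))).comp
      (Matrix.GeneralLinearGroup.toLin.toMonoidHom.comp (Matrix.GeneralLinearGroup.map φ))
  have hψfix : ∀ (g : GL (Fin 2) (ZMod p)) (u : (Fin 2 → K)) (hu : u ≠ 0),
      ψ g (mk K u hu) = mk K u hu ↔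
        ∃ μ : K, (g : Matrix (Fin 2) (Fin 2) (ZMod p)).map φ *ᵥ u = μ • u := by
    intro g u hu
    show (Matrix.GeneralLinearGroup.toLin (Matrix.GeneralLinearGroup.map φ g)) • mk K u hu = mk K u hu ↔ _
    rw [smul_mk, mk_eq_mk_iff']
    exact exists_congr fun μ => eq_comm
  have hone : ∀ g : GL (Fin 2) (ZMod p), ψ g = 1 →
      ∃ a : ZMod p, (g : Matrix (Fin 2) (Fin 2) (ZMod p)) = a • (1 : Matrix (Fin 2) (Fin 2) (ZMod p)) := by
    intro g hg
    have h := fun (u : (Fin 2 → K)) (hu : u ≠ 0) => (hψfix g u hu).1 (by rw [hg]; rfl)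
    obtain ⟨μ₀, h₀⟩ := h ![1, 0] (fun e => one_ne_zero (congrFun e 0 : (1 : K) = 0))
    obtain ⟨μ₁, h₁⟩ := h ![0, 1] (fun e => one_ne_zero (congrFun e 1 : (1 : K) = 0))
    obtain ⟨μ₂, h₂⟩ := h ![1, 1] (fun e => one_ne_zero (congrFun e 0 : (1 : K) = 0))
    have a0 := congrFun h₀ 1; have b0 := congrFun h₁ 0
    have c0 := congrFun h₂ 0; have c1 := congrFun h₂ 1
    simp [Matrix.mulVec, dotProduct, Fin.sum_univ_two, Matrix.map_apply] at a0 b0 c0 c1
    rw [b0, map_zero, add_zero] at c0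
    rw [a0, map_zero, zero_add] at c1
    refine ⟨(g : Matrix (Fin 2) (Fin 2) (ZMod p)) 0 0, ?_⟩
    have h11 : (g : Matrix (Fin 2) (Fin 2) (ZMod p)) 1 1 = (g : Matrix (Fin 2) (Fin 2) (ZMod p)) 0 0 :=
      φ.injective (c1.trans c0.symm)
    ext i j
    fin_cases i <;> fin_cases j <;> simp [a0, b0, h11]
  let Γ := H.map ψ
  haveI : Finite Γ := Finite.of_surjective (fun x : H => (⟨ψ x, x.1, x.2, rfl⟩ : Γ))
    (by rintro ⟨_, g, hg, rfl⟩; exact ⟨⟨g, hg⟩, rfl⟩)
  have h2 : ∀ g : Γ, g ≠ 1 → ∃ a b : ℙ K (Fin 2 → K), a ≠ b ∧ ∀ x : ℙ K (Fin 2 → K), g • x = x ↔ x = a ∨ x = b := by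
    rintro ⟨_, g, hg, rfl⟩ hg1
    obtain ⟨M, hM⟩ : ∃ M, M = (g : Matrix (Fin 2) (Fin 2) (ZMod p)).map φ := ⟨_, rfl⟩
    have hMk : M ^ Nat.card H = 1 := by
      have h : g ^ Nat.card H = 1 := congrArg Subtype.val (pow_card_eq_one' (x := (⟨g, hg⟩ : H)))
      have h' := congrArg Units.val h
      rw [Units.val_pow_eq_pow_val, Units.val_one] at h'
      rw [hM, ← RingHom.mapMatrix_apply, ← map_pow, h', map_one]
    have hk : ((Nat.card H : ℕ) : K) ≠ 0 := by
      rw [Ne, CharP.cast_eq_zero_iff K p]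
      exact ((Fact.out : p.Prime).coprime_iff_not_dvd).1 hH.symm
    have hns : ∀ a : K, M ≠ a • (1 : Matrix (Fin 2) (Fin 2) K) := by
      intro a ha
      refine hg1 (Subtype.ext (Equiv.ext fun x => ?_))
      induction x using Projectivization.ind with
      | h u hu => exact (hψfix g u hu).2 ⟨a, by rw [← hM, ha, Matrix.smul_mulVec, Matrix.one_mulVec]⟩
    obtain ⟨v₁, v₂, hv₁, hv₂, hne, e₁, e₂, hall⟩ := two_eigenlines M _ hk hMk hns
    refine ⟨mk K v₁ hv₁, mk K v₂ hv₂, fun h => ?_, fun x => ?_⟩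
    · obtain ⟨a, ha⟩ := (mk_eq_mk_iff' K _ _ hv₂ hv₁).1 h.symm
      exact hne a ha
    induction x using Projectivization.ind with
    | h u hu =>
      show ψ g (mk K u hu) = mk K u hu ↔ _
      rw [hψfix, ← hM, mk_eq_mk_iff', mk_eq_mk_iff']
      refine ⟨hall u hu, ?_⟩
      rintro (⟨a, rfl⟩ | ⟨a, rfl⟩)
      · obtain ⟨μ, hμ⟩ := e₁
        exact ⟨μ, by rw [Matrix.mulVec_smul, hμ, smul_comm]⟩
      · obtain ⟨μ, hμ⟩ := e₂
        exact ⟨μ, by rw [Matrix.mulVec_smul, hμ, smul_comm]⟩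
  have hw : ∀ i, (fun j => φ (v i j)) ≠ (0 : (Fin 2 → K)) := fun i h =>
    hv i (funext fun j => φ.injective (by rw [Pi.zero_apply, map_zero]; exact congrFun h j))
  let pt : ι → ℙ K (Fin 2 → K) := fun i => mk K (fun j => φ (v i j)) (hw i)
  have hinj : Function.Injective pt := by
    intro i j hij
    obtain ⟨a, ha⟩ := (mk_eq_mk_iff' K _ _ (hw j) (hw i)).1 hij.symm
    obtain ⟨l, hl⟩ : ∃ l, v i l ≠ 0 := by
      by_contra h
      push Not at h
      exact hv i (funext h)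
    refine hind i j (v j l / v i l) (funext fun m => φ.injective ?_)
    have hl' : φ (v i l) ≠ 0 := fun h => hl (φ.injective (h.trans (map_zero φ).symm))
    have e1 : a * φ (v i l) = φ (v j l) := congrFun ha l
    have e2 : a * φ (v i m) = φ (v j m) := congrFun ha m
    rw [Pi.smul_apply, smul_eq_mul, map_mul, map_div₀, ← e1, ← e2, mul_div_cancel_right₀ _ hl']
  have hstab : ∀ i, p - 1 ∣ 3 * Nat.card (MulAction.stabilizer Γ (pt i)) := by
    intro i
    obtain ⟨h, hH', hev, hdet⟩ := hh i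
    have hfix : (⟨ψ h, h, hH', rfl⟩ : Γ) ∈ MulAction.stabilizer Γ (pt i) := by
      refine MulAction.mem_stabilizer_iff.2 ((hψfix h _ (hw i)).2 ⟨φ ((t⁻¹ : (ZMod p)ˣ) : ZMod p), funext fun j => ?_⟩)
      show ((h : Matrix (Fin 2) (Fin 2) (ZMod p)).map φ *ᵥ (φ ∘ v i)) j = _
      rw [← RingHom.map_mulVec, hev, Pi.smul_apply, Pi.smul_apply, smul_eq_mul, smul_eq_mul, map_mul]
    set k := Nat.card (MulAction.stabilizer Γ (pt i)) with hkdef
    have hk1 : ψ (h ^ k) = 1 := by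
      rw [map_pow]
      exact congrArg (fun a : MulAction.stabilizer Γ (pt i) => ((a : Γ) : Equiv.Perm (ℙ K (Fin 2 → K))))
        (pow_card_eq_one' (x := (⟨_, hfix⟩ : MulAction.stabilizer Γ (pt i))))
    obtain ⟨a, ha⟩ := hone _ hk1
    rw [Units.val_pow_eq_pow_val] at ha
    have hvk : ∀ m : ℕ, (h : Matrix (Fin 2) (Fin 2) (ZMod p)) ^ m *ᵥ v i =
        ((t⁻¹ : (ZMod p)ˣ) : ZMod p) ^ m • v i := by
      intro m
      induction m with
      | zero => rw [pow_zero, pow_zero, Matrix.one_mulVec, one_smul]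
      | succ m ih => rw [pow_succ, ← Matrix.mulVec_mulVec, hev, Matrix.mulVec_smul, ih, smul_smul, ← pow_succ']
    have ha1 : a = ((t⁻¹ : (ZMod p)ˣ) : ZMod p) ^ k := by
      have h1 := hvk k
      rw [ha, Matrix.smul_mulVec, Matrix.one_mulVec, ← sub_eq_zero, ← sub_smul, smul_eq_zero, sub_eq_zero] at h1
      exact h1.resolve_right (hv i)
    have ha2 : a ^ 2 = (t : ZMod p) ^ k := by
      rw [← hdet, ← Matrix.det_pow, ha, Matrix.det_smul, Matrix.det_one, mul_one, Fintype.card_fin]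
    rw [← ht, orderOf_dvd_iff_pow_eq_one]
    have h3 : ((t⁻¹ ^ k) ^ 2 : (ZMod p)ˣ) = t ^ k := Units.ext (by
      rw [Units.val_pow_eq_pow_val, Units.val_pow_eq_pow_val, Units.val_pow_eq_pow_val, ← ha1, ha2])
    rw [inv_pow, inv_pow, inv_eq_iff_mul_eq_one, ← pow_mul, ← pow_add] at h3
    rw [show 3 * k = k * 2 + k by ring]
    exact h3
  have hb : ∀ c, (∀ i, c ≤ Nat.card (MulAction.stabilizer Γ (pt i))) → 4 ≤ c →
      Fintype.card ι ≤ 12 ∧ (6 ≤ c → Fintype.card ι ≤ 2) := by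
    intro c hc h4
    have h := card_le_of_two_fixed h2 c h4 (Finset.univ.image pt) (fun x hx => by
      obtain ⟨i, -, rfl⟩ := Finset.mem_image.1 hx
      exact hc i)
    rwa [Finset.card_image_of_injective _ hinj, Finset.card_univ] at h
  refine ⟨fun hp => (hb 4 (fun i => ?_) le_rfl).1, fun hp => (hb 6 (fun i => ?_) (by norm_num)).2 le_rfl⟩
  · have := Nat.le_of_dvd (Nat.mul_pos (by norm_num) Nat.card_pos) (hstab i)
    omega
  · have h := Nat.le_of_dvd (Nat.mul_pos (by norm_num) Nat.card_pos) (hstab i)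
    rcases hp with hp | rfl
    · omega
    · have h' := hstab i
      omega

end Cfsg.Agent.LocalEven
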