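import Cfsg.Agent.Lib.Solv.Component
import Cfsg.Agent.Lib.Solv.Coprime
import Cfsg.Agent.Lib.Solv.Zipper
import Cfsg.Agent.Lib.Solv.Cores
import Cfsg.Agent.Lib.Fusion.Basic
import Cfsg.Agent.Lib.Solv.SetMul
import Cfsg.Agent.Lib.Fusion.Cores
import Cfsg.Prelude.Def_LocalEven

/-!
# Isolated `p`-minimal subgroups: the group modulo `O_p(G)`

`S` is a Sylow `p`-subgroup, `P` the isolated subgroup, `L` the subgroup generated by the others,
`R` a `p`-subgroup normalised by `L` but not by `P`, and `Z` stands for `O^p(P)`.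
-/

set_option autoImplicit false
open scoped commutatorElement Pointwise

namespace Cfsg.Agent.LocalEven.Isolated

open Cfsg Cfsg.Agent.Fusion

variable {H : Type*} [Group H] [Finite H] {p : ℕ} [hp : Fact p.Prime]

/-- The situation in `G / O_p(G)`. -/
structure Setup (p : ℕ) (S P L R Z : Subgroup H) : Prop where
  core : pCore p H = ⊥
  syl : SylIn p S ⊤
  gen : ∀ X : Subgroup H, S ≤ X → (P ≤ X ∧ X ≤ P ⊔ (L ⊓ X)) ∨ X ≤ L
  sP : S ≤ P
  sL : S ≤ L
  top : P ⊔ L = ⊤
  rp : IsPGroup p R
  rS : R ≤ S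
  rL : L ≤ Subgroup.normalizer (R : Set H)
  rP : ¬ P ≤ Subgroup.normalizer (R : Set H)
  zP : Z ⊔ S = P
  zS : S ≤ Subgroup.normalizer (Z : Set H)
  zgen : ∀ N : Subgroup H, (∀ g ∈ P, (orderOf g).Coprime p → g ∈ N) → Z ≤ N

omit [Finite H] in
theorem coprime_mem {N S : Subgroup H} (hS : IsPGroup p S) (hn : S ≤ Subgroup.normalizer (N : Set H))
    {g : H} (hg : g ∈ N ⊔ S) (ho : (orderOf g).Coprime p) : g ∈ N := by
  obtain ⟨X, hX⟩ : ∃ X, X = N ⊔ S := ⟨_, rfl⟩
  haveI hN : (N.subgroupOf X).Normal := (Subgroup.normal_subgroupOf_iff_le_normalizer (hX ▸ le_sup_left)).2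
    (hX ▸ sup_le Subgroup.le_normalizer hn)
  obtain ⟨x, hx⟩ : ∃ x : ↥X, (x : H) = g := ⟨⟨g, hX ▸ hg⟩, rfl⟩
  have hsurj : Function.Surjective ((QuotientGroup.mk' (N.subgroupOf X)).comp
      (Subgroup.inclusion (hX ▸ le_sup_right : S ≤ X))) := by
    intro q
    obtain ⟨y, rfl⟩ := QuotientGroup.mk_surjective q
    have hy := y.2
    have hy' : (y : H) ∈ N ⊔ S := by rw [← hX]; exact y.2
    rw [← SetLike.mem_coe, Subgroup.coe_mul_of_right_le_normalizer_left N S hn] at hy'
    obtain ⟨n, hn', s, hs, hns⟩ := hy'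
    refine ⟨⟨s, hs⟩, ?_⟩
    refine QuotientGroup.eq.2 ?_
    rw [Subgroup.mem_subgroupOf]
    show s⁻¹ * (y : H) ∈ N
    rw [← hns]
    show s⁻¹ * (n * s) ∈ N
    have h := (Subgroup.mem_normalizer_iff.1 ((Subgroup.normalizer (N : Set H)).inv_mem (hn hs)) n).1 hn'
    rw [inv_inv] at h
    rwa [← mul_assoc]
  obtain ⟨k, hk⟩ := IsPGroup.iff_orderOf.1 (hS.of_surjective _ hsurj) (QuotientGroup.mk x)
  have h1 : orderOf (QuotientGroup.mk x : ↥X ⧸ N.subgroupOf X) ∣ orderOf x :=
    orderOf_map_dvd (QuotientGroup.mk' _) x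
  rw [← Subgroup.orderOf_coe x, hx] at h1
  have h2 := Nat.eq_one_of_dvd_coprimes (ho.pow_right k) h1 (hk ▸ dvd_rfl)
  have h3 := (QuotientGroup.eq_one_iff x).1 (orderOf_eq_one_iff.1 h2)
  rw [Subgroup.mem_subgroupOf, hx] at h3
  exact h3

omit [Finite H] in
theorem inf_bot_of_coprime {A B : Subgroup H} (hA : IsPGroup p A) (hB : ¬ p ∣ Nat.card B) [Finite A] : A ⊓ B = ⊥ := by
  obtain ⟨k, hk⟩ := IsPGroup.iff_card.1 hA
  exact Subgroup.inf_eq_bot_of_coprime (hk ▸ ((Nat.Prime.coprime_iff_not_dvd hp.out).2 hB).pow_left k)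

omit [Finite H] in
theorem le_centralizer_of_inf {A B : Subgroup H} (hAB : A ≤ Subgroup.normalizer (B : Set H))
    (hBA : B ≤ Subgroup.normalizer (A : Set H)) (h : A ⊓ B = ⊥) : A ≤ Subgroup.centralizer (B : Set H) := by
  rw [← Subgroup.commutator_eq_bot_iff_le_centralizer, ← le_bot_iff, ← h]
  exact le_inf (Subgroup.commutator_le.2 fun a ha b hb => by
      rw [commutatorElement_def, mul_assoc a b, mul_assoc a]
      exact mul_mem ha ((Subgroup.mem_normalizer_iff.1 (hBA hb) _).1 (inv_mem ha)))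
    (Subgroup.commutator_le.2 fun a ha b hb => by
      rw [commutatorElement_def]
      exact mul_mem ((Subgroup.mem_normalizer_iff.1 (hAB ha) _).1 hb) (inv_mem hb))

namespace Setup

variable {S P L R Z : Subgroup H}

theorem z_le_P (h : Setup p S P L R Z) : Z ≤ P := h.zP ▸ le_sup_left

theorem dich (h : Setup p S P L R Z) (N : Subgroup H) (hN : S ≤ Subgroup.normalizer (N : Set H)) :
    Z ≤ N ∨ N ≤ L := by
  rcases h.gen (N ⊔ S) le_sup_right with ⟨hP, -⟩ | hL
  · exact Or.inl (h.zgen N fun g hg ho => coprime_mem h.syl.isPGroup hN (hP hg) ho)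
  · exact Or.inr (le_sup_left.trans hL)

theorem not_cent (h : Setup p S P L R Z) : ¬ Z ≤ Subgroup.centralizer (R : Set H) := fun hc => by
  refine h.rP ?_
  rw [← h.zP]
  exact sup_le (hc.trans (Subgroup.centralizer_le_normalizer _)) (h.sL.trans h.rL)

theorem z_ne_bot (h : Setup p S P L R Z) : Z ≠ ⊥ := fun hz => h.not_cent (hz ▸ bot_le)

theorem s_normalizes_cR (h : Setup p S P L R Z) :
    S ≤ Subgroup.normalizer ((Subgroup.centralizer (R : Set H) : Subgroup H) : Set H) := fun s hs => by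
  refine mem_normalizer_iff_cj.2 ?_
  rw [cj_centralizer, cj_eq_self (h.rL (h.sL hs))]

/-! ### The case of a `t`-group -/

variable {t : ℕ}

theorem zero_pcore (h : Setup p S P L R Z) (ht : t.Prime) (htp : t ≠ p) : R ⊓ pCore t H = ⊥ := by
  haveI := Fact.mk ht
  refine inf_bot_of_coprime h.rp fun hd => ?_
  obtain ⟨k, hk⟩ := IsPGroup.iff_card.1 (isPGroup_pCore t H)
  rw [hk] at hd
  exact htp ((Nat.prime_dvd_prime_iff_eq hp.out ht).1 (hp.out.dvd_of_dvd_pow hd)).symm

theorem cent_of_le_L (h : Setup p S P L R Z) (ht : t.Prime) (htp : t ≠ p) {N : Subgroup H}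
    (hN : N ≤ pCore t H) (hL : N ≤ L) : N ≤ Subgroup.centralizer (R : Set H) := by
  rw [← Subgroup.commutator_eq_bot_iff_le_centralizer, ← le_bot_iff, ← h.zero_pcore ht htp]
  refine le_inf (Subgroup.commutator_le.2 fun a ha b hb => ?_) ((Subgroup.commutator_mono hN le_rfl).trans
    (Subgroup.commutator_le_left _ _))
  rw [commutatorElement_def]
  exact mul_mem ((Subgroup.mem_normalizer_iff.1 (h.rL (hL ha)) _).1 hb) (inv_mem hb)

theorem coprime_rz (h : Setup p S P L R Z) (ht : t.Prime) (htp : t ≠ p) {K : Subgroup H} (hK : K ≤ pCore t H) :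
    (Nat.card R).Coprime (Nat.card K) := by
  haveI := Fact.mk ht
  obtain ⟨j, hj⟩ := IsPGroup.iff_card.1 h.rp
  obtain ⟨k, hk⟩ := IsPGroup.iff_card.1 ((isPGroup_pCore t H).to_le hK)
  rw [hj, hk]
  exact ((Nat.coprime_primes hp.out ht).2 htp.symm).pow _ _

theorem r_solvable (h : Setup p S P L R Z) : Group.IsSolvable R := by
  haveI := IsPGroup.isNilpotent (p := p) h.rp
  infer_instance

theorem comm_eq (h : Setup p S P L R Z) (ht : t.Prime) (htp : t ≠ p) (hZ : Z ≤ pCore t H) : ⁅Z, R⁆ = Z := by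
  have hRZ : R ≤ Subgroup.normalizer (Z : Set H) := h.rS.trans h.zS
  obtain ⟨h1, -, -⟩ := Solv.commutator_normal_in hRZ
  refine le_antisymm h1 ?_
  have hS : S ≤ Subgroup.normalizer ((⁅Z, R⁆ : Subgroup H) : Set H) := fun s hs => by
    refine mem_normalizer_iff_cj.2 ?_
    rw [cj_commutator, cj_eq_self (h.zS hs), cj_eq_self (h.rL (h.sL hs))]
  refine (h.dich _ hS).resolve_right fun hL => h.not_cent ?_
  rw [← Subgroup.commutator_eq_bot_iff_le_centralizer,
    ← Solv.commutator_commutator_eq hRZ (h.coprime_rz ht htp hZ) (Or.inl h.r_solvable),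
    Subgroup.commutator_eq_bot_iff_le_centralizer]
  exact h.cent_of_le_L ht htp (h1.trans hZ) hL

theorem class_two (h : Setup p S P L R Z) (ht : t.Prime) (htp : t ≠ p) (hZ : Z ≤ pCore t H) :
    ⁅⁅Z, Z⁆, Z⁆ = ⊥ := by
  haveI := Fact.mk ht
  obtain ⟨C, hC⟩ : ∃ C, C = Z ⊓ Subgroup.centralizer (R : Set H) := ⟨_, rfl⟩
  have hSC : S ≤ Subgroup.normalizer (C : Set H) := fun s hs => by
    refine mem_normalizer_iff_cj.2 ?_
    rw [hC, cj_inf, cj_eq_self (h.zS hs), cj_eq_self (h.s_normalizes_cR hs)]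
  haveI : Group.IsNilpotent ↥Z := IsPGroup.isNilpotent (p := t) ((isPGroup_pCore t H).to_le hZ)
  have hZC : Z ≤ Subgroup.normalizer (C : Set H) := by
    have hS' : S ≤ Subgroup.normalizer ((Z ⊓ Subgroup.normalizer (C : Set H) : Subgroup H) : Set H) := fun s hs => by
      refine mem_normalizer_iff_cj.2 ?_
      rw [cj_inf, cj_eq_self (h.zS hs), cj_eq_self (Subgroup.le_normalizer (hSC hs))]
    refine ((h.dich _ hS').resolve_right fun hL => ?_).trans inf_le_right
    have hle : Z ⊓ Subgroup.normalizer (C : Set H) ≤ C := by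
      rw [hC]
      exact le_inf inf_le_left (hC ▸ h.cent_of_le_L ht htp (inf_le_left.trans hZ) hL)
    have hCZ : C ≤ Z := hC ▸ inf_le_left
    have h1 : Subgroup.normalizer ((C.subgroupOf Z : Subgroup ↥Z) : Set ↥Z) = C.subgroupOf Z := by
      refine le_antisymm (fun x hx => ?_) Subgroup.le_normalizer
      rw [← Subgroup.subgroupOf_normalizer_eq hCZ] at hx
      exact hle ⟨x.2, hx⟩
    have h2 := normalizerCondition_iff_only_full_group_self_normalizing.1
      Group.normalizerCondition_of_isNilpotent _ h1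
    exact h.not_cent (fun z hz => by
      have := h2 ▸ Subgroup.mem_top (⟨z, hz⟩ : ↥Z)
      rw [Subgroup.mem_subgroupOf, hC] at this
      exact this.2)
  have hcen : ⁅C, Z⁆ = ⊥ := by
    rw [Subgroup.commutator_comm]
    conv_lhs => rw [← h.comm_eq ht htp hZ]
    have hCR : ⁅C, R⁆ = ⊥ := by
      rw [Subgroup.commutator_eq_bot_iff_le_centralizer, hC]; exact inf_le_right
    refine Subgroup.commutator_commutator_eq_bot_of_rotate ?_ ?_
    · rw [Subgroup.commutator_comm R C, hCR, Subgroup.commutator_bot_left]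
    · have hle : ⁅C, Z⁆ ≤ C := Subgroup.commutator_le.2 fun a ha b hb => by
        rw [commutatorElement_def, mul_assoc a b, mul_assoc a]
        exact mul_mem ha ((Subgroup.mem_normalizer_iff.1 (hZC hb) _).1 (inv_mem ha))
      rw [← le_bot_iff, ← hCR]
      exact Subgroup.commutator_mono hle le_rfl
  have hder : ⁅Z, Z⁆ ≤ C := by
    have hS' : S ≤ Subgroup.normalizer ((⁅Z, Z⁆ : Subgroup H) : Set H) := fun s hs => by
      refine mem_normalizer_iff_cj.2 ?_
      rw [cj_commutator, cj_eq_self (h.zS hs)]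
    rcases h.dich _ hS' with hd | hd
    · refine absurd ?_ h.z_ne_bot
      by_contra hne
      haveI : Nontrivial ↥Z := (Subgroup.nontrivial_iff_ne_bot Z).2 hne
      refine (Group.IsSolvable.commutator_lt_top_of_nontrivial ↥Z).ne ?_
      refine Subgroup.map_injective Z.subtype_injective ?_
      rw [Subgroup.map_subtype_commutator, ← MonoidHom.range_eq_map, Subgroup.range_subtype]
      exact le_antisymm (Subgroup.commutator_le_self Z) hd
    · rw [hC]
      exact le_inf (Subgroup.commutator_le_self Z)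
        (h.cent_of_le_L ht htp ((Subgroup.commutator_le_self Z).trans hZ) hd)
  rw [← le_bot_iff, ← hcen]
  exact Subgroup.commutator_mono hder le_rfl

theorem z_normal (h : Setup p S P L R Z) (ht : t.Prime) (htp : t ≠ p) (hZ : Z ≤ pCore t H) : Z.Normal := by
  haveI := Fact.mk ht
  haveI hTn : (pCore t H).Normal := Solv.pCore_normal t
  have hRT : R ≤ Subgroup.normalizer ((pCore t H : Subgroup H) : Set H) := by
    rw [Subgroup.normalizer_eq_top]; exact le_top
  obtain ⟨W, hW⟩ : ∃ W, W = ⁅pCore t H, R⁆ := ⟨_, rfl⟩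
  have hWT : W ≤ pCore t H := hW ▸ (Solv.commutator_normal_in hRT).1
  have hLW : L ≤ Subgroup.normalizer (W : Set H) := fun l hl => by
    refine mem_normalizer_iff_cj.2 ?_
    rw [hW, cj_commutator, cj_of_normal, cj_eq_self (h.rL hl)]
  have hSW : S ≤ Subgroup.normalizer (W : Set H) := h.sL.trans hLW
  have hWW : ⁅W, R⁆ = W := by
    rw [hW]
    exact Solv.commutator_commutator_eq hRT (h.coprime_rz ht htp le_rfl) (Or.inl h.r_solvable)
  have hZW : Z ≤ W := by
    rw [← h.comm_eq ht htp hZ, hW]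
    exact Subgroup.commutator_mono hZ le_rfl
  have hWS : W ⊓ S = ⊥ := by
    rw [inf_comm]
    refine inf_bot_of_coprime h.syl.isPGroup fun hd => ?_
    obtain ⟨k, hk⟩ := IsPGroup.iff_card.1 ((isPGroup_pCore t H).to_le hWT)
    rw [hk] at hd
    exact htp ((Nat.prime_dvd_prime_iff_eq hp.out ht).1 (hp.out.dvd_of_dvd_pow hd)).symm
  obtain ⟨U, hU⟩ : ∃ U, U = Z ⊔ (W ⊓ L) := ⟨_, rfl⟩
  have hUW : U ≤ W := hU ▸ sup_le hZW inf_le_left
  have hWU : W ≤ U := by
    have hX : W ⊔ S ≤ U ⊔ S := by
      rcases h.gen (W ⊔ S) le_sup_right with ⟨-, hX⟩ | hX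
      · refine hX.trans (sup_le ?_ ?_)
        · rw [← h.zP]
          exact sup_le_sup_right (hU ▸ le_sup_left) _
        · intro x hx
          obtain ⟨hxL, hxX⟩ := Subgroup.mem_inf.1 hx
          rw [← SetLike.mem_coe, Subgroup.coe_mul_of_right_le_normalizer_left W S hSW] at hxX
          obtain ⟨w, hw, s, hs, rfl⟩ := hxX
          refine mul_mem (Subgroup.mem_sup_left ?_) (Subgroup.mem_sup_right hs)
          rw [hU]
          refine Subgroup.mem_sup_right ⟨hw, ?_⟩
          have := mul_mem hxL (inv_mem (h.sL hs))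
          rwa [mul_inv_cancel_right] at this
      · refine sup_le_sup_right ?_ _
        rw [hU]
        exact le_sup_of_le_right (le_inf le_rfl (le_sup_left.trans hX))
    have hSU : S ≤ Subgroup.normalizer (U : Set H) := fun s hs => by
      refine mem_normalizer_iff_cj.2 ?_
      rw [hU, cj_sup, cj_eq_self (h.zS hs), cj_inf, cj_eq_self (hSW hs), cj_eq_self_of_mem (h.sL hs)]
    intro w hw
    have hw' : w ∈ U ⊔ S := hX (Subgroup.mem_sup_left hw)
    rw [← SetLike.mem_coe, Subgroup.coe_mul_of_right_le_normalizer_left U S hSU] at hw'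
    obtain ⟨u, hu, s, hs, hus⟩ := hw'
    have hus' : u * s = w := hus
    have : s ∈ W ⊓ S := ⟨by
      have e : s = u⁻¹ * w := by rw [← hus']; group
      rw [e]
      exact W.mul_mem (W.inv_mem (hUW hu)) hw, hs⟩
    rw [hWS, Subgroup.mem_bot] at this
    rw [← hus', this, mul_one]; exact hu
  -- a maximal subgroup over `Z` would absorb `W`
  have hWZ : W ≤ Z := by
    by_contra hne
    have hne' : Z.subgroupOf W ≠ ⊤ := fun e => hne (Subgroup.subgroupOf_eq_top.1 e)
    haveI : Group.IsNilpotent ↥W := IsPGroup.isNilpotent (p := t) ((isPGroup_pCore t H).to_le hWT)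
    obtain ⟨M, hM, hZM⟩ := (eq_top_or_exists_le_coatom (Z.subgroupOf W)).resolve_left hne'
    have hMn : M.Normal := Subgroup.NormalizerCondition.normal_of_coatom M Group.normalizerCondition_of_isNilpotent hM
    have hRW : R ≤ Subgroup.normalizer (W : Set H) := h.rS.trans hSW
    have hcomm : ∀ w : ↥W, ∀ r : R, (w : H) * r * (w : H)⁻¹ * (r : H)⁻¹ ∈ W := fun w r => by
      have := Subgroup.commutator_mem_commutator (H₁ := W) (H₂ := R) w.2 r.2
      rwa [hWW, commutatorElement_def] at this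
    let A : Subgroup ↥W :=
      { carrier := {w | ∀ r : R, (⟨_, hcomm w r⟩ : ↥W) ∈ M}
        one_mem' := fun r => by
          convert M.one_mem
          simp
        mul_mem' := fun {a b} ha hb r => by
          have e : (⟨_, hcomm (a * b) r⟩ : ↥W) = a * ⟨_, hcomm b r⟩ * a⁻¹ * ⟨_, hcomm a r⟩ :=
            Subtype.ext (by simp only [Subgroup.coe_mul, Subgroup.coe_inv]; group)
          rw [e]
          exact mul_mem (hMn.conj_mem _ (hb r) a) (ha r)
        inv_mem' := fun {a} ha r => by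
          have e : (⟨_, hcomm a⁻¹ r⟩ : ↥W) = a⁻¹ * (⟨_, hcomm a r⟩ : ↥W)⁻¹ * a⁻¹⁻¹ :=
            Subtype.ext (by simp only [Subgroup.coe_mul, Subgroup.coe_inv]; group)
          rw [e]
          exact hMn.conj_mem _ (inv_mem (ha r)) a⁻¹ }
    have hA : ∀ w : ↥W, w ∈ A := by
      have hle : U ≤ A.map W.subtype := by
        rw [hU]
        refine sup_le (fun z hz => ⟨⟨z, hZW hz⟩, fun r => hZM ?_, rfl⟩) fun c hc =>
          ⟨⟨c, hc.1⟩, fun r => ?_, rfl⟩
        · rw [Subgroup.mem_subgroupOf]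
          have hr : (r : H) * z⁻¹ * (r : H)⁻¹ ∈ Z :=
            (Subgroup.mem_normalizer_iff.1 (h.zS (h.rS r.2)) _).1 (inv_mem hz)
          show z * (r : H) * z⁻¹ * (r : H)⁻¹ ∈ Z
          have := mul_mem hz hr
          rwa [← mul_assoc, ← mul_assoc] at this
        · have hc' := h.cent_of_le_L ht htp ((inf_le_left : W ⊓ L ≤ W).trans hWT) inf_le_right hc
          convert M.one_mem
          rw [← Subgroup.mem_centralizer_iff.1 hc' r r.2]
          simp
      intro w
      obtain ⟨w', hw', e⟩ := hle (hWU w.2)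
      rwa [show w = w' from Subtype.ext e.symm]
    refine hM.1 (eq_top_iff.2 fun w _ => ?_)
    have : W ≤ M.map W.subtype := by
      conv_lhs => rw [← hWW]
      refine Subgroup.commutator_le.2 fun a ha b hb => ⟨_, hA ⟨a, ha⟩ ⟨b, hb⟩, ?_⟩
      rw [commutatorElement_def]; rfl
    obtain ⟨w', hw', e⟩ := this w.2
    rwa [show w = w' from Subtype.ext e.symm]
  have hZeq : Z = W := le_antisymm hZW hWZ
  rw [← Subgroup.normalizer_eq_top_iff, eq_top_iff, ← h.top]
  refine sup_le ?_ (hZeq ▸ hLW)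
  rw [← h.zP]
  exact sup_le Subgroup.le_normalizer h.zS

/-! ### The case of components -/

/-- Either `Z` lies in some `O_t(H)`, or it lies in the product of the components not centralising `R`. -/
theorem fitting_cent (h : Setup p S P L R Z) (hnot : ∀ t : ℕ, t.Prime → t ≠ p → ¬ Z ≤ pCore t H) :
    fittingSubgroup H ≤ Subgroup.centralizer (R : Set H) := by
  rw [Solv.fitting_eq_iSup_pCore]
  refine iSup_le fun t => ?_
  by_cases htp : (t : ℕ) = p
  · rw [htp, h.core]; exact bot_le
  · haveI := Solv.pCore_normal (G := H) (t : ℕ)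
    exact h.cent_of_le_L t.2 htp le_rfl
      ((h.dich _ (by rw [Subgroup.normalizer_eq_top]; exact le_top)).resolve_left (hnot t t.2 htp))

/-- A component inside `L` centralises `R`. -/
theorem comp_cent (h : Setup p S P L R Z) {K : Subgroup H} (hK : IsComponent K) (hKL : K ≤ L) :
    K ≤ Subgroup.centralizer (R : Set H) := by
  have hlK : layer H ≤ Subgroup.normalizer (K : Set H) := sSup_le fun K' hK' => by
    by_cases he : K' = K
    · exact he ▸ Subgroup.le_normalizer
    · exact (Subgroup.commutator_eq_bot_iff_le_centralizer.1 (Solv.components_commute hK' hK he)).trans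
        (Subgroup.centralizer_le_normalizer _)
  haveI : (layer H).Normal := Local.layer_normal
  obtain ⟨D, hD⟩ : ∃ D, D = ⁅K, R⁆ := ⟨_, rfl⟩
  have hDR : D ≤ R := hD ▸ Subgroup.commutator_le.2 fun a ha b hb => by
    rw [commutatorElement_def]
    exact mul_mem ((Subgroup.mem_normalizer_iff.1 (h.rL (hKL ha)) _).1 hb) (inv_mem hb)
  have hDl : D ≤ layer H := hD ▸ (Subgroup.commutator_mono (Solv.component_le_layer hK) le_rfl).trans
    (Subgroup.commutator_le_left _ _)
  have hDKK : ⁅D, K⁆ ≤ K ⊓ R := by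
    refine le_inf (Subgroup.commutator_le.2 fun a ha b hb => ?_) (Subgroup.commutator_le.2 fun a ha b hb => ?_)
    · rw [commutatorElement_def]
      exact mul_mem ((Subgroup.mem_normalizer_iff.1 (hlK (hDl ha)) _).1 hb) (inv_mem hb)
    · rw [commutatorElement_def, mul_assoc a b, mul_assoc a]
      exact mul_mem (hDR ha) ((Subgroup.mem_normalizer_iff.1 (h.rL (hKL hb)) _).1 (inv_mem (hDR ha)))
  have hKR : K ⊓ R = ⊥ := by
    haveI : ((K ⊓ R).subgroupOf K).Normal := (Subgroup.normal_subgroupOf_iff_le_normalizer inf_le_left).2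
      fun k hk => mem_normalizer_iff_cj.2 (by rw [cj_inf, cj_eq_self_of_mem hk, cj_eq_self (h.rL (hKL hk))])
    rcases Solv.qs_normal_le_center_or_top hK.2 ((K ⊓ R).subgroupOf K) with hct | hcz
    · exfalso
      have hKR' : K ≤ R := (Subgroup.subgroupOf_eq_top.1 hct).trans inf_le_right
      haveI := Solv.qs_nontrivial hK.2
      haveI := hK.2.1
      haveI := IsPGroup.isNilpotent (p := p) (h.rp.to_le hKR')
      exact Group.IsPerfect.not_isSolvable (G := ↥K) inferInstance
    · refine le_bot_iff.1 ?_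
      rw [← h.core]
      refine Solv.pgroup_le_pCore_of_le_fitting (h.rp.to_le inf_le_right) fun x hx => ?_
      exact Solv.center_component_le_fitting hK ⟨⟨x, hx.1⟩, hcz hx, rfl⟩
  rw [← Subgroup.commutator_eq_bot_iff_le_centralizer]
  refine Solv.commutator_eq_bot_of_perfect (Solv.qs_self_commutator hK.2) ?_
  rw [← hD, ← le_bot_iff, ← hKR]
  exact hDKK

theorem exists_comp (h : Setup p S P L R Z) (hnot : ∀ t : ℕ, t.Prime → t ≠ p → ¬ Z ≤ pCore t H) :
    ∃ K : Subgroup H, IsComponent K ∧ ¬ K ≤ Subgroup.centralizer (R : Set H) := by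
  by_contra hcon
  push Not at hcon
  have hF : generalizedFittingSubgroup H ≤ Subgroup.centralizer (R : Set H) :=
    sup_le (sSup_le fun K hK => hcon K hK) (h.fitting_cent hnot)
  have hRC : R ≤ Subgroup.centralizer (generalizedFittingSubgroup H : Set H) :=
    Subgroup.le_centralizer_iff.1 hF
  haveI := Local.gfit_normal (H := H)
  haveI := Solv.centralizer_normal_of_normal (generalizedFittingSubgroup H)
  obtain ⟨A, hA⟩ : ∃ A, A = generalizedFittingSubgroup H ⊓
      Subgroup.centralizer (generalizedFittingSubgroup H : Set H) := ⟨_, rfl⟩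
  haveI : A.Normal := hA ▸ inferInstance
  haveI : Group.IsNilpotent ↥A := by
    letI : CommGroup ↥A := { (inferInstance : Group ↥A) with
      mul_comm := fun a b => Subtype.ext (by
        have ha := a.2
        have hb := b.2
        simp only [hA, Subgroup.mem_inf] at ha hb
        exact Subgroup.mem_centralizer_iff.1 hb.2 _ ha.1) }
    infer_instance
  have hRA : R ≤ A := hA ▸ le_inf (hRC.trans Solv.centralizer_gfit_le) hRC
  have hR1 : R ≤ (⊥ : Subgroup H) := by
    rw [← h.core]
    exact Solv.pgroup_le_pCore_of_le_fitting h.rp (hRA.trans (Solv.normal_le_fitting inferInstance))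
  exact h.rP fun x _ => by
    rw [le_bot_iff.1 hR1]
    exact Subgroup.mem_normalizer_iff.2 (by simp)

/-- The component case. -/
theorem layer_case (h : Setup p S P L R Z) (hnot : ∀ t : ℕ, t.Prime → t ≠ p → ¬ Z ≤ pCore t H) :
    Z ≤ layer H ∧ ∃ N : Subgroup H, N = Subgroup.normalClosure (Z : Set H) ∧
      p ∣ Nat.card N ∧ layer ↥N = ⊤ ∧ ¬ Group.IsSolvable ↥N ∧
      ∀ J₁ J₂ : Subgroup ↥N, IsComponent J₁ → IsComponent J₂ →
        ∃ s ∈ S, J₂.map N.subtype = cj (J₁.map N.subtype) s := by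
  classical
  obtain ⟨K, hK, hKR⟩ := h.exists_comp hnot
  obtain ⟨E, hE⟩ : ∃ E, E = fun K : Subgroup H => ⨆ s : ↥S, cj K (s : H) := ⟨_, rfl⟩
  have hEmem : ∀ K : Subgroup H, ∀ s ∈ S, cj K s ≤ E K := fun K s hs => by
    rw [hE]; exact le_iSup (fun s : ↥S => cj K (s : H)) ⟨s, hs⟩
  have hES : ∀ K : Subgroup H, ∀ s ∈ S, cj (E K) s = E K := fun K s hs => by
    refine cj_eq_of_cj_le ?_
    rw [cj_le_iff, hE]
    refine iSup_le fun x => ?_
    rw [← cj_le_iff, cj_cj]
    exact le_iSup (fun s : ↥S => cj K (s : H)) ⟨s * x, mul_mem hs x.2⟩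
  have hEn : ∀ K : Subgroup H, S ≤ Subgroup.normalizer (E K : Set H) := fun K s hs =>
    mem_normalizer_iff_cj.2 (hES K s hs)
  have hEl : ∀ K : Subgroup H, IsComponent K → E K ≤ layer H := fun K hK => by
    rw [hE]; exact iSup_le fun s => Solv.component_le_layer (Solv.component_conj hK _)
  have hZE : ∀ K : Subgroup H, IsComponent K → ¬ K ≤ Subgroup.centralizer (R : Set H) → Z ≤ E K := by
    intro K hK hKR
    refine (h.dich _ (hEn K)).resolve_right fun hL => hKR (h.comp_cent hK (le_trans ?_ hL))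
    have := hEmem K 1 S.one_mem
    rwa [cj_one] at this
  have hsR : ∀ (K : Subgroup H) (g : H), g ∈ Subgroup.normalizer (R : Set H) → ¬ K ≤ Subgroup.centralizer (R : Set H) →
      ¬ cj K g ≤ Subgroup.centralizer (R : Set H) := fun K g hg hKR hc => hKR (by
    rw [cj_le_iff, cj_centralizer, cj_eq_self (inv_mem hg)] at hc
    exact hc)
  haveI hlayer : (layer H).Normal := Local.layer_normal
  haveI := Solv.centralizer_normal_of_normal (layer H)
  -- no part of `Z` is central in the layer
  have hnotc : ∀ A : Subgroup H, A ≤ layer H → A ≤ Subgroup.centralizer (layer H : Set H) → ¬ Z ≤ A := by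
    intro A hA1 hA2 hZA
    obtain ⟨B, hB⟩ : ∃ B, B = layer H ⊓ Subgroup.centralizer (layer H : Set H) := ⟨_, rfl⟩
    haveI : B.Normal := hB ▸ inferInstance
    haveI : Group.IsNilpotent ↥B := by
      letI : CommGroup ↥B := { (inferInstance : Group ↥B) with
        mul_comm := fun a b => Subtype.ext (by
          have ha := a.2
          have hb := b.2
          simp only [hB, Subgroup.mem_inf] at ha hb
          exact Subgroup.mem_centralizer_iff.1 hb.2 _ ha.1) }
      infer_instance
    exact h.not_cent (((hZA.trans (hB ▸ le_inf hA1 hA2)).trans (Solv.normal_le_fitting inferInstance)).trans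
      (h.fitting_cent hnot))
  have horb : ∀ J : Subgroup H, IsComponent J → ¬ J ≤ Subgroup.centralizer (R : Set H) →
      ∃ s ∈ S, J = cj K s := by
    intro J hJ hJR
    by_contra hno
    push Not at hno
    refine hnotc (E K ⊓ E J) (inf_le_left.trans (hEl K hK)) ?_ (le_inf (hZE K hK hKR) (hZE J hJ hJR))
    rw [← Subgroup.commutator_eq_bot_iff_le_centralizer, Subgroup.commutator_comm,
      Subgroup.commutator_eq_bot_iff_le_centralizer]
    refine sSup_le fun C hC => ?_
    rw [← Subgroup.commutator_eq_bot_iff_le_centralizer, Subgroup.commutator_comm,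
      Subgroup.commutator_eq_bot_iff_le_centralizer]
    by_cases hCK : ∃ s ∈ S, C = cj K s
    · obtain ⟨s, hs, rfl⟩ := hCK
      refine inf_le_right.trans ?_
      rw [hE]
      refine iSup_le fun x => Subgroup.commutator_eq_bot_iff_le_centralizer.1
        (Solv.components_commute (Solv.component_conj hJ _) hC fun e => hno ((x : H)⁻¹ * s)
          (mul_mem (inv_mem x.2) hs) ?_)
      have e' := congrArg (fun A => cj A (x : H)⁻¹) e
      simpa [cj_cj, cj_cj_inv, cj_one] using e'
    · push Not at hCK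
      refine inf_le_left.trans ?_
      rw [hE]
      exact iSup_le fun x => Subgroup.commutator_eq_bot_iff_le_centralizer.1
        (Solv.components_commute (Solv.component_conj hK _) hC fun e => hCK x x.2 e.symm)
  haveI hEKn : (E K).Normal := by
    rw [← Subgroup.normalizer_eq_top_iff, eq_top_iff, ← h.top, ← h.zP]
    refine sup_le (sup_le ((hZE K hK hKR).trans Subgroup.le_normalizer) (hEn K))
      fun l hl => mem_normalizer_of_cj_le ?_
    rw [cj_le_iff, hE]
    refine iSup_le fun x => ?_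
    rw [← cj_le_iff, cj_cj]
    obtain ⟨s, hs, e⟩ := horb (cj K (l * x)) (Solv.component_conj hK _)
      (hsR K _ (mul_mem (h.rL hl) (h.rL (h.sL x.2))) hKR)
    rw [e]
    exact le_iSup (fun s : ↥S => cj K (s : H)) ⟨s, hs⟩
  obtain ⟨N, hN⟩ : ∃ N, N = Subgroup.normalClosure (Z : Set H) := ⟨_, rfl⟩
  haveI hNn : N.Normal := hN ▸ Subgroup.normalClosure_normal
  have hZN : Z ≤ N := hN ▸ Subgroup.le_normalClosure
  have hNE : N ≤ E K := hN ▸ Subgroup.normalClosure_le_normal (hZE K hK hKR)
  have hcen : ∀ A : Subgroup H, A ≤ E K → (∀ s ∈ S, ⁅cj K s, A⁆ = ⊥) →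
      A ≤ Subgroup.centralizer (layer H : Set H) := by
    intro A hA hc
    rw [Subgroup.le_centralizer_iff]
    refine sSup_le fun C hC => ?_
    by_cases hCK : ∃ s ∈ S, C = cj K s
    · obtain ⟨s, hs, rfl⟩ := hCK
      exact Subgroup.commutator_eq_bot_iff_le_centralizer.1 (hc s hs)
    · push Not at hCK
      rw [Subgroup.le_centralizer_iff]
      refine hA.trans ?_
      rw [hE]
      exact iSup_le fun x => Subgroup.commutator_eq_bot_iff_le_centralizer.1
        (Solv.components_commute (Solv.component_conj hK _) hC fun e => hCK x x.2 e.symm)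
  obtain ⟨s₀, hs₀, hs₀N⟩ : ∃ s ∈ S, cj K s ≤ N := by
    by_contra hno
    push Not at hno
    refine hnotc N (hNE.trans (hEl K hK)) (hcen N hNE fun s hs => ?_) hZN
    exact (Solv.component_normal_dichotomy (Solv.component_conj hK s) N).resolve_left (hno s hs)
  have hallN : ∀ s ∈ S, cj K s ≤ N := fun s hs => by
    have h1 := cj_mono hs₀N (s * s₀⁻¹)
    rwa [cj_cj, inv_mul_cancel_right, cj_of_normal N] at h1
  have hNeq : N = E K := le_antisymm hNE (hE ▸ iSup_le fun s => hallN s s.2)
  have hKN : K ≤ N := by simpa [cj_one] using hallN 1 S.one_mem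
  refine ⟨(hZE K hK hKR).trans (hEl K hK), N, hN, ?_, ?_, ?_, ?_⟩
  · -- `p` divides the order
    by_contra hd
    have hco : (Nat.card ↥S).Coprime (Nat.card ↥N) := by
      obtain ⟨k, hk⟩ := IsPGroup.iff_card.1 h.syl.isPGroup
      rw [hk]
      exact ((hp.out.coprime_iff_not_dvd).2 hd).pow_left k
    have hsolS : Group.IsSolvable ↥S ∨ Group.IsSolvable ↥N := Or.inl (by
      haveI := IsPGroup.isNilpotent (p := p) h.syl.isPGroup
      infer_instance)
    have hSN : S ≤ Subgroup.normalizer (N : Set H) := by rw [Subgroup.normalizer_eq_top]; exact le_top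
    have hRN : R ≤ Subgroup.normalizer (N : Set H) := h.rS.trans hSN
    have hcoR : (Nat.card ↥R).Coprime (Nat.card ↥N) := hco.coprime_dvd_left (Subgroup.card_dvd_of_le h.rS)
    obtain ⟨C, hC⟩ : ∃ C, C = N ⊓ Subgroup.centralizer (R : Set H) := ⟨_, rfl⟩
    have hLQ : ∀ Q : Subgroup H, Q ≤ N → S ≤ Subgroup.normalizer (Q : Set H) → ¬ Z ≤ Q → Q ≤ C := by
      intro Q hQN hQS hZQ
      rw [hC]
      refine le_inf hQN ?_
      rw [← Subgroup.commutator_eq_bot_iff_le_centralizer, ← le_bot_iff,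
        ← inf_bot_of_coprime h.rp (B := N) hd]
      refine le_inf (Subgroup.commutator_le.2 fun a ha b hb => ?_) ((Subgroup.commutator_mono hQN le_rfl).trans
        (Subgroup.commutator_le_left _ _))
      rw [commutatorElement_def]
      exact mul_mem ((Subgroup.mem_normalizer_iff.1 (h.rL ((h.dich Q hQS).resolve_left hZQ ha)) _).1 hb) (inv_mem hb)
    obtain ⟨r, hr, T, hT, hTS, hZT⟩ : ∃ r : ℕ, r.Prime ∧ ∃ T : Subgroup H,
        Solv.IsSylIn r T N ∧ S ≤ Subgroup.normalizer (T : Set H) ∧ Z ≤ T := by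
      by_contra hno
      push Not at hno
      refine h.not_cent (hZN.trans (le_trans ?_ (inf_le_right : N ⊓ Subgroup.centralizer (R : Set H) ≤ _)))
      rw [← hC]
      have hdv : Nat.card ↥N ∣ Nat.card ↥C := by
        rw [← Nat.factorization_le_iff_dvd Nat.card_pos.ne' Nat.card_pos.ne']
        intro q
        by_cases hq : q.Prime
        · haveI := Fact.mk hq
          obtain ⟨Q, hQ, hQS⟩ := Solv.exists_invariant_sylow hSN hco hsolS q
          have h1 := Subgroup.card_dvd_of_le (hLQ Q hQ.1 hQS (hno q hq Q hQ hQS))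
          rw [hQ.2] at h1
          exact (hq.pow_dvd_iff_le_factorization Nat.card_pos.ne').1 h1
        · rw [Nat.factorization_eq_zero_of_not_prime _ hq]; exact Nat.zero_le _
      exact (Subgroup.eq_of_le_of_card_ge (hC ▸ inf_le_left : C ≤ N) (Nat.le_of_dvd Nat.card_pos hdv)).ge
    haveI := Fact.mk hr
    have hCN : C ≤ N := hC ▸ inf_le_left
    obtain ⟨a, ha⟩ : ∃ a, Nat.card ↥C = a := ⟨_, rfl⟩
    -- `|N|` is the order of the product set
    have hinf : Nat.card ↥(T ⊓ C : Subgroup H) ∣ r ^ a.factorization r := by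
      obtain ⟨k, hk⟩ := IsPGroup.iff_card.1 ((hT.isPGroup).to_le (inf_le_left : T ⊓ C ≤ T))
      rw [hk, ← ha]
      refine Nat.pow_dvd_pow _ ((hr.pow_dvd_iff_le_factorization Nat.card_pos.ne').1 ?_)
      rw [← hk]
      exact Subgroup.card_dvd_of_le inf_le_right
    have hother : ∀ q : ℕ, q.Prime → q ≠ r → (Nat.card ↥N).factorization q ≤ a.factorization q := by
      intro q hq hqr
      haveI := Fact.mk hq
      obtain ⟨Q, hQ, hQS⟩ := Solv.exists_invariant_sylow hSN hco hsolS q
      have hZQ : ¬ Z ≤ Q := fun hzq => h.z_ne_bot (le_bot_iff.1 (by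
        refine (le_inf hzq hZT).trans (le_of_eq ?_)
        refine Subgroup.inf_eq_bot_of_coprime ?_
        rw [hQ.2, hT.2]
        exact Nat.Coprime.pow _ _ ((Nat.coprime_primes hq hr).2 hqr)))
      have h1 := Subgroup.card_dvd_of_le (hLQ Q hQ.1 hQS hZQ)
      rw [hQ.2, ha] at h1
      exact (hq.pow_dvd_iff_le_factorization (ha ▸ Nat.card_pos.ne')).1 h1
    have hTC : ((T : Set H) * (C : Set H)) = (N : Set H) := by
      refine Set.eq_of_subset_of_ncard_le ?_ ?_ (Set.toFinite _)
      · rintro _ ⟨x, hx, y, hy, rfl⟩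
        exact N.mul_mem (hT.1 hx) (hCN hy)
      · have h1 := Solv.card_mul_set_mul_card_inf T C
        rw [ha, hT.2] at h1
        rw [← Nat.card_coe_set_eq, ← Nat.card_coe_set_eq]
        have hdv : Nat.card ↥N * r ^ a.factorization r ∣ r ^ (Nat.card ↥N).factorization r * a := by
          have ha0 : a ≠ 0 := ha ▸ Nat.card_pos.ne'
          rw [← Nat.factorization_le_iff_dvd (mul_ne_zero Nat.card_pos.ne' (pow_ne_zero _ hr.ne_zero))
            (mul_ne_zero (pow_ne_zero _ hr.ne_zero) ha0)]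
          intro q
          rw [Nat.factorization_mul Nat.card_pos.ne' (pow_ne_zero _ hr.ne_zero),
            Nat.factorization_mul (pow_ne_zero _ hr.ne_zero) ha0, hr.factorization_pow, hr.factorization_pow]
          by_cases hqr : q = r
          · subst hqr; simp [add_comm]
          · by_cases hq : q.Prime
            · simp only [Finsupp.add_apply, Finsupp.single_apply, if_neg (Ne.symm hqr), add_zero, zero_add]
              exact hother q hq hqr
            · simp [Nat.factorization_eq_zero_of_not_prime _ hq, Finsupp.single_apply, if_neg (Ne.symm hqr)]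
        have hle : Nat.card ↥N * r ^ a.factorization r ≤ r ^ (Nat.card ↥N).factorization r * a :=
          Nat.le_of_dvd (Nat.mul_pos (pow_pos hr.pos _) (ha ▸ Nat.card_pos)) hdv
        rw [← h1] at hle
        have h2 := Nat.le_of_dvd (pow_pos hr.pos _) hinf
        exact Nat.le_of_mul_le_mul_right (hle.trans (Nat.mul_le_mul_left _ h2)) (pow_pos hr.pos _)
    -- so `⁅N, R⁆ ≤ T`
    have hTR : R ≤ Subgroup.normalizer (T : Set H) := h.rS.trans hTS
    have hNRT : ⁅N, R⁆ ≤ T := Subgroup.commutator_le.2 fun g hg x hx => by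
      have hg' : g ∈ ((T : Set H) * (C : Set H)) := hTC.ge hg
      obtain ⟨u, hu, c, hc, rfl⟩ := hg'
      have hcx : x * c = c * x := Subgroup.mem_centralizer_iff.1 (hC.le hc).2 x hx
      have e : ⁅u * c, x⁆ = u * (x * u⁻¹ * x⁻¹) := by
        rw [commutatorElement_def]
        calc u * c * x * (u * c)⁻¹ * x⁻¹ = u * (c * x) * c⁻¹ * u⁻¹ * x⁻¹ := by group
          _ = u * (x * c) * c⁻¹ * u⁻¹ * x⁻¹ := by rw [hcx]
          _ = _ := by group
      show ⁅u * c, x⁆ ∈ T
      rw [e]
      exact T.mul_mem hu ((Subgroup.mem_normalizer_iff.1 (hTR hx) _).1 (T.inv_mem hu))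
    obtain ⟨D, hD⟩ : ∃ D, D = ⁅N, R⁆ := ⟨_, rfl⟩
    obtain ⟨-, hND, -⟩ := Solv.commutator_normal_in hRN
    rw [← hD] at hND
    have hSD : S ≤ Subgroup.normalizer (D : Set H) := fun s hs => mem_normalizer_iff_cj.2 (by
      rw [hD, cj_commutator, cj_of_normal N, cj_eq_self (h.rL (h.sL hs))])
    haveI hDn : (D.subgroupOf N).Normal :=
      (Subgroup.normal_subgroupOf_iff_le_normalizer (hD ▸ (Solv.commutator_normal_in hRN).1)).2 hND
    have hDsn : ∀ s ∈ S, cj K s ≤ D ∨ ⁅cj K s, D⁆ = ⊥ := fun s hs =>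
      Solv.component_subnormal_dichotomy (Solv.component_conj hK s)
        (Subgroup.IsSubnormal.step _ N (hD ▸ (Solv.commutator_normal_in hRN).1) hNn.isSubnormal hDn)
    by_cases hsome : ∃ s ∈ S, cj K s ≤ D
    · obtain ⟨s, hs, hsD⟩ := hsome
      haveI := Solv.qs_nontrivial (Solv.component_conj hK s).2
      haveI := (Solv.component_conj hK s).2.1
      haveI := IsPGroup.isNilpotent (p := r) (hT.isPGroup.to_le (hsD.trans (hD.le.trans hNRT)))
      exact Group.IsPerfect.not_isSolvable (G := ↥(cj K s)) inferInstance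
    · push Not at hsome
      refine hKR ?_
      have hKD : ⁅K, D⁆ = ⊥ := by
        have := (hDsn 1 S.one_mem).resolve_left (hsome 1 S.one_mem)
        rwa [cj_one] at this
      rw [← Subgroup.commutator_eq_bot_iff_le_centralizer]
      refine Solv.commutator_eq_bot_of_perfect (Solv.qs_self_commutator hK.2) ?_
      rw [← le_bot_iff, ← hKD, Subgroup.commutator_comm K D, hD]
      exact Subgroup.commutator_mono (Subgroup.commutator_mono hKN le_rfl) le_rfl
  · rw [eq_top_iff]
    refine le_trans ?_ (sSup_le_sSup (s := {J | ∃ s ∈ S, J = (cj K s).subgroupOf N}) ?_)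
    · intro x _
      have hx : (x : H) ∈ (sSup {J | ∃ s ∈ S, J = (cj K s).subgroupOf N}).map N.subtype := by
        refine (?_ : N ≤ _) x.2
        conv_lhs => rw [hNeq, hE]
        refine iSup_le fun s => ?_
        refine le_trans ?_ (Subgroup.map_mono (le_sSup ⟨s, s.2, rfl⟩))
        rw [Subgroup.map_subgroupOf_eq_of_le (hallN s s.2)]
      obtain ⟨y, hy, e⟩ := hx
      rwa [show x = y from Subtype.ext e.symm]
    · rintro _ ⟨s, hs, rfl⟩
      exact Solv.component_subgroupOf (Solv.component_conj hK s) (hallN s hs)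
  · intro hsol
    haveI := hsol
    haveI := Solv.qs_nontrivial hK.2
    haveI := hK.2.1
    exact Group.IsPerfect.not_isSolvable (G := ↥K)
      (Group.isSolvable_of_isSolvable_injective (Subgroup.inclusion_injective hKN))
  · have hall : ∀ J : Subgroup ↥N, IsComponent J → ∃ s ∈ S, J.map N.subtype = cj K s := by
      intro J hJ
      have hle : J.map N.subtype ≤ N := Subgroup.map_subtype_le _
      have hJc : IsComponent (J.map N.subtype) := by
        refine Solv.component_of_subgroupOf hNn.isSubnormal hle ?_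
        rwa [Subgroup.subgroupOf, Subgroup.comap_map_eq_self_of_injective N.subtype_injective]
      by_contra hno
      push Not at hno
      refine Solv.qs_not_le_centralizer hJc.2 ?_
      rw [Subgroup.commutator_eq_bot_iff_le_centralizer]
      refine le_trans ?_ (Subgroup.centralizer_le (hle.trans hNE))
      rw [Subgroup.le_centralizer_iff, hE]
      refine iSup_le fun x => ?_
      exact Subgroup.commutator_eq_bot_iff_le_centralizer.1
        (Solv.components_commute (Solv.component_conj hK _) hJc fun e => hno x x.2 e.symm)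
    intro J₁ J₂ h₁ h₂
    obtain ⟨a, ha, ea⟩ := hall J₁ h₁
    obtain ⟨b, hb, eb⟩ := hall J₂ h₂
    exact ⟨b * a⁻¹, mul_mem hb (inv_mem ha), by rw [ea, eb, cj_cj, inv_mul_cancel_right]⟩

end Setup

end Cfsg.Agent.LocalEven.Isolated
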