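import Cfsg.Agent.Lib.LocalEven.Isolated
import Cfsg.Agent.Lib.Fusion.Cores
import Mathlib.GroupTheory.SchurZassenhaus

/-!
# Minimal counterexamples to the `Z*_p` statement
-/

set_option autoImplicit false

open Cfsg

namespace Cfsg.Agent.LocalEven

open Cfsg.Agent.Fusion

variable {G : Type*} [Group G] [Finite G] {p : ℕ} [Fact p.Prime] {x : G}

theorem pPrimeCore_eq_bot_of_minimal (hnz : ¬ Cfsg.InZStar p x)
    (hquot : ∀ (N : Subgroup G) [N.Normal], N ≠ ⊥ → Cfsg.InZStar p (QuotientGroup.mk x : G ⧸ N)) :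
    pPrimeCore p G = ⊥ := by
  by_contra hne
  refine hnz fun g => ?_
  have h := hquot _ hne (QuotientGroup.mk g)
  rw [pPrimeCore_quotient_eq_bot, Subgroup.mem_bot] at h
  exact (QuotientGroup.eq_one_iff _).1 h

theorem exists_moved_of_minimal (hnz : ¬ Cfsg.InZStar p x) : ∃ g : G, g * x * g⁻¹ ≠ x := by
  by_contra h
  push Not at h
  exact hnz fun g => by rw [h g, mul_inv_cancel]; exact one_mem _

theorem map_pPrimeCore_eq_bot_of_normal (hO : pPrimeCore p G = ⊥) (H : Subgroup G) [H.Normal] :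
    (pPrimeCore p H).map H.subtype = ⊥ :=
  eq_bot_iff.2 (hO ▸ le_pPrimeCore
    (by rw [Subgroup.card_map_of_injective H.subtype_injective]; exact card_pPrimeCore_coprime p H))

theorem eq_top_of_normal_mem (hiso : Cfsg.IsIsolated x) (hnz : ¬ Cfsg.InZStar p x)
    (hO : pPrimeCore p G = ⊥)
    (hmin : ∀ (H : Subgroup G) (hxH : x ∈ H), H ≠ ⊤ → Cfsg.InZStar p (⟨x, hxH⟩ : ↥H))
    (H : Subgroup G) [H.Normal] (hxH : x ∈ H) : H = ⊤ := by
  by_contra hne
  obtain ⟨g, hg⟩ := exists_moved_of_minimal hnz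
  refine hg (hiso g ?_)
  have hgH : g * x * g⁻¹ ∈ H := (inferInstance : H.Normal).conj_mem x hxH g
  have h := Subgroup.mem_map_of_mem H.subtype (hmin H hxH hne ⟨_, hgH⟩)
  rw [map_pPrimeCore_eq_bot_of_normal hO, Subgroup.mem_bot] at h
  have h' : g * x * g⁻¹ * x * (g * x * g⁻¹)⁻¹ * x⁻¹ = 1 := h
  rw [mul_inv_eq_one, mul_inv_eq_iff_eq_mul] at h'
  exact h'.symm

theorem pCore_eq_bot_of_minimal (hx : ∃ k : ℕ, orderOf x = p ^ k) (hiso : Cfsg.IsIsolated x)
    (hnz : ¬ Cfsg.InZStar p x)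
    (hmin : ∀ (H : Subgroup G) (hxH : x ∈ H), H ≠ ⊤ → Cfsg.InZStar p (⟨x, hxH⟩ : ↥H))
    (hquot : ∀ (N : Subgroup G) [N.Normal], N ≠ ⊥ → Cfsg.InZStar p (QuotientGroup.mk x : G ⧸ N)) :
    pCore p G = ⊥ := by
  by_contra hne
  have hO := pPrimeCore_eq_bot_of_minimal hnz hquot
  set M := pCore p G with hM
  have hMp : IsPGroup p M := isPGroup_pCore p G
  have hxC : x ∈ Subgroup.centralizer (M : Set G) := by
    refine Subgroup.mem_centralizer_iff.2 fun m hm => ?_
    have hR : IsPGroup p ↥(Subgroup.zpowers x ⊔ M) := (isPGroup_zpowers hx).to_sup_of_normal_right hMp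
    exact Subgroup.mem_centralizer_singleton_iff.1 (pgroup_le_centralizer_of_isolated hiso hR
      (Subgroup.mem_sup_left (Subgroup.mem_zpowers x)) (Subgroup.mem_sup_right hm))
  have hcent : ∀ (g : G), ∀ m ∈ M, m * g = g * m := fun g m hm =>
    Subgroup.mem_centralizer_iff.1
      ((eq_top_of_normal_mem hiso hnz hO hmin _ hxC) ▸ Subgroup.mem_top g) m hm
  obtain ⟨g, hg⟩ := exists_moved_of_minimal hnz
  set K := (pPrimeCore p (G ⧸ M)).comap (QuotientGroup.mk' M) with hK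
  have hgK : g * x * g⁻¹ * x⁻¹ ∈ K := hquot M hne (QuotientGroup.mk g)
  have hMK : M ≤ K := fun m hm => by
    show QuotientGroup.mk' M m ∈ pPrimeCore p (G ⧸ M)
    rw [QuotientGroup.mk'_apply, (QuotientGroup.eq_one_iff m).2 hm]
    exact one_mem _
  have hidx : (M.subgroupOf K).index = Nat.card (pPrimeCore p (G ⧸ M)) := by
    have h := Subgroup.relIndex_ker (f := QuotientGroup.mk' M) (K := K)
    rwa [QuotientGroup.ker_mk', hK, Subgroup.map_comap_eq_self_of_surjective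
      (QuotientGroup.mk'_surjective M)] at h
  obtain ⟨e, he⟩ := IsPGroup.iff_card.1 hMp
  have hco : Nat.Coprime (Nat.card (M.subgroupOf K)) (M.subgroupOf K).index := by
    rw [hidx, Nat.card_congr (Subgroup.subgroupOfEquivOfLe hMK).toEquiv, he]
    exact ((card_pPrimeCore_coprime p _).pow_right e).symm
  obtain ⟨L, hL⟩ := Subgroup.exists_right_complement'_of_coprime hco
  have hLn : L.Normal := by
    refine ⟨fun l hl k => ?_⟩
    obtain ⟨⟨m, t⟩, hmt⟩ := hL.2 k
    have hk : k = (m : K) * (t : K) := hmt.symm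
    have h1 : (m : K) * ((t : K) * l * (t : K)⁻¹) * (m : K)⁻¹ = (t : K) * l * (t : K)⁻¹ := by
      rw [show (m : K) * ((t : K) * l * (t : K)⁻¹) = (t : K) * l * (t : K)⁻¹ * (m : K) from
        Subtype.ext (hcent _ _ m.2), mul_inv_cancel_right]
    rw [hk, show (m : K) * (t : K) * l * ((m : K) * (t : K))⁻¹ =
      (m : K) * ((t : K) * l * (t : K)⁻¹) * (m : K)⁻¹ by group, h1]
    exact mul_mem (mul_mem t.2 hl) (inv_mem t.2)
  have hLc : (Nat.card L).Coprime p := by
    rw [← hL.symm.index_eq_card, hidx]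
    exact card_pPrimeCore_coprime p _
  have hLbot : L = ⊥ := by
    have h := Subgroup.map_mono (f := K.subtype) (le_pPrimeCore (hn := hLn) hLc)
    rw [map_pPrimeCore_eq_bot_of_normal hO, le_bot_iff, Subgroup.map_eq_bot_iff_of_injective _
      K.subtype_injective] at h
    exact h
  have hgM : g * x * g⁻¹ * x⁻¹ ∈ M := by
    obtain ⟨⟨m, t⟩, hmt⟩ := hL.2 ⟨_, hgK⟩
    have ht : (t : K) = 1 := Subgroup.mem_bot.1 (hLbot ▸ t.2)
    have h1 : ((m : K) : G) = g * x * g⁻¹ * x⁻¹ := by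
      have := congrArg Subtype.val hmt
      simpa [ht] using this
    exact h1 ▸ m.2
  refine hg (hiso g ?_)
  have h2 := hcent x _ hgM
  show x * (g * x * g⁻¹) = g * x * g⁻¹ * x
  calc x * (g * x * g⁻¹) = x * (g * x * g⁻¹ * x⁻¹) * x := by group
    _ = g * x * g⁻¹ * x⁻¹ * x * x := by rw [← h2]
    _ = g * x * g⁻¹ * x := by group

/-- Every nontrivial normal subgroup supplements the group generated by `x`. -/
theorem sup_zpowers_eq_top (hx : ∃ k : ℕ, orderOf x = p ^ k) (hiso : Cfsg.IsIsolated x)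
    (hnz : ¬ Cfsg.InZStar p x)
    (hmin : ∀ (H : Subgroup G) (hxH : x ∈ H), H ≠ ⊤ → Cfsg.InZStar p (⟨x, hxH⟩ : ↥H))
    (hquot : ∀ (N : Subgroup G) [N.Normal], N ≠ ⊥ → Cfsg.InZStar p (QuotientGroup.mk x : G ⧸ N))
    (M : Subgroup G) [M.Normal] (hM : M ≠ ⊥) : M ⊔ Subgroup.zpowers x = ⊤ := by
  by_contra hne
  have hO := pPrimeCore_eq_bot_of_minimal hnz hquot
  have hOp := pCore_eq_bot_of_minimal hx hiso hnz hmin hquot
  set H := M ⊔ Subgroup.zpowers x with hH
  have hxH : x ∈ H := Subgroup.mem_sup_right (Subgroup.mem_zpowers x)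
  set D := (pPrimeCore p H).map H.subtype ⊓ M with hD
  have hDc : (Nat.card (D.subgroupOf M)).Coprime p := by
    rw [Nat.card_congr (Subgroup.subgroupOfEquivOfLe (inf_le_right : D ≤ M)).toEquiv]
    refine (card_pPrimeCore_coprime p H).coprime_dvd_left ?_
    rw [← Subgroup.card_map_of_injective (f := H.subtype) H.subtype_injective (K := pPrimeCore p H)]
    exact Subgroup.card_dvd_of_le inf_le_left
  have hDn : (D.subgroupOf M).Normal := by
    refine ⟨fun d hd m => Subgroup.mem_subgroupOf.2 (Subgroup.mem_inf.2 ⟨?_, (m * d * m⁻¹).2⟩)⟩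
    obtain ⟨d', hd', hdd⟩ := (Subgroup.mem_inf.1 (Subgroup.mem_subgroupOf.1 hd)).1
    refine ⟨_, (inferInstance : (pPrimeCore p H).Normal).conj_mem d' hd' ⟨m, Subgroup.mem_sup_left m.2⟩, ?_⟩
    show (m : G) * (d' : G) * (m : G)⁻¹ = m * d * (m : G)⁻¹
    rw [show (d' : G) = (d : G) from hdd]
  have hDbot : D = ⊥ := by
    have h := Subgroup.map_mono (f := M.subtype) (le_pPrimeCore (hn := hDn) hDc)
    rwa [map_pPrimeCore_eq_bot_of_normal hO, Subgroup.map_subgroupOf_eq_of_le inf_le_right,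
      le_bot_iff] at h
  have hxC : x ∈ Subgroup.centralizer (M : Set G) := by
    refine Subgroup.mem_centralizer_iff.2 fun m hm => ?_
    have h1 : m * x * m⁻¹ * x⁻¹ ∈ D := Subgroup.mem_inf.2
      ⟨⟨_, hmin H hxH hne ⟨m, Subgroup.mem_sup_left hm⟩, rfl⟩, by
        rw [show m * x * m⁻¹ * x⁻¹ = m * (x * m⁻¹ * x⁻¹) by group]
        exact mul_mem hm ((inferInstance : M.Normal).conj_mem _ (inv_mem hm) x)⟩
    rw [hDbot, Subgroup.mem_bot, mul_inv_eq_one, mul_inv_eq_iff_eq_mul] at h1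
    exact h1
  have hcent : ∀ (g : G), ∀ m ∈ M, m * g = g * m := fun g m hm =>
    Subgroup.mem_centralizer_iff.1
      ((eq_top_of_normal_mem hiso hnz hO hmin _ hxC) ▸ Subgroup.mem_top g) m hm
  -- a central element of prime order
  haveI : Nontrivial M := (Subgroup.nontrivial_iff_ne_bot M).2 hM
  obtain ⟨q, hq, hqd⟩ := Nat.exists_prime_and_dvd (Finite.one_lt_card (α := M)).ne'
  haveI := Fact.mk hq
  obtain ⟨z, hz⟩ := exists_prime_orderOf_dvd_card' (G := M) q hqd
  have hzc : (Subgroup.zpowers (z : G)).Normal := by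
    refine ⟨fun a ha g => ?_⟩
    rwa [← hcent g a (Subgroup.zpowers_le.2 z.2 ha), mul_inv_cancel_right]
  have hzo : Nat.card (Subgroup.zpowers (z : G)) = q := by
    rw [Nat.card_zpowers, Subgroup.orderOf_coe, hz]
  have hzb : Subgroup.zpowers (z : G) = ⊥ := by
    rcases eq_or_ne q p with rfl | hqp
    · exact eq_bot_iff.2 (hOp ▸ le_pCore (hn := hzc) (IsPGroup.of_card (n := 1) (by rw [hzo, pow_one])))
    · exact eq_bot_iff.2 (hO ▸ le_pPrimeCore (hn := hzc)
        (by rw [hzo]; exact (Nat.coprime_primes hq Fact.out).2 hqp))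
  rw [hzb, Subgroup.card_bot] at hzo
  exact hq.ne_one hzo.symm

end Cfsg.Agent.LocalEven
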