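import Cfsg.Agent.Lib.LocalEven.Isolated
import Cfsg.Agent.Lib.LocalEven.ParabolicInherit
import Cfsg.Agent.Lib.Fusion.PComponent
import Cfsg.Agent.Lib.Fusion.PLayerBasics
import Cfsg.Agent.Lib.Local.FS.OmegaChain

/-!
Isolated elements of odd prime order in groups of `p`-rank at most two.
-/

set_option autoImplicit false

namespace Cfsg.Agent.LocalEven.IsolatedRankTwo

open Cfsg.Agent.Fusion Cfsg.Agent.LocalEven

universe u

variable {G : Type u} [Group G] [Finite G] {p : ℕ} [hp : Fact p.Prime]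

theorem exists_order_p {U : Subgroup G} (hU : IsPGroup p U) (hne : U ≠ ⊥) :
    ∃ a ∈ U, orderOf a = p := by
  obtain ⟨n, hn⟩ := IsPGroup.iff_card.1 hU
  have hn0 : n ≠ 0 := fun h => hne (Subgroup.eq_bot_of_card_eq _ (by rw [hn, h, pow_zero]))
  obtain ⟨x, hx⟩ := exists_prime_orderOf_dvd_card' (G := U) p (hn ▸ dvd_pow_self p hn0)
  exact ⟨x, x.2, by rw [Subgroup.orderOf_coe, hx]⟩

/-- In a group of `p`-rank at most two, three commuting elements of order `p` are dependent. -/
theorem mem_closure_of_rank (hrank : Cfsg.PRankLE p 2 G) {a z x : G} (ha : orderOf a = p)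
    (hz : orderOf z = p) (hx : orderOf x = p) (haz : Commute a z) (hax : Commute a x) (hzx : Commute z x)
    (hna : a ∉ Subgroup.zpowers z) : ∃ i j : ℤ, x = a ^ i * z ^ j := by
  by_contra hno
  push Not at hno
  let f : (ZMod p × ZMod p × ZMod p) → G := fun v => a ^ v.1.val * z ^ v.2.1.val * x ^ v.2.2.val
  haveI : NeZero p := ⟨hp.out.ne_zero⟩
  have hset : ∀ y ∈ ({a, z, x} : Set G), y ^ p = 1 := by
    rintro y (rfl | rfl | rfl)
    exacts [ha ▸ pow_orderOf_eq_one _, hz ▸ pow_orderOf_eq_one _, hx ▸ pow_orderOf_eq_one _]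
  have hcomm : ∀ y ∈ ({a, z, x} : Set G), ∀ w ∈ ({a, z, x} : Set G), y * w = w * y := by
    rintro y (rfl | rfl | rfl) w (rfl | rfl | rfl)
    exacts [rfl, haz.eq, hax.eq, haz.eq.symm, rfl, hzx.eq, hax.eq.symm, hzx.eq.symm, rfl]
  let A := Subgroup.closure ({a, z, x} : Set G)
  haveI hA : IsMulCommutative A := Subgroup.isMulCommutative_closure hcomm
  have hexp : ∀ y ∈ A, y ^ p = 1 := by
    intro y hy
    have key : ∀ w (hw : w ∈ A), (⟨w, hw⟩ : A) ^ p = 1 := by
      intro w hw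
      induction hw using Subgroup.closure_induction with
      | mem v hv => exact Subtype.ext (by simpa using hset v hv)
      | one => exact one_pow p
      | mul v w hv hw h1 h2 =>
        have hc : Commute (⟨v, hv⟩ : A) ⟨w, hw⟩ := hA.1.comm _ _
        have := hc.mul_pow p
        rw [h1, h2, one_mul] at this
        exact this
      | inv v hv h1 =>
        have := inv_pow (⟨v, hv⟩ : A) p
        rw [h1, inv_one] at this
        exact this
    simpa using congrArg Subtype.val (key y hy)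
  have h := hrank A hA hexp
  -- the injection
  have hinj : Function.Injective f := by
    intro v w hvw
    have hpz : ∀ {y : G}, orderOf y = p → ∀ n : ℤ, y ^ n = 1 → (n : ZMod p) = 0 := fun {y} hy n hn =>
      (ZMod.intCast_zmod_eq_zero_iff_dvd n p).2 (hy ▸ orderOf_dvd_iff_zpow_eq_one.2 hn)
    obtain ⟨A₁, hA₁⟩ : ∃ n : ℤ, n = (v.1.val : ℤ) - w.1.val := ⟨_, rfl⟩
    obtain ⟨A₂, hA₂⟩ : ∃ n : ℤ, n = (v.2.1.val : ℤ) - w.2.1.val := ⟨_, rfl⟩
    obtain ⟨A₃, hA₃⟩ : ∃ n : ℤ, n = (v.2.2.val : ℤ) - w.2.2.val := ⟨_, rfl⟩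
    have hrel : a ^ A₁ * z ^ A₂ * x ^ A₃ = 1 := by
      rw [hA₁, hA₂, hA₃, zpow_sub, zpow_sub, zpow_sub, zpow_natCast, zpow_natCast, zpow_natCast, zpow_natCast,
        zpow_natCast, zpow_natCast]
      have hc1 : Commute (z ^ v.2.1.val) (a ^ w.1.val)⁻¹ := ((haz.symm).pow_pow _ _).inv_right
      have hc2 : Commute (x ^ v.2.2.val) (a ^ w.1.val * z ^ w.2.1.val)⁻¹ :=
        (((hax.symm).pow_pow _ _).mul_right ((hzx.symm).pow_pow _ _)).inv_right
      have hvw' : a ^ v.1.val * z ^ v.2.1.val * x ^ v.2.2.val =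
          a ^ w.1.val * z ^ w.2.1.val * x ^ w.2.2.val := hvw
      calc a ^ v.1.val * (a ^ w.1.val)⁻¹ * (z ^ v.2.1.val * (z ^ w.2.1.val)⁻¹) *
            (x ^ v.2.2.val * (x ^ w.2.2.val)⁻¹)
          = a ^ v.1.val * z ^ v.2.1.val * (a ^ w.1.val * z ^ w.2.1.val)⁻¹ *
            (x ^ v.2.2.val * (x ^ w.2.2.val)⁻¹) := by
            have hc3 : Commute (a ^ w.1.val) (z ^ w.2.1.val) := haz.pow_pow _ _
            rw [hc3.eq, mul_inv_rev]
            congr 1
            rw [mul_assoc, mul_assoc]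
            congr 1
            rw [← mul_assoc, hc1.symm.eq, mul_assoc]
        _ = a ^ v.1.val * z ^ v.2.1.val * x ^ v.2.2.val * (a ^ w.1.val * z ^ w.2.1.val)⁻¹ *
            (x ^ w.2.2.val)⁻¹ := by
            rw [mul_assoc (a ^ v.1.val * z ^ v.2.1.val), ← mul_assoc ((a ^ w.1.val * z ^ w.2.1.val)⁻¹), ← hc2.eq]
            group
        _ = 1 := by
            rw [hvw']
            have hc4 : Commute (a ^ w.1.val * z ^ w.2.1.val) (x ^ w.2.2.val) :=
              (hax.pow_pow _ _).mul_left (hzx.pow_pow _ _)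
            rw [hc4.eq]
            group
    have h3 : (A₃ : ZMod p) = 0 := by
      by_contra h3
      have hd : ¬ (p : ℤ) ∣ A₃ := fun hd => h3 ((ZMod.intCast_zmod_eq_zero_iff_dvd A₃ p).2 hd)
      obtain ⟨r, s, hrs⟩ := (Nat.prime_iff_prime_int.1 hp.out).irreducible.coprime_iff_not_dvd.2 hd
      have hxp : x ^ (p : ℤ) = 1 := by rw [zpow_natCast, ← hx, pow_orderOf_eq_one]
      have hxA : x ^ A₃ = (a ^ A₁ * z ^ A₂)⁻¹ := eq_inv_of_mul_eq_one_right hrel
      refine hno (-A₁ * s) (-A₂ * s) ?_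
      calc x = x ^ (r * (p : ℤ) + s * A₃) := by rw [hrs, zpow_one]
        _ = (x ^ A₃) ^ s := by
            rw [zpow_add, mul_comm r, zpow_mul, hxp, one_zpow, one_mul, mul_comm, zpow_mul]
        _ = _ := by
            rw [hxA, inv_zpow, (haz.zpow_zpow A₁ A₂).mul_zpow, mul_inv_rev, ← zpow_mul, ← zpow_mul,
              neg_mul, neg_mul, zpow_neg, zpow_neg]
            exact ((haz.zpow_zpow _ _).inv_inv).eq.symm
    have hx1 : x ^ A₃ = 1 :=
      orderOf_dvd_iff_zpow_eq_one.1 (hx.symm ▸ (ZMod.intCast_zmod_eq_zero_iff_dvd A₃ p).1 h3)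
    rw [hx1, mul_one] at hrel
    have h1 : (A₁ : ZMod p) = 0 := by
      by_contra h1
      have hd : ¬ (p : ℤ) ∣ A₁ := fun hd => h1 ((ZMod.intCast_zmod_eq_zero_iff_dvd A₁ p).2 hd)
      obtain ⟨r, s, hrs⟩ := (Nat.prime_iff_prime_int.1 hp.out).irreducible.coprime_iff_not_dvd.2 hd
      have hap : a ^ (p : ℤ) = 1 := by rw [zpow_natCast, ← ha, pow_orderOf_eq_one]
      refine hna ⟨-A₂ * s, ?_⟩
      calc z ^ (-A₂ * s) = (a ^ A₁) ^ s := by
            rw [eq_inv_of_mul_eq_one_left hrel, inv_zpow, ← zpow_mul, neg_mul, zpow_neg]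
        _ = a ^ (r * (p : ℤ) + s * A₁) := by
            rw [zpow_add, mul_comm r, zpow_mul, hap, one_zpow, one_mul, mul_comm s, zpow_mul]
        _ = a := by rw [hrs, zpow_one]
    have ha1 : a ^ A₁ = 1 :=
      orderOf_dvd_iff_zpow_eq_one.1 (ha.symm ▸ (ZMod.intCast_zmod_eq_zero_iff_dvd A₁ p).1 h1)
    rw [ha1, one_mul] at hrel
    have h2 := hpz hz _ hrel
    rw [hA₁] at h1
    rw [hA₂] at h2
    rw [hA₃] at h3
    push_cast [ZMod.natCast_zmod_val] at h1 h2 h3
    exact Prod.ext (sub_eq_zero.1 h1) (Prod.ext (sub_eq_zero.1 h2) (sub_eq_zero.1 h3))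
  have hc : Nat.card (ZMod p × ZMod p × ZMod p) ≤ Nat.card A := Nat.card_le_card_of_injective
    (fun v => (⟨f v, mul_mem (mul_mem (pow_mem (Subgroup.subset_closure (by simp)) _)
      (pow_mem (Subgroup.subset_closure (by simp)) _)) (pow_mem (Subgroup.subset_closure (by simp)) _)⟩ : A))
    fun v w hvw => hinj (congrArg Subtype.val hvw)
  rw [Nat.card_prod, Nat.card_prod, Nat.card_zmod] at hc
  have : p ^ 2 < p * (p * p) := by
    rw [show p * (p * p) = p ^ 3 by ring]
    exact Nat.pow_lt_pow_right hp.out.one_lt (by norm_num)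
  omega

/-- A perfect subgroup cannot have all order `p` elements of a Sylow `p`-subgroup fixed by fusion. -/
theorem perfect_fixed_false (hp2 : p ≠ 2) {K U : Subgroup G} [Nontrivial K] [Group.IsPerfect K]
    (hU : SylIn p U K) (hUne : U ≠ ⊥)
    (hfix : ∀ a ∈ U, a ^ p = 1 → ∀ g ∈ K, g * a * g⁻¹ ∈ U → g * a * g⁻¹ = a) : False := by
  obtain ⟨P, hP⟩ := hU.exists_sylow_subgroupOf
  have hh : Cfsg.HasNormalPComplement p K := by
    refine hnpc_of_centralize (sylIn_top P) fun Q hQ g hg hgp => ?_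
    let φ := Subgroup.normalizerMonoidHom Q ⟨g, hg⟩
    have hφ : φ = 1 := by
      refine Local.FS.aut_eq_one_of_fix_order_p hp2 (P.2.to_le hQ) φ
        (hgp.coprime_dvd_left ((orderOf_map_dvd (Subgroup.normalizerMonoidHom Q) ⟨g, hg⟩).trans
          (Subgroup.orderOf_mk g hg ▸ dvd_rfl))) fun y hy => ?_
      have hmem : ∀ w : K, w ∈ Q → (w : G) ∈ U := fun w hw => by
        have := hQ hw
        rw [hP] at this
        exact this
      have hgy : g * (y : K) * g⁻¹ ∈ Q := (Subgroup.mem_normalizer_iff.1 hg y).1 y.2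
      refine Subtype.ext (Subtype.ext ?_)
      show ((g * (y : K) * g⁻¹ : K) : G) = ((y : K) : G)
      have h := hmem _ hgy
      rw [Subgroup.coe_mul, Subgroup.coe_mul, Subgroup.coe_inv] at h ⊢
      exact hfix _ (hmem _ y.2) (by simpa using congrArg (fun w : Q => ((w : K) : G)) hy) g g.2 h
    refine Subgroup.mem_centralizer_iff.2 fun y hy => ?_
    have h := congrArg (fun w : Q => (w : K)) (DFunLike.congr_fun hφ ⟨y, hy⟩)
    exact (mul_inv_eq_iff_eq_mul.1 h).symm
  have hR : Cfsg.pResidual p K = ⊤ := by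
    by_contra hne
    haveI : Nontrivial (K ⧸ Cfsg.pResidual p K) := QuotientGroup.nontrivial_iff.2 hne
    haveI : Group.IsNilpotent (K ⧸ Cfsg.pResidual p K) := (isPGroup_quotient_pResidual).isNilpotent
    haveI : Group.IsPerfect (K ⧸ Cfsg.pResidual p K) :=
      Group.IsPerfect.ofSurjective (f := QuotientGroup.mk' (Cfsg.pResidual p K)) (QuotientGroup.mk'_surjective _)
    exact Group.IsPerfect.not_isSolvable (G := K ⧸ Cfsg.pResidual p K) inferInstance
  have hc := hnpc_iff.1 hh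
  rw [hR, Subgroup.card_top] at hc
  obtain ⟨a, ha, hao⟩ := exists_order_p hU.isPGroup hUne
  have hd : p ∣ Nat.card K := by
    rw [← hao, ← Subgroup.orderOf_mk a (hU.le ha)]
    exact orderOf_dvd_natCard _
  exact hp.out.ne_one (Nat.eq_one_of_dvd_coprimes hc hd dvd_rfl)

theorem gfit_simple (hp2 : p ≠ 2) (hcore : Cfsg.pPrimeCore p G = ⊥) (hrank : Cfsg.PRankLE p 2 G)
    (x : G) (hx : orderOf x = p) (hiso : Cfsg.IsIsolated x) (hnc : x ∉ Subgroup.center G) :
    IsSimpleGroup ↥(Cfsg.generalizedFittingSubgroup G) ∧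
      ¬ IsMulCommutative ↥(Cfsg.generalizedFittingSubgroup G) := by
  obtain ⟨S, hxS⟩ := (isPGroup_zpowers (p := p) ⟨1, by rw [pow_one]; exact hx⟩ :
    IsPGroup p (Subgroup.zpowers x)).exists_le_sylow
  have hxS' : x ∈ (S : Subgroup G) := hxS (Subgroup.mem_zpowers x)
  have hSx : ∀ s ∈ (S : Subgroup G), Commute s x := fun s hs =>
    Subgroup.mem_centralizer_singleton_iff.1 (pgroup_le_centralizer_of_isolated hiso S.2 hxS' hs)
  have hfixx : ∀ g : G, g * x * g⁻¹ ∈ (S : Subgroup G) → g * x * g⁻¹ = x := fun g hg =>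
    conj_eq_of_isolated hiso S.2 hxS' hg
  have hxR : x ∉ Cfsg.pCore p G := fun h => hnc (Subgroup.mem_center_iff.2 fun g => by
    haveI := Solv.pCore_normal (G := G) p
    exact mul_inv_eq_iff_eq_mul.1 (hfixx g (pCore_le_sylow S ((inferInstance : (Cfsg.pCore p G).Normal).conj_mem x h g))))
  have hF := fitting_eq_pCore (p := p) hcore
  obtain ⟨K₀, hK₀⟩ : ∃ K : Subgroup G, Cfsg.IsComponent K := by
    by_contra h
    push Not at h
    have hl : Cfsg.layer G = ⊥ := le_bot_iff.1 (sSup_le fun K hK => absurd hK (h K))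
    refine hxR ((centralizer_pCore_le_iff_layer hcore).2 hl (Subgroup.mem_centralizer_iff.2 fun r hr => ?_))
    exact (hSx r (pCore_le_sylow S hr)).eq
  have hmeet : ∀ K : Subgroup G, Cfsg.IsComponent K → (S : Subgroup G) ⊓ K ≠ ⊥ := by
    intro K hK h0
    have hs := sylIn_inf_subnormal S hK.1
    rw [h0] at hs
    refine Solv.qs_ne_bot hK.2 (le_bot_iff.1 (le_trans (piPrime_of_subnormal (p := p) hK.1 ?_) hcore.le))
    refine coprime_card_iff_not_dvd.2 fun hd => ?_
    obtain ⟨y, hy⟩ := exists_prime_orderOf_dvd_card' (G := K) p hd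
    have h1 := hs.card_le (isPGroup_zpowers (p := p) (z := (y : G)) ⟨1, by rw [pow_one, Subgroup.orderOf_coe, hy]⟩)
      ((Subgroup.zpowers_le).2 y.2)
    rw [Nat.card_zpowers, Subgroup.orderOf_coe, hy, Subgroup.card_bot] at h1
    exact absurd h1 (by have := hp.out.two_le; omega)
  -- an element of order `p` of `S` centralising a component has `x` among its powers
  have key : ∀ K : Subgroup G, Cfsg.IsComponent K → ∀ z ∈ (S : Subgroup G), orderOf z = p →
      z ∈ Subgroup.centralizer (K : Set G) → x ∈ Subgroup.zpowers z := by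
    intro K hK z hzS hz hzK
    by_contra hxz
    haveI := Solv.qs_nontrivial hK.2
    haveI := hK.2.1
    refine perfect_fixed_false hp2 (sylIn_inf_subnormal S hK.1) (hmeet K hK) fun a ha hap g hg hga => ?_
    have hgz : g * z * g⁻¹ = z :=
      mul_inv_eq_iff_eq_mul.2 (Subgroup.mem_centralizer_iff.1 hzK g hg)
    rcases eq_or_ne a 1 with rfl | ha1
    · rw [mul_one, mul_inv_cancel]
    have hao : orderOf a = p := orderOf_eq_prime hap ha1
    by_cases haz : a ∈ Subgroup.zpowers z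
    · obtain ⟨n, rfl⟩ := haz
      rw [← conj_zpow, hgz]
    have hcaz : Commute a z := Subgroup.mem_centralizer_iff.1 hzK a ha.2
    obtain ⟨i, j, hij⟩ := mem_closure_of_rank hrank hao hz hx hcaz (hSx a ha.1) (hSx z hzS) haz
    have hi : ¬ (p : ℤ) ∣ i := fun hd => hxz ⟨j, by
      rw [hij, orderOf_dvd_iff_zpow_eq_one.1 (hao.symm ▸ hd), one_mul]⟩
    have hgx : g * x * g⁻¹ = (g * a * g⁻¹) ^ i * z ^ j := by
      rw [hij, ← conj_mul, ← conj_zpow, ← conj_zpow, hgz]
    have hgxS : g * x * g⁻¹ ∈ (S : Subgroup G) := by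
      rw [hgx]
      exact mul_mem (zpow_mem (show g * a * g⁻¹ ∈ (S : Subgroup G) from hga.1) i) (zpow_mem hzS j)
    have h1 := hfixx g hgxS
    rw [hgx] at h1
    have h2 : (g * a * g⁻¹) ^ i = a ^ i := mul_right_cancel (h1.trans hij)
    obtain ⟨r, s, hrs⟩ := (Nat.prime_iff_prime_int.1 hp.out).irreducible.coprime_iff_not_dvd.2 hi
    have hpow : ∀ y : G, y ^ p = 1 → y = (y ^ i) ^ s := fun y hy => by
      calc y = y ^ (r * (p : ℤ) + s * i) := by rw [hrs, zpow_one]
        _ = _ := by rw [zpow_add, mul_comm r, zpow_mul, zpow_natCast, hy, one_zpow, one_mul, mul_comm s, zpow_mul]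
    rw [hpow (g * a * g⁻¹) (by rw [conj_pow, hap, mul_one, mul_inv_cancel]), h2, ← hpow a hap]
  -- the `p`-core is trivial
  have hR : Cfsg.pCore p G = ⊥ := by
    by_contra hne
    obtain ⟨z, hz, hzo⟩ := exists_order_p (isPGroup_pCore p G) hne
    have hzK : z ∈ Subgroup.centralizer (K₀ : Set G) := by
      have h := Solv.component_commutes_solvable hK₀ (Solv.pCore_normal (G := G) p).isSubnormal
        (haveI := (isPGroup_pCore p G).isNilpotent; inferInstance)
      rw [Subgroup.commutator_comm] at h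
      exact Subgroup.commutator_eq_bot_iff_le_centralizer.1 h hz
    exact hxR (Subgroup.zpowers_le.2 hz (key K₀ hK₀ z (pCore_le_sylow S hz) hzo hzK))
  rw [hR] at hF
  have hgf : Cfsg.generalizedFittingSubgroup G = Cfsg.layer G := by
    rw [Cfsg.generalizedFittingSubgroup, hF, sup_bot_eq]
  have huniq : ∀ L : Subgroup G, Cfsg.IsComponent L → L = K₀ := by
    intro L hL
    by_contra hne
    have hcc := Subgroup.commutator_eq_bot_iff_le_centralizer.1 (Solv.components_commute hL hK₀ hne)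
    have hcc' := Subgroup.commutator_eq_bot_iff_le_centralizer.1 (Solv.components_commute hK₀ hL (Ne.symm hne))
    obtain ⟨z, hz, hzo⟩ := exists_order_p (S.2.to_inf_left (K := L)) (hmeet L hL)
    obtain ⟨z', hz', hzo'⟩ := exists_order_p (S.2.to_inf_left (K := K₀)) (hmeet K₀ hK₀)
    have hxL : x ∈ L := Subgroup.zpowers_le.2 hz.2 (key K₀ hK₀ z hz.1 hzo (hcc hz.2))
    have hxK : x ∈ K₀ := Subgroup.zpowers_le.2 hz'.2 (key L hL z' hz'.1 hzo' (hcc' hz'.2))
    have hxc : x ∈ (Subgroup.center K₀).map K₀.subtype := ⟨⟨x, hxK⟩, Subgroup.mem_center_iff.2 fun y =>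
      Subtype.ext (Subgroup.mem_centralizer_iff.1 (hcc hxL) y y.2), rfl⟩
    have := Solv.center_component_le_fitting hK₀ hxc
    rw [hF, Subgroup.mem_bot] at this
    rw [this, orderOf_one] at hx
    exact hp.out.ne_one hx.symm
  have hlayer : Cfsg.layer G = K₀ :=
    le_antisymm (sSup_le fun M hM => (huniq M hM).le) (Solv.component_le_layer hK₀)
  rw [hgf, hlayer]
  have hZ : Subgroup.center K₀ = ⊥ := by
    have h := Solv.center_component_le_fitting hK₀
    rwa [hF, le_bot_iff, Subgroup.map_eq_bot_iff_of_injective _ K₀.subtype_injective] at h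
  haveI := Solv.qs_nontrivial hK₀.2
  haveI := hK₀.2.1
  refine ⟨⟨fun N hN => ?_⟩, fun hc => Group.IsPerfect.not_isMulCommutative (G := K₀) hc⟩
  haveI := hN
  exact (Solv.qs_normal_le_center_or_top hK₀.2 N).symm.imp_left fun h => le_bot_iff.1 (h.trans hZ.le)

end Cfsg.Agent.LocalEven.IsolatedRankTwo
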