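import Mathlib
import Cfsg.Agent.Lib.Fusion.Focal

/-!
# A normal subgroup of prime index in a subgroup with controlled fusion
-/

set_option autoImplicit false

namespace Cfsg.Agent.LocalEven

open Cfsg.Agent.Fusion

variable {G : Type*} [Group G]

/-- The index of a normal maximal subgroup is prime. -/
theorem index_prime_of_normal_coatom {K : Type*} [Group K] [Finite K] (N : Subgroup K) [N.Normal]
    (hN : IsCoatom N) : N.index.Prime := by
  have h1 : N.index ≠ 1 := fun h => hN.1 (Subgroup.index_eq_one.1 h)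
  obtain ⟨r, hr, hrd⟩ := Nat.exists_prime_and_dvd h1
  haveI := Fact.mk hr
  rw [Subgroup.index_eq_card] at hrd ⊢
  obtain ⟨x, hx⟩ := exists_prime_orderOf_dvd_card' (G := K ⧸ N) r hrd
  have hlt : N < (Subgroup.zpowers x).comap (QuotientGroup.mk' N) := by
    refine lt_of_le_of_ne (fun y hy => ?_) fun h => ?_
    · rw [Subgroup.mem_comap, QuotientGroup.mk'_apply, (QuotientGroup.eq_one_iff y).2 hy]
      exact one_mem _
    · obtain ⟨y, rfl⟩ := QuotientGroup.mk'_surjective N x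
      have : y ∈ N := h ▸ Subgroup.mem_zpowers _
      rw [QuotientGroup.mk'_apply, (QuotientGroup.eq_one_iff y).2 this, orderOf_one] at hx
      exact hr.ne_one hx.symm
  have htop := hN.2 _ hlt
  rw [← Subgroup.comap_top (QuotientGroup.mk' N)] at htop
  have h2 := Subgroup.comap_injective (QuotientGroup.mk'_surjective N) htop
  rw [← Subgroup.card_top (G := K ⧸ N), ← h2, Nat.card_zpowers, hx]
  exact hr

variable {H M : Subgroup G}

theorem comm_mem_of_prime_relIndex (hHM : H ≤ M) (hn : (H.subgroupOf M).Normal)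
    (hr : (H.relIndex M).Prime) {a b : G} (ha : a ∈ M) (hb : b ∈ M) :
    a⁻¹ * (b * a * b⁻¹) ∈ H := by
  haveI := hn
  haveI : Fact (H.relIndex M).Prime := ⟨hr⟩
  haveI : IsCyclic (↥M ⧸ H.subgroupOf M) :=
    isCyclic_of_prime_card (p := H.relIndex M) (Subgroup.index_eq_card _).symm
  have h : ((⟨a, ha⟩ : ↥M)⁻¹ * (⟨b, hb⟩ * ⟨a, ha⟩ * ⟨b, hb⟩⁻¹)) ∈ H.subgroupOf M := by
    rw [← QuotientGroup.eq_one_iff]
    simp only [QuotientGroup.mk_mul, QuotientGroup.mk_inv]
    rw [mul_comm' (QuotientGroup.mk (s := H.subgroupOf M) (⟨b, hb⟩ : ↥M)), mul_inv_cancel_right,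
      inv_mul_cancel]
  exact h

theorem sup_eq_of_prime_relIndex (hHM : H ≤ M) (hr : (H.relIndex M).Prime) {Q : Subgroup G}
    (hQM : Q ≤ M) (hQ : ¬ Q ≤ H) : H ⊔ Q = M := by
  have hle : H ⊔ Q ≤ M := sup_le hHM hQM
  have h := Subgroup.relIndex_mul_relIndex H (H ⊔ Q) M le_sup_left hle
  rcases hr.eq_one_or_self_of_dvd _ (Dvd.intro _ h) with h1 | h1
  · exact absurd (le_sup_right.trans (Subgroup.relIndex_eq_one.1 h1)) hQ
  · rw [h1] at h
    exact le_antisymm hle (Subgroup.relIndex_eq_one.1 (mul_eq_left₀ hr.ne_zero |>.1 h))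

theorem exists_sylIn_not_le [Finite G] {r : ℕ} [Fact r.Prime] (hHM : H ≤ M)
    (hr : H.relIndex M = r) : ∃ T, SylIn r T M ∧ ¬ T ≤ H := by
  obtain ⟨T, hT⟩ := exists_sylIn (p := r) M
  exact ⟨T, hT, fun h => hT.not_dvd
    (Dvd.intro_left _ ((Subgroup.relIndex_mul_relIndex T H M h hHM).trans rfl) |> fun h' => hr ▸ h')⟩

theorem sylIn_top_of_normalizer_le [Finite G] {r : ℕ} [Fact r.Prime] {T : Subgroup G}
    (hT : SylIn r T M) (hN : Subgroup.normalizer (T : Set G) ≤ M) : SylIn r T ⊤ := by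
  obtain ⟨U, hU, hTU⟩ := exists_sylIn_ge hT.isPGroup (le_top : T ≤ ⊤)
  by_cases h : T = U
  · exact h ▸ hU
  · have hlt := SylIn.normalizer_growth hTU h hU.isPGroup
    exact absurd (hT.eq_of_le hU.isPGroup.to_inf_left hlt.le (inf_le_right.trans hN)) hlt.ne'

/-- If the focal subgroup lies in `H` then the derived subgroup meets `M` inside `H`. -/
theorem commutator_inf_le [Finite G] {r : ℕ} [Fact r.Prime] {T : Subgroup G} (hHM : H ≤ M)
    (hn : (H.subgroupOf M).Normal) (hr : H.relIndex M = r) (hT : SylIn r T M)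
    (hTH : T ⊓ commutator G ≤ H) : commutator G ⊓ M ≤ H := by
  haveI := hn
  intro m hm
  set mm : ↥M := ⟨m, hm.2⟩
  set j := ordCompl[r] (orderOf mm) with hj
  set k := ordProj[r] (orderOf mm) with hk
  have hmr : mm ^ r ∈ H.subgroupOf M := by
    rw [← QuotientGroup.eq_one_iff, QuotientGroup.mk_pow]
    have hc : Nat.card (↥M ⧸ H.subgroupOf M) = r := hr ▸ (Subgroup.index_eq_card _).symm
    rw [← hc]; exact pow_card_eq_one'
  have hcop : j.Coprime r := (Nat.coprime_ordCompl Fact.out (orderOf_pos mm).ne').symm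
  have hjH : mm ^ j ∈ H.subgroupOf M → mm ∈ H.subgroupOf M := by
    intro h
    obtain ⟨u, v, huv⟩ : ∃ u v : ℤ, (j : ℤ) * u + (r : ℤ) * v = 1 :=
      ⟨Nat.gcdA j r, Nat.gcdB j r, by rw [← Nat.gcd_eq_gcd_ab, hcop.gcd_eq_one]; rfl⟩
    have : mm = (mm ^ j) ^ u * (mm ^ r) ^ v := by
      rw [← zpow_natCast mm j, ← zpow_natCast mm r, ← zpow_mul, ← zpow_mul, ← zpow_add, huv, zpow_one]
    rw [this]
    exact mul_mem (zpow_mem h u) (zpow_mem hmr v)
  refine hjH ?_
  have hpow : (m ^ j) ^ k = 1 := by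
    have h := congrArg Subtype.val (show mm ^ (k * j) = 1 by
      rw [hk, hj, Nat.ordProj_mul_ordCompl_eq_self, pow_orderOf_eq_one])
    rw [mul_comm, SubmonoidClass.coe_pow, pow_mul] at h
    exact h
  have hp : IsPGroup r ↥(Subgroup.zpowers (m ^ j)) := by
    obtain ⟨i, -, hi⟩ := (Nat.dvd_prime_pow Fact.out).1 (orderOf_dvd_of_pow_eq_one hpow)
    exact IsPGroup.of_card (n := i) (by rw [Nat.card_zpowers, hi])
  obtain ⟨g, hg, hgT⟩ := hT.conj_le hp (Subgroup.zpowers_le.2 (pow_mem hm.2 j))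
  have h1 : g * m ^ j * g⁻¹ ∈ T ⊓ commutator G :=
    ⟨hgT (conj_mem_cj (Subgroup.mem_zpowers _)),
      (inferInstance : (commutator G).Normal).conj_mem _ (pow_mem hm.1 j) g⟩
  have h2 := hn.conj_mem (⟨_, hHM (hTH h1)⟩ : ↥M) (hTH h1) (⟨g, hg⟩ : ↥M)⁻¹
  rw [Subgroup.mem_subgroupOf] at h2 ⊢
  simpa [mul_assoc, mm] using h2

end Cfsg.Agent.LocalEven
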