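import Mathlib
import Cfsg.Agent.Lib.LocalEven.PIrred
import Cfsg.Agent.Lib.Solv.Basic

/-!
Groups minimal over a `p`-subgroup.
-/

set_option autoImplicit false

open scoped commutatorElement Pointwise

namespace Cfsg.Agent.LocalEven.MinOv

open Cfsg Cfsg.Agent.Fusion

variable {G : Type*} [Group G] [Finite G] {p : ℕ} [Fact p.Prime]

omit [Fact p.Prime] in
theorem eq_max {Y M : Subgroup G} (hmin : IsMinimalOver Y) (hM : IsCoatom M) (hYM : Y ≤ M) :
    ∀ M', IsCoatom M' ∧ Y ≤ M' → M' = M := by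
  obtain ⟨-, M₀, -, hu⟩ := hmin
  intro M' h
  rw [hu M' h, hu M ⟨hM, hYM⟩]

variable {Y M T : Subgroup G} (hmin : IsMinimalOver Y) (hM : IsCoatom M) (hT : SylIn p T M)
  (hYT : Y ≤ T)

include hmin hM hT hYT

theorem normalizer_sylow_le : Subgroup.normalizer (T : Set G) ≤ M := by
  refine PIrr.le_max (eq_max hmin hM (hYT.trans hT.le)) (fun h => hM.1 ?_)
    (hYT.trans Subgroup.le_normalizer)
  haveI := Subgroup.normalizer_eq_top_iff.1 h
  exact top_le_iff.1 ((PIrr.normalClosure_le hmin.1 hYT).ge.trans hT.le)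

theorem sylIn_top : SylIn p T ⊤ := by
  obtain ⟨R, hR, hTR⟩ := exists_sylIn_ge hT.isPGroup (le_top : T ≤ ⊤)
  by_cases h : T = R
  · exact h ▸ hR
  · have h1 := SylIn.normalizer_growth hTR h hR.isPGroup
    exact absurd (hT.eq_of_le (hR.isPGroup.to_inf_left) h1.le
      (inf_le_right.trans (normalizer_sylow_le hmin hM hT hYT))) h1.ne'

theorem normalizer_max : Subgroup.normalizer (M : Set G) = M := by
  refine le_antisymm ?_ Subgroup.le_normalizer
  refine PIrr.le_max (eq_max hmin hM (hYT.trans hT.le)) (fun h => hM.1 ?_)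
    ((hYT.trans hT.le).trans Subgroup.le_normalizer)
  haveI := Subgroup.normalizer_eq_top_iff.1 h
  exact PIrr.normalClosure_le hmin.1 (hYT.trans hT.le)

theorem sup_conj_eq_top {g : G} (hg : g ∉ M) : Y ⊔ cj Y g = ⊤ := by
  by_contra h
  apply hg
  have hu := eq_max hmin hM (hYT.trans hT.le)
  have h1 : cj Y g ≤ M := le_sup_right.trans (PIrr.le_max hu h le_sup_left)
  have h2 : Y ≤ cj M g⁻¹ := cj_le_iff.1 h1
  have h3 : IsCoatom (cj M g⁻¹) := by
    have := (OrderIso.isCoatom_iff ((MulAut.conj g⁻¹ : MulAut G).mapSubgroup) M).2 hM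
    exact this
  have h4 := hu _ ⟨h3, h2⟩
  have h5 : g⁻¹ ∈ Subgroup.normalizer (M : Set G) := mem_normalizer_iff_cj.2 h4
  rw [normalizer_max hmin hM hT hYT] at h5
  simpa using inv_mem h5

theorem normal_inf_le_core {N : Subgroup G} [N.Normal] (hN : N ≤ M) : T ⊓ N ≤ pCore p G := by
  set S := T ⊓ N
  have hS : SylIn p S N :=
    (sylIn_top hmin hM hT hYT).inf_normal le_top (by rw [Subgroup.normalizer_eq_top])
  suffices h : Subgroup.normalizer (S : Set G) = ⊤ by
    haveI : S.Normal := Subgroup.normalizer_eq_top_iff.1 h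
    exact le_pCore hS.isPGroup
  by_contra hne
  have hTS : T ≤ Subgroup.normalizer (S : Set G) := fun t ht => mem_normalizer_iff_cj.2 (by
    rw [cj_inf, cj_eq_self_of_mem ht, cj_of_normal])
  have h1 := PIrr.le_max (eq_max hmin hM (hYT.trans hT.le)) hne (hYT.trans hTS)
  refine hM.1 (eq_top_iff.2 fun g _ => ?_)
  obtain ⟨n, hn, hng⟩ := frattini_conj (H := ⊤) hS (by rw [Subgroup.normalizer_eq_top]) (Subgroup.mem_top g)
  have := mul_mem (inv_mem (hN hn)) (h1 hng)
  simpa using this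

theorem normal_map_le_frattini {N : Subgroup G} [N.Normal] (hN : N ≤ M) :
    N.map (QuotientGroup.mk' (pCore p G)) ≤ frattini (G ⧸ pCore p G) := by
  set P := pCore p G
  set π := QuotientGroup.mk' P
  have hπ := QuotientGroup.mk'_surjective P
  have htop := sylIn_top hmin hM hT hYT
  refine le_iInf₂ fun K hK => ?_
  by_contra hle
  set K' := K.comap π with hK'
  have hK'c : K' ≠ ⊤ := fun h => hK.1 (Subgroup.comap_injective hπ (h.trans (Subgroup.comap_top π).symm))
  obtain ⟨R, hR⟩ := exists_sylIn (p := p) K'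
  have hNK : N ⊔ K' = ⊤ := by
    have hlt : K < N.map π ⊔ K := lt_of_le_of_ne le_sup_right fun e => hle (e.symm ▸ le_sup_left)
    have h1 := hK.2 _ hlt
    have h2 : (N ⊔ K').map π = ⊤ := by
      rw [Subgroup.map_sup, hK', Subgroup.map_comap_eq_self_of_surjective hπ]; exact h1
    have h3 : π.ker ≤ N ⊔ K' := le_sup_of_le_right (MonoidHom.ker_le_comap π K)
    rw [← Subgroup.comap_map_eq_self h3, h2, Subgroup.comap_top]
  have hPK : P ≤ K' := by
    have := MonoidHom.ker_le_comap π K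
    rwa [QuotientGroup.ker_mk'] at this
  have hnd : ¬ p ∣ K'.index := by
    intro hd
    have e1 : K'.index = K'.relIndex N := by
      have h1 := Cfsg.Agent.Solv.card_sup_mul_card_inf N K'
      rw [hNK, Subgroup.card_top, ← K'.card_mul_index] at h1
      have h2 := Subgroup.relIndex_mul_relIndex (⊥ : Subgroup G) (K' ⊓ N) N bot_le inf_le_right
      rw [Subgroup.relIndex_bot_left, Subgroup.relIndex_bot_left, Subgroup.inf_relIndex_right] at h2
      rw [inf_comm N K', mul_comm (Nat.card N), mul_assoc] at h1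
      have h3 := Nat.eq_of_mul_eq_mul_left Nat.card_pos h1
      rw [← h2, mul_comm K'.index] at h3
      exact Nat.eq_of_mul_eq_mul_left Nat.card_pos h3
    obtain ⟨S, hS, hSle⟩ : ∃ S, SylIn p S N ∧ S ≤ P :=
      ⟨T ⊓ N, htop.inf_normal le_top (by rw [Subgroup.normalizer_eq_top]),
        normal_inf_le_core hmin hM hT hYT hN⟩
    have h4 : (K' ⊓ N).relIndex N ∣ S.relIndex N :=
      Subgroup.relIndex_dvd_of_le_left N (le_inf (hSle.trans hPK) hS.le)
    rw [Subgroup.inf_relIndex_right, ← e1] at h4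
    exact hS.not_dvd (hd.trans h4)
  have hR' : SylIn p R ⊤ := ⟨le_top, hR.isPGroup, fun hd => by
    rw [Subgroup.relIndex_top_right, ← Subgroup.relIndex_mul_index hR.le] at hd
    rcases (Nat.Prime.dvd_mul Fact.out).1 hd with h | h
    · exact hR.not_dvd h
    · exact hnd h⟩
  obtain ⟨g, -, hg⟩ := hR'.conj_eq htop
  have hYK : Y ≤ cj K' g := hYT.trans (hg ▸ cj_mono hR.le g)
  have hne : cj K' g ≠ ⊤ := fun h => hK'c (by
    have := congrArg (fun X => cj X g⁻¹) h
    simp only [cj_cj_inv] at this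
    rwa [cj_of_normal] at this)
  have h5 := PIrr.le_max (eq_max hmin hM (hYT.trans hT.le)) hne hYK
  have h6 : (⊤ : Subgroup G) ≤ M := by
    rw [← cj_of_normal (⊤ : Subgroup G) g, ← hNK, cj_sup, cj_of_normal N]
    exact sup_le hN h5
  exact hM.1 (top_le_iff.1 h6)

end Cfsg.Agent.LocalEven.MinOv
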