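import Mathlib
import Cfsg.Agent.Lib.Classical.SL2Relations

/-!
# Modules for `SL₂` in characteristic two on which an element of order three has no fixed points

If `g² + g + 1` annihilates a module of exponent two for every `g` of trace one, then the module is
a direct sum of copies of the natural two-dimensional module.
-/

set_option autoImplicit false

open Matrix

namespace Cfsg.Agent.NatRecog

open Cfsg.Agent.Classical.SL2Rel (u₂ l₂ gen₂)

variable {K : Type*} [Field K] [Finite K] [CharP K 2]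

theorem exists_sq (a : K) : ∃ b : K, b * b = a := by
  obtain ⟨b, hb⟩ := (Finite.injective_iff_surjective (f := fun b : K => b ^ 2)).1
    (fun x y h => CharTwo.sq_injective h) a
  exact ⟨b, by rw [← pow_two]; exact hb⟩

theorem u₂_coe (a : K) : ((u₂ a : Matrix.SpecialLinearGroup (Fin 2) K) : Matrix (Fin 2) (Fin 2) K) = !![1, a; 0, 1] := by
  ext i j
  fin_cases i <;> fin_cases j <;> simp [u₂, Matrix.SpecialLinearGroup.transvection_coe]

theorem l₂_coe (a : K) : ((l₂ a : Matrix.SpecialLinearGroup (Fin 2) K) : Matrix (Fin 2) (Fin 2) K) = !![1, 0; a, 1] := by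
  ext i j
  fin_cases i <;> fin_cases j <;> simp [l₂, Matrix.SpecialLinearGroup.transvection_coe]

theorem u₂_add (a b : K) : u₂ a * u₂ b = u₂ (a + b) := by
  apply Subtype.ext
  rw [Matrix.SpecialLinearGroup.coe_mul, u₂_coe, u₂_coe, u₂_coe]
  ext i j
  fin_cases i <;> fin_cases j <;> simp [Matrix.mul_apply, Fin.sum_univ_two, add_comm]

theorem l₂_add (a b : K) : l₂ a * l₂ b = l₂ (a + b) := by
  apply Subtype.ext
  rw [Matrix.SpecialLinearGroup.coe_mul, l₂_coe, l₂_coe, l₂_coe]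
  ext i j
  fin_cases i <;> fin_cases j <;> simp [Matrix.mul_apply, Fin.sum_univ_two, add_comm]

theorem u₂_zero : u₂ (0 : K) = 1 := by
  have h := u₂_add (0 : K) 0
  rw [add_zero] at h
  exact mul_eq_left.1 h

theorem l₂_zero : l₂ (0 : K) = 1 := by
  have h := l₂_add (0 : K) 0
  rw [add_zero] at h
  exact mul_eq_left.1 h

/-- The antidiagonal element exchanging the two root groups. -/
def weyl (a : K) : Matrix.SpecialLinearGroup (Fin 2) K := u₂ a * l₂ a⁻¹ * u₂ a

theorem weyl_coe {a : K} (ha : a ≠ 0) :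
    ((weyl a : Matrix.SpecialLinearGroup (Fin 2) K) : Matrix (Fin 2) (Fin 2) K) = !![0, a; a⁻¹, 0] := by
  rw [weyl, Matrix.SpecialLinearGroup.coe_mul, Matrix.SpecialLinearGroup.coe_mul, u₂_coe, l₂_coe]
  ext i j
  fin_cases i <;> fin_cases j <;>
    simp [Matrix.mul_apply, Fin.sum_univ_two, ha, CharTwo.add_self_eq_zero]

theorem weyl_conj {a : K} (ha : a ≠ 0) (c : K) : weyl a * u₂ c * weyl a = l₂ (c * a⁻¹ * a⁻¹) := by
  apply Subtype.ext
  rw [Matrix.SpecialLinearGroup.coe_mul, Matrix.SpecialLinearGroup.coe_mul, weyl_coe ha, u₂_coe, l₂_coe]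
  ext i j
  fin_cases i <;> fin_cases j <;> simp [Matrix.mul_apply, Fin.sum_univ_two, ha] <;> ring

theorem weyl_conj' {a : K} (ha : a ≠ 0) (c : K) : weyl a * l₂ c * weyl a = u₂ (c * a * a) := by
  apply Subtype.ext
  rw [Matrix.SpecialLinearGroup.coe_mul, Matrix.SpecialLinearGroup.coe_mul, weyl_coe ha, u₂_coe, l₂_coe]
  ext i j
  fin_cases i <;> fin_cases j <;> simp [Matrix.mul_apply, Fin.sum_univ_two, ha] <;> ring

theorem trace_ul {a b : K} (h : a * b = 1) :
    Matrix.trace ((u₂ a * l₂ b : Matrix.SpecialLinearGroup (Fin 2) K) : Matrix (Fin 2) (Fin 2) K) = 1 := by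
  rw [Matrix.SpecialLinearGroup.coe_mul, u₂_coe, l₂_coe]
  simp [Matrix.trace_fin_two, h, CharTwo.add_self_eq_zero]

theorem ul_cube {a b : K} (h : a * b = 1) : l₂ b * u₂ a = (u₂ a * l₂ b) * (u₂ a * l₂ b) := by
  apply Subtype.ext
  simp only [Matrix.SpecialLinearGroup.coe_mul, u₂_coe, l₂_coe]
  ext i j
  fin_cases i <;> fin_cases j <;> simp [Matrix.mul_apply, Fin.sum_univ_two, h, mul_comm b a] <;> grind

variable {R : Type*} [Ring R]

section Ring

variable (ρ : Matrix.SpecialLinearGroup (Fin 2) K →* R) (h2 : ∀ x : R, x + x = 0)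
  (h3 : ∀ g : Matrix.SpecialLinearGroup (Fin 2) K,
    Matrix.trace (g : Matrix (Fin 2) (Fin 2) K) = 1 → ρ g * ρ g + ρ g + 1 = 0)

/-- The nilpotent part of an upper transvection. -/
def nU (a : K) : R := ρ (u₂ a) + 1

/-- The nilpotent part of a lower transvection. -/
def nL (a : K) : R := ρ (l₂ a) + 1

/-- The scalar attached to a field element. -/
def scal (a : K) : R := nU ρ a * nL ρ 1 + nL ρ 1 * nU ρ a

include h2

theorem neg_eq' (x : R) : -x = x := neg_eq_of_add_eq_zero_left (h2 x)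

theorem add_cancel' (x y : R) : x + (x + y) = y := by rw [← add_assoc, h2, zero_add]

theorem nU_sq (a : K) : nU ρ a * nU ρ a = 0 := by
  have h : ρ (u₂ a) * ρ (u₂ a) = 1 := by rw [← map_mul, u₂_add, CharTwo.add_self_eq_zero, u₂_zero, map_one]
  rw [nU, add_mul, mul_add, h, mul_one, one_mul, add_comm (ρ (u₂ a)) 1, h2]

theorem nL_sq (a : K) : nL ρ a * nL ρ a = 0 := by
  have h : ρ (l₂ a) * ρ (l₂ a) = 1 := by rw [← map_mul, l₂_add, CharTwo.add_self_eq_zero, l₂_zero, map_one]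
  rw [nL, add_mul, mul_add, h, mul_one, one_mul, add_comm (ρ (l₂ a)) 1, h2]

theorem rho_u (a : K) : ρ (u₂ a) = 1 + nU ρ a := by rw [nU, add_comm (ρ (u₂ a)) 1, add_cancel' h2]

theorem rho_l (a : K) : ρ (l₂ a) = 1 + nL ρ a := by rw [nL, add_comm (ρ (l₂ a)) 1, add_cancel' h2]

theorem nU_comm (a b : K) : nU ρ a * nU ρ b = nU ρ b * nU ρ a := by
  have h : ρ (u₂ a) * ρ (u₂ b) = ρ (u₂ b) * ρ (u₂ a) := by
    rw [← map_mul, ← map_mul, u₂_add, u₂_add, add_comm a b]
  simp only [nU, add_mul, mul_add, h, mul_one, one_mul]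
  abel

theorem nL_comm (a b : K) : nL ρ a * nL ρ b = nL ρ b * nL ρ a := by
  have h : ρ (l₂ a) * ρ (l₂ b) = ρ (l₂ b) * ρ (l₂ a) := by
    rw [← map_mul, ← map_mul, l₂_add, l₂_add, add_comm a b]
  simp only [nL, add_mul, mul_add, h, mul_one, one_mul]
  abel

theorem nL_add_raw (a b : K) : nL ρ (a + b) = nL ρ a + nL ρ b + nL ρ a * nL ρ b := by
  rw [nL, ← l₂_add, map_mul, rho_l ρ h2, rho_l ρ h2, add_mul, mul_add, mul_one, one_mul]
  calc _ = (1 + 1) + (nL ρ a + nL ρ b + nL ρ a * nL ρ b) := by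
        simp only [add_mul, mul_add, mul_one, one_mul]; abel
    _ = _ := by rw [h2, zero_add]

include h3

theorem pair {a b : K} (hab : a * b = 1) : nU ρ a * nL ρ b + nL ρ b * nU ρ a = 1 := by
  have h := h3 _ (trace_ul hab)
  rw [← map_mul ρ (u₂ a * l₂ b), ← ul_cube hab, map_mul, map_mul, rho_u ρ h2, rho_l ρ h2] at h
  have e : (1 + nL ρ b) * (1 + nU ρ a) + (1 + nU ρ a) * (1 + nL ρ b) + 1 =
      (nU ρ a * nL ρ b + nL ρ b * nU ρ a + 1) + ((1 + 1) + (nU ρ a + nU ρ a) + (nL ρ b + nL ρ b)) := by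
    simp only [add_mul, mul_add, one_mul, mul_one]
    abel
  simp only [e, h2, add_zero, zero_add] at h
  have := eq_neg_of_add_eq_zero_left h
  rwa [neg_eq' h2] at this

theorem absorb {a b : K} (hab : a * b = 1) : nU ρ a * nL ρ b * nU ρ a = nU ρ a := by
  have h := congrArg (fun x => x * nU ρ a) (pair ρ h2 h3 hab)
  simpa [add_mul, mul_assoc, nU_sq ρ h2] using h

theorem absorb' {a b : K} (hab : a * b = 1) : nL ρ b * nU ρ a * nL ρ b = nL ρ b := by
  have h := congrArg (fun x => x * nL ρ b) (pair ρ h2 h3 hab)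
  simpa [add_mul, mul_assoc, nL_sq ρ h2] using h

theorem rho_weyl {a : K} (ha : a ≠ 0) : ρ (weyl a) = nU ρ a + nL ρ a⁻¹ := by
  have h1 := pair ρ h2 h3 (mul_inv_cancel₀ ha)
  have h5 := absorb ρ h2 h3 (mul_inv_cancel₀ ha)
  rw [weyl, map_mul, map_mul, rho_u ρ h2, rho_l ρ h2]
  have e : (1 + nU ρ a) * (1 + nL ρ a⁻¹) * (1 + nU ρ a) =
      nL ρ a⁻¹ + (nU ρ a + nU ρ a) + nU ρ a * nU ρ a + nU ρ a * nL ρ a⁻¹ * nU ρ a
        + (1 + (nU ρ a * nL ρ a⁻¹ + nL ρ a⁻¹ * nU ρ a)) := by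
    simp only [add_mul, mul_add, one_mul, mul_one]
    abel
  rw [e, h1, h5, h2, h2, nU_sq ρ h2, add_zero, add_zero, add_zero, add_comm]

theorem weyl_sq' {a : K} (ha : a ≠ 0) :
    (nU ρ a + nL ρ a⁻¹) * (nU ρ a + nL ρ a⁻¹) = 1 := by
  simp only [add_mul, mul_add, nU_sq ρ h2, nL_sq ρ h2, zero_add, add_zero]
  rw [add_comm]
  exact pair ρ h2 h3 (mul_inv_cancel₀ ha)

theorem conj_nU {a : K} (ha : a ≠ 0) (c : K) :
    nL ρ (c * a⁻¹ * a⁻¹) = (nU ρ a + nL ρ a⁻¹) * nU ρ c * (nU ρ a + nL ρ a⁻¹) := by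
  rw [nL, ← weyl_conj ha, map_mul, map_mul, rho_weyl ρ h2 h3 ha, rho_u ρ h2,
    mul_add (nU ρ a + nL ρ a⁻¹), mul_one, add_mul, weyl_sq' ρ h2 h3 ha]
  rw [add_comm (1 : R), add_assoc, h2, add_zero]

theorem conj_nL {a : K} (ha : a ≠ 0) (c : K) :
    nU ρ (c * a * a) = (nU ρ a + nL ρ a⁻¹) * nL ρ c * (nU ρ a + nL ρ a⁻¹) := by
  rw [nU, ← weyl_conj' ha, map_mul, map_mul, rho_weyl ρ h2 h3 ha, rho_l ρ h2,
    mul_add (nU ρ a + nL ρ a⁻¹), mul_one, add_mul, weyl_sq' ρ h2 h3 ha]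
  rw [add_comm (1 : R), add_assoc, h2, add_zero]

/-- The two root groups act quadratically. -/
theorem quad_base (c : K) : nL ρ 1 * nL ρ c = 0 := by
  obtain ⟨N, hN⟩ : ∃ N, N = nU ρ 1 := ⟨_, rfl⟩
  obtain ⟨M, hM⟩ : ∃ M, M = nL ρ 1 := ⟨_, rfl⟩
  have hNN : N * N = 0 := hN ▸ nU_sq ρ h2 1
  have hMM : M * M = 0 := hM ▸ nL_sq ρ h2 1
  have hp : N * M + M * N = 1 := hN ▸ hM ▸ pair ρ h2 h3 (one_mul 1)
  have hNMN : N * M * N = N := hN ▸ hM ▸ absorb ρ h2 h3 (one_mul 1)
  have hMNM : M * N * M = M := hN ▸ hM ▸ absorb' ρ h2 h3 (one_mul 1)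
  have hNMN' : ∀ x, N * (M * (N * x)) = N * x := fun x => by
    rw [← mul_assoc, ← mul_assoc, hNMN]
  have hMNM' : ∀ x, M * (N * (M * x)) = M * x := fun x => by
    rw [← mul_assoc, ← mul_assoc, hMNM]
  have hMNM₂ : M * (N * M) = M := by rw [← mul_assoc, hMNM]
  have hNN' : ∀ x, N * (N * x) = 0 := fun x => by rw [← mul_assoc, hNN, zero_mul]
  have hMM' : ∀ x, M * (M * x) = 0 := fun x => by rw [← mul_assoc, hMM, zero_mul]
  -- the corner coefficient
  obtain ⟨f, hf⟩ : ∃ f : K → R, ∀ a, f a = N * nL ρ a * (N * M) := ⟨_, fun _ => rfl⟩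
  obtain ⟨P, hP⟩ : ∃ P : K → R, ∀ a, P a = N * nL ρ a * M := ⟨_, fun _ => rfl⟩
  have hMc : ∀ a, nL ρ a * M = M * nL ρ a := fun a => hM ▸ nL_comm ρ h2 a 1
  have hMc' : ∀ a x, nL ρ a * (M * x) = M * (nL ρ a * x) := fun a x => by
    rw [← mul_assoc, hMc, mul_assoc]
  have hNc : ∀ a, N * nU ρ a = nU ρ a * N := fun a => hN ▸ nU_comm ρ h2 1 a
  have hsq : ∀ a, f (a * a) = f a * f a := by
    intro a
    rcases eq_or_ne a 0 with rfl | ha
    · simp [hf, nL, l₂_zero, h2]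
    have h := conj_nU ρ h2 h3 (inv_ne_zero ha) 1
    rw [inv_inv, one_mul, ← hN] at h
    have e1 : N * (nU ρ a⁻¹ + nL ρ a) * N = N * nL ρ a * N := by
      rw [mul_add, add_mul, hNc, mul_assoc (nU ρ a⁻¹), hNN, mul_zero, zero_add]
    have e2 : N * nL ρ a * N * nU ρ a⁻¹ * (N * M) = 0 := by
      rw [mul_assoc (N * nL ρ a), hNc, mul_assoc, mul_assoc (nU ρ a⁻¹), hNN', mul_zero, mul_zero]
    calc f (a * a) = N * (nU ρ a⁻¹ + nL ρ a) * N * (nU ρ a⁻¹ + nL ρ a) * (N * M) := by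
          rw [hf, h]; simp only [mul_assoc]
      _ = N * nL ρ a * N * nL ρ a * (N * M) := by rw [e1, mul_add, add_mul, e2, zero_add]
      _ = f a * f a := by rw [hf]; simp only [mul_assoc, hNMN']
  have hplus : ∀ a, f (a + 1) = f a + N * M + P a := by
    intro a
    rw [hf, hf, hP, nL_add_raw ρ h2, ← hM]
    simp only [mul_add, add_mul, mul_assoc, hMNM₂, hNMN', hMNM']
  have hP0 : ∀ a, P (a * a) = 0 := by
    intro a
    have h := hsq (a + 1)
    rw [show (a + 1) * (a + 1) = a * a + 1 by rw [← pow_two, CharTwo.add_sq]; ring, hplus, hplus, hsq] at h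
    have hPP : P a * P a = 0 := by
      rw [hP]
      calc N * nL ρ a * M * (N * nL ρ a * M) = N * nL ρ a * (M * (N * (nL ρ a * M))) := by
            simp only [mul_assoc]
        _ = N * nL ρ a * (M * (N * (M * nL ρ a))) := by rw [hMc]
        _ = N * (M * (nL ρ a * nL ρ a)) := by rw [hMNM']; simp only [mul_assoc, hMc']
        _ = 0 := by rw [nL_sq ρ h2, mul_zero, mul_zero]
    have hfe : f a * (N * M) = f a := by rw [hf]; simp only [mul_assoc, hNMN']
    have hef : N * M * f a = f a := by rw [hf]; simp only [mul_assoc, hNMN']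
    have hee : N * M * (N * M) = N * M := by simp only [mul_assoc, hNMN']
    have heP : N * M * P a = P a := by rw [hP]; simp only [mul_assoc, hNMN']
    have hPe : P a * (N * M) = P a := by rw [hP]; simp only [mul_assoc, hMNM₂]
    have hcross : f a * P a + P a * f a = 0 := by
      have e : M * N * nL ρ a = N * M * nL ρ a + nL ρ a := by
        have := congrArg (fun x => x * nL ρ a) hp
        simp only [add_mul, one_mul] at this
        calc _ = N * M * nL ρ a + (N * M * nL ρ a + M * N * nL ρ a) := (add_cancel' h2 _ _).symm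
          _ = _ := by rw [this]
      rw [hf, hP]
      calc N * nL ρ a * (N * M) * (N * nL ρ a * M) + N * nL ρ a * M * (N * nL ρ a * (N * M))
          = N * nL ρ a * (N * (nL ρ a * M) + M * N * nL ρ a * (N * M)) := by
            simp only [mul_add, mul_assoc, hNMN']
        _ = N * nL ρ a * (N * (nL ρ a * M) + N * M * nL ρ a * (N * M)) + N * (nL ρ a * nL ρ a) * (N * M) := by
            rw [e, add_mul, mul_add (N * nL ρ a), mul_add (N * nL ρ a), mul_add (N * nL ρ a)]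
            simp only [mul_assoc, add_assoc]
        _ = N * nL ρ a * (N * (nL ρ a * M) * (1 + N * M)) := by
            rw [nL_sq ρ h2, mul_zero, zero_mul, add_zero]
            simp only [mul_add, mul_one, mul_assoc, hMc, hMc']
        _ = 0 := by
            have e3 : (1 : R) + N * M = M * N := by rw [← hp, add_comm, ← add_assoc, h2, zero_add]
            rw [e3]
            simp only [mul_assoc, hMM', mul_zero]
    have hexp : (f a + N * M + P a) * (f a + N * M + P a) = f a * f a + N * M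
        + ((f a + f a) + (P a + P a) + (f a * P a + P a * f a) + P a * P a) := by
      simp only [add_mul, mul_add, hfe, hef, hee, heP, hPe]
      abel
    rw [hexp, h2, h2, hcross, hPP, add_zero, add_zero, add_zero, add_zero] at h
    exact add_eq_left.1 h
  obtain ⟨d, rfl⟩ := exists_sq c
  have h0 : N * nL ρ (d * d) * M = 0 := (hP _).symm.trans (hP0 d)
  calc nL ρ 1 * nL ρ (d * d) = (N * M + M * N) * (M * nL ρ (d * d)) := by rw [hp, one_mul, hM]
    _ = N * M * M * nL ρ (d * d) + M * (N * nL ρ (d * d) * M) := by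
        rw [add_mul]; simp only [mul_assoc, hMc]
    _ = 0 := by rw [h0, mul_assoc N, hMM]; simp

theorem quad_L (b c : K) : nL ρ b * nL ρ c = 0 := by
  rcases eq_or_ne b 0 with rfl | hb
  · simp [nL, l₂_zero, h2]
  obtain ⟨d, rfl⟩ := exists_sq b
  have hd : d ≠ 0 := fun h => hb (by simp [h])
  have h1 : nU ρ 1 * nU ρ (c * (d * d)⁻¹) = 0 := by
    have e := fun x => conj_nL ρ h2 h3 (one_ne_zero (α := K)) x
    have e1 := e 1
    have e2 := e (c * (d * d)⁻¹)
    simp only [mul_one] at e1 e2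
    rw [e1, e2]
    have hw := weyl_sq' ρ h2 h3 (one_ne_zero (α := K))
    simp only [mul_assoc] at hw ⊢
    rw [← mul_assoc (nU ρ 1 + nL ρ 1⁻¹) (nU ρ 1 + nL ρ 1⁻¹)]
    rw [show (nU ρ 1 + nL ρ 1⁻¹) * (nU ρ 1 + nL ρ 1⁻¹) = 1 from hw, one_mul,
      ← mul_assoc (nL ρ 1) (nL ρ _), quad_base ρ h2 h3, zero_mul, mul_zero]
  have e1 := conj_nU ρ h2 h3 (inv_ne_zero hd) 1
  have e2 := conj_nU ρ h2 h3 (inv_ne_zero hd) (c * (d * d)⁻¹)
  rw [inv_inv, one_mul] at e1
  rw [inv_inv, show c * (d * d)⁻¹ * d * d = c by field_simp] at e2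
  rw [e1, e2]
  have hw := weyl_sq' ρ h2 h3 (inv_ne_zero hd)
  rw [inv_inv] at hw
  calc _ = (nU ρ d⁻¹ + nL ρ d) * (nU ρ 1 * ((nU ρ d⁻¹ + nL ρ d) * (nU ρ d⁻¹ + nL ρ d))
        * nU ρ (c * (d * d)⁻¹)) * (nU ρ d⁻¹ + nL ρ d) := by simp only [mul_assoc]
    _ = 0 := by rw [hw, mul_one, h1, mul_zero, zero_mul]

theorem nL_add (a b : K) : nL ρ (a + b) = nL ρ a + nL ρ b := by
  rw [nL_add_raw ρ h2, quad_L ρ h2 h3, add_zero]

theorem nU_eq_conj (a : K) :
    nU ρ a = (nU ρ 1 + nL ρ 1) * nL ρ a * (nU ρ 1 + nL ρ 1) := by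
  simpa using conj_nL ρ h2 h3 (one_ne_zero (α := K)) a

theorem quad_U (b c : K) : nU ρ b * nU ρ c = 0 := by
  have hw := weyl_sq' ρ h2 h3 (one_ne_zero (α := K))
  rw [inv_one] at hw
  rw [nU_eq_conj ρ h2 h3 b, nU_eq_conj ρ h2 h3 c]
  calc _ = (nU ρ 1 + nL ρ 1) * (nL ρ b * ((nU ρ 1 + nL ρ 1) * (nU ρ 1 + nL ρ 1)) * nL ρ c)
        * (nU ρ 1 + nL ρ 1) := by simp only [mul_assoc]
    _ = 0 := by rw [hw, mul_one, quad_L ρ h2 h3, mul_zero, zero_mul]

theorem scal_nU (a : K) : scal ρ a * nU ρ 1 = nU ρ a ∧ nU ρ 1 * scal ρ a = nU ρ a := by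
  have hNMN := absorb ρ h2 h3 (one_mul (1 : K))
  have h1 : nU ρ a = nU ρ 1 * nL ρ a * nU ρ 1 := by
    conv_lhs => rw [nU_eq_conj ρ h2 h3]
    rw [mul_assoc, mul_add (nL ρ a), quad_L ρ h2 h3, add_zero, add_mul, ← mul_assoc (nL ρ 1),
      quad_L ρ h2 h3, zero_mul, add_zero, ← mul_assoc]
  constructor
  · rw [scal, add_mul, mul_assoc (nL ρ 1), quad_U ρ h2 h3, mul_zero, add_zero, h1]
    simp only [mul_assoc] at hNMN ⊢
    rw [hNMN]
  · rw [scal, mul_add, ← mul_assoc (nU ρ 1) (nU ρ a), quad_U ρ h2 h3, zero_mul, zero_add, h1]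
    simp only [← mul_assoc] at hNMN ⊢
    rw [hNMN]

theorem scal_nL (a : K) : scal ρ a * nL ρ 1 = nL ρ a ∧ nL ρ 1 * scal ρ a = nL ρ a := by
  have h1 : nL ρ a = nL ρ 1 * nU ρ a * nL ρ 1 := by
    have h := conj_nU ρ h2 h3 (one_ne_zero (α := K)) a
    simp only [inv_one, mul_one] at h
    rw [h, mul_assoc, mul_add (nU ρ a), quad_U ρ h2 h3, zero_add, add_mul, ← mul_assoc (nU ρ 1),
      quad_U ρ h2 h3, zero_mul, zero_add, ← mul_assoc]
  constructor
  · rw [scal, add_mul, mul_assoc (nU ρ a), quad_L ρ h2 h3, mul_zero, zero_add, ← h1]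
  · rw [scal, mul_add, ← mul_assoc (nL ρ 1) (nL ρ 1), quad_L ρ h2 h3, zero_mul, add_zero,
      ← mul_assoc, ← h1]

theorem scal_one : scal ρ 1 = 1 := pair ρ h2 h3 (one_mul 1)

theorem scal_eq (a : K) : nU ρ 1 * nL ρ a + nL ρ a * nU ρ 1 = scal ρ a := by
  rw [← (scal_nL ρ h2 h3 a).1, ← mul_assoc, (scal_nU ρ h2 h3 a).2, ← (scal_nU ρ h2 h3 a).1,
    mul_assoc, mul_assoc, ← mul_add, pair ρ h2 h3 (one_mul 1), mul_one]

theorem scal_add (a b : K) : scal ρ (a + b) = scal ρ a + scal ρ b := by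
  simp only [← scal_eq ρ h2 h3, nL_add ρ h2 h3, mul_add, add_mul]
  abel

theorem scal_sq (a : K) : scal ρ (a * a) = scal ρ a * scal ρ a := by
  rcases eq_or_ne a 0 with rfl | ha
  · simp [scal, nU, u₂_zero, h2]
  have hL : nL ρ (a * a) = scal ρ a * scal ρ a * nL ρ 1 := by
    have h := conj_nU ρ h2 h3 (inv_ne_zero ha) 1
    rw [inv_inv, one_mul] at h
    rw [h, mul_assoc, mul_add (nU ρ 1), quad_U ρ h2 h3, zero_add, add_mul, ← mul_assoc (nU ρ a⁻¹),
      quad_U ρ h2 h3, zero_mul, zero_add, ← (scal_nL ρ h2 h3 a).1]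
    have hM := absorb' ρ h2 h3 (one_mul (1 : K))
    calc scal ρ a * nL ρ 1 * (nU ρ 1 * (scal ρ a * nL ρ 1))
        = scal ρ a * (nL ρ 1 * (nU ρ 1 * scal ρ a) * nL ρ 1) := by simp only [mul_assoc]
      _ = scal ρ a * (nL ρ 1 * (scal ρ a * nU ρ 1) * nL ρ 1) := by
          rw [(scal_nU ρ h2 h3 a).1, (scal_nU ρ h2 h3 a).2]
      _ = scal ρ a * ((nL ρ 1 * scal ρ a) * nU ρ 1 * nL ρ 1) := by simp only [mul_assoc]
      _ = scal ρ a * scal ρ a * (nL ρ 1 * nU ρ 1 * nL ρ 1) := by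
          rw [(scal_nL ρ h2 h3 a).2, ← (scal_nL ρ h2 h3 a).1]; simp only [mul_assoc]
      _ = _ := by rw [hM]
  have hc : nU ρ 1 * (scal ρ a * scal ρ a) = scal ρ a * scal ρ a * nU ρ 1 := by
    rw [← mul_assoc, (scal_nU ρ h2 h3 a).2, ← (scal_nU ρ h2 h3 a).1, mul_assoc,
      (scal_nU ρ h2 h3 a).2, ← (scal_nU ρ h2 h3 a).1, ← mul_assoc]
  rw [← scal_eq ρ h2 h3 (a * a), hL, ← mul_assoc, hc, mul_assoc (scal ρ a * scal ρ a),
    mul_assoc (scal ρ a * scal ρ a), ← mul_add, pair ρ h2 h3 (one_mul 1), mul_one]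

theorem scal_comm (a b : K) : scal ρ a * scal ρ b = scal ρ b * scal ρ a := by
  have h := scal_sq ρ h2 h3 (a + b)
  rw [show (a + b) * (a + b) = a * a + b * b by rw [← pow_two, CharTwo.add_sq, pow_two, pow_two],
    scal_add ρ h2 h3, scal_add ρ h2 h3, scal_sq ρ h2 h3, scal_sq ρ h2 h3, add_mul, mul_add, mul_add] at h
  have h' : scal ρ a * scal ρ b + scal ρ b * scal ρ a = 0 := by
    have e : scal ρ a * scal ρ a + scal ρ a * scal ρ b + (scal ρ b * scal ρ a + scal ρ b * scal ρ b) =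
      scal ρ a * scal ρ a + scal ρ b * scal ρ b + (scal ρ a * scal ρ b + scal ρ b * scal ρ a) := by abel
    rw [e] at h
    exact add_eq_left.1 h.symm
  rw [eq_neg_of_add_eq_zero_left h', neg_eq' h2]

theorem scal_inv {a b : K} (hab : a * b = 1) : scal ρ a * scal ρ b = 1 := by
  have h := pair ρ h2 h3 hab
  rw [← (scal_nU ρ h2 h3 a).1, ← (scal_nL ρ h2 h3 b).1] at h
  have e1 : scal ρ a * nU ρ 1 * (scal ρ b * nL ρ 1) = scal ρ a * scal ρ b * (nU ρ 1 * nL ρ 1) := by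
    rw [← mul_assoc, mul_assoc (scal ρ a), (scal_nU ρ h2 h3 b).2, ← (scal_nU ρ h2 h3 b).1]
    simp only [mul_assoc]
  have e2 : scal ρ b * nL ρ 1 * (scal ρ a * nU ρ 1) = scal ρ b * scal ρ a * (nL ρ 1 * nU ρ 1) := by
    rw [← mul_assoc, mul_assoc (scal ρ b), (scal_nL ρ h2 h3 a).2, ← (scal_nL ρ h2 h3 a).1]
    simp only [mul_assoc]
  rwa [e1, e2, scal_comm ρ h2 h3 b a, ← mul_add, pair ρ h2 h3 (one_mul 1), mul_one] at h

theorem scal_sq_mul (a b : K) : scal ρ (a * a * b) = scal ρ a * scal ρ a * scal ρ b := by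
  have h0 : scal ρ (0 : K) = 0 := by simp [scal, nU, u₂_zero, h2]
  rcases eq_or_ne a 0 with rfl | ha
  · simp [h0]
  rcases eq_or_ne b 0 with rfl | hb
  · simp [h0]
  by_cases hab : a * b = 1
  · rw [mul_assoc, hab, mul_one, mul_assoc, scal_inv ρ h2 h3 hab, mul_one]
  obtain ⟨a', ha'⟩ : ∃ a', a' = a⁻¹ := ⟨_, rfl⟩
  obtain ⟨b', hb'⟩ : ∃ b', b' = b⁻¹ := ⟨_, rfl⟩
  obtain ⟨c, hc⟩ : ∃ c, c = b' + a := ⟨_, rfl⟩
  have hab' : 1 + a * b ≠ 0 := fun h => hab (CharTwo.add_eq_zero.1 h).symm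
  have hc0 : c ≠ 0 := by
    intro h
    apply hab'
    have : b * c = 1 + a * b := by rw [hc, hb', mul_add, mul_inv_cancel₀ hb, mul_comm b a]
    rw [← this, h, mul_zero]
  have hd : (a' + c⁻¹) * (a + a * a * b) = 1 := by
    have h1 : a' + c⁻¹ = (a * (1 + a * b))⁻¹ := by
      have hbc : b * c = 1 + a * b := by rw [hc, hb', mul_add, mul_inv_cancel₀ hb, mul_comm b a]
      rw [ha', show c⁻¹ = b * (1 + a * b)⁻¹ by rw [← hbc]; field_simp]
      field_simp
      linear_combination (CharTwo.two_eq_zero (R := K)) * (a * b)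
    rw [h1, show a + a * a * b = a * (1 + a * b) by ring]
    exact inv_mul_cancel₀ (mul_ne_zero ha hab')
  have e := scal_inv ρ h2 h3 hd
  rw [scal_add ρ h2 h3 a] at e
  have hA := scal_inv ρ h2 h3 (show a' * a = 1 by rw [ha', inv_mul_cancel₀ ha])
  have hB := scal_inv ρ h2 h3 (show b' * b = 1 by rw [hb', inv_mul_cancel₀ hb])
  have hC := scal_inv ρ h2 h3 (inv_mul_cancel₀ hc0)
  have e' : scal ρ (a' + c⁻¹) * (scal ρ a + scal ρ a * scal ρ a * scal ρ b) = 1 := by
    have hx : scal ρ a + scal ρ a * scal ρ a * scal ρ b = scal ρ a * (scal ρ b * scal ρ c) := by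
      rw [hc, scal_add ρ h2 h3, mul_add (scal ρ b), scal_comm ρ h2 h3 b b', hB, mul_add, mul_one,
        scal_comm ρ h2 h3 b a, ← mul_assoc]
    have hcm : ∀ x y : K, Commute (scal ρ x) (scal ρ y) := scal_comm ρ h2 h3
    have t1 : scal ρ a' * (scal ρ a * scal ρ a * scal ρ b) = scal ρ a * scal ρ b := by
      rw [← mul_assoc, ← mul_assoc, hA, one_mul]
    have t2 : scal ρ c⁻¹ * (scal ρ a * (scal ρ b * scal ρ c)) = scal ρ a * scal ρ b := by
      rw [← mul_assoc (scal ρ a), ← mul_assoc, ((hcm c⁻¹ a).mul_right (hcm c⁻¹ b)).eq, mul_assoc, hC, mul_one]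
    rw [scal_add ρ h2 h3, add_mul]
    conv_lhs => arg 2; rw [hx]
    rw [mul_add, hA, t1, t2, add_assoc, h2, add_zero]
  have key : ∀ x : R, scal ρ (a + a * a * b) * scal ρ (a' + c⁻¹) = 1 →
      scal ρ (a' + c⁻¹) * x = 1 → x = scal ρ (a + a * a * b) := fun x h h' => by
    calc x = scal ρ (a + a * a * b) * scal ρ (a' + c⁻¹) * x := by rw [h, one_mul]
      _ = _ := by rw [mul_assoc, h', mul_one]
  have hfin := key _ (by rw [scal_comm ρ h2 h3]; exact scal_inv ρ h2 h3 hd) e'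
  rw [scal_add ρ h2 h3] at hfin
  exact (add_left_cancel hfin).symm

/-- The scalar map as a ring homomorphism. -/
def scalHom : K →+* R where
  toFun := scal ρ
  map_zero' := by simp [scal, nU, u₂_zero, h2]
  map_one' := scal_one ρ h2 h3
  map_add' := scal_add ρ h2 h3
  map_mul' a b := by
    obtain ⟨d, rfl⟩ := exists_sq a
    rw [scal_sq_mul ρ h2 h3, scal_sq ρ h2 h3]

end Ring

/-- A module of exponent two annihilated by `g² + g + 1` for all `g` of trace one is a sum of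
natural modules. -/
theorem exists_coord {V : Type*} [AddCommGroup V] [Finite V] (h2 : ∀ v : V, v + v = 0)
    (ρ : Matrix.SpecialLinearGroup (Fin 2) K →* AddMonoid.End V)
    (h3 : ∀ g : Matrix.SpecialLinearGroup (Fin 2) K, Matrix.trace (g : Matrix (Fin 2) (Fin 2) K) = 1 →
      ∀ v : V, ρ g (ρ g v) + ρ g v + v = 0) :
    ∃ (d : ℕ) (e : (Fin d → Fin 2 → K) ≃+ V), ∀ (g : Matrix.SpecialLinearGroup (Fin 2) K) f,
      e (fun i => (g : Matrix (Fin 2) (Fin 2) K).mulVec (f i)) = ρ g (e f) := by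
  have e2 : ∀ x : AddMonoid.End V, x + x = 0 := fun x => AddMonoidHom.ext fun v => h2 (x v)
  have e3 : ∀ g : Matrix.SpecialLinearGroup (Fin 2) K, Matrix.trace (g : Matrix (Fin 2) (Fin 2) K) = 1 →
      ρ g * ρ g + ρ g + 1 = 0 := fun g hg => AddMonoidHom.ext fun v => h3 g hg v
  obtain ⟨Φ, hΦ⟩ : ∃ Φ, Φ = scalHom ρ e2 e3 := ⟨_, rfl⟩
  have hΦa : ∀ a, Φ a = scal ρ a := fun a => hΦ ▸ rfl
  letI : Module K V := Module.compHom V Φ
  obtain ⟨N, hN⟩ : ∃ N, N = nU ρ 1 := ⟨_, rfl⟩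
  obtain ⟨M, hM⟩ : ∃ M, M = nL ρ 1 := ⟨_, rfl⟩
  have hsm : ∀ (a : K) (v : V), a • v = Φ a v := fun _ _ => rfl
  have hNl : ∀ (a : K) (v : V), N (a • v) = a • N v := fun a v =>
    congrArg (fun T : AddMonoid.End V => T v) (by
      show N * Φ a = Φ a * N
      rw [hΦa, hN, (scal_nU ρ e2 e3 a).1, (scal_nU ρ e2 e3 a).2])
  have hMl : ∀ (a : K) (v : V), M (a • v) = a • M v := fun a v =>
    congrArg (fun T : AddMonoid.End V => T v) (by
      show M * Φ a = Φ a * M
      rw [hΦa, hM, (scal_nL ρ e2 e3 a).1, (scal_nL ρ e2 e3 a).2])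
  let X : Submodule K V :=
    { carrier := {v | N v = 0}
      zero_mem' := map_zero N
      add_mem' := fun {x y} hx hy => by
        show N (x + y) = 0
        rw [map_add, show N x = 0 from hx, show N y = 0 from hy, add_zero]
      smul_mem' := fun a v hv => by
        show N (a • v) = 0
        rw [hNl, show N v = 0 from hv, smul_zero] }
  have hNN : ∀ v, N (N v) = 0 := fun v =>
    congrArg (fun T : AddMonoid.End V => T v) (show N * N = 0 from hN ▸ nU_sq ρ e2 1)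
  have hMM : ∀ v, M (M v) = 0 := fun v =>
    congrArg (fun T : AddMonoid.End V => T v) (show M * M = 0 from hM ▸ nL_sq ρ e2 1)
  have hp : ∀ v, N (M v) + M (N v) = v := fun v =>
    congrArg (fun T : AddMonoid.End V => T v)
      (show N * M + M * N = 1 from hN ▸ hM ▸ pair ρ e2 e3 (one_mul 1))
  have hfix : ∀ x : X, N (M (x : V)) = (x : V) := fun x => by
    have h := hp (x : V)
    rwa [show N (x : V) = 0 from x.2, map_zero, add_zero] at h
  let T : (X × X) ≃+ V :=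
    { toFun := fun p => (p.1 : V) + M (p.2 : V)
      invFun := fun v => (⟨N (M v), hNN _⟩, ⟨N v, hNN _⟩)
      left_inv := fun p => by
        refine Prod.ext (Subtype.ext ?_) (Subtype.ext ?_)
        · show N (M ((p.1 : V) + M (p.2 : V))) = p.1
          rw [map_add M, hMM, add_zero, hfix]
        · show N ((p.1 : V) + M (p.2 : V)) = p.2
          rw [map_add N, show N (p.1 : V) = 0 from p.1.2, zero_add, hfix]
      right_inv := fun v => hp v
      map_add' := fun p q => by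
        show (p.1 : V) + q.1 + M ((p.2 : V) + q.2) = _
        rw [map_add M]; abel }
  obtain ⟨b⟩ : Nonempty (Module.Basis (Fin (Module.finrank K X)) K X) := ⟨Module.finBasis K X⟩
  let C : (Fin (Module.finrank K X) → Fin 2 → K) ≃+ (X × X) :=
    { toFun := fun f => (b.equivFun.symm (fun i => f i 0), b.equivFun.symm (fun i => f i 1))
      invFun := fun p i => ![b.equivFun p.1 i, b.equivFun p.2 i]
      left_inv := fun f => by
        funext i j
        fin_cases j <;> simp [LinearEquiv.apply_symm_apply, -Module.Basis.equivFun_symm_apply]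
      right_inv := fun p => Prod.ext (b.equivFun.symm_apply_apply p.1) (b.equivFun.symm_apply_apply p.2)
      map_add' := fun f f' => Prod.ext
        (map_add b.equivFun.symm (fun i => f i 0) (fun i => f' i 0))
        (map_add b.equivFun.symm (fun i => f i 1) (fun i => f' i 1)) }
  refine ⟨_, C.trans T, ?_⟩
  suffices h : ∀ g : Matrix.SpecialLinearGroup (Fin 2) K, g ∈ Subgroup.closure (Set.range (u₂ (F := K)) ∪ Set.range (l₂ (F := K))) → ∀ f,
      (C.trans T) (fun i => (g : Matrix (Fin 2) (Fin 2) K).mulVec (f i)) = ρ g ((C.trans T) f) from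
    fun g => h g ((gen₂ (F := K)).symm ▸ Subgroup.mem_top g)
  intro g hg
  induction hg using Subgroup.closure_induction with
  | mem g hg =>
    intro f
    have hC : ∀ f', (C.trans T) f' = (b.equivFun.symm (fun i => f' i 0) : V) +
        M (b.equivFun.symm (fun i => f' i 1) : V) := fun f' => rfl
    obtain ⟨x, hx⟩ : ∃ x, x = b.equivFun.symm (fun i => f i 0) := ⟨_, rfl⟩
    obtain ⟨y, hy⟩ : ∃ y, y = b.equivFun.symm (fun i => f i 1) := ⟨_, rfl⟩
    rcases hg with ⟨a, rfl⟩ | ⟨a, rfl⟩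
    · have e : b.equivFun.symm (fun i => f i 0 + a * f i 1) = x + a • y := by
        rw [hx, hy, ← map_smul, ← map_add]; rfl
      rw [hC, hC, ← hx, ← hy]
      have hv : ∀ i, (u₂ a : Matrix (Fin 2) (Fin 2) K).mulVec (f i) = ![f i 0 + a * f i 1, f i 1] := fun i => by
        rw [u₂_coe]; ext j; fin_cases j <;> simp [Matrix.mulVec, dotProduct, Fin.sum_univ_two]
      simp only [hv, Matrix.cons_val_zero, Matrix.cons_val_one]
      rw [e, ← hy, rho_u ρ e2, ← (scal_nU ρ e2 e3 a).1, ← hN, ← hΦa]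
      show _ = (x : V) + M (y : V) + Φ a (N ((x : V) + M (y : V)))
      rw [map_add N, show N (x : V) = 0 from x.2, zero_add, hfix, ← hsm, Submodule.coe_add, Submodule.coe_smul]
      abel
    · have e : b.equivFun.symm (fun i => a * f i 0 + f i 1) = a • x + y := by
        rw [hx, hy, ← map_smul, ← map_add]; rfl
      rw [hC, hC, ← hx, ← hy]
      have hv : ∀ i, (l₂ a : Matrix (Fin 2) (Fin 2) K).mulVec (f i) = ![f i 0, a * f i 0 + f i 1] := fun i => by
        rw [l₂_coe]; ext j; fin_cases j <;> simp [Matrix.mulVec, dotProduct, Fin.sum_univ_two]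
      simp only [hv, Matrix.cons_val_zero, Matrix.cons_val_one]
      rw [e, ← hx, rho_l ρ e2, ← (scal_nL ρ e2 e3 a).1, ← hM, ← hΦa]
      show _ = (x : V) + M (y : V) + Φ a (M ((x : V) + M (y : V)))
      rw [map_add M (x : V) (M (y : V)), hMM, add_zero, ← hsm, ← hMl, Submodule.coe_add, Submodule.coe_smul,
        map_add M, hMl]
      abel
  | one => intro f; simp
  | mul g h _ _ ihg ihh =>
    intro f
    rw [map_mul, Matrix.SpecialLinearGroup.coe_mul]
    simp only [← Matrix.mulVec_mulVec]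
    rw [ihg, ihh]
    rfl
  | inv g _ ih =>
    intro f
    have h := ih (fun i => (g⁻¹ : Matrix.SpecialLinearGroup (Fin 2) K).1.mulVec (f i))
    simp only [Matrix.mulVec_mulVec, ← Matrix.SpecialLinearGroup.coe_mul, mul_inv_cancel,
      Matrix.SpecialLinearGroup.coe_one, Matrix.one_mulVec] at h
    rw [h]
    show _ = (ρ g⁻¹ * ρ g) _
    rw [← map_mul, inv_mul_cancel, map_one]
    rfl

end Cfsg.Agent.NatRecog
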