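import Mathlib
import Cfsg.Prelude.Def_Transfer
import Cfsg.Agent.Lib.LocalEven.NaturalRecognition
import Cfsg.Agent.Lib.Solv.Basic

/-!
# Extensions of a 2-group by `SL₂(2ⁿ)` with a fixed-point-free element of order three
-/

set_option autoImplicit false

universe u

open Matrix
open scoped commutatorElement

namespace Cfsg.Agent.NatExt

open Cfsg.Agent.Classical.SL2Rel (u₂ l₂)
open Cfsg.Agent.NatRecog

variable {K : Type*} [Field K] [Finite K] [CharP K 2]

local notation "SL" => Matrix.SpecialLinearGroup (Fin 2) K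

/-- The companion matrix of `X² + X + 1`. -/
def comp3 : SL := ⟨!![0, 1; 1, 1], by simp [Matrix.det_fin_two, CharTwo.neg_eq]⟩

theorem cayley (g : SL) : (g : Matrix (Fin 2) (Fin 2) K) * g =
    Matrix.trace (g : Matrix (Fin 2) (Fin 2) K) • (g : Matrix (Fin 2) (Fin 2) K) + 1 := by
  have h := g.2
  rw [Matrix.det_fin_two, CharTwo.sub_eq_add] at h
  ext i j
  fin_cases i <;> fin_cases j <;> simp [Matrix.mul_apply, Fin.sum_univ_two, Matrix.trace_fin_two] <;>
    grind

theorem trace_of_order {g : SL} (h : g * g * g = 1) (h1 : g ≠ 1) :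
    Matrix.trace (g : Matrix (Fin 2) (Fin 2) K) = 1 := by
  obtain ⟨t, ht⟩ : ∃ t, t = Matrix.trace (g : Matrix (Fin 2) (Fin 2) K) := ⟨_, rfl⟩
  rw [← ht]
  by_contra hne
  have hc := cayley g
  rw [← ht] at hc
  have h' := congrArg (fun M : SL => (M : Matrix (Fin 2) (Fin 2) K)) h
  simp only [Matrix.SpecialLinearGroup.coe_mul, Matrix.SpecialLinearGroup.coe_one] at h'
  rw [hc, add_mul, smul_mul_assoc, hc, one_mul, smul_add, smul_smul] at h'
  have hu : t * t + 1 ≠ 0 := fun h0 => hne (by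
    have : (t + 1) ^ 2 = 0 := by rw [CharTwo.add_sq, one_pow, pow_two, h0]
    exact CharTwo.add_eq_zero.1 (pow_eq_zero_iff two_ne_zero |>.1 this))
  have e : ∀ i j, (t * t + 1) * (g : Matrix (Fin 2) (Fin 2) K) i j =
      (1 + t) * (1 : Matrix (Fin 2) (Fin 2) K) i j := by
    intro i j
    have := congrFun (congrFun h' i) j
    simp only [Matrix.add_apply, Matrix.smul_apply, smul_eq_mul] at this
    linear_combination this - (CharTwo.two_eq_zero (R := K)) * (t * (1 : Matrix (Fin 2) (Fin 2) K) i j)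
  have hd := g.2
  rw [Matrix.det_fin_two, CharTwo.sub_eq_add] at hd
  have e00 := e 0 0; have e01 := e 0 1; have e10 := e 1 0; have e11 := e 1 1
  simp at e00 e01 e10 e11
  have b0 : (g : Matrix (Fin 2) (Fin 2) K) 0 1 = 0 := e01.resolve_left hu
  have c0 : (g : Matrix (Fin 2) (Fin 2) K) 1 0 = 0 := e10.resolve_left hu
  have d0 : (g : Matrix (Fin 2) (Fin 2) K) 1 1 = (g : Matrix (Fin 2) (Fin 2) K) 0 0 :=
    mul_left_cancel₀ hu (e11.trans e00.symm)
  rw [b0, c0, d0, mul_zero, add_zero, ← pow_two] at hd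
  have a1 : (g : Matrix (Fin 2) (Fin 2) K) 0 0 = 1 := CharTwo.sq_injective (hd.trans (one_pow 2).symm)
  refine h1 (Subtype.ext ?_)
  ext i j
  fin_cases i <;> fin_cases j <;> simp [a1, b0, c0, d0]

theorem exists_conj {g : SL} (h : Matrix.trace (g : Matrix (Fin 2) (Fin 2) K) = 1) :
    ∃ k : SL, g * k = k * comp3 := by
  rw [Matrix.trace_fin_two] at h
  have hd := g.2
  rw [Matrix.det_fin_two, CharTwo.sub_eq_add] at hd
  obtain ⟨x, y, hxy⟩ : ∃ x y : K, x * ((g : Matrix (Fin 2) (Fin 2) K) 1 0 * x +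
      (g : Matrix (Fin 2) (Fin 2) K) 1 1 * y) + y * ((g : Matrix (Fin 2) (Fin 2) K) 0 0 * x +
      (g : Matrix (Fin 2) (Fin 2) K) 0 1 * y) ≠ 0 := by
    by_contra hc
    push_neg at hc
    have h1 := hc 1 0
    have h2 := hc 0 1
    have h3 := hc 1 1
    simp at h1 h2 h3
    rw [h1, h2, zero_add, add_zero, add_comm] at h3
    exact one_ne_zero (h.symm.trans h3)
  obtain ⟨μ, hμ⟩ := exists_sq (x * ((g : Matrix (Fin 2) (Fin 2) K) 1 0 * x +
      (g : Matrix (Fin 2) (Fin 2) K) 1 1 * y) + y * ((g : Matrix (Fin 2) (Fin 2) K) 0 0 * x +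
      (g : Matrix (Fin 2) (Fin 2) K) 0 1 * y))⁻¹
  obtain ⟨D, hD⟩ : ∃ D, D = x * ((g : Matrix (Fin 2) (Fin 2) K) 1 0 * x +
      (g : Matrix (Fin 2) (Fin 2) K) 1 1 * y) + y * ((g : Matrix (Fin 2) (Fin 2) K) 0 0 * x +
      (g : Matrix (Fin 2) (Fin 2) K) 0 1 * y) := ⟨_, rfl⟩
  rw [← hD] at hxy hμ
  have hμD : μ * μ * D = 1 := by rw [hμ, inv_mul_cancel₀ hxy]
  obtain ⟨k, hk⟩ : ∃ k : SL, (k : Matrix (Fin 2) (Fin 2) K) = !![μ * x, μ * ((g : Matrix (Fin 2) (Fin 2) K) 0 0 * x + (g : Matrix (Fin 2) (Fin 2) K) 0 1 * y);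
    μ * y, μ * ((g : Matrix (Fin 2) (Fin 2) K) 1 0 * x + (g : Matrix (Fin 2) (Fin 2) K) 1 1 * y)] := by
    refine ⟨⟨_, ?_⟩, rfl⟩
    rw [Matrix.det_fin_two_of, CharTwo.sub_eq_add]
    linear_combination hμD - μ * μ * hD
  refine ⟨k, ?_⟩
  · apply Subtype.ext
    rw [Matrix.SpecialLinearGroup.coe_mul, Matrix.SpecialLinearGroup.coe_mul, hk]
    ext i j
    fin_cases i <;> fin_cases j <;> simp [comp3, Matrix.mul_apply, Fin.sum_univ_two] <;> grind

/-- Componentwise action on tuples of vectors. -/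
def act {d : ℕ} (g : SL) (f : Fin d → Fin 2 → K) : Fin d → Fin 2 → K :=
  fun i => (g : Matrix (Fin 2) (Fin 2) K).mulVec (f i)

/-- Vectors in the first line. -/
def px {d : ℕ} (x : Fin d → K) : Fin d → Fin 2 → K := fun i => ![x i, 0]

/-- Vectors in the second line. -/
def py {d : ℕ} (x : Fin d → K) : Fin d → Fin 2 → K := fun i => ![0, x i]

theorem px_add_py {d : ℕ} (f : Fin d → Fin 2 → K) : px (fun i => f i 0) + py (fun i => f i 1) = f := by
  funext i j
  fin_cases j <;> simp [px, py]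

theorem act_u_px {d : ℕ} (b : K) (x : Fin d → K) : act (u₂ b) (px x) = px x := by
  funext i j
  rw [act, u₂_coe]
  fin_cases j <;> simp [px, Matrix.mulVec, dotProduct, Fin.sum_univ_two]

theorem act_u_py {d : ℕ} (b : K) (x : Fin d → K) : act (u₂ b) (py x) = px (b • x) + py x := by
  funext i j
  rw [act, u₂_coe]
  fin_cases j <;> simp [px, py, Matrix.mulVec, dotProduct, Fin.sum_univ_two]

theorem act_weyl_px {d : ℕ} (x : Fin d → K) : act (weyl 1) (px x) = py x := by
  funext i j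
  rw [act, weyl_coe one_ne_zero]
  fin_cases j <;> simp [px, py, Matrix.mulVec, dotProduct, Fin.sum_univ_two]

theorem act_weyl_py {d : ℕ} (x : Fin d → K) : act (weyl 1) (py x) = px x := by
  funext i j
  rw [act, weyl_coe one_ne_zero]
  fin_cases j <;> simp [px, py, Matrix.mulVec, dotProduct, Fin.sum_univ_two]

theorem act_torus_px {d : ℕ} {t : K} (ht : t ≠ 0) (x : Fin d → K) :
    act (weyl t * weyl 1) (px x) = px (t • x) := by
  funext i j
  rw [act, Matrix.SpecialLinearGroup.coe_mul, weyl_coe one_ne_zero, weyl_coe ht]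
  fin_cases j <;> simp [px, Matrix.mulVec, dotProduct, Matrix.mul_apply, Fin.sum_univ_two]

theorem act_u_apply {d : ℕ} (b : K) (f : Fin d → Fin 2 → K) (i : Fin d) :
    act (u₂ b) f i 0 = f i 0 + b * f i 1 ∧ act (u₂ b) f i 1 = f i 1 := by
  rw [act, u₂_coe]
  constructor <;> simp [Matrix.mulVec, dotProduct, Fin.sum_univ_two]

/-- An equivariant symmetric biadditive map between natural modules vanishes. -/
theorem bilin_eq_zero (a : K) (ha0 : a ≠ 0) (ha1 : a ≠ 1) {d m : ℕ}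
    (B : (Fin d → Fin 2 → K) → (Fin d → Fin 2 → K) → (Fin m → Fin 2 → K))
    (hl : ∀ f f' w, B (f + f') w = B f w + B f' w) (hs : ∀ f w, B f w = B w f)
    (he : ∀ g f w, B (act g f) (act g w) = act g (B f w)) : ∀ f w, B f w = 0 := by
  have hr : ∀ f w w', B f (w + w') = B f w + B f w' := fun f w w' => by
    rw [hs, hl, hs w, hs w']
  have f2 : ∀ x y j, B (px x) (px y) j 1 = 0 := by
    intro x y j
    have h := congrFun (congrFun (he (u₂ 1) (px x) (px y)) j) 0
    rw [act_u_px, act_u_px, (act_u_apply 1 _ j).1, one_mul] at h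
    exact left_eq_add.1 h
  have f1 : ∀ x y b j, B (px x) (px (b • y)) j 0 = b * B (px x) (py y) j 1 := by
    intro x y b j
    have h := congrFun (congrFun (he (u₂ b) (px x) (py y)) j) 0
    rw [act_u_px, act_u_py, hr, (act_u_apply b _ j).1, Pi.add_apply, Pi.add_apply] at h
    rw [add_comm (B (px x) (py y) j 0)] at h
    exact add_right_cancel h
  have lin : ∀ x y b j, B (px x) (px (b • y)) j 0 = b * B (px x) (px y) j 0 := by
    intro x y b j
    have := f1 x y 1 j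
    rw [one_smul, one_mul] at this
    rw [f1, this]
  have hxx : ∀ x y, B (px x) (px y) = 0 := by
    intro x y
    funext j i
    fin_cases i
    · have h := congrFun (congrFun (he (weyl a * weyl 1) (px x) (px y)) j) 0
      rw [act_torus_px ha0, act_torus_px ha0, lin, hs, lin, hs] at h
      have e : act (weyl a * weyl 1) (B (px x) (px y)) j 0 = a * B (px x) (px y) j 0 := by
        rw [act, Matrix.SpecialLinearGroup.coe_mul, weyl_coe one_ne_zero, weyl_coe ha0]
        simp [Matrix.mulVec, dotProduct, Matrix.mul_apply, Fin.sum_univ_two]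
      rw [e, ← mul_assoc] at h
      by_contra hne
      exact ha1 (mul_left_cancel₀ ha0 ((mul_right_cancel₀ hne h).trans (mul_one a).symm))
    · exact f2 x y j
  have hyy : ∀ x y, B (py x) (py y) = 0 := by
    intro x y
    rw [← act_weyl_px x, ← act_weyl_px y, he, hxx]
    funext i
    exact Matrix.mulVec_zero _
  have g2 : ∀ x y j, B (px x) (py y) j 1 = 0 := by
    intro x y j
    have h := f1 x y 1 j
    rw [hxx, one_mul] at h
    exact h.symm
  have hxy : ∀ x y, B (px x) (py y) = 0 := by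
    intro x y
    funext j i
    fin_cases i
    · have h := congrFun (congrFun (he (weyl 1) (px x) (py y)) j) 1
      rw [act_weyl_px, act_weyl_py, hs, g2] at h
      rw [act, weyl_coe one_ne_zero] at h
      simp [Matrix.mulVec, dotProduct, Fin.sum_univ_two] at h
      exact h.symm
    · exact g2 x y j
  intro f w
  rw [← px_add_py f, ← px_add_py w, hl, hr, hr, hxx, hxy, hyy, hs (py _), hxy]
  simp

/-- Iterating a twisted linearity relation. -/
theorem twisted_linear (a : K) {d m : ℕ} (τ β : (Fin d → K) → (Fin m → K))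
    (hτ : ∀ (b : K) x, τ (b • x) = b • τ x)
    (h : ∀ x, β (a • x) + a • β x = (a * a + a) • τ x) : (a * a + a) • τ = 0 := by
  have hβ : ∀ x, β ((a * a) • x) = (a * a) • β x := by
    intro x
    funext j
    have h1 := congrFun (h x) j
    have h2 := congrFun (h (a • x)) j
    rw [smul_smul, hτ] at h2
    simp only [Pi.add_apply, Pi.smul_apply, smul_eq_mul] at h1 h2 ⊢
    have : (2 : K) = 0 := CharTwo.two_eq_zero
    linear_combination h2 - a * h1 + this * (0 : K)
  have hp : ∀ k x, β ((a * a) ^ k • x) = (a * a) ^ k • β x := by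
    intro k
    induction k with
    | zero => simp
    | succ k ih => intro x; rw [pow_succ, ← smul_smul, ih, hβ, smul_smul]
  haveI := Fintype.ofFinite K
  obtain ⟨k, hk⟩ : ∃ k, (a * a) ^ k = a := by
    obtain ⟨n, hp2, hn⟩ := FiniteField.card K 2
    refine ⟨2 ^ ((n : ℕ) - 1), ?_⟩
    rw [← pow_two, ← pow_mul, ← pow_succ', Nat.sub_add_cancel n.pos, ← hn, FiniteField.pow_card]
  funext x
  have := h x
  rw [← hk, hp, hk] at this
  rw [Pi.smul_apply, ← this]
  funext j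
  simp [CharTwo.add_self_eq_zero]

variable {G : Type u} [Group G] [Finite G]

/-- Fixed-point-freeness passes to quotients. -/
theorem mem_of_fixed_mod {Q N : Subgroup G} [N.Normal] (hN : N ≤ Q) {x : G}
    (hf : ∀ q ∈ Q, x * q * x⁻¹ = q → q = 1) {q : G} (hq : q ∈ Q) (h : x * q * x⁻¹ * q⁻¹ ∈ N) :
    q ∈ N := by
  let c : N → N := fun n => ⟨x * n * x⁻¹ * (n : G)⁻¹,
    N.mul_mem (Subgroup.Normal.conj_mem inferInstance _ n.2 x) (N.inv_mem n.2)⟩
  have key : ∀ u ∈ Q, ∀ v ∈ Q, x * u * x⁻¹ * u⁻¹ = x * v * x⁻¹ * v⁻¹ → u = v := by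
    intro u hu v hv he
    refine (inv_mul_eq_one.1 (hf _ (mul_mem (inv_mem hv) hu) ?_)).symm
    calc x * (v⁻¹ * u) * x⁻¹ = (x * v * x⁻¹)⁻¹ * (x * u * x⁻¹ * u⁻¹) * u := by group
      _ = v⁻¹ * u := by rw [he]; group
  obtain ⟨n, hn⟩ := (Finite.injective_iff_surjective (f := c)).1
    (fun u v he => Subtype.ext (key _ (hN u.2) _ (hN v.2) (congrArg Subtype.val he))) ⟨_, h⟩
  rw [← key _ (hN n.2) _ hq (congrArg Subtype.val hn)]
  exact n.2

set_option maxHeartbeats 1000000 in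
/-- A natural-module coordinate system on an elementary abelian normal section. -/
theorem exists_coord (π : G →* SL) (hπ : Function.Surjective π) {x : G} (hx : π x ≠ 1)
    (hx3 : π x * π x * π x = 1) (hx3' : x * x * x = 1) (A : Subgroup G) [A.Normal]
    (hA : Cfsg.IsElementaryAbelian 2 A) (htriv : ∀ q ∈ π.ker, ∀ v ∈ A, q * v = v * q)
    (hfpf : ∀ v ∈ A, x * v * x⁻¹ = v → v = 1) :
    ∃ (d : ℕ) (e : (Fin d → Fin 2 → K) → G), Function.Injective e ∧ Set.range e = (A : Set G) ∧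
      (∀ f f', e (f + f') = e f * e f') ∧ ∀ g f, g * e f * g⁻¹ = e (act (π g) f) := by
  have hc : ∀ v w : A, v * w = w * v := fun v w => hA.1.1.comm v w
  letI : CommGroup A := { (inferInstance : Group A) with mul_comm := hc }
  let c : G →* MulAut A := MulAut.conjNormal
  let toEnd : MulAut A →* AddMonoid.End (Additive A) :=
    { toFun := fun φ => MonoidHom.toAdditive φ.toMonoidHom
      map_one' := rfl
      map_mul' := fun _ _ => rfl }
  have hker : π.ker ≤ c.ker := fun q hq => by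
    refine MonoidHom.mem_ker.2 (MulEquiv.ext fun v => Subtype.ext ?_)
    show q * (v : G) * q⁻¹ = _
    rw [htriv q hq _ v.2, mul_inv_cancel_right]
    rfl
  let ρ : SL →* AddMonoid.End (Additive A) :=
    toEnd.comp (π.liftOfSurjective hπ ⟨c, hker⟩)
  have hρ : ∀ g (v : A), ρ (π g) (Additive.ofMul v) = Additive.ofMul (c g v) := fun g v => by
    have h := MonoidHom.liftOfRightInverse_comp_apply π _ (Function.rightInverse_surjInv hπ) ⟨c, hker⟩ g
    exact congrArg (fun T : MulAut A => Additive.ofMul (T v)) h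
  have h2 : ∀ v : Additive A, v + v = 0 := fun v => by
    refine congrArg Additive.ofMul (Subtype.ext ?_)
    show ((Additive.toMul v : A) : G) * (Additive.toMul v : A) = 1
    rw [← pow_two]
    exact (hA.2 _ (Additive.toMul v : A).2)
  have hsum : ∀ v : Additive A, ρ (π x) (ρ (π x) v) + ρ (π x) v + v = 0 := by
    intro v
    obtain ⟨w, rfl⟩ := Additive.ofMul.surjective v
    rw [hρ, hρ]
    refine congrArg Additive.ofMul (Subtype.ext ?_)
    obtain ⟨t, ht⟩ : ∃ t : A, t = c x (c x w) * c x w * w := ⟨_, rfl⟩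
    show ((c x (c x w) * c x w * w : A) : G) = 1
    rw [← ht]
    refine hfpf _ t.2 ?_
    have e : c x t = t := by
      rw [ht, map_mul, map_mul, show c x (c x (c x w)) = w by
        show (c x * c x * c x) w = w
        rw [← map_mul, ← map_mul, hx3', map_one]; rfl]
      rw [mul_assoc, mul_comm w]
    exact congrArg Subtype.val e
  have h3 : ∀ g : SL, Matrix.trace (g : Matrix (Fin 2) (Fin 2) K) = 1 →
      ∀ v : Additive A, ρ g (ρ g v) + ρ g v + v = 0 := by
    intro g hg v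
    obtain ⟨k, hk⟩ := exists_conj hg
    obtain ⟨k', hk'⟩ := exists_conj (trace_of_order hx3 hx)
    obtain ⟨s, hs⟩ : ∃ s, s = k * k'⁻¹ := ⟨_, rfl⟩
    have hgs : g = s * π x * s⁻¹ := by
      rw [hs, eq_mul_inv_iff_mul_eq, ← mul_assoc, hk, mul_assoc, mul_assoc]
      congr 1
      rw [eq_inv_mul_iff_mul_eq, ← mul_assoc, ← hk', mul_inv_cancel_right]
    obtain ⟨w, rfl⟩ : ∃ w, ρ s w = v := ⟨ρ s⁻¹ v, by
      show (ρ s * ρ s⁻¹) v = v
      rw [← map_mul, mul_inv_cancel, map_one]; rfl⟩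
    have e : ∀ z, ρ g (ρ s z) = ρ s (ρ (π x) z) := fun z => by
      show (ρ g * ρ s) z = (ρ s * ρ (π x)) z
      rw [← map_mul, ← map_mul, hgs, inv_mul_cancel_right]
    rw [e, e, ← map_add, ← map_add, hsum, map_zero]
  obtain ⟨d, e, he⟩ := NatRecog.exists_coord h2 ρ h3
  refine ⟨d, fun f => ((Additive.toMul (e f) : A) : G), ?_, ?_, ?_, ?_⟩
  · exact fun f f' h => e.injective (Additive.toMul.injective (Subtype.ext h))
  · ext y
    refine ⟨?_, fun hy => ⟨e.symm (Additive.ofMul ⟨y, hy⟩), by simp⟩⟩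
    rintro ⟨f, rfl⟩
    exact (Additive.toMul (e f) : A).2
  · intro f f'
    show ((Additive.toMul (e (f + f')) : A) : G) = _
    rw [map_add]
    rfl
  · intro g f
    show _ = ((Additive.toMul (e (act (π g) f)) : A) : G)
    rw [show e (act (π g) f) = ρ (π g) (e f) from he (π g) f]
    rw [← Additive.ofMul.apply_symm_apply (e f), hρ]
    rfl

set_option maxHeartbeats 2000000 in
theorem induction_step (a : K) (ha0 : a ≠ 0) (ha1 : a ≠ 1) (π : G →* SL) (hπ : Function.Surjective π)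
    {x : G} (hx : π x ≠ 1) (hx3' : x * x * x = 1) (N : Subgroup G) [N.Normal]
    (hNQ : N ≤ π.ker) (hN : Cfsg.IsElementaryAbelian 2 N) (hcen : ∀ q ∈ π.ker, ∀ v ∈ N, q * v = v * q)
    (hfpf : ∀ q ∈ π.ker, x * q * x⁻¹ = q → q = 1)
    (hquot : Cfsg.IsElementaryAbelian 2 (π.ker.map (QuotientGroup.mk' N))) :
    Cfsg.IsElementaryAbelian 2 π.ker := by
  have hx3 : π x * π x * π x = 1 := by rw [← map_mul, ← map_mul, hx3', map_one]
  obtain ⟨m, eN, hNinj, hNr, hNadd, hNact⟩ := exists_coord π hπ hx hx3 hx3' N hN hcen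
    fun v hv => hfpf v (hNQ hv)
  let πb : G ⧸ N →* SL := QuotientGroup.lift N π hNQ
  have hker : πb.ker = π.ker.map (QuotientGroup.mk' N) := by
    ext z
    obtain ⟨y, rfl⟩ := QuotientGroup.mk_surjective z
    constructor
    · exact fun h => ⟨y, h, rfl⟩
    · rintro ⟨y', hy', he⟩
      show πb (y : G ⧸ N) = 1
      rw [← he]
      exact hy'
  obtain ⟨d, eV, hVinj, hVr, hVadd, hVact⟩ := exists_coord πb
    (fun s => ⟨(hπ s).choose, (hπ s).choose_spec⟩) (x := (x : G ⧸ N)) hx hx3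
    (by rw [← QuotientGroup.mk_mul, ← QuotientGroup.mk_mul, hx3']; rfl) πb.ker
    (hker ▸ hquot) (fun q hq v hv => congrArg Subtype.val ((hker ▸ hquot).1.1.comm ⟨q, hq⟩ ⟨v, hv⟩))
    (fun v hv he => by
      rw [hker] at hv
      obtain ⟨y, hy, rfl⟩ := hv
      refine (QuotientGroup.eq_one_iff y).2 (mem_of_fixed_mod hNQ hfpf hy ?_)
      rw [← QuotientGroup.eq_one_iff]
      show ((x : G ⧸ N) * (y : G ⧸ N) * (x : G ⧸ N)⁻¹) * (y : G ⧸ N)⁻¹ = 1
      rw [show (x : G ⧸ N) * (y : G ⧸ N) * (x : G ⧸ N)⁻¹ = (y : G ⧸ N) from he, mul_inv_cancel])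
  have hex : ∀ f, ∃ q : G, q ∈ π.ker ∧ (q : G ⧸ N) = eV f := fun f => by
    have h : eV f ∈ (πb.ker : Set (G ⧸ N)) := hVr ▸ ⟨f, rfl⟩
    rw [hker] at h
    obtain ⟨q, hq, he⟩ := h
    exact ⟨q, hq, he⟩
  choose s hsQ hsV using hex
  -- every element of the kernel is a lift times an element of `N`
  have hdec : ∀ q ∈ π.ker, ∃ f, ∃ n ∈ N, q = s f * n := by
    intro q hq
    have h : (q : G ⧸ N) ∈ (πb.ker : Set (G ⧸ N)) := by
      show πb (q : G ⧸ N) = 1
      exact hq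
    rw [← hVr] at h
    obtain ⟨f, hf⟩ := h
    refine ⟨f, (s f)⁻¹ * q, ?_, (mul_inv_cancel_left _ _).symm⟩
    rw [← QuotientGroup.eq, hsV, hf]
  have hNe : ∀ v ∈ N, ∃ w, eN w = v := fun v hv => by
    have h : v ∈ Set.range eN := hNr ▸ hv
    exact h
  have hNm : ∀ w, eN w ∈ N := fun w => by
    have h : eN w ∈ (N : Set G) := hNr ▸ ⟨w, rfl⟩
    exact h
  have hNc : ∀ q ∈ π.ker, ∀ n ∈ N, q * n = n * q := hcen
  have hQ2 : ∀ q ∈ π.ker, ∀ r ∈ π.ker, ⁅q, r⁆ ∈ N := fun q hq r hr => by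
    rw [← QuotientGroup.eq_one_iff]
    show ⁅(q : G ⧸ N), (r : G ⧸ N)⁆ = 1
    rw [commutatorElement_eq_one_iff_mul_comm]
    exact congrArg Subtype.val (hquot.1.1.comm ⟨_, q, hq, rfl⟩ ⟨_, r, hr, rfl⟩)
  -- the commutator map
  have hB : ∀ f w, ∃ v, eN v = ⁅s f, s w⁆ := fun f w => hNe _ (hQ2 _ (hsQ f) _ (hsQ w))
  choose B hBe using hB
  have hcomm_eq : ∀ q ∈ π.ker, ∀ r ∈ π.ker, ∀ n ∈ N, ∀ n' ∈ N, ⁅q * n, r * n'⁆ = ⁅q, r⁆ := by
    intro q hq r hr n hn n' hn'
    have e1 : ∀ t ∈ π.ker, n * t * n⁻¹ = t := fun t ht => by rw [← hNc t ht n hn, mul_inv_cancel_right]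
    have e2 : ∀ t ∈ π.ker, n' * t * n'⁻¹ = t := fun t ht => by rw [← hNc t ht n' hn', mul_inv_cancel_right]
    calc ⁅q * n, r * n'⁆ = q * (n * (r * n') * n⁻¹) * q⁻¹ * n'⁻¹ * r⁻¹ := by rw [commutatorElement_def]; group
      _ = q * r * (n' * q⁻¹ * n'⁻¹) * r⁻¹ := by rw [e1 _ (mul_mem hr (hNQ hn'))]; group
      _ = ⁅q, r⁆ := by rw [e2 _ (inv_mem hq), commutatorElement_def]
  have hBzero : ∀ f w, B f w = 0 := by
    refine bilin_eq_zero a ha0 ha1 B ?_ ?_ ?_
    · intro f f' w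
      apply hNinj
      rw [hNadd, hBe, hBe, hBe]
      obtain ⟨n, hn, hsn⟩ : ∃ n ∈ N, s (f + f') = s f * s f' * n := by
        refine ⟨(s f * s f')⁻¹ * s (f + f'), ?_, (mul_inv_cancel_left _ _).symm⟩
        rw [← QuotientGroup.eq, QuotientGroup.mk_mul, hsV, hsV, hsV, hVadd]
      have h := hcomm_eq _ (mul_mem (hsQ f) (hsQ f')) _ (hsQ w) n hn 1 N.one_mem
      rw [mul_one, ← hsn] at h
      rw [h]
      have e := hNc _ (hsQ f) _ (hQ2 _ (hsQ f') _ (hsQ w))
      calc ⁅s f * s f', s w⁆ = s f * ⁅s f', s w⁆ * (s f)⁻¹ * ⁅s f, s w⁆ := by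
            simp only [commutatorElement_def]; group
        _ = ⁅s f', s w⁆ * ⁅s f, s w⁆ := by rw [e, mul_inv_cancel_right]
        _ = ⁅s f, s w⁆ * ⁅s f', s w⁆ :=
            (hNc _ (hNQ (hQ2 _ (hsQ f') _ (hsQ w))) _ (hQ2 _ (hsQ f) _ (hsQ w)))
    · intro f w
      apply hNinj
      rw [hBe, hBe, ← commutatorElement_inv (s f) (s w)]
      exact eq_inv_of_mul_eq_one_left (by rw [← pow_two]; exact hN.2 _ (hQ2 _ (hsQ f) _ (hsQ w)))
    · intro g f w
      obtain ⟨y, rfl⟩ := hπ g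
      apply hNinj
      rw [hBe, ← hNact, hBe]
      have hy : ∀ f, ∃ n ∈ N, y * s f * y⁻¹ = s (act (π y) f) * n := fun f => by
        refine ⟨(s (act (π y) f))⁻¹ * (y * s f * y⁻¹), ?_, (mul_inv_cancel_left _ _).symm⟩
        rw [← QuotientGroup.eq, QuotientGroup.mk_mul, QuotientGroup.mk_mul, QuotientGroup.mk_inv, hsV, hsV]
        exact (hVact (y : G ⧸ N) f).symm
      obtain ⟨n, hn, hf'⟩ := hy f
      obtain ⟨n', hn', hw'⟩ := hy w
      rw [← hcomm_eq _ (hsQ _) _ (hsQ _) n hn n' hn', ← hf', ← hw', conjugate_commutatorElement]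
  have hab : ∀ q ∈ π.ker, ∀ r ∈ π.ker, q * r = r * q := by
    intro q hq r hr
    obtain ⟨f, n, hn, rfl⟩ := hdec q hq
    obtain ⟨w, n', hn', rfl⟩ := hdec r hr
    rw [← commutatorElement_eq_one_iff_mul_comm, hcomm_eq _ (hsQ f) _ (hsQ w) n hn n' hn', ← hBe, hBzero]
    have := hNadd 0 0
    rw [add_zero] at this
    exact left_eq_mul.1 this
  -- the squaring map
  have hS : ∀ f, ∃ v, eN v = s f * s f := fun f => hNe _ (by
    rw [← QuotientGroup.eq_one_iff, QuotientGroup.mk_mul, ← pow_two]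
    exact hquot.2 _ ⟨s f, hsQ f, rfl⟩)
  choose σ hσ using hS
  have hN0 : eN 0 = 1 := by
    have := hNadd 0 0
    rw [add_zero] at this
    exact left_eq_mul.1 this
  have hNsq : ∀ n ∈ N, n * n = 1 := fun n hn => by rw [← pow_two]; exact hN.2 n hn
  have hsqN : ∀ q ∈ π.ker, ∀ n ∈ N, q * n * (q * n) = q * q := fun q hq n hn => by
    calc q * n * (q * n) = q * (n * q) * n := by group
      _ = q * q * (n * n) := by rw [← hNc q hq n hn]; group
      _ = q * q := by rw [hNsq n hn, mul_one]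
  have hσadd : ∀ f f', σ (f + f') = σ f + σ f' := by
    intro f f'
    apply hNinj
    rw [hNadd, hσ, hσ, hσ]
    obtain ⟨n, hn, hsn⟩ : ∃ n ∈ N, s (f + f') = s f * s f' * n := by
      refine ⟨(s f * s f')⁻¹ * s (f + f'), ?_, (mul_inv_cancel_left _ _).symm⟩
      rw [← QuotientGroup.eq, QuotientGroup.mk_mul, hsV, hsV, hsV, hVadd]
    rw [hsn, hsqN _ (mul_mem (hsQ f) (hsQ f')) n hn]
    calc s f * s f' * (s f * s f') = s f * (s f' * s f) * s f' := by group
      _ = _ := by rw [hab _ (hsQ f') _ (hsQ f)]; group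
  have hσact : ∀ y f, σ (act (π y) f) = act (π y) (σ f) := by
    intro y f
    apply hNinj
    rw [← hNact, hσ, hσ]
    obtain ⟨n, hn, he⟩ : ∃ n ∈ N, s (act (π y) f) = y * s f * y⁻¹ * n := by
      refine ⟨(y * s f * y⁻¹)⁻¹ * s (act (π y) f), ?_, (mul_inv_cancel_left _ _).symm⟩
      rw [← QuotientGroup.eq, QuotientGroup.mk_mul, QuotientGroup.mk_mul, QuotientGroup.mk_inv, hsV, hsV]
      exact hVact (y : G ⧸ N) f
    rw [he, hsqN _ (by
      have := (inferInstance : π.ker.Normal).conj_mem _ (hsQ f) y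
      exact this) n hn]
    group
  obtain ⟨τ, hτ⟩ : ∃ τ : (Fin d → K) → (Fin m → K), ∀ y i, τ y i = σ (py y) i 1 := ⟨_, fun _ _ => rfl⟩
  have hσx : ∀ (b : K) y, σ (px (b • y)) = px (b • τ y) := by
    intro b y
    obtain ⟨g, hg⟩ := hπ (u₂ b)
    have h := hσact g (py y)
    rw [hg, act_u_py, hσadd] at h
    have h' : σ (px (b • y)) = act (u₂ b) (σ (py y)) + σ (py y) := by
      rw [← h, add_assoc, show σ (py y) + σ (py y) = 0 by funext i j; simp [CharTwo.add_self_eq_zero], add_zero]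
    rw [h']
    funext i j
    fin_cases j <;> simp [act_u_apply, px, hτ, CharTwo.add_self_eq_zero]
    · rw [add_comm, ← add_assoc, CharTwo.add_self_eq_zero, zero_add]
  have hτlin : ∀ (b : K) y, τ (b • y) = b • τ y := by
    intro b y
    have h1 := hσx b y
    have h2 := hσx 1 (b • y)
    rw [one_smul, one_smul] at h2
    funext i
    have := congrFun (congrFun (h2.symm.trans h1) i) 0
    simpa [px] using this
  obtain ⟨g, hg⟩ := hπ (u₂ 1)
  obtain ⟨h, hh⟩ := hπ (u₂ a)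
  -- commutation with the two transvections, as operators on the abelian kernel
  have hQn : ∀ (y : G), ∀ q ∈ π.ker, y * q * y⁻¹ ∈ π.ker := fun y q hq =>
    (inferInstance : π.ker.Normal).conj_mem q hq y
  have hrel : ∀ (y z : G), π y = π z → ∀ q ∈ π.ker, y * q * y⁻¹ = z * q * z⁻¹ := by
    intro y z he q hq
    have hk : z⁻¹ * y ∈ π.ker := by rw [MonoidHom.mem_ker, map_mul, map_inv, he, inv_mul_cancel]
    calc y * q * y⁻¹ = z * ((z⁻¹ * y) * q * (z⁻¹ * y)⁻¹) * z⁻¹ := by group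
      _ = z * q * z⁻¹ := by rw [hab _ hk q hq, mul_inv_cancel_right]
  have hinv : ∀ b y, π y = u₂ b → ∀ q ∈ π.ker, y * (y * q * y⁻¹) * y⁻¹ = q := by
    intro b y he q hq
    have := hrel (y * y) 1 (by rw [map_mul, he, u₂_add, CharTwo.add_self_eq_zero, u₂_zero, map_one]) q hq
    simpa [mul_assoc] using this
  obtain ⟨D, hD⟩ : ∃ D : G → G → G, ∀ y q, D y q = y * q * y⁻¹ * q⁻¹ := ⟨_, fun _ _ => rfl⟩
  have hDQ : ∀ y, ∀ q ∈ π.ker, D y q ∈ π.ker := fun y q hq => hD y q ▸ mul_mem (hQn y q hq) (inv_mem hq)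
  have hDmul : ∀ y, ∀ q ∈ π.ker, ∀ r ∈ π.ker, D y (q * r) = D y q * D y r := by
    intro y q hq r hr
    rw [hD, hD, hD]
    calc y * (q * r) * y⁻¹ * (q * r)⁻¹ = y * q * y⁻¹ * ((y * r * y⁻¹ * r⁻¹) * q⁻¹) := by group
      _ = y * q * y⁻¹ * (q⁻¹ * (y * r * y⁻¹ * r⁻¹)) := by
          rw [hab _ (mul_mem (hQn y r hr) (inv_mem hr)) _ (inv_mem hq)]
      _ = _ := by group
  have hDD : ∀ b y, π y = u₂ b → ∀ q ∈ π.ker, D y (D y q) = (D y q * D y q)⁻¹ := by
    intro b y he q hq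
    rw [hD y (D y q), hD y q]
    have h1 := hinv b y he q hq
    have h2 : y * (y * q * y⁻¹ * q⁻¹) * y⁻¹ = (y * q * y⁻¹ * q⁻¹)⁻¹ := by
      calc y * (y * q * y⁻¹ * q⁻¹) * y⁻¹ = (y * (y * q * y⁻¹) * y⁻¹) * (y * q * y⁻¹)⁻¹ := by group
        _ = q * (y * q * y⁻¹)⁻¹ := by rw [h1]
        _ = _ := by group
    rw [h2]
    group
  have hDc : ∀ q ∈ π.ker, D g (D h q) = D h (D g q) := by
    intro q hq
    have hgh := hrel (g * h) (h * g) (by rw [map_mul, map_mul, hg, hh, u₂_add, u₂_add, add_comm]) q hq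
    simp only [hD]
    have e1 := hab _ (inv_mem (hQn h q hq)) _ (inv_mem (hQn g q hq))
    calc g * (h * q * h⁻¹ * q⁻¹) * g⁻¹ * (h * q * h⁻¹ * q⁻¹)⁻¹
        = (g * h * q * (g * h)⁻¹) * (g * q * g⁻¹)⁻¹ * q * (h * q * h⁻¹)⁻¹ := by group
      _ = (h * g * q * (h * g)⁻¹) * (g * q * g⁻¹)⁻¹ * (q * (h * q * h⁻¹)⁻¹) := by rw [hgh]; group
      _ = (h * g * q * (h * g)⁻¹) * ((h * q * h⁻¹)⁻¹ * q) * (g * q * g⁻¹)⁻¹ := by
          rw [mul_assoc (h * g * q * (h * g)⁻¹), mul_assoc (h * g * q * (h * g)⁻¹),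
            hab _ (inv_mem (hQn g q hq)) _ (mul_mem hq (inv_mem (hQn h q hq))),
            hab _ hq _ (inv_mem (hQn h q hq))]
      _ = _ := by group
  have hDN : ∀ b y, π y = u₂ b → ∀ w, D y (eN w) = eN (px (b • fun i => w i 1)) := by
    intro b y he w
    rw [hD, hNact, he, inv_eq_of_mul_eq_one_right (hNsq _ (hNm w)), ← hNadd]
    congr 1
    funext i j
    fin_cases j <;> simp [act_u_apply, px, CharTwo.add_self_eq_zero]
    · rw [add_comm, ← add_assoc, CharTwo.add_self_eq_zero, zero_add]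
  have hDmk : ∀ b y, π y = u₂ b → ∀ x', (D y (s (py x')) : G ⧸ N) = eV (px (b • x')) := by
    intro b y he x'
    rw [hD, QuotientGroup.mk_mul, QuotientGroup.mk_mul, QuotientGroup.mk_mul, QuotientGroup.mk_inv,
      QuotientGroup.mk_inv, hsV, hVact, show πb (y : G ⧸ N) = u₂ b from he, act_u_py, hVadd, mul_inv_cancel_right]
  have hsq_of_mk : ∀ q ∈ π.ker, ∀ f, (q : G ⧸ N) = eV f → q * q = eN (σ f) := by
    intro q hq f he
    have hn : (s f)⁻¹ * q ∈ N := by rw [← QuotientGroup.eq, hsV, he]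
    rw [hσ, ← hsqN _ (hsQ f) _ hn, mul_inv_cancel_left]
  have hNinv : ∀ w, (eN w)⁻¹ = eN w := fun w => inv_eq_of_mul_eq_one_right (hNsq _ (hNm w))
  have hDDv : ∀ b y, π y = u₂ b → ∀ x', D y (D y (s (py x'))) = eN (px (b • τ x')) := by
    intro b y he x'
    rw [hDD b y he _ (hsQ _), hsq_of_mk _ (hDQ y _ (hsQ _)) _ (hDmk b y he x'), hσx, hNinv]
  have hzero : ∀ x', ∀ i, τ x' i = 0 := by
    have hz : ∀ x', ∃ w, eN w = (D g (s (py (a • x'))))⁻¹ * D h (s (py x')) := fun x' => hNe _ (by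
      rw [← QuotientGroup.eq, hDmk 1 g hg, hDmk a h hh, one_smul])
    choose z hz using hz
    have hdecp : ∀ x', D h (s (py x')) = D g (s (py (a • x'))) * eN (z x') := fun x' => by
      rw [hz, mul_inv_cancel_left]
    obtain ⟨β, hβ⟩ : ∃ β : (Fin d → K) → (Fin m → K), ∀ x', β x' = τ (a • x') + fun i => z x' i 1 :=
      ⟨_, fun _ => rfl⟩
    have hβv : ∀ x', D h (D g (s (py x'))) = eN (px (β x')) := by
      intro x'
      rw [← hDc _ (hsQ _), hdecp, hDmul g _ (hDQ g _ (hsQ _)) _ (hNQ (hNm _)), hDDv 1 g hg, hDN 1 g hg,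
        ← hNadd, hβ, one_smul, one_smul]
      congr 1
      funext i j
      fin_cases j <;> simp [px]
    have key : ∀ x', β (a • x') + a • β x' = (a * a + a) • τ x' := by
      intro x'
      have h1 := hDDv a h hh x'
      rw [hdecp, hDmul h _ (hDQ g _ (hsQ _)) _ (hNQ (hNm _)), hβv, hDN a h hh, ← hNadd] at h1
      have h2 := fun i => congrFun (congrFun (hNinj h1) i) 0
      funext i
      have h3 := h2 i
      have h4 := congrFun (hβ x') i
      have h5 := congrFun (hτlin a x') i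
      simp [px] at h3 h4 h5
      simp only [Pi.add_apply, Pi.smul_apply, smul_eq_mul]
      rw [h4, h5]
      have : (2 : K) = 0 := CharTwo.two_eq_zero
      linear_combination h3
    intro x' i
    have := congrFun (congrFun (twisted_linear a τ β hτlin key) x') i
    simp only [Pi.smul_apply, Pi.zero_apply, smul_eq_mul, mul_eq_zero] at this
    refine this.resolve_left fun h0 => ?_
    have : a * (a + 1) = 0 := by rw [← h0]; ring
    exact ha1 (CharTwo.add_eq_zero.1 ((mul_eq_zero.1 this).resolve_left ha0))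
  have hσ0 : ∀ f, σ f = 0 := by
    have h1 : ∀ x', σ (px x') = 0 := fun x' => by
      have h := hσx 1 x'
      rw [one_smul, one_smul] at h
      rw [h]
      funext i j
      fin_cases j <;> simp [px, hzero]
    intro f
    rw [← px_add_py f, hσadd, h1, zero_add, ← act_weyl_px]
    obtain ⟨y, hy⟩ := hπ (weyl 1)
    rw [← hy, hσact, h1]
    funext i
    exact Matrix.mulVec_zero _
  refine ⟨⟨⟨fun q r => Subtype.ext (hab q q.2 r r.2)⟩⟩, fun q hq => ?_⟩
  obtain ⟨f, n, hn, rfl⟩ := hdec q hq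
  rw [pow_two, hsqN _ (hsQ f) n hn, ← hσ, hσ0, hN0]

/-- The kernel is elementary abelian. -/
theorem ker_elementary (a : K) (ha0 : a ≠ 0) (ha1 : a ≠ 1) : ∀ (k : ℕ) {G : Type u} [Group G] [Finite G]
    (π : G →* SL) (_ : Function.Surjective π) (_ : Nat.card π.ker = k) (_ : IsPGroup 2 π.ker)
    (x : G) (_ : π x ≠ 1) (_ : x * x * x = 1) (_ : ∀ q ∈ π.ker, x * q * x⁻¹ = q → q = 1),
    Cfsg.IsElementaryAbelian 2 π.ker := by
  intro k
  induction k using Nat.strong_induction_on with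
  | _ k ih =>
    intro G _ _ π hπ hk hp x hx hx3 hfpf
    rcases eq_or_ne π.ker ⊥ with hb | hb
    · rw [hb]
      exact ⟨⟨⟨fun q r => Subtype.ext (show (q : G) * r = r * q by rw [Subgroup.mem_bot.1 q.2, Subgroup.mem_bot.1 r.2])⟩⟩,
        fun q hq => by rw [Subgroup.mem_bot.1 hq, one_pow]⟩
    haveI : Fact (Nat.Prime 2) := ⟨Nat.prime_two⟩
    let N : Subgroup G :=
      { carrier := {v | v ∈ π.ker ∧ (∀ q ∈ π.ker, q * v = v * q) ∧ v * v = 1}
        one_mem' := ⟨one_mem _, fun q _ => by rw [mul_one, one_mul], one_mul 1⟩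
        mul_mem' := by
          rintro v w ⟨hv, hvc, hv2⟩ ⟨hw, hwc, hw2⟩
          refine ⟨mul_mem hv hw, fun q hq => by rw [← mul_assoc, hvc q hq, mul_assoc, hwc q hq, mul_assoc], ?_⟩
          rw [mul_assoc, ← mul_assoc w, hvc w hw, mul_assoc v w w, hw2, mul_one, hv2]
        inv_mem' := by
          rintro v ⟨hv, hvc, hv2⟩
          rw [inv_eq_of_mul_eq_one_right hv2]
          exact ⟨hv, hvc, hv2⟩ }
    have hNmem : ∀ v, v ∈ N ↔ v ∈ π.ker ∧ (∀ q ∈ π.ker, q * v = v * q) ∧ v * v = 1 := fun _ => Iff.rfl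
    haveI : N.Normal := ⟨fun v hv g => by
      obtain ⟨hv, hvc, hv2⟩ := (hNmem v).1 hv
      refine (hNmem _).2 ⟨(inferInstance : π.ker.Normal).conj_mem v hv g, fun q hq => ?_, ?_⟩
      · have := hvc _ ((inferInstance : π.ker.Normal).conj_mem q hq g⁻¹)
        have h' := congrArg (fun t => g * t * g⁻¹) this
        simpa [mul_assoc] using h'
      · rw [show g * v * g⁻¹ * (g * v * g⁻¹) = g * (v * v) * g⁻¹ by group, hv2, mul_one, mul_inv_cancel]⟩
    have hNQ : N ≤ π.ker := fun v hv => ((hNmem v).1 hv).1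
    have hN : Cfsg.IsElementaryAbelian 2 N :=
      ⟨⟨⟨fun v w => Subtype.ext (((hNmem _).1 w.2).2.1 _ (hNQ v.2))⟩⟩,
        fun v hv => by rw [pow_two]; exact ((hNmem v).1 hv).2.2⟩
    have hN1 : N ≠ ⊥ := by
      haveI : Nontrivial π.ker := (Subgroup.nontrivial_iff_ne_bot _).2 hb
      haveI : Nontrivial (Subgroup.center π.ker) := hp.center_nontrivial
      obtain ⟨⟨z, hz⟩, hzo⟩ := exists_prime_orderOf_dvd_card' (G := Subgroup.center π.ker) 2
        (by
          obtain ⟨n, hn⟩ := IsPGroup.iff_card.1 (hp.to_subgroup (Subgroup.center π.ker))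
          have h1 : 1 < Nat.card (Subgroup.center π.ker) := Finite.one_lt_card
          rw [hn] at h1 ⊢
          exact dvd_pow_self 2 fun h0 => by simp [h0] at h1)
      intro hbot
      have hzN : (z : G) ∈ N := (hNmem _).2 ⟨z.2,
        fun q hq => congrArg Subtype.val (Subgroup.mem_center_iff.1 hz ⟨q, hq⟩), by
        have := pow_orderOf_eq_one (⟨z, hz⟩ : Subgroup.center π.ker)
        rw [hzo, pow_two] at this
        exact congrArg (fun t : Subgroup.center π.ker => ((t : π.ker) : G)) this⟩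
      rw [hbot, Subgroup.mem_bot] at hzN
      have : (⟨z, hz⟩ : Subgroup.center π.ker) = 1 := Subtype.ext (Subtype.ext hzN)
      rw [this, orderOf_one] at hzo
      omega
    refine induction_step a ha0 ha1 π hπ hx hx3 N hNQ hN (fun q hq v hv => ((hNmem v).1 hv).2.1 q hq) hfpf ?_
    let πb : G ⧸ N →* SL := QuotientGroup.lift N π hNQ
    have hker : πb.ker = π.ker.map (QuotientGroup.mk' N) := by
      ext z
      obtain ⟨y, rfl⟩ := QuotientGroup.mk_surjective z
      constructor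
      · exact fun h => ⟨y, h, rfl⟩
      · rintro ⟨y', hy', he⟩
        show πb (y : G ⧸ N) = 1
        rw [← he]
        exact hy'
    rw [← hker]
    have hlt : Nat.card πb.ker < k := by
      have hr := Subgroup.relIndex_ker (f := QuotientGroup.mk' N) (K := π.ker)
      rw [QuotientGroup.ker_mk', ← hker] at hr
      have h2 := Subgroup.relIndex_mul_relIndex ⊥ N π.ker bot_le hNQ
      rw [Subgroup.relIndex_bot_left, Subgroup.relIndex_bot_left, hr, hk] at h2
      have := Nat.card_pos (α := πb.ker)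
      have h3 : 1 < Nat.card N := Finite.one_lt_card_iff_nontrivial.2 ((Subgroup.nontrivial_iff_ne_bot _).2 hN1)
      nlinarith
    refine ih _ hlt πb (fun s => ⟨(hπ s).choose, (hπ s).choose_spec⟩) rfl (hker ▸ hp.map _) (x : G ⧸ N) hx ?_ ?_
    · rw [← QuotientGroup.mk_mul, ← QuotientGroup.mk_mul, hx3]; rfl
    · intro q hq he
      rw [hker] at hq
      obtain ⟨y, hy, rfl⟩ := hq
      refine (QuotientGroup.eq_one_iff y).2 (mem_of_fixed_mod hNQ hfpf hy ?_)
      rw [← QuotientGroup.eq_one_iff]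
      show ((x : G ⧸ N) * (y : G ⧸ N) * (x : G ⧸ N)⁻¹) * (y : G ⧸ N)⁻¹ = 1
      rw [show (x : G ⧸ N) * (y : G ⧸ N) * (x : G ⧸ N)⁻¹ = (y : G ⧸ N) from he, mul_inv_cancel]

end Cfsg.Agent.NatExt
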