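import Cfsg.Agent.Lib.LocalEven.P3Torus

/-!
# Bounds on the prime for a Sylow group `p^{1+2}` with many radical subgroups
-/

set_option autoImplicit false

open scoped Matrix commutatorElement

namespace Cfsg.Agent.LocalEven

open Cfsg.Agent.Fusion

variable {G : Type*} [Group G] [Finite G] {p : ℕ} [Fact p.Prime]

theorem p3_facts (P : Sylow p G) (hE : Cfsg.IsExtraspecial p ↥P) (hcard : Nat.card P = p ^ 3)
    (hexp : Monoid.exponent ↥P = p) {A : Subgroup G} (hAP : A ≤ (P : Subgroup G))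
    (hAcard : Nat.card A = p ^ 2) :
    (P : Subgroup G) ≤ Subgroup.normalizer (A : Set G) ∧
      ¬ (P : Subgroup G) ≤ Subgroup.centralizer (A : Set G) ∧
      (∀ z : ↥P, z ∈ Subgroup.center ↥P → (z : G) ∈ A) := by
  have hp : p.Prime := Fact.out
  have hc2 : Nat.card (A.subgroupOf (P : Subgroup G)) = p ^ 2 := by
    rw [Nat.card_congr (Subgroup.subgroupOfEquivOfLe hAP).toEquiv, hAcard]
  have hidx : (A.subgroupOf (P : Subgroup G)).index = p := by
    have h := Subgroup.index_mul_card (A.subgroupOf (P : Subgroup G))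
    rw [hc2, hcard] at h
    exact Nat.eq_of_mul_eq_mul_right (pow_pos hp.pos 2) (h.trans (by ring))
  have hn := Solv.normal_of_index_prime P.isPGroup' hidx
  refine ⟨(Subgroup.normal_subgroupOf_iff_le_normalizer hAP).1 hn, fun h => ?_, fun z hz => ?_⟩
  · have hle : A.subgroupOf (P : Subgroup G) ≤ Subgroup.center ↥P := fun a ha =>
      Subgroup.mem_center_iff.2 fun g => Subtype.ext
        (Subgroup.mem_centralizer_iff.1 (h g.2) a ha).symm
    have hle' := Subgroup.card_le_of_le hle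
    have h1 : Nat.card (Subgroup.center ↥P) = p := hE.2
    rw [hc2] at hle'
    replace hle' : p ^ 2 ≤ p := hle'.trans h1.le
    nlinarith [hp.two_le]
  · by_contra hzA
    obtain ⟨M, hM⟩ : ∃ M, M = A.subgroupOf (P : Subgroup G) ⊔ Subgroup.zpowers z := ⟨_, rfl⟩
    have hMtop : M = ⊤ := by
      have hlt : A.subgroupOf (P : Subgroup G) < M := lt_of_le_of_ne (hM ▸ le_sup_left) fun he =>
        hzA (Subgroup.mem_subgroupOf.1 (he ▸ hM ▸ Subgroup.mem_sup_right (Subgroup.mem_zpowers z)))
      have hrel := Subgroup.relIndex_mul_index hlt.le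
      rw [hidx] at hrel
      rcases hp.eq_one_or_self_of_dvd _ ⟨_, hrel.symm.trans (mul_comm _ _)⟩ with h | h
      · exact Subgroup.index_eq_one.1 h
      · exfalso
        rw [h] at hrel
        have h1 : (A.subgroupOf (P : Subgroup G)).relIndex M = 1 := by
          nlinarith [hp.pos]
        exact hlt.not_ge (Subgroup.relIndex_eq_one.1 h1)
    have hab : ∀ u v : ↥P, Commute u v := by
      have hA2 := IsPGroup.commutative_of_card_eq_prime_sq hc2
      have hz' := Subgroup.mem_center_iff.1 hz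
      intro u v
      have hu : u ∈ M := hMtop ▸ Subgroup.mem_top u
      have hv : v ∈ M := hMtop ▸ Subgroup.mem_top v
      rw [hM, Subgroup.sup_eq_closure] at hu hv
      induction hu, hv using Subgroup.closure_induction₂ with
      | mem x y hx hy =>
        rcases hx with hx | ⟨i, rfl⟩
        · rcases hy with hy | ⟨j, rfl⟩
          · exact congrArg Subtype.val (hA2 ⟨x, hx⟩ ⟨y, hy⟩)
          · exact (show Commute x z from hz' x).zpow_right j
        · exact ((show Commute y z from hz' y).zpow_right i).symm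
      | one_left x _ => exact Commute.one_left x
      | one_right x _ => exact Commute.one_right x
      | mul_left x y w _ _ _ h1 h2 => exact h1.mul_left h2
      | mul_right y w x _ _ _ h1 h2 => exact h1.mul_right h2
      | inv_left x y _ _ h => exact h.inv_left
      | inv_right x y _ _ h => exact h.inv_right
    have htop : Subgroup.center ↥P = ⊤ := top_le_iff.1 fun u _ => Subgroup.mem_center_iff.2 fun g => (hab g u).eq
    have h1 : Nat.card (Subgroup.center ↥P) = p := hE.2
    have h1' : Nat.card (Subgroup.center ↥P) = p ^ 3 := by rw [htop, Subgroup.card_top]; exact hcard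
    replace h1 : p ^ 3 = p := h1'.symm.trans h1
    have h3 : p ^ 1 < p ^ 3 := Nat.pow_lt_pow_right hp.one_lt (by norm_num)
    rw [pow_one] at h3
    omega

/-- If many subgroups of order `p²` of a Sylow group `p^{1+2}` have all their automorphisms of order `p`
induced, then `p` is small. -/
theorem radical_count (P : Sylow p G) (hE : Cfsg.IsExtraspecial p ↥P) (hcard : Nat.card P = p ^ 3)
    (hexp : Monoid.exponent ↥P = p) {ι : Type*} [Fintype ι] (A : ι → Subgroup G) (hA : Function.Injective A)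
    (hAP : ∀ i, A i ≤ (P : Subgroup G)) (hAcard : ∀ i, Nat.card ↥(A i) = p ^ 2)
    (hSL : ∀ i, ∀ φ : MulAut ↥(A i), orderOf φ = p → ∃ g : G, ∀ a : ↥(A i), (φ a : G) = g * (a : G) * g⁻¹) :
    (11 ≤ p → Fintype.card ι ≤ 12) ∧ (17 ≤ p ∨ p = 11 → Fintype.card ι ≤ 2) := by
  classical
  have hp : p.Prime := Fact.out
  obtain ⟨π, ρ, z0, -, hker, hcent, hzo, hact, hdet, hinner⟩ := exists_coordinates hE hcard hexp
  have hpow : ∀ x ∈ (P : Subgroup G), x ^ p = 1 := fun x hx => by
    have h := Monoid.pow_exponent_eq_one (⟨x, hx⟩ : ↥P)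
    rw [hexp] at h
    exact congrArg Subtype.val h
  have hz1 : (z0 : G) ≠ 1 := fun h => hp.ne_one (by rw [← hzo, show z0 = 1 from Subtype.ext h, orderOf_one])
  have hz0c : z0 ∈ Subgroup.center ↥P := hcent ▸ Subgroup.mem_zpowers z0
  have hfacts := fun i => p3_facts P hE hcard hexp (hAP i) (hAcard i)
  have hzA : ∀ i, (z0 : G) ∈ A i := fun i => (hfacts i).2.2 z0 hz0c
  have hexa : ∀ i, ∃ a ∈ A i, a ∉ Subgroup.zpowers (z0 : G) := by
    intro i
    by_contra h
    push Not at h
    have h2 := Subgroup.card_le_of_le h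
    rw [hAcard i, Nat.card_zpowers, Subgroup.orderOf_coe, hzo] at h2
    nlinarith [hp.two_le]
  choose a ha haz using hexa
  let v : ι → Fin 2 → ZMod p := fun i => Multiplicative.toAdd (π ⟨a i, hAP i (ha i)⟩)
  have hv : ∀ i, v i ≠ 0 := by
    intro i h
    have h1 : (⟨a i, hAP i (ha i)⟩ : ↥P) ∈ π.ker := Multiplicative.toAdd.injective h
    rw [hker, hcent] at h1
    obtain ⟨k, hk⟩ := h1
    exact haz i ⟨k, by simpa using congrArg Subtype.val hk⟩
  have hind : ∀ i j, ∀ c : ZMod p, v j = c • v i → i = j := by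
    intro i j c hc
    have h1 : (⟨a i, hAP i (ha i)⟩ : ↥P) ^ c.val * (⟨a j, hAP j (ha j)⟩ : ↥P)⁻¹ ∈ π.ker := by
      rw [MonoidHom.mem_ker, map_mul, map_inv, map_pow, mul_inv_eq_one]
      refine Multiplicative.toAdd.injective (funext fun k => ?_)
      show (c.val • v i) k = v j k
      rw [hc, Pi.smul_apply, Pi.smul_apply, nsmul_eq_mul, ZMod.natCast_zmod_val, smul_eq_mul]
    rw [hker] at h1
    have h2 : a i ^ c.val * (a j)⁻¹ ∈ A i := by simpa using (hfacts i).2.2 _ h1
    have h3 : a j ∈ A i := by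
      have := mul_mem (inv_mem h2) (pow_mem (ha i) c.val)
      simpa using this
    refine hA (Subgroup.eq_of_le_of_card_ge ?_ (by rw [hAcard, hAcard]) ).symm
    intro x hx
    obtain ⟨e, -, hs, hadd, -, he1, he2⟩ := exists_pair_equiv (hAcard j)
      (fun y hy => hpow y (hAP j hy)) (hzA j) (ha j) hz1 (haz j)
    obtain ⟨w, rfl⟩ := hs x hx
    have he0 : e 0 = 1 := by have h := hadd 0 0; rwa [add_zero, left_eq_mul] at h
    have hn : ∀ (n : ℕ) u, e u ∈ A i → e (n • u) ∈ A i := fun n u hu => by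
      induction n with
      | zero => rw [zero_smul, he0]; exact one_mem _
      | succ n ih => rw [succ_nsmul, hadd]; exact mul_mem ih hu
    rw [show w = w.1.val • ((1 : ZMod p), (0 : ZMod p)) + w.2.val • ((0 : ZMod p), (1 : ZMod p)) from
      Prod.ext (by simp [ZMod.natCast_zmod_val]) (by simp [ZMod.natCast_zmod_val]), hadd]
    exact mul_mem (hn _ _ (he1 ▸ hzA i)) (hn _ _ (he2 ▸ h3))
  obtain ⟨t, ht⟩ := IsCyclic.exists_ofOrder_eq_natCard (α := (ZMod p)ˣ)
  rw [Nat.card_eq_fintype_card, ZMod.card_units p] at ht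
  let N := Subgroup.normalizer ((P : Subgroup G) : Set G)
  let ν : N →* GL (Fin 2) (ZMod p) := ρ.comp (P : Subgroup G).normalizerMonoidHom
  have hcop : (Nat.card ν.range).Coprime p := by
    rw [← Subgroup.index_ker]
    have hle : (P : Subgroup G).subgroupOf N ≤ ν.ker := by
      intro x hx
      rw [MonoidHom.mem_ker]
      show ρ ((P : Subgroup G).normalizerMonoidHom x) = 1
      rw [← hinner ⟨x, hx⟩]
      exact congrArg ρ (MulEquiv.ext fun y => Subtype.ext rfl)
    refine Nat.Coprime.coprime_dvd_left ((Subgroup.index_dvd_of_le hle).trans ?_) (hp.coprime_iff_not_dvd.2 P.not_dvd_index).symm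
    exact Subgroup.relIndex_dvd_index_of_le Subgroup.le_normalizer
  have hh : ∀ i, ∃ h ∈ ν.range, (h : Matrix (Fin 2) (Fin 2) (ZMod p)) *ᵥ v i =
      ((t⁻¹ : (ZMod p)ˣ) : ZMod p) • v i ∧ (h : Matrix (Fin 2) (Fin 2) (ZMod p)).det = (t : ZMod p) := by
    intro i
    obtain ⟨g, hg, hgz, hga⟩ := exists_normalizer_torus P hpow (hAP i) (hAcard i) (hfacts i).1 (hfacts i).2.1
      (hSL i) (hzA i) (ha i) hz1 (haz i)
      (fun x hx => congrArg Subtype.val (Subgroup.mem_center_iff.1 hz0c ⟨x, hx⟩))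
      (fun x hx => by
        have h1 : ⁅(⟨x, hx⟩ : ↥P), ⟨a i, hAP i (ha i)⟩⁆ ∈ Subgroup.zpowers z0 := by
          rw [← hcent, ← hE.1.2.2, commutator_def]
          exact Subgroup.commutator_mem_commutator (Subgroup.mem_top _) (Subgroup.mem_top _)
        obtain ⟨k, hk⟩ := h1
        exact ⟨k, by simpa [commutatorElement_def] using congrArg Subtype.val hk⟩) t
    refine ⟨ν ⟨g, hg⟩, ⟨_, rfl⟩, ?_, ?_⟩
    · obtain ⟨φ, hφ⟩ : ∃ φ, φ = (P : Subgroup G).normalizerMonoidHom ⟨g, hg⟩ := ⟨_, rfl⟩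
      show (ρ ((P : Subgroup G).normalizerMonoidHom ⟨g, hg⟩) : Matrix (Fin 2) (Fin 2) (ZMod p)) *ᵥ v i = _
      rw [← hact, show (P : Subgroup G).normalizerMonoidHom ⟨g, hg⟩ ⟨a i, hAP i (ha i)⟩ =
        (⟨a i, hAP i (ha i)⟩ : ↥P) ^ ((t⁻¹ : (ZMod p)ˣ) : ZMod p).val from Subtype.ext (by
          rw [SubmonoidClass.coe_pow]; exact hga), map_pow]
      refine funext fun k => ?_
      show (((t⁻¹ : (ZMod p)ˣ) : ZMod p).val • v i) k = _
      rw [Pi.smul_apply, Pi.smul_apply, nsmul_eq_mul, ZMod.natCast_zmod_val, smul_eq_mul]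
    · show (ρ ((P : Subgroup G).normalizerMonoidHom ⟨g, hg⟩) : Matrix (Fin 2) (Fin 2) (ZMod p)).det = _
      rw [hdet _ (t : ZMod p).val (Subtype.ext (by rw [SubmonoidClass.coe_pow]; exact hgz)), ZMod.natCast_zmod_val]
  obtain ⟨h12, h2⟩ := lines_bound ν.range hcop v hv hind t ht hh
  exact ⟨h12, h2⟩

end Cfsg.Agent.LocalEven
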