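import Cfsg.Agent.Lib.Solv.Extraspecial
import Mathlib

/-!
# Coordinates on an extraspecial group of order `p³` and exponent `p`
-/

set_option autoImplicit false

open scoped Matrix commutatorElement

namespace Cfsg.Agent.LocalEven

theorem exists_coordinates {P : Type*} [Group P] [Finite P] {p : ℕ} [Fact p.Prime]
    (hE : Cfsg.IsExtraspecial p P) (hcard : Nat.card P = p ^ 3) (hexp : Monoid.exponent P = p) :
    ∃ (π : P →* Multiplicative (Fin 2 → ZMod p)) (ρ : MulAut P →* GL (Fin 2) (ZMod p)) (z0 : P),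
      Function.Surjective π ∧ π.ker = Subgroup.center P ∧ Subgroup.center P = Subgroup.zpowers z0 ∧
      orderOf z0 = p ∧
      (∀ φ x, Multiplicative.toAdd (π (φ x)) =
        (ρ φ : Matrix (Fin 2) (Fin 2) (ZMod p)) *ᵥ Multiplicative.toAdd (π x)) ∧
      (∀ φ (k : ℕ), φ z0 = z0 ^ k → (ρ φ : Matrix (Fin 2) (Fin 2) (ZMod p)).det = k) ∧
      (∀ x : P, ρ (MulAut.conj x) = 1) := by
  classical
  have hp : p.Prime := Fact.out
  have hZ : Nat.card (Subgroup.center P) = p := hE.2
  have hcomm : ∀ x y : P, ⁅x, y⁆ ∈ Subgroup.center P := fun x y => by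
    rw [← hE.1.2.2, commutator_def]
    exact Subgroup.commutator_mem_commutator (Subgroup.mem_top x) (Subgroup.mem_top y)
  have hne : Subgroup.center P ≠ ⊤ := fun h => by
    rw [h, Subgroup.card_top, hcard] at hZ
    have h1 : p ^ 1 < p ^ 3 := Nat.pow_lt_pow_right hp.one_lt (by norm_num)
    rw [pow_one] at h1
    omega
  obtain ⟨a, ha⟩ : ∃ a, a ∉ Subgroup.center P := by
    by_contra h
    push Not at h
    exact hne (top_le_iff.1 fun x _ => h x)
  obtain ⟨b, hb⟩ : ∃ b, b * a ≠ a * b := by
    by_contra h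
    push Not at h
    exact ha (Subgroup.mem_center_iff.2 h)
  obtain ⟨z0, hz0⟩ : ∃ z, z = ⁅a, b⁆ := ⟨_, rfl⟩
  have hz1 : z0 ≠ 1 := fun h => hb (commutatorElement_eq_one_iff_mul_comm.1 (hz0 ▸ h)).symm
  have hzc : z0 ∈ Subgroup.center P := hz0 ▸ hcomm a b
  have hpow : ∀ x : P, x ^ p = 1 := fun x => hexp ▸ Monoid.pow_exponent_eq_one x
  have hzo : orderOf z0 = p := orderOf_eq_prime (hpow z0) hz1
  have hcent : Subgroup.center P = Subgroup.zpowers z0 :=
    (Subgroup.eq_of_le_of_card_ge (Subgroup.zpowers_le.2 hzc) (by rw [hZ, Nat.card_zpowers, hzo])).symm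
  -- logarithm in the centre
  obtain ⟨E, hE'⟩ : ∃ E : ZMod p → P, ∀ k, E k = z0 ^ k.val := ⟨fun k => z0 ^ k.val, fun _ => rfl⟩
  have hEnat : ∀ n : ℕ, E n = z0 ^ n := fun n => by
    rw [hE', ZMod.val_natCast, ← hzo, pow_mod_orderOf]
  have hEadd : ∀ k l, E (k + l) = E k * E l := fun k l => by
    rw [← ZMod.natCast_zmod_val k, ← ZMod.natCast_zmod_val l, ← Nat.cast_add, hEnat, hEnat, hEnat, pow_add]
  have hEinj : Function.Injective E := fun k l h => by
    rw [hE', hE'] at h
    exact ZMod.val_injective p (pow_injOn_Iio_orderOf (by rw [hzo]; exact ZMod.val_lt k)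
      (by rw [hzo]; exact ZMod.val_lt l) h)
  have hEz : ∀ k, E (-k) = (E k)⁻¹ := fun k => eq_inv_of_mul_eq_one_left (by
    rw [← hEadd, neg_add_cancel, hE', ZMod.val_zero, pow_zero])
  have hlog : ∀ x y : P, ∃ k, E k = ⁅x, y⁆ := fun x y => by
    obtain ⟨i, hi⟩ := (hcent ▸ hcomm x y : ⁅x, y⁆ ∈ Subgroup.zpowers z0)
    have hi' : z0 ^ i = ⁅x, y⁆ := hi
    refine ⟨((i % p).toNat : ZMod p), ?_⟩
    rw [hEnat, ← hi', ← zpow_natCast, Int.toNat_of_nonneg (Int.emod_nonneg _ (by exact_mod_cast hp.ne_zero)),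
      ← hzo, zpow_mod_orderOf]
  choose D hD using hlog
  have hDl : ∀ x y w, D (x * y) w = D x w + D y w := fun x y w => hEinj (by
    rw [hEadd, hD, hD, hD, Solv.commutatorElement_mul_left_of_central (hcomm y w)])
  have hDneg : ∀ x y, D y x = -D x y := fun x y => hEinj (by
    rw [hEz, hD, hD, commutatorElement_inv])
  have hDr : ∀ x y w, D w (x * y) = D w x + D w y := fun x y w => by
    rw [hDneg (x * y) w, hDl, hDneg x w, hDneg y w, neg_add]
  have hDone : ∀ w, D 1 w = 0 := fun w => by
    have h := hDl 1 1 w; rw [mul_one] at h; simpa using h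
  have hDself : ∀ x, D x x = 0 := fun x => hEinj (by
    rw [hD, hE', ZMod.val_zero, pow_zero, commutatorElement_self])
  have hDz : ∀ x y, x ∈ Subgroup.center P → D x y = 0 := fun x y hx => hEinj (by
    rw [hD, hE', ZMod.val_zero, pow_zero, commutatorElement_eq_one_iff_mul_comm]
    exact (Subgroup.mem_center_iff.1 hx y).symm)
  have hDpow : ∀ (x w : P) (n : ℕ), D (x ^ n) w = n * D x w := fun x w n => by
    induction n with
    | zero => rw [pow_zero, hDone]; simp
    | succ n ih => rw [pow_succ, hDl, ih]; push_cast; ring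
  have hDab : D a b = 1 := hEinj (by rw [hD, hE', ZMod.val_one, pow_one, hz0])
  have hDba : D b a = -1 := by rw [hDneg, hDab]
  let π : P →* Multiplicative (Fin 2 → ZMod p) :=
    MonoidHom.mk' (fun x => Multiplicative.ofAdd ![D x b, D a x]) (fun x y => by
      refine Multiplicative.toAdd.injective (funext fun i => ?_)
      fin_cases i
      · exact hDl x y b
      · exact hDr x y a)
  have hπ : ∀ x, Multiplicative.toAdd (π x) = ![D x b, D a x] := fun x => rfl
  have hker : π.ker = Subgroup.center P := by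
    ext x
    rw [MonoidHom.mem_ker]
    constructor
    · intro hx
      have h0 : ![D x b, D a x] = 0 := (hπ x).symm.trans (congrArg Multiplicative.toAdd hx)
      have hxb : D x b = 0 := congrFun h0 0
      have hax : D a x = 0 := congrFun h0 1
      have hC : ∀ u, D u x = 0 → u ∈ Subgroup.centralizer ({x} : Set P) := fun u hu => by
        rw [Subgroup.mem_centralizer_singleton_iff, ← commutatorElement_eq_one_iff_mul_comm, ← hD, hu,
          hE', ZMod.val_zero, pow_zero]
      have hCtop : Subgroup.centralizer ({x} : Set P) = ⊤ := by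
        set C := Subgroup.centralizer ({x} : Set P)
        have haC : a ∈ C := hC a hax
        have hbC : b ∈ C := hC b (by rw [hDneg, hxb, neg_zero])
        obtain ⟨k, -, hk⟩ := (Nat.dvd_prime_pow hp).1 (hcard ▸ Subgroup.card_subgroup_dvd_card C)
        refine Subgroup.eq_top_of_le_card C ?_
        rw [hcard, hk]
        refine Nat.pow_le_pow_right hp.pos (not_lt.1 fun hlt => hb ?_)
        rcases (show k ≤ 1 ∨ k = 2 by omega) with h | h
        · exfalso
          refine ha ((Subgroup.eq_of_le_of_card_ge (Subgroup.center_le_centralizer {x}) ?_).symm ▸ haC)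
          show Nat.card C ≤ _
          rw [hk, hZ]
          exact (Nat.pow_le_pow_right hp.pos h).trans (pow_one p).le
        · subst h
          have := IsPGroup.commutative_of_card_eq_prime_sq hk ⟨b, hbC⟩ ⟨a, haC⟩
          exact congrArg Subtype.val this
      exact Subgroup.mem_center_iff.2 fun g =>
        Subgroup.mem_centralizer_singleton_iff.1 (hCtop ▸ Subgroup.mem_top g)
    · intro hx
      refine Multiplicative.toAdd.injective ?_
      rw [hπ, hDz x b hx, hDneg, hDz x a hx, neg_zero]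
      exact funext fun i => by fin_cases i <;> rfl
  have hdec : ∀ x, Multiplicative.toAdd (π x) = Multiplicative.toAdd (π (a ^ (D x b).val * b ^ (D a x).val)) := by
    intro x
    rw [hπ, hπ, hDl, hDpow, hDpow, hDab, hDself b, hDr, hDneg (a ^ _) a, hDpow, hDself a,
      hDneg (b ^ _) a, hDpow, hDba, ZMod.natCast_zmod_val, ZMod.natCast_zmod_val]
    simp
  have hsurj : Function.Surjective π := fun v => ⟨a ^ (Multiplicative.toAdd v 0).val * b ^ (Multiplicative.toAdd v 1).val, by
    refine Multiplicative.toAdd.injective (funext fun i => ?_)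
    rw [hπ, hDl, hDpow, hDpow, hDab, hDself b, hDr, hDneg (a ^ _) a, hDpow, hDself a,
      hDneg (b ^ _) a, hDpow, hDba, ZMod.natCast_zmod_val, ZMod.natCast_zmod_val]
    fin_cases i <;> simp⟩
  -- the induced matrices
  let M : MulAut P → Matrix (Fin 2) (Fin 2) (ZMod p) := fun φ =>
    !![D (φ a) b, D (φ b) b; D a (φ a), D a (φ b)]
  have hact : ∀ (φ : MulAut P) (x : P),
      Multiplicative.toAdd (π (φ x)) = M φ *ᵥ Multiplicative.toAdd (π x) := by
    intro φ x
    have h1 : π (φ x) = π (φ (a ^ (D x b).val * b ^ (D a x).val)) := by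
      have h := Multiplicative.toAdd.injective (hdec x)
      rw [← inv_mul_eq_one, ← map_inv, ← map_mul, ← MonoidHom.mem_ker, hker] at h
      rw [← inv_mul_eq_one, ← map_inv, ← map_mul, ← MonoidHom.mem_ker, hker, ← map_inv, ← map_mul]
      exact Subgroup.mem_center_iff.2 fun g => by
        obtain ⟨g, rfl⟩ := φ.surjective g
        rw [← map_mul, ← map_mul, Subgroup.mem_center_iff.1 h g]
    rw [h1, hπ, hπ, map_mul, map_pow, map_pow, hDl, hDpow, hDpow, hDr,
      hDneg ((φ a) ^ _) a, hDpow, hDneg ((φ b) ^ _) a, hDpow, ZMod.natCast_zmod_val, ZMod.natCast_zmod_val,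
      hDneg a (φ a), hDneg a (φ b)]
    ext i
    fin_cases i <;> simp [M, Matrix.mulVec, dotProduct, Fin.sum_univ_two] <;> ring
  have hMmul : ∀ φ ψ : MulAut P, M (φ * ψ) = M φ * M ψ := by
    intro φ ψ
    refine Matrix.ext_of_mulVec_single fun i => ?_
    obtain ⟨x, hx⟩ := hsurj (Multiplicative.ofAdd (Pi.single i (1 : ZMod p)))
    have h := hact (φ * ψ) x
    rw [MulAut.mul_apply, hact, hact, hx, toAdd_ofAdd, Matrix.mulVec_mulVec] at h
    exact h.symm
  have hMone : M 1 = 1 := by
    refine Matrix.ext_of_mulVec_single fun i => ?_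
    obtain ⟨x, hx⟩ := hsurj (Multiplicative.ofAdd (Pi.single i (1 : ZMod p)))
    have h := hact 1 x
    rw [MulAut.one_apply, hx, toAdd_ofAdd] at h
    rw [← h, Matrix.one_mulVec]
  let Mh : MulAut P →* Matrix (Fin 2) (Fin 2) (ZMod p) :=
    { toFun := M, map_one' := hMone, map_mul' := hMmul }
  refine ⟨π, Mh.toHomUnits, z0, hsurj, hker, hcent, hzo, hact, ?_, ?_⟩
  · intro φ k hk
    show (M φ).det = (k : ZMod p)
    rw [Matrix.det_fin_two]
    simp only [M, Matrix.of_apply, Matrix.cons_val', Matrix.cons_val_zero, Matrix.cons_val_one, Matrix.cons_val_fin_one]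
    refine hEinj ?_
    have h2 : D (φ a) (φ b) = D (φ a) b * D a (φ b) - D (φ b) b * D a (φ a) := by
      have hx := hdec (φ a)
      have hx' : (φ a)⁻¹ * (a ^ (D (φ a) b).val * b ^ (D a (φ a)).val) ∈ Subgroup.center P := by
        rw [← hker, MonoidHom.mem_ker, map_mul, map_inv, inv_mul_eq_one]
        exact Multiplicative.toAdd.injective hx
      have e1 := hDl (φ a) ((φ a)⁻¹ * (a ^ (D (φ a) b).val * b ^ (D a (φ a)).val)) (φ b)
      rw [mul_inv_cancel_left, hDz _ _ hx', add_zero, hDl, hDpow, hDpow, ZMod.natCast_zmod_val,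
        ZMod.natCast_zmod_val, hDneg (φ b) b] at e1
      rw [← e1]; ring
    rw [hEnat, ← hk, hz0, map_commutatorElement, ← hD, h2]
  · intro x
    refine Units.ext ?_
    show M (MulAut.conj x) = 1
    refine Matrix.ext_of_mulVec_single fun i => ?_
    obtain ⟨y, hy⟩ := hsurj (Multiplicative.ofAdd (Pi.single i (1 : ZMod p)))
    have h := hact (MulAut.conj x) y
    have e : π (x * y * x⁻¹) = π y := by
      rw [map_mul, map_mul, map_inv, mul_comm (π x), mul_inv_cancel_right]
    rw [MulAut.conj_apply, e, hy, toAdd_ofAdd] at h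
    rw [← h, Matrix.one_mulVec]

end Cfsg.Agent.LocalEven
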