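import Cfsg.Agent.Lib.Fusion.Basic
import Cfsg.Agent.Lib.LocalEven.GL2Lines
import Cfsg.Agent.Lib.LocalEven.P3Coordinates

/-!
# Tori of automorphism groups of subgroups of order `p²` in a Sylow group `p^{1+2}`
-/

set_option autoImplicit false

open scoped Matrix commutatorElement Pointwise

namespace Cfsg.Agent.LocalEven

open Cfsg.Agent.Fusion

variable {G : Type*} [Group G] [Finite G] {p : ℕ} [Fact p.Prime]

/-- Coordinates on an elementary abelian subgroup of order `p²`. -/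
theorem exists_pair_equiv {A : Subgroup G} (hA : Nat.card A = p ^ 2) (hexp : ∀ x ∈ A, x ^ p = 1)
    {z a : G} (hz : z ∈ A) (ha : a ∈ A) (hz1 : z ≠ 1) (haz : a ∉ Subgroup.zpowers z) :
    ∃ e : ZMod p × ZMod p → G, (∀ v, e v ∈ A) ∧ (∀ x ∈ A, ∃ v, e v = x) ∧ (∀ v w, e (v + w) = e v * e w) ∧
      Function.Injective e ∧ e (1, 0) = z ∧ e (0, 1) = a := by
  have hcomm : Commute z a := congrArg Subtype.val
    (IsPGroup.commutative_of_card_eq_prime_sq hA ⟨z, hz⟩ ⟨a, ha⟩)
  have hpow : ∀ (x : G), x ∈ A → ∀ n m : ℕ, (n : ZMod p) = (m : ZMod p) → x ^ n = x ^ m := by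
    intro x hx n m h
    rw [pow_eq_pow_iff_modEq]
    exact ((ZMod.natCast_eq_natCast_iff _ _ _).1 h).of_dvd (orderOf_dvd_of_pow_eq_one (hexp x hx))
  let e : ZMod p × ZMod p → G := fun v => z ^ v.1.val * a ^ v.2.val
  have hmem : ∀ v, e v ∈ A := fun v => mul_mem (pow_mem hz _) (pow_mem ha _)
  have hadd : ∀ v w, e (v + w) = e v * e w := by
    intro v w
    show z ^ (v.1 + w.1).val * a ^ (v.2 + w.2).val = z ^ v.1.val * a ^ v.2.val * (z ^ w.1.val * a ^ w.2.val)
    rw [hpow z hz (v.1 + w.1).val (v.1.val + w.1.val) (by simp [ZMod.natCast_zmod_val]),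
      hpow a ha (v.2 + w.2).val (v.2.val + w.2.val) (by simp [ZMod.natCast_zmod_val]), pow_add, pow_add,
      mul_assoc, mul_assoc, ← mul_assoc (z ^ w.1.val), (hcomm.pow_pow w.1.val v.2.val).eq, mul_assoc]
  have h0 : e 0 = 1 := by simp [e]
  have hker : ∀ v, e v = 1 → v = 0 := by
    rintro ⟨i, j⟩ hv
    have hv' : z ^ i.val * a ^ j.val = 1 := hv
    have hj : j = 0 := by
      by_contra hj
      refine haz ?_
      have hmem' : a ^ j.val ∈ Subgroup.zpowers z := by
        rw [eq_inv_of_mul_eq_one_right hv']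
        exact inv_mem (pow_mem (Subgroup.mem_zpowers z) _)
      have : (a ^ j.val) ^ (j⁻¹).val = a := by
        rw [← pow_mul, hpow a ha (j.val * (j⁻¹).val) 1 (by simp [ZMod.natCast_zmod_val, hj]), pow_one]
      rw [← this]
      exact pow_mem hmem' _
    subst hj
    rw [ZMod.val_zero, pow_zero, mul_one, ← orderOf_dvd_iff_pow_eq_one,
      orderOf_eq_prime (hexp z hz) hz1] at hv'
    rw [Prod.mk_eq_zero]
    exact ⟨(ZMod.val_eq_zero _).1 (Nat.eq_zero_of_dvd_of_lt hv' (ZMod.val_lt i)), rfl⟩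
  have hinj : Function.Injective e := by
    intro v w h
    have h1 : e (v - w) * e w = e v := by rw [← hadd, sub_add_cancel]
    rw [h, mul_eq_right] at h1
    exact sub_eq_zero.1 (hker _ h1)
  have hsurj : ∀ x ∈ A, ∃ v, e v = x := by
    intro x hx
    have hbij : Function.Bijective (fun v => (⟨e v, hmem v⟩ : A)) := by
      letI := Fintype.ofFinite A
      rw [Fintype.bijective_iff_injective_and_card]
      refine ⟨fun v w h => hinj (congrArg Subtype.val h), ?_⟩
      rw [← Nat.card_eq_fintype_card (α := A), hA, Fintype.card_prod, ZMod.card, sq]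
    obtain ⟨v, hv⟩ := hbij.2 ⟨x, hx⟩
    exact ⟨v, congrArg Subtype.val hv⟩
  exact ⟨e, hmem, hsurj, hadd, hinj, by simp [e, ZMod.val_one], by simp [e, ZMod.val_one]⟩

/-- An element inducing `diag(t, t⁻¹)` on `A`, if all automorphisms of `A` of order `p` are induced. -/
theorem exists_induced_torus {A : Subgroup G} {e : ZMod p × ZMod p → G} (hmem : ∀ v, e v ∈ A)
    (hsurj : ∀ x ∈ A, ∃ v, e v = x) (hadd : ∀ v w, e (v + w) = e v * e w) (hinj : Function.Injective e)
    (hSL : ∀ φ : MulAut ↥A, orderOf φ = p → ∃ g : G, ∀ a : ↥A, (φ a : G) = g * (a : G) * g⁻¹)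
    (t : (ZMod p)ˣ) :
    ∃ g : G, ∀ v : ZMod p × ZMod p, g * e v * g⁻¹ = e ((t : ZMod p) * v.1, ((t⁻¹ : (ZMod p)ˣ) : ZMod p) * v.2) := by
  let E : Multiplicative (ZMod p × ZMod p) ≃* A :=
    MulEquiv.ofBijective (MonoidHom.mk' (fun v => (⟨e (Multiplicative.toAdd v), hmem _⟩ : A))
      (fun v w => Subtype.ext (hadd _ _)))
      ⟨fun v w h => Multiplicative.toAdd.injective (hinj (congrArg Subtype.val h)),
        fun x => by obtain ⟨v, hv⟩ := hsurj x x.2; exact ⟨Multiplicative.ofAdd v, Subtype.ext hv⟩⟩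
  have hind : ∀ f : ZMod p × ZMod p → ZMod p × ZMod p, (∀ v w, f (v + w) = f v + f w) →
      (∀ v, f^[p] v = v) → ∃ g : G, ∀ v, g * e v * g⁻¹ = e (f v) := by
    intro f hf hfp
    have hp0 : p = p - 1 + 1 := (Nat.succ_pred_eq_of_pos (Fact.out : p.Prime).pos).symm
    let F : (ZMod p × ZMod p) ≃+ (ZMod p × ZMod p) :=
      { toFun := f
        invFun := f^[p - 1]
        left_inv := fun v => by rw [← Function.iterate_succ_apply]; rw [Nat.succ_eq_add_one, ← hp0]; exact hfp v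
        right_inv := fun v => by rw [← Function.iterate_succ_apply' f]; rw [Nat.succ_eq_add_one, ← hp0]; exact hfp v
        map_add' := hf }
    let φ : MulAut A := (E.symm.trans (AddEquiv.toMultiplicative F)).trans E
    have hφ : ∀ v, (φ (E (Multiplicative.ofAdd v)) : G) = e (f v) := fun v => by
      show ((E ((AddEquiv.toMultiplicative F) (E.symm (E (Multiplicative.ofAdd v))))) : G) = e (f v)
      rw [MulEquiv.symm_apply_apply]
      rfl
    by_cases hφ1 : φ = 1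
    · refine ⟨1, fun v => ?_⟩
      rw [← hφ v, hφ1, one_mul, inv_one, mul_one]
      rfl
    have hpow : ∀ (n : ℕ) v, (φ ^ n) (E (Multiplicative.ofAdd v)) = E (Multiplicative.ofAdd (f^[n] v)) := by
      intro n
      induction n with
      | zero => exact fun v => rfl
      | succ n ih =>
        intro v
        rw [pow_succ, MulAut.mul_apply, Function.iterate_succ_apply, ← ih]
        congr 1
        exact Subtype.ext (hφ v)
    have ho : orderOf φ = p := orderOf_eq_prime (MulEquiv.ext fun x => by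
      obtain ⟨v, rfl⟩ := E.surjective x
      rw [← ofAdd_toAdd v, hpow, hfp]
      rfl) hφ1
    obtain ⟨g, hg⟩ := hSL φ ho
    refine ⟨g, fun v => ?_⟩
    rw [← hφ v, hg]
    rfl
  have hup : ∀ s : ZMod p, ∃ g : G, ∀ v, g * e v * g⁻¹ = e (v.1 + s * v.2, v.2) := fun s =>
    hind (fun v => (v.1 + s * v.2, v.2)) (fun v w => Prod.ext (by show _ = _ + _; simp; ring) rfl) (fun v => by
      have : ∀ n : ℕ, (fun v : ZMod p × ZMod p => (v.1 + s * v.2, v.2))^[n] v = (v.1 + n * (s * v.2), v.2) := by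
        intro n
        induction n with
        | zero => simp
        | succ n ih =>
          rw [Function.iterate_succ_apply', ih]
          refine Prod.ext ?_ rfl
          push_cast
          ring
      rw [this, ZMod.natCast_self]
      simp)
  have hdn : ∀ s : ZMod p, ∃ g : G, ∀ v, g * e v * g⁻¹ = e (v.1, v.2 + s * v.1) := fun s =>
    hind (fun v => (v.1, v.2 + s * v.1)) (fun v w => Prod.ext rfl (by show _ = _ + _; simp; ring)) (fun v => by
      have : ∀ n : ℕ, (fun v : ZMod p × ZMod p => (v.1, v.2 + s * v.1))^[n] v = (v.1, v.2 + n * (s * v.1)) := by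
        intro n
        induction n with
        | zero => simp
        | succ n ih =>
          rw [Function.iterate_succ_apply', ih]
          refine Prod.ext rfl ?_
          push_cast
          ring
      rw [this, ZMod.natCast_self]
      simp)
  have hw : ∀ u : (ZMod p)ˣ, ∃ g : G, ∀ v, g * e v * g⁻¹ =
      e ((u : ZMod p) * v.2, -((u⁻¹ : (ZMod p)ˣ) : ZMod p) * v.1) := by
    intro u
    obtain ⟨g₁, h₁⟩ := hup (u : ZMod p)
    obtain ⟨g₂, h₂⟩ := hdn (-((u⁻¹ : (ZMod p)ˣ) : ZMod p))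
    refine ⟨g₁ * g₂ * g₁, fun v => ?_⟩
    rw [show g₁ * g₂ * g₁ * e v * (g₁ * g₂ * g₁)⁻¹ = g₁ * (g₂ * (g₁ * e v * g₁⁻¹) * g₂⁻¹) * g₁⁻¹ by group,
      h₁, h₂, h₁]
    refine congrArg e (Prod.ext ?_ ?_)
    · show v.1 + (u : ZMod p) * v.2 + (u : ZMod p) * (v.2 + -((u⁻¹ : (ZMod p)ˣ) : ZMod p) * (v.1 + (u : ZMod p) * v.2)) = _
      linear_combination (-(v.1 + (u : ZMod p) * v.2)) * u.mul_inv
    · show v.2 + -((u⁻¹ : (ZMod p)ˣ) : ZMod p) * (v.1 + (u : ZMod p) * v.2) = _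
      linear_combination (-v.2) * u.mul_inv
  obtain ⟨g₁, h₁⟩ := hw t
  obtain ⟨g₂, h₂⟩ := hw (-1)
  refine ⟨g₁ * g₂, fun v => ?_⟩
  rw [show g₁ * g₂ * e v * (g₁ * g₂)⁻¹ = g₁ * (g₂ * e v * g₂⁻¹) * g₁⁻¹ by group, h₂, h₁]
  refine congrArg e (Prod.ext ?_ ?_) <;> simp only [inv_neg, inv_one, Units.val_neg, Units.val_one] <;> ring

/-- A torus element of `A` can be chosen to normalize the Sylow subgroup. -/
theorem exists_normalizer_torus (P : Sylow p G) (hexp : ∀ x ∈ (P : Subgroup G), x ^ p = 1)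
    {A : Subgroup G} (hAP : A ≤ (P : Subgroup G)) (hAcard : Nat.card A = p ^ 2)
    (hAn : (P : Subgroup G) ≤ Subgroup.normalizer (A : Set G))
    (hAc : ¬ (P : Subgroup G) ≤ Subgroup.centralizer (A : Set G))
    (hSL : ∀ φ : MulAut ↥A, orderOf φ = p → ∃ g : G, ∀ a : ↥A, (φ a : G) = g * (a : G) * g⁻¹)
    {z a : G} (hz : z ∈ A) (ha : a ∈ A) (hz1 : z ≠ 1) (haz : a ∉ Subgroup.zpowers z)
    (hzc : ∀ x ∈ (P : Subgroup G), x * z = z * x)
    (hder : ∀ x ∈ (P : Subgroup G), ⁅x, a⁆ ∈ Subgroup.zpowers z)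
    (t : (ZMod p)ˣ) :
    ∃ g ∈ Subgroup.normalizer ((P : Subgroup G) : Set G),
      g * z * g⁻¹ = z ^ (t : ZMod p).val ∧ g * a * g⁻¹ = a ^ ((t⁻¹ : (ZMod p)ˣ) : ZMod p).val := by
  classical
  obtain ⟨e, hmem, hsurj, hadd, hinj, hez, hea⟩ :=
    exists_pair_equiv hAcard (fun x hx => hexp x (hAP hx)) hz ha hz1 haz
  obtain ⟨g, hg⟩ := exists_induced_torus hmem hsurj hadd hinj hSL t
  have he0 : e 0 = 1 := by
    have h := hadd 0 0; rwa [add_zero, left_eq_mul] at h
  have hepow : ∀ (n : ℕ) v, e (n • v) = e v ^ n := fun n v => by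
    induction n with
    | zero => simp [he0]
    | succ n ih => rw [succ_nsmul, hadd, ih, pow_succ]
  have hei : ∀ (i : ZMod p), e (i, 0) = z ^ i.val ∧ e (0, i) = a ^ i.val := fun i => by
    constructor
    · rw [← hez, ← hepow]; simp [ZMod.natCast_zmod_val]
    · rw [← hea, ← hepow]; simp [ZMod.natCast_zmod_val]
  -- automorphisms induced by `P`
  have hact : ∀ x ∈ (P : Subgroup G), ∃ k : ZMod p, ∀ v, x * e v * x⁻¹ = e (v.1 + k * v.2, v.2) := by
    intro x hx
    obtain ⟨i, hi⟩ := hder x hx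
    have hi' : z ^ i = ⁅x, a⁆ := hi
    refine ⟨(i : ZMod p), fun v => ?_⟩
    have hxa : x * a * x⁻¹ = e ((i : ZMod p), 1) := by
      have h1 : z ^ i = e ((i : ZMod p), 0) := by
        rw [(hei _).1, ← zpow_natCast]
        rw [zpow_eq_zpow_iff_modEq, orderOf_eq_prime (hexp z (hAP hz)) hz1, ← ZMod.intCast_eq_intCast_iff]
        simp [ZMod.natCast_zmod_val]
      rw [show ((i : ZMod p), (1 : ZMod p)) = ((i : ZMod p), 0) + (0, 1) by simp, hadd, ← h1, hi', hea,
        commutatorElement_def, inv_mul_cancel_right]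
    have hv : e v = e (v.1.val • ((1 : ZMod p), (0 : ZMod p)) + v.2.val • ((0 : ZMod p), (1 : ZMod p))) :=
      congrArg e (Prod.ext (by simp [ZMod.natCast_zmod_val]) (by simp [ZMod.natCast_zmod_val]))
    rw [hv, hadd, hepow, hepow, hez, hea, ← conj_mul, ← conj_pow, ← conj_pow, hzc x hx, mul_inv_cancel_right,
      hxa, ← hez, ← hepow, ← hepow, ← hadd]
    exact congrArg e (Prod.ext (by simp [ZMod.natCast_zmod_val]; ring) (by simp [ZMod.natCast_zmod_val]))
  obtain ⟨u, hu, hua⟩ : ∃ u ∈ (P : Subgroup G), u * a ≠ a * u := by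
    by_contra h
    push Not at h
    refine hAc fun x hx => Subgroup.mem_centralizer_iff.2 fun y hy => ?_
    obtain ⟨⟨i, j⟩, rfl⟩ := hsurj y hy
    have e1 : ((i, j) : ZMod p × ZMod p) = (i, 0) + (0, j) := by simp
    rw [e1, hadd, (hei i).1, (hei j).2]
    exact (((show Commute x z from hzc x hx).pow_right _).mul_right
      ((show Commute x a from h x hx).pow_right _)).eq.symm
  obtain ⟨k₀, hk₀⟩ := hact u hu
  have hk₀0 : k₀ ≠ 0 := by
    intro h
    refine hua (mul_inv_eq_iff_eq_mul.1 ?_)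
    rw [← hea, hk₀, h]
    simp
  set C := Subgroup.centralizer (A : Set G) with hC
  have hPC : (P : Subgroup G) ≤ Subgroup.normalizer (C : Set G) := by
    intro x hx
    refine mem_normalizer_iff_cj.2 ?_
    rw [hC, cj_centralizer, cj_eq_self (hAn hx)]
  set L := (P : Subgroup G) ⊔ C with hL
  have hLset : ∀ l ∈ L, ∃ y ∈ (P : Subgroup G), ∃ c ∈ C, l = y * c := by
    intro l hl
    have h : l ∈ ((P : Subgroup G) : Set G) * (C : Set G) := by
      rw [← Subgroup.coe_mul_of_left_le_normalizer_right _ _ hPC]; exact hl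
    obtain ⟨y, hy, c, hc, rfl⟩ := h
    exact ⟨y, hy, c, hc, rfl⟩
  have hgP : cj (P : Subgroup G) g ≤ L := by
    rintro _ ⟨x, hx, rfl⟩
    show g * x * g⁻¹ ∈ L
    obtain ⟨k, hk⟩ := hact x hx
    obtain ⟨n, hn⟩ : ∃ n : ℕ, (n : ZMod p) * k₀ = (t : ZMod p) * k * (t : ZMod p) :=
      ⟨((t : ZMod p) * k * (t : ZMod p) / k₀).val, by rw [ZMod.natCast_zmod_val, div_mul_cancel₀ _ hk₀0]⟩
    have hun : ∀ (m : ℕ) v, u ^ m * e v * (u ^ m)⁻¹ = e (v.1 + (m : ZMod p) * k₀ * v.2, v.2) := by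
      intro m
      induction m with
      | zero => intro v; simp
      | succ m ih =>
        intro v
        rw [pow_succ, show u ^ m * u * e v * (u ^ m * u)⁻¹ = u ^ m * (u * e v * u⁻¹) * (u ^ m)⁻¹ by group,
          hk₀, ih]
        exact congrArg e (Prod.ext (by push_cast; ring) rfl)
    have hy : ∀ v, g * x * g⁻¹ * e v * (g * x * g⁻¹)⁻¹ = u ^ n * e v * (u ^ n)⁻¹ := by
      intro v
      obtain ⟨w, rfl⟩ : ∃ w : ZMod p × ZMod p,
          v = ((t : ZMod p) * w.1, ((t⁻¹ : (ZMod p)ˣ) : ZMod p) * w.2) :=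
        ⟨(((t⁻¹ : (ZMod p)ˣ) : ZMod p) * v.1, (t : ZMod p) * v.2),
          Prod.ext (by simp only [← mul_assoc, Units.mul_inv, one_mul]) (by simp only [← mul_assoc, Units.inv_mul, one_mul])⟩
      rw [hun, hn, ← hg w, show g * x * g⁻¹ * (g * e w * g⁻¹) * (g * x * g⁻¹)⁻¹
        = g * (x * e w * x⁻¹) * g⁻¹ by group, hk, hg]
      refine congrArg e (Prod.ext ?_ rfl)
      show (t : ZMod p) * (w.1 + k * w.2) = (t : ZMod p) * w.1 + (t : ZMod p) * k * (t : ZMod p) * (((t⁻¹ : (ZMod p)ˣ) : ZMod p) * w.2)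
      linear_combination (-((t : ZMod p) * k * w.2)) * t.mul_inv
    have hcC : (u ^ n)⁻¹ * (g * x * g⁻¹) ∈ C := by
      refine Subgroup.mem_centralizer_iff.2 fun y hy' => ?_
      obtain ⟨v, rfl⟩ := hsurj y hy'
      rw [eq_comm, ← mul_inv_eq_iff_eq_mul]
      calc (u ^ n)⁻¹ * (g * x * g⁻¹) * e v * ((u ^ n)⁻¹ * (g * x * g⁻¹))⁻¹
          = (u ^ n)⁻¹ * (g * x * g⁻¹ * e v * (g * x * g⁻¹)⁻¹) * u ^ n := by group
        _ = e v := by rw [hy]; group
    rw [← mul_inv_cancel_left (u ^ n) (g * x * g⁻¹)]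
    exact mul_mem (Subgroup.mem_sup_left (pow_mem hu n)) (Subgroup.mem_sup_right hcC)
  obtain ⟨l, hl, hlP⟩ := ((sylIn_top P).mono le_sup_left (le_top : L ≤ ⊤)).conj_le
    (isPGroup_cj P.isPGroup' g) hgP
  obtain ⟨y, hy, c, hc, rfl⟩ := hLset l hl
  have hN : cj (P : Subgroup G) (c * g) = (P : Subgroup G) := by
    refine cj_eq_of_cj_le ?_
    rw [show c * g = y⁻¹ * (y * c * g) by group, ← cj_cj, ← cj_cj (a := g)]
    refine (cj_mono hlP _).trans ?_
    rw [cj_eq_self_of_mem (inv_mem hy)]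
  have hcfix : ∀ v, c * g * e v * (c * g)⁻¹ = e ((t : ZMod p) * v.1, ((t⁻¹ : (ZMod p)ˣ) : ZMod p) * v.2) := by
    intro v
    rw [show c * g * e v * (c * g)⁻¹ = c * (g * e v * g⁻¹) * c⁻¹ by group, hg,
      ← Subgroup.mem_centralizer_iff.1 hc _ (hmem _), mul_inv_cancel_right]
  refine ⟨c * g, mem_normalizer_iff_cj.2 hN, ?_, ?_⟩
  · rw [← hez, hcfix, hez, ← (hei _).1, mul_one, mul_zero]
  · rw [← hea, hcfix, hea, ← (hei _).2, mul_one, mul_zero]

end Cfsg.Agent.LocalEven
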