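import Cfsg.Agent.Lib.LocalEven.SubnormalJoin
import Cfsg.Agent.Lib.LocalEven.CharP
import Cfsg.Prelude.Def_LocalEven

/-!
Point stabilisers of subnormal subgroups in groups of local characteristic `p`.
-/

set_option autoImplicit false

namespace Cfsg.Agent.LocalEven.PointStab

open Cfsg Cfsg.Agent.Fusion

variable {G : Type*} [Group G] [Finite G] {p : ℕ} [hp : Fact p.Prime]

/-- The trace map of a coprime index subgroup on an abelian invariant subgroup. -/
theorem exists_trace (W C T₀ : Subgroup G) (hW : ∀ a ∈ W, ∀ b ∈ W, a * b = b * a)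
    (hCW : C ≤ Subgroup.normalizer (W : Set G)) :
    ∃ tr : G → G,
      (∀ y ∈ W ⊓ Subgroup.centralizer (T₀ : Set G), tr y ∈ W ∧ (∀ c ∈ C, c * tr y = tr y * c) ∧
        (∀ M : Subgroup G, C ≤ Subgroup.normalizer (M : Set G) → (∀ c ∈ C, c * y * c⁻¹ * y⁻¹ ∈ M) →
          tr y * (y ^ (T₀.subgroupOf C).index)⁻¹ ∈ M) ∧
        (∀ t : G, t ∈ Subgroup.normalizer (W : Set G) → t ∈ Subgroup.normalizer (C : Set G) →
          t ∈ Subgroup.normalizer (T₀ : Set G) → tr (t * y * t⁻¹) = t * tr y * t⁻¹)) ∧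
      (∀ y ∈ W ⊓ Subgroup.centralizer (T₀ : Set G), ∀ y' ∈ W ⊓ Subgroup.centralizer (T₀ : Set G),
        tr (y * y') = tr y * tr y') := by
  classical
  letI : CommGroup W := { (inferInstance : Group W) with mul_comm := fun a b => Subtype.ext (hW a a.2 b b.2) }
  haveI : Fintype (↥C ⧸ T₀.subgroupOf C) := Fintype.ofFinite _
  let act : ↥C → W → W := fun c w => ⟨(c : G) * w * (c : G)⁻¹, (Subgroup.mem_normalizer_iff.1 (hCW c.2) w).1 w.2⟩
  have hout : ∀ {y : G} (hy : y ∈ W), y ∈ Subgroup.centralizer (T₀ : Set G) → ∀ c : ↥C,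
      act ((QuotientGroup.mk c : ↥C ⧸ T₀.subgroupOf C).out) ⟨y, hy⟩ = act c ⟨y, hy⟩ := by
    intro y hy hc c
    obtain ⟨t, ht⟩ := QuotientGroup.mk_out_eq_mul (T₀.subgroupOf C) c
    apply Subtype.ext
    show ((QuotientGroup.mk c : ↥C ⧸ T₀.subgroupOf C).out : G) * y * _ = (c : G) * y * (c : G)⁻¹
    rw [ht]
    have h1 : ((t : ↥C) : G) * y = y * ((t : ↥C) : G) := Subgroup.mem_centralizer_iff.1 hc _ t.2
    push_cast
    calc (c : G) * ((t : ↥C) : G) * y * ((c : G) * ((t : ↥C) : G))⁻¹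
        = (c : G) * (((t : ↥C) : G) * y) * ((t : ↥C) : G)⁻¹ * (c : G)⁻¹ := by group
      _ = (c : G) * y * (c : G)⁻¹ := by rw [h1]; group
  refine ⟨fun y => if hy : y ∈ W then ((∏ q : ↥C ⧸ T₀.subgroupOf C, act q.out ⟨y, hy⟩ : W) : G) else 1,
    fun y hy => ?_, fun y hy y' hy' => ?_⟩
  · obtain ⟨hyW, hyT⟩ := Subgroup.mem_inf.1 hy
    simp only [dif_pos hyW]
    refine ⟨(∏ q : ↥C ⧸ T₀.subgroupOf C, act q.out ⟨y, hyW⟩ : W).2, fun c hc => ?_, fun M hCM hM => ?_,
      fun t htW htC htT => ?_⟩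
    · let φ : W →* W := MonoidHom.mk' (act ⟨c, hc⟩) fun a b => Subtype.ext (by simp [act, mul_assoc])
      have h : act ⟨c, hc⟩ (∏ q : ↥C ⧸ T₀.subgroupOf C, act q.out ⟨y, hyW⟩) =
          ∏ q : ↥C ⧸ T₀.subgroupOf C, act q.out ⟨y, hyW⟩ := by
        show φ _ = _
        rw [map_prod]
        refine Fintype.prod_equiv (MulAction.toPerm (⟨c, hc⟩ : ↥C)) _ _ fun q => ?_
        induction q using QuotientGroup.induction_on with
        | H d =>
          show act ⟨c, hc⟩ (act _ _) = act (QuotientGroup.mk (⟨c, hc⟩ * d) : ↥C ⧸ T₀.subgroupOf C).out _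
          rw [hout hyW hyT, hout hyW hyT]
          exact Subtype.ext (by simp [act, mul_assoc])
      have h' := congrArg Subtype.val h
      simp only [act] at h'
      exact mul_inv_eq_iff_eq_mul.1 h'
    · obtain ⟨V, hV⟩ : ∃ V, V = M.subgroupOf W := ⟨_, rfl⟩
      haveI : V.Normal := ⟨fun v hv g => by rwa [mul_comm g, mul_inv_cancel_right]⟩
      have h : (∏ q : ↥C ⧸ T₀.subgroupOf C, act q.out ⟨y, hyW⟩) *
          ((⟨y, hyW⟩ : W) ^ (T₀.subgroupOf C).index)⁻¹ ∈ V := by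
        rw [Subgroup.index_eq_card, Nat.card_eq_fintype_card, ← Finset.card_univ, ← Finset.prod_const,
          ← Finset.prod_inv_distrib, ← Finset.prod_mul_distrib]
        refine prod_mem fun q _ => ?_
        rw [hV, Subgroup.mem_subgroupOf]
        exact hM _ q.out.2
      rw [hV, Subgroup.mem_subgroupOf] at h
      simpa using h
    · have hyt : t * y * t⁻¹ ∈ W := (Subgroup.mem_normalizer_iff.1 htW y).1 hyW
      rw [dif_pos hyt]
      let ψ : W →* W := MonoidHom.mk' (fun w => ⟨t * w * t⁻¹, (Subgroup.mem_normalizer_iff.1 htW w).1 w.2⟩)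
        fun a b => Subtype.ext (by simp [mul_assoc])
      let κ : ↥C → ↥C := fun d => ⟨t * d * t⁻¹, (Subgroup.mem_normalizer_iff.1 htC d).1 d.2⟩
      have hκ : ∀ a b : ↥C, a⁻¹ * b ∈ T₀.subgroupOf C ↔ (κ a)⁻¹ * κ b ∈ T₀.subgroupOf C := by
        intro a b
        rw [Subgroup.mem_subgroupOf, Subgroup.mem_subgroupOf, Subgroup.mem_normalizer_iff.1 htT]
        refine Iff.of_eq (congrArg (· ∈ T₀) ?_)
        simp [κ, mul_assoc]
      let e : ↥C ⧸ T₀.subgroupOf C → ↥C ⧸ T₀.subgroupOf C :=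
        Quotient.map' κ fun a b hab => by
          rw [QuotientGroup.leftRel_apply] at hab ⊢
          exact (hκ a b).1 hab
      have hei : Function.Injective e := by
        intro a b
        induction a using QuotientGroup.induction_on with
        | H a =>
          induction b using QuotientGroup.induction_on with
          | H b => exact fun h => QuotientGroup.eq.2 ((hκ a b).2 (QuotientGroup.eq.1 h))
      have hytT : t * y * t⁻¹ ∈ Subgroup.centralizer (T₀ : Set G) := by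
        refine Subgroup.mem_centralizer_iff.2 fun s hs => ?_
        have hs' : t⁻¹ * s * t ∈ T₀ := (Subgroup.mem_normalizer_iff.1 htT _).2 (by simpa [mul_assoc] using hs)
        calc s * (t * y * t⁻¹) = t * ((t⁻¹ * s * t) * y) * t⁻¹ := by group
          _ = t * (y * (t⁻¹ * s * t)) * t⁻¹ := by rw [Subgroup.mem_centralizer_iff.1 hyT _ hs']
          _ = _ := by group
      have h : ψ (∏ q : ↥C ⧸ T₀.subgroupOf C, act q.out ⟨y, hyW⟩) =
          ∏ q : ↥C ⧸ T₀.subgroupOf C, act q.out ⟨t * y * t⁻¹, hyt⟩ := by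
        rw [map_prod]
        refine Fintype.prod_equiv (Equiv.ofBijective e (Finite.injective_iff_bijective.1 hei)) _ _ fun q => ?_
        induction q using QuotientGroup.induction_on with
        | H d =>
          show ψ (act _ _) = act (QuotientGroup.mk (κ d) : ↥C ⧸ T₀.subgroupOf C).out _
          rw [hout hyW hyT, hout hyt hytT]
          exact Subtype.ext (by simp [ψ, act, κ, mul_assoc])
      exact (congrArg Subtype.val h).symm
  · obtain ⟨hyW, hyT⟩ := Subgroup.mem_inf.1 hy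
    obtain ⟨hyW', hyT'⟩ := Subgroup.mem_inf.1 hy'
    simp only [dif_pos hyW, dif_pos hyW', dif_pos (mul_mem hyW hyW')]
    rw [← Subgroup.coe_mul, ← Finset.prod_mul_distrib]
    exact congrArg Subtype.val (Finset.prod_congr rfl fun q _ => Subtype.ext (by simp [act, mul_assoc]))

omit [Finite G] hp in
theorem mem_omega {U : Subgroup G} {y : G} :
    y ∈ omegaOne p (U ⊓ Subgroup.centralizer (U : Set G)) ↔
      y ∈ U ∧ y ∈ Subgroup.centralizer (U : Set G) ∧ y ^ p = 1 := by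
  refine ⟨fun h => ?_, fun h => Subgroup.subset_closure ⟨⟨h.1, h.2.1⟩, h.2.2⟩⟩
  refine Subgroup.closure_induction (fun x hx => ⟨hx.1.1, hx.1.2, hx.2⟩) ⟨one_mem _, one_mem _, one_pow p⟩
    (fun a b _ _ ha hb => ⟨mul_mem ha.1 hb.1, mul_mem ha.2.1 hb.2.1, ?_⟩)
    (fun a _ ha => ⟨inv_mem ha.1, inv_mem ha.2.1, by rw [inv_pow, ha.2.2, inv_one]⟩) h
  rw [(show Commute a b from Subgroup.mem_centralizer_iff.1 hb.2.1 a ha.1).mul_pow, ha.2.2, hb.2.2, one_mul]

omit [Finite G] hp in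
theorem le_centralizer_omega (U : Subgroup G) :
    U ≤ Subgroup.centralizer (omegaOne p (U ⊓ Subgroup.centralizer (U : Set G)) : Set G) := fun x hx =>
  Subgroup.mem_centralizer_iff.2 fun _ hy => (Subgroup.mem_centralizer_iff.1 (mem_omega.1 hy).2.1 x hx).symm

theorem omega_ne_bot {U : Subgroup G} (hU : IsPGroup p U) (hne : U ≠ ⊥) :
    omegaOne p (U ⊓ Subgroup.centralizer (U : Set G)) ≠ ⊥ := by
  obtain ⟨z, hz, hzo, hzc⟩ := exists_central_order hU le_rfl Subgroup.le_normalizer hne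
  intro h
  have h1 : z ∈ (⊥ : Subgroup G) :=
    h ▸ mem_omega.2 ⟨hz, Subgroup.mem_centralizer_iff.2 hzc, by rw [← hzo]; exact pow_orderOf_eq_one z⟩
  rw [Subgroup.mem_bot.1 h1, orderOf_one] at hzo
  exact hp.out.ne_one hzo.symm

/-- data in a group of local characteristic `p` -/
theorem charP_inf_centralizer (hG : IsOfLocalCharacteristic p G) {K : Subgroup G} (hK : K.IsSubnormal)
    {U : Subgroup G} (hU : IsPGroup p U) (hne : U ≠ ⊥) :
    CharP p (K ⊓ Subgroup.centralizer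
      (omegaOne p (U ⊓ Subgroup.centralizer (U : Set G)) : Set G)) := by
  have hO : IsPGroup p ↥(omegaOne p (U ⊓ Subgroup.centralizer (U : Set G))) :=
    hU.to_le fun y hy => (mem_omega.1 hy).1
  exact charP_inf_subnormal
    (charP_centralizer hO le_rfl Subgroup.le_normalizer (hG.2 _ hO (omega_ne_bot hU hne))) hK

/-- the largest normal `p`-subgroup of a subgroup of characteristic `p` -/
theorem exists_core {X R : Subgroup G} (hX : CharP p X) (hR : SylIn p R X) :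
    ∃ O : Subgroup G, O ≤ R ∧ X ≤ Subgroup.normalizer (O : Set G) ∧
      Subgroup.normalizer (X : Set G) ≤ Subgroup.normalizer (O : Set G) ∧
      X ⊓ Subgroup.centralizer (O : Set G) ≤ O := by
  obtain ⟨O, hO⟩ : ∃ O, O = (pCore p ↥X).map X.subtype := ⟨_, rfl⟩
  have hn : Subgroup.normalizer (X : Set G) ≤ Subgroup.normalizer (O : Set G) :=
    hO ▸ normalizer_le_char _ _
  have hXn : X ≤ Subgroup.normalizer (O : Set G) := Subgroup.le_normalizer.trans hn
  refine ⟨O, ?_, hXn, hn, ?_⟩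
  · obtain ⟨x, hx, hle⟩ := hR.conj_le (hO ▸ (isPGroup_pCore p ↥X).map _) (hO ▸ Subgroup.map_subtype_le _)
    rwa [cj_eq_self (hXn hx)] at hle
  · intro x hx
    rw [hO]
    refine ⟨⟨x, hx.1⟩, hX (Subgroup.mem_centralizer_iff.2 fun m hm => Subtype.ext ?_), rfl⟩
    exact Subgroup.mem_centralizer_iff.1 hx.2 m (hO ▸ Subgroup.mem_map_of_mem X.subtype hm)

variable (T : Sylow p G)

/-- One normal step. -/
theorem step (hG : IsOfLocalCharacteristic p G) {A K : Subgroup G} (hA : A.IsSubnormal) (hK : K.IsSubnormal)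
    (hAK : A ≤ K) (hKA : K ≤ Subgroup.normalizer (A : Set G)) (hne : (T : Subgroup G) ⊓ A ≠ ⊥) :
    A ⊓ Subgroup.centralizer (omegaOne p ((T : Subgroup G) ⊓ A ⊓
        Subgroup.centralizer (((T : Subgroup G) ⊓ A : Subgroup G) : Set G)) : Set G) =
      A ⊓ Subgroup.centralizer (omegaOne p ((T : Subgroup G) ⊓ K ⊓
        Subgroup.centralizer (((T : Subgroup G) ⊓ K : Subgroup G) : Set G)) : Set G) := by
  obtain ⟨U, hU⟩ : ∃ U, U = (T : Subgroup G) ⊓ A := ⟨_, rfl⟩
  obtain ⟨V, hV⟩ : ∃ V, V = (T : Subgroup G) ⊓ K := ⟨_, rfl⟩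
  rw [← hU] at hne
  rw [← hU, ← hV]
  have hUV : U ≤ V := hU ▸ hV ▸ inf_le_inf_left _ hAK
  have hVp : IsPGroup p V := hV ▸ T.isPGroup'.to_inf_left
  have hUp : IsPGroup p U := hVp.to_le hUV
  have hVne : V ≠ ⊥ := fun h => hne (le_bot_iff.1 (h ▸ hUV))
  have hUA : SylIn p U A := hU ▸ sylIn_inf_subnormal T hA
  have hVK : SylIn p V K := hV ▸ sylIn_inf_subnormal T hK
  have hUeq : V ⊓ A = U := by
    rw [hU, hV, inf_assoc, inf_eq_right.2 hAK]
  have hVU : V ≤ Subgroup.normalizer (U : Set G) := fun v hv => by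
    rw [← hUeq]
    exact mem_normalizer_iff_cj.2 (by rw [cj_inf, cj_eq_self_of_mem hv, cj_eq_self (hKA (hVK.le hv))])
  obtain ⟨Ω, hΩ⟩ : ∃ Ω, Ω = omegaOne p (U ⊓ Subgroup.centralizer (U : Set G)) := ⟨_, rfl⟩
  obtain ⟨Ψ, hΨ⟩ : ∃ Ψ, Ψ = omegaOne p (V ⊓ Subgroup.centralizer (V : Set G)) := ⟨_, rfl⟩
  rw [← hΩ, ← hΨ]
  have hΩU : Ω ≤ U := fun y hy => (mem_omega.1 (hΩ ▸ hy)).1
  have hΨV : Ψ ≤ V := fun y hy => (mem_omega.1 (hΨ ▸ hy)).1
  have hUΩ : U ≤ Subgroup.centralizer (Ω : Set G) := hΩ ▸ le_centralizer_omega U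
  have hVΨ : V ≤ Subgroup.centralizer (Ψ : Set G) := hΨ ▸ le_centralizer_omega V
  have hVΩ : V ≤ Subgroup.normalizer (Ω : Set G) := fun v hv => mem_normalizer_of_cj_le (by
    rintro _ ⟨y, hy, rfl⟩
    obtain ⟨h1, h2, h3⟩ := mem_omega.1 (hΩ ▸ hy)
    refine hΩ ▸ mem_omega.2 ⟨(Subgroup.mem_normalizer_iff.1 (hVU hv) y).1 h1,
      Subgroup.mem_centralizer_iff.2 fun s hs => ?_, by simp [conj_pow, h3]⟩
    have hs' : v⁻¹ * s * v ∈ U := (Subgroup.mem_normalizer_iff.1 (hVU hv) _).2 (by simpa [mul_assoc] using hs)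
    show s * (v * y * v⁻¹) = v * y * v⁻¹ * s
    calc s * (v * y * v⁻¹) = v * ((v⁻¹ * s * v) * y) * v⁻¹ := by group
      _ = v * (y * (v⁻¹ * s * v)) * v⁻¹ := by rw [Subgroup.mem_centralizer_iff.1 h2 _ hs']
      _ = _ := by group)
  have hppow : ∀ {C : Subgroup G}, U ≤ C → C ≤ A → (p.Coprime (U.subgroupOf C).index) := fun hUC hCA =>
    hp.out.coprime_iff_not_dvd.2 (hUA.mono hUC hCA).not_dvd
  refine le_antisymm ?_ ?_
  · -- the centraliser of `Ω` centralises `Ψ`
    refine le_inf inf_le_left (Subgroup.le_centralizer_iff.1 fun x hx => ?_)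
    obtain ⟨hxV, hxc, hxp⟩ := mem_omega.1 (hΨ ▸ hx)
    obtain ⟨X, hX⟩ : ∃ X, X = K ⊓ Subgroup.centralizer (Ω : Set G) := ⟨_, rfl⟩
    have hXcp : CharP p X := by
      rw [hX, hΩ]; exact charP_inf_centralizer hG hK hUp hne
    have hR : SylIn p (V ⊓ X) X := by
      have h1 : SylIn p V (K ⊓ Subgroup.normalizer (Ω : Set G)) := hVK.mono (le_inf hVK.le hVΩ) inf_le_left
      refine h1.inf_normal (hX ▸ inf_le_inf_left _ (Subgroup.centralizer_le_normalizer _)) ?_
      intro g hg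
      refine mem_normalizer_iff_cj.2 ?_
      rw [hX, cj_inf, cj_eq_self_of_mem hg.1, cj_centralizer, cj_eq_self hg.2]
    obtain ⟨O, hOR, hXO, -, hOc⟩ := exists_core hXcp hR
    have hxX : x ∈ X := by
      rw [hX]
      exact ⟨hVK.le hxV, Subgroup.mem_centralizer_iff.2 fun y hy =>
        Subgroup.mem_centralizer_iff.1 hxc y (hUV (hΩU hy))⟩
    have hxO : x ∈ Subgroup.centralizer (O : Set G) := Subgroup.mem_centralizer_iff.2 fun o ho =>
      Subgroup.mem_centralizer_iff.1 hxc o (hOR ho).1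
    obtain ⟨W, hW⟩ : ∃ W, W = O ⊓ Subgroup.centralizer (O : Set G) := ⟨_, rfl⟩
    have hxW : x ∈ W := hW ▸ ⟨hOc ⟨hxX, hxO⟩, hxO⟩
    have hWab : ∀ a ∈ W, ∀ b ∈ W, a * b = b * a := by
      rw [hW]; exact fun a ha b hb => Subgroup.mem_centralizer_iff.1 hb.2 a ha.1
    have hXW : X ≤ Subgroup.normalizer (W : Set G) := fun g hg => mem_normalizer_iff_cj.2 (by
      rw [hW, cj_inf, cj_centralizer, cj_eq_self (hXO hg)])
    obtain ⟨C, hC⟩ : ∃ C, C = A ⊓ Subgroup.centralizer (Ω : Set G) := ⟨_, rfl⟩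
    rw [← hC]
    have hCX : C ≤ X := hC ▸ hX ▸ inf_le_inf_right _ hAK
    obtain ⟨tr, htr, htrm⟩ := exists_trace W C U hWab (hCX.trans hXW)
    have hxU : x ∈ W ⊓ Subgroup.centralizer (U : Set G) :=
      ⟨hxW, Subgroup.centralizer_le (SetLike.coe_subset_coe.2 hUV) hxc⟩
    obtain ⟨hzW, hzC, hzM, -⟩ := htr x hxU
    obtain ⟨n, hn⟩ : ∃ n, n = (U.subgroupOf C).index := ⟨_, rfl⟩
    have hpn : p.Coprime n := hn ▸ hppow (hC ▸ le_inf hUA.le hUΩ) (hC ▸ inf_le_left)
    have ha : tr x * (x ^ n)⁻¹ ∈ A := by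
      rw [hn]
      refine hzM A ((hC ▸ inf_le_left : C ≤ A).trans Subgroup.le_normalizer) fun c hc => ?_
      have hcA : c ∈ A := (hC ▸ hc : c ∈ A ⊓ _).1
      rw [show c * x * c⁻¹ * x⁻¹ = c * (x * c⁻¹ * x⁻¹) by group]
      exact mul_mem hcA ((Subgroup.mem_normalizer_iff.1 (hKA (hVK.le hxV)) _).1 (inv_mem hcA))
    obtain ⟨a, had⟩ : ∃ a, a = tr x * (x ^ n)⁻¹ := ⟨_, rfl⟩
    rw [← had] at ha
    have haW : a ∈ W := had ▸ mul_mem hzW (inv_mem (pow_mem hxW n))
    have hpow : ∀ k : ℕ, tr (x ^ k) = tr x ^ k := by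
      intro k
      induction k with
      | zero =>
        have h := htrm 1 (one_mem _) 1 (one_mem _)
        rw [one_mul] at h
        simpa using h
      | succ k ih => rw [pow_succ, htrm _ (pow_mem hxU k) _ hxU, ih, pow_succ]
    have hap : a ^ p = 1 := by
      have hz : tr x ^ p = 1 := by rw [← hpow, hxp]; simpa using hpow 0
      rw [had, (show Commute (tr x) (x ^ n)⁻¹ from hWab _ hzW _ (inv_mem (pow_mem hxW n))).mul_pow, hz,
        inv_pow, ← pow_mul, mul_comm n, pow_mul, hxp, one_pow, inv_one, one_mul]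
    have hac : a ∈ Subgroup.centralizer (U : Set G) := by
      rw [had]
      exact mul_mem (Subgroup.mem_centralizer_iff.2 fun u hu => hzC u (hC ▸ ⟨hUA.le hu, hUΩ hu⟩))
        (inv_mem (pow_mem hxU.2 n))
    have haU : a ∈ U := by
      have hzp : IsPGroup p (Subgroup.zpowers a) :=
        hR.isPGroup.to_le (Subgroup.zpowers_le.2 (hOR ((hW ▸ haW : a ∈ O ⊓ _).1)))
      have hsup : IsPGroup p (U ⊔ Subgroup.zpowers a : Subgroup G) :=
        hUp.to_sup_of_normal_left' hzp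
          (Subgroup.zpowers_le.2 (Subgroup.centralizer_le_normalizer _ hac))
      rw [← hUA.eq_of_le hsup le_sup_left (sup_le hUA.le (Subgroup.zpowers_le.2 ha))]
      exact Subgroup.mem_sup_right (Subgroup.mem_zpowers a)
    have haΩ : a ∈ Ω := hΩ ▸ mem_omega.2 ⟨haU, hac, hap⟩
    refine Subgroup.mem_centralizer_iff.2 fun c hc => ?_
    have hca : Commute c a :=
      (Subgroup.mem_centralizer_iff.1 (hC ▸ hc : c ∈ A ⊓ _).2 a haΩ).symm
    have hcx : Commute c (x ^ n) := by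
      have h : x ^ n = a⁻¹ * tr x := by rw [had]; group
      rw [h]
      exact hca.inv_right.mul_right (hzC c hc)
    obtain ⟨m, -, hm⟩ := Nat.exists_mul_mod_eq_one_of_coprime hpn.symm hp.out.one_lt
    have hx' : (x ^ n) ^ m = x := by
      rw [← pow_mul]
      conv_rhs => rw [← pow_one x]
      rw [pow_eq_pow_mod _ hxp, hm]
    rw [← hx']
    exact hcx.pow_right m
  · -- the centraliser of `Ψ` centralises `Ω`
    refine le_inf inf_le_left ?_
    obtain ⟨X, hX⟩ : ∃ X, X = A ⊓ Subgroup.centralizer (Ψ : Set G) := ⟨_, rfl⟩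
    rw [← hX]
    have hXcp : CharP p X := by
      rw [hX, hΨ]; exact charP_inf_centralizer hG hA hVp hVne
    have hUX : U ≤ X := hX ▸ le_inf hUA.le (hUV.trans hVΨ)
    have hXA : X ≤ A := hX ▸ inf_le_left
    obtain ⟨O, hOU, hXO, hNO, hOc⟩ := exists_core hXcp (hUA.mono hUX hXA)
    obtain ⟨W, hW⟩ : ∃ W, W = O ⊓ Subgroup.centralizer (O : Set G) := ⟨_, rfl⟩
    have hWab : ∀ a ∈ W, ∀ b ∈ W, a * b = b * a := by
      rw [hW]; exact fun a ha b hb => Subgroup.mem_centralizer_iff.1 hb.2 a ha.1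
    have hXW : X ≤ Subgroup.normalizer (W : Set G) := fun g hg => mem_normalizer_iff_cj.2 (by
      rw [hW, cj_inf, cj_centralizer, cj_eq_self (hXO hg)])
    have hΩW : Ω ≤ W ⊓ Subgroup.centralizer (U : Set G) := fun y hy => by
      obtain ⟨h1, h2, -⟩ := mem_omega.1 (hΩ ▸ hy)
      have hyO : y ∈ Subgroup.centralizer (O : Set G) :=
        Subgroup.centralizer_le (SetLike.coe_subset_coe.2 hOU) h2
      exact ⟨hW ▸ ⟨hOc ⟨hUX h1, hyO⟩, hyO⟩, h2⟩
    obtain ⟨tr, htr, htrm⟩ := exists_trace W X U hWab hXW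
    have hVX : V ≤ Subgroup.normalizer (X : Set G) := fun v hv => mem_normalizer_iff_cj.2 (by
      rw [hX, cj_inf, cj_eq_self (hKA (hVK.le hv)), cj_centralizer,
        cj_eq_self (Subgroup.centralizer_le_normalizer _ (hVΨ hv))])
    have hVW : V ≤ Subgroup.normalizer (W : Set G) := fun v hv => mem_normalizer_iff_cj.2 (by
      rw [hW, cj_inf, cj_centralizer, cj_eq_self (hNO (hVX hv))])
    have htrΩ : ∀ y ∈ Ω, tr y ∈ Ω := by
      intro y hy
      obtain ⟨hzW, hzC, -, -⟩ := htr y (hΩW hy)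
      refine hΩ ▸ mem_omega.2 ⟨hOU (hW ▸ hzW : tr y ∈ O ⊓ _).1,
        Subgroup.mem_centralizer_iff.2 fun u hu => hzC u (hUX hu), ?_⟩
      have hpow : ∀ k : ℕ, tr (y ^ k) = tr y ^ k := by
        intro k
        induction k with
        | zero =>
          have h := htrm 1 (one_mem _) 1 (one_mem _)
          rw [one_mul] at h
          simpa using h
        | succ k ih => rw [pow_succ, htrm _ (pow_mem (hΩW hy) k) _ (hΩW hy), ih, pow_succ]
      rw [← hpow, (mem_omega.1 (hΩ ▸ hy)).2.2]; simpa using hpow 0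
    have htr1 : tr 1 = 1 := by
      have h := htrm 1 (one_mem _) 1 (one_mem _)
      rw [one_mul] at h
      simpa using h
    let φ : Ω →* Ω := MonoidHom.mk' (fun y => ⟨tr y, htrΩ y y.2⟩)
      fun a b => Subtype.ext (htrm _ (hΩW a.2) _ (hΩW b.2))
    have hinj : Function.Injective φ := by
      rw [← MonoidHom.ker_eq_bot_iff]
      by_contra hker
      obtain ⟨D, hD⟩ : ∃ D, D = φ.ker.map Ω.subtype := ⟨_, rfl⟩
      have hDΩ : D ≤ Ω := hD ▸ Subgroup.map_subtype_le _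
      have hVD : V ≤ Subgroup.normalizer (D : Set G) := fun v hv => mem_normalizer_of_cj_le (by
        rintro _ ⟨_, hd, rfl⟩
        rw [hD] at hd ⊢
        obtain ⟨y, hy, rfl⟩ := hd
        have hvy : v * y * v⁻¹ ∈ Ω := (Subgroup.mem_normalizer_iff.1 (hVΩ hv) y).1 y.2
        refine ⟨⟨_, hvy⟩, ?_, rfl⟩
        show φ _ = 1
        apply Subtype.ext
        show tr (v * y * v⁻¹) = 1
        rw [(htr y (hΩW y.2)).2.2.2 v (hVW hv) (hVX hv) (hVU hv),
          show tr y = 1 from congrArg Subtype.val (MonoidHom.mem_ker.1 hy), mul_one, mul_inv_cancel])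
      obtain ⟨z, hzD, hzo, hzc⟩ := exists_central_order hVp (hDΩ.trans (hΩU.trans hUV)) hVD
        (fun h => hker ((Subgroup.map_eq_bot_iff_of_injective _ Ω.subtype_injective).1 (hD ▸ h)))
      have hzΨ : z ∈ Ψ := hΨ ▸ mem_omega.2 ⟨hUV (hΩU (hDΩ hzD)), Subgroup.mem_centralizer_iff.2 hzc,
        by rw [← hzo]; exact pow_orderOf_eq_one z⟩
      obtain ⟨-, -, hzM, -⟩ := htr z (hΩW (hDΩ hzD))
      have h := hzM ⊥ (by rw [Subgroup.normalizer_eq_top]; exact le_top) fun c hc => by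
        rw [Subgroup.mem_bot, ← Subgroup.mem_centralizer_iff.1 (hX ▸ hc : c ∈ A ⊓ _).2 z hzΨ,
          mul_inv_cancel_right, mul_inv_cancel]
      rw [hD] at hzD
      obtain ⟨y, hy, rfl⟩ := hzD
      have hty : tr (y : G) = 1 := congrArg Subtype.val (MonoidHom.mem_ker.1 hy)
      simp only [Subgroup.coe_subtype] at h hzo
      rw [Subgroup.mem_bot, hty, one_mul, inv_eq_one] at h
      have h1 := orderOf_dvd_of_pow_eq_one h
      rw [hzo] at h1
      exact hp.out.ne_one ((hppow hUX hXA).eq_one_of_dvd h1)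
    refine Subgroup.le_centralizer_iff.1 fun y hy => Subgroup.mem_centralizer_iff.2 fun c hc => ?_
    obtain ⟨y', hy'⟩ := (Finite.injective_iff_surjective.1 hinj) ⟨y, hy⟩
    rw [show y = tr (y' : G) from (congrArg Subtype.val hy').symm]
    exact (htr _ (hΩW y'.2)).2.1 c hc

/-- A subnormal subgroup inside a subnormal subgroup. -/
theorem centralizer_omega_eq (hG : IsOfLocalCharacteristic p G) {L A : Subgroup G} (hL : L.IsSubnormal)
    (hA : A.IsSubnormal) (hne : (T : Subgroup G) ⊓ (A ⊓ L) ≠ ⊥) :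
    A ⊓ L ⊓ Subgroup.centralizer (omegaOne p ((T : Subgroup G) ⊓ (A ⊓ L) ⊓
        Subgroup.centralizer (((T : Subgroup G) ⊓ (A ⊓ L) : Subgroup G) : Set G)) : Set G) =
      A ⊓ L ⊓ Subgroup.centralizer (omegaOne p ((T : Subgroup G) ⊓ L ⊓
        Subgroup.centralizer (((T : Subgroup G) ⊓ L : Subgroup G) : Set G)) : Set G) := by
  induction hA with
  | top => rw [top_inf_eq]
  | step H M hle hM hN ih =>
    have hHM : H ⊓ L ≤ M ⊓ L := inf_le_inf_right _ hle
    have hne' : (T : Subgroup G) ⊓ (M ⊓ L) ≠ ⊥ := fun h =>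
      hne (le_bot_iff.1 (h ▸ inf_le_inf_left _ hHM))
    have hn : M ⊓ L ≤ Subgroup.normalizer ((H ⊓ L : Subgroup G) : Set G) := fun g hg =>
      mem_normalizer_iff_cj.2 (by
        rw [cj_inf, cj_eq_self ((Subgroup.normal_subgroupOf_iff_le_normalizer hle).1 hN hg.1),
          cj_eq_self_of_mem hg.2])
    rw [step T hG ((Subgroup.IsSubnormal.step H M hle hM hN).inf hL) (hM.inf hL) hHM hn hne,
      ← inf_eq_left.2 hHM, inf_assoc (H ⊓ L), ih hne', ← inf_assoc]

theorem pointStabilizer_eq_bot {A : Subgroup G} (hA : A.IsSubnormal) (h : (T : Subgroup G) ⊓ A = ⊥)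
    (V : Subgroup G) : pointStabilizer p A V = ⊥ := by
  rw [eq_bot_iff, pointStabilizer, Subgroup.closure_le]
  rintro x ⟨⟨hxA, -⟩, k, hk⟩
  obtain ⟨g, -, hle⟩ := (sylIn_inf_subnormal T hA).conj_le (isPGroup_zpowers ⟨k, hk⟩)
    (Subgroup.zpowers_le.2 hxA)
  rw [h, le_bot_iff, Fusion.cj, Subgroup.map_eq_bot_iff_of_injective _ (MulAut.conj g).injective,
    Subgroup.zpowers_eq_bot] at hle
  exact Subgroup.mem_bot.2 hle

/-- A subnormal subgroup containing a Sylow subgroup contains all `p`-elements. -/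
theorem mem_of_sylIn {P X : Subgroup G} (hP : (P.subgroupOf X).IsSubnormal) {R : Subgroup G}
    (hR : SylIn p R X) (hRP : R ≤ P) {x : G} (hx : x ∈ X) (hxp : ∃ k, orderOf x = p ^ k) : x ∈ P := by
  obtain ⟨S, hS⟩ := hR.exists_sylow_subgroupOf
  obtain ⟨S', hS'⟩ := (isPGroup_zpowers hxp).comap_subtype (K := X) |>.exists_le_sylow
  have h1 : SylIn p ((S' : Subgroup X) ⊓ P.subgroupOf X) (P.subgroupOf X) := sylIn_inf_subnormal S' hP
  have h2 : SylIn p (S : Subgroup X) (P.subgroupOf X) :=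
    (sylIn_top S).mono (hS ▸ Subgroup.comap_mono hRP) le_top
  have h3 : (S' : Subgroup X) ⊓ P.subgroupOf X = (S' : Subgroup X) := by
    refine Subgroup.eq_of_le_of_card_ge inf_le_left ?_
    calc Nat.card (S' : Subgroup X) = Nat.card (S : Subgroup X) := by rw [S.card_eq_multiplicity, S'.card_eq_multiplicity]
      _ ≤ _ := h1.card_le h2.isPGroup h2.le
  have h4 : (⟨x, hx⟩ : X) ∈ (S' : Subgroup X) := hS' (Subgroup.mem_zpowers x)
  rw [← h3] at h4
  exact h4.2

theorem pointStabilizer_sup (hG : IsOfLocalCharacteristic p G) {L₁ L₂ : Subgroup G}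
    (h₁ : L₁.IsSubnormal) (h₂ : L₂.IsSubnormal) :
    pointStabilizer p (L₁ ⊔ L₂) ((T : Subgroup G) ⊓ (L₁ ⊔ L₂)) =
      pointStabilizer p L₁ ((T : Subgroup G) ⊓ L₁) ⊔ pointStabilizer p L₂ ((T : Subgroup G) ⊓ L₂) := by
  obtain ⟨L, hL⟩ : ∃ L, L = L₁ ⊔ L₂ := ⟨_, rfl⟩
  rw [← hL]
  have hLsn : L.IsSubnormal := hL ▸ Solv.isSubnormal_sup h₁ h₂
  obtain ⟨X, hX⟩ : ∃ X, X = L ⊓ Subgroup.centralizer (omegaOne p ((T : Subgroup G) ⊓ L ⊓
      Subgroup.centralizer (((T : Subgroup G) ⊓ L : Subgroup G) : Set G)) : Set G) := ⟨_, rfl⟩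
  have hRX : (T : Subgroup G) ⊓ L ≤ X := hX ▸ le_inf inf_le_right (le_centralizer_omega _)
  have hR : SylIn p ((T : Subgroup G) ⊓ L) X :=
    (sylIn_inf_subnormal T hLsn).mono hRX (hX ▸ inf_le_left)
  have key : ∀ {A : Subgroup G}, A.IsSubnormal → A ≤ L →
      pointStabilizer p A ((T : Subgroup G) ⊓ A) ≤ pointStabilizer p L ((T : Subgroup G) ⊓ L) ∧
      ((pointStabilizer p A ((T : Subgroup G) ⊓ A)).subgroupOf X).IsSubnormal ∧
      (T : Subgroup G) ⊓ A ≤ pointStabilizer p A ((T : Subgroup G) ⊓ A) := by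
    intro A hA hAL
    by_cases h : (T : Subgroup G) ⊓ A = ⊥
    · rw [pointStabilizer_eq_bot T hA h, h]
      refine ⟨bot_le, ?_, le_rfl⟩
      rw [Subgroup.bot_subgroupOf]
      exact (inferInstance : (⊥ : Subgroup X).Normal).isSubnormal
    have he := centralizer_omega_eq T hG hLsn hA (L := L) (by rwa [inf_eq_left.2 hAL])
    rw [inf_eq_left.2 hAL] at he
    refine ⟨?_, ?_, fun t ht => Subgroup.subset_closure ⟨⟨ht.2, le_centralizer_omega _ ht⟩, ?_⟩⟩
    · refine Subgroup.closure_mono ?_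
      rintro x ⟨hx, hxp⟩
      rw [he] at hx
      exact ⟨⟨hAL hx.1, hx.2⟩, hxp⟩
    · have hAX : A ⊓ Subgroup.centralizer (omegaOne p ((T : Subgroup G) ⊓ A ⊓
          Subgroup.centralizer (((T : Subgroup G) ⊓ A : Subgroup G) : Set G)) : Set G) = A ⊓ X := by
        rw [he, hX, ← inf_assoc, inf_eq_left.2 hAL]
      have hle : pointStabilizer p A ((T : Subgroup G) ⊓ A) ≤ A ⊓ X := by
        rw [pointStabilizer, Subgroup.closure_le]
        rintro x ⟨hx, -⟩
        rwa [hAX] at hx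
      refine Subgroup.IsSubnormal.step _ ((A ⊓ X).subgroupOf X) (Subgroup.comap_mono hle)
        (by rw [Subgroup.inf_subgroupOf_right]; exact Solv.isSubnormal_subgroupOf hA) ?_
      refine (Subgroup.normal_subgroupOf_iff_le_normalizer
        (Subgroup.comap_mono (f := X.subtype) hle)).2 ?_
      intro g hg
      refine mem_normalizer_of_cj_le ?_
      rintro _ ⟨y, hy, rfl⟩
      show (g : G) * y * (g : G)⁻¹ ∈ pointStabilizer p A ((T : Subgroup G) ⊓ A)
      have hgn : (g : G) ∈ Subgroup.normalizer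
          ((pointStabilizer p A ((T : Subgroup G) ⊓ A) : Subgroup G) : Set G) := by
        refine mem_normalizer_of_cj_le ?_
        rw [Fusion.cj, pointStabilizer, MonoidHom.map_closure, Subgroup.closure_le]
        rintro _ ⟨x, ⟨hx, k, hk⟩, rfl⟩
        refine Subgroup.subset_closure ⟨?_, k, ?_⟩
        · have hg' : (g : G) ∈ A ⊓ Subgroup.centralizer _ := hAX ▸ (Subgroup.mem_subgroupOf.1 hg)
          exact mul_mem (mul_mem hg' hx) (inv_mem hg')
        · rw [← hk]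
          exact orderOf_injective (MulAut.conj (g : G)).toMonoidHom (MulAut.conj (g : G)).injective x
      exact (Subgroup.mem_normalizer_iff.1 hgn _).1 hy
    · obtain ⟨k, hk⟩ := IsPGroup.iff_orderOf.1 (T.isPGroup'.to_inf_left (K := A)) ⟨t, ht⟩
      exact ⟨k, by rw [← hk, Subgroup.orderOf_mk]⟩
  obtain ⟨a1, b1, c1⟩ := key h₁ (hL ▸ le_sup_left)
  obtain ⟨a2, b2, c2⟩ := key h₂ (hL ▸ le_sup_right)
  refine le_antisymm ?_ (sup_le a1 a2)
  rw [pointStabilizer, Subgroup.closure_le]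
  rintro x ⟨hx, hxp⟩
  have hPX : ∀ {A : Subgroup G}, pointStabilizer p A ((T : Subgroup G) ⊓ A) ≤
      pointStabilizer p L ((T : Subgroup G) ⊓ L) →
      pointStabilizer p A ((T : Subgroup G) ⊓ A) ≤ X := fun h => h.trans (by
    rw [pointStabilizer, Subgroup.closure_le, hX]
    exact fun y hy => hy.1)
  refine mem_of_sylIn (X := X) ?_ hR ?_ (hX ▸ hx) hxp
  · rw [Subgroup.subgroupOf_sup (hPX a1) (hPX a2)]
    exact Solv.isSubnormal_sup b1 b2
  · rw [inf_comm, hL, SnJoin.sup_inf_sylow T h₁ h₂, inf_comm L₁, inf_comm L₂]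
    exact sup_le_sup c1 c2

end Cfsg.Agent.LocalEven.PointStab
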