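import Cfsg.Agent.Lib.LocalEven.ReducedOf
import Cfsg.Agent.Lib.LocalEven.PPrime

/-!
# The largest reduced module of a subnormal subgroup
-/

set_option autoImplicit false

open scoped commutatorElement

universe u

namespace Cfsg.Agent.LocalEven.RedSub

open Cfsg Cfsg.Agent.Fusion Cfsg.Agent.LocalEven

variable {H : Type u} [Group H] [Finite H] {p : ℕ} [hp : Fact p.Prime]

theorem exists_pPrime_power (a : H) : ∃ j : ℕ, (orderOf (a ^ p ^ j)).Coprime p := by
  obtain ⟨k, m, hm, ham⟩ := Nat.exists_eq_pow_mul_and_not_dvd (orderOf_pos a).ne' p hp.out.ne_one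
  refine ⟨k, ?_⟩
  rw [orderOf_pow_of_dvd (pow_ne_zero _ hp.out.ne_zero) (ham ▸ dvd_mul_right _ _), ham,
    Nat.mul_div_cancel_left _ (pow_pos hp.out.pos _)]
  exact ((Nat.Prime.coprime_iff_not_dvd hp.out).2 hm).symm

/-- A group whose elements of order prime to `p` centralise `V` is a `p`-group modulo the centraliser. -/
theorem pmod_of_pPrime {N V : Subgroup H}
    (h : ∀ x ∈ N, (orderOf x).Coprime p → x ∈ Subgroup.centralizer (V : Set H)) :
    Red.PMod p N (Subgroup.centralizer (V : Set H)) := fun a ha => by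
  obtain ⟨j, hj⟩ := exists_pPrime_power (p := p) a
  exact ⟨j, h _ (pow_mem ha _) hj⟩

/-- Coprime elements of a subnormal subgroup see a normal module inside the subgroup. -/
theorem centralizes_of_inf {V : Subgroup H} [V.Normal] (he : IsElementaryAbelian p V) {L : Subgroup H}
    (hL : L.IsSubnormal) : ∀ x ∈ L, (orderOf x).Coprime p →
      x ∈ Subgroup.centralizer ((V ⊓ L : Subgroup H) : Set H) → x ∈ Subgroup.centralizer (V : Set H) := by
  induction hL with
  | top => intro x _ _ h; rwa [inf_top_eq] at h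
  | step L M hle _ hn ih =>
    intro x hx hxp hxc
    refine ih x (hle hx) hxp (Subgroup.mem_centralizer_iff.2 fun v hv => ?_)
    obtain ⟨hvV, hvM⟩ := hv
    have hML := (Subgroup.normal_subgroupOf_iff_le_normalizer hle).1 hn
    have hb : ⁅x, v⁆ ∈ V ⊓ L := by
      refine ⟨?_, ?_⟩
      · show ⁅x, v⁆ ∈ V
        rw [commutatorElement_def]
        exact mul_mem ((inferInstance : V.Normal).conj_mem v hvV x) (inv_mem hvV)
      · show ⁅x, v⁆ ∈ L
        rw [commutatorElement_def, show x * v * x⁻¹ * v⁻¹ = x * (v * x⁻¹ * v⁻¹) by group]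
        exact mul_mem hx ((Subgroup.mem_normalizer_iff.1 (hML hvM) _).1 (inv_mem hx))
    exact (commute_of_commutator_fixed (p := p) (n := 1) hxp
      (by rw [← commutatorElement_def, pow_one]; exact he.2 _ hb.1)
      (by rw [← commutatorElement_def]; exact (Subgroup.mem_centralizer_iff.1 hxc _ hb).symm)).symm

theorem inf_centralizer_eq {L : Subgroup H} (hL : L.IsSubnormal) {Y : Subgroup H} (hY : IsPReducedNormal p Y) :
    L ⊓ Subgroup.centralizer ((Y ⊓ L : Subgroup H) : Set H) = L ⊓ Subgroup.centralizer (Y : Set H) := by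
  haveI := hY.1
  set N := L ⊓ Subgroup.centralizer ((Y ⊓ L : Subgroup H) : Set H) with hN
  refine le_antisymm (le_inf inf_le_left ?_)
    (inf_le_inf_left L (Subgroup.centralizer_le (SetLike.coe_subset_coe.2 inf_le_left)))
  refine Red.le_centralizer_of_subnormal hY ?_ (pmod_of_pPrime fun x hx hxp =>
    centralizes_of_inf hY.2.1 hL x hx.1 hxp hx.2)
  refine Subgroup.IsSubnormal.step N L inf_le_left hL (Subgroup.normal_subgroupOf_of_le_normalizer fun l hl => ?_)
  exact mem_normalizer_iff_cj.2 (by rw [hN, cj_inf, cj_centralizer, cj_inf, cj_eq_self_of_mem hl, cj_of_normal])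

theorem inf_reduced {L : Subgroup H} (hL : L.IsSubnormal) {Y : Subgroup H} (hY : IsPReducedNormal p Y) :
    IsPReducedNormal p ((Y ⊓ L).subgroupOf L) := by
  haveI := hY.1
  refine (Red.reduced_iff _).2 ⟨?_, ?_, fun M hM hpm => ?_⟩
  · rw [Subgroup.inf_subgroupOf_right]
    exact Subgroup.Normal.subgroupOf hY.1 L
  · exact ⟨⟨⟨fun a b => Subtype.ext (Subtype.ext (show ((a : L) : H) * (b : L) = (b : L) * (a : L) from
      congrArg Subtype.val (hY.2.1.1.1.1 ⟨_, a.2.1⟩ ⟨_, b.2.1⟩)))⟩⟩,
      fun a ha => Subtype.ext (hY.2.1.2 _ ha.1)⟩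
  · set M' := M.map L.subtype
    have hM' : M' ≤ Subgroup.centralizer (Y : Set H) := by
      refine Red.le_centralizer_of_subnormal hY ((hM.isSubnormal).trans' hL) ?_
      rintro _ ⟨m, hm, rfl⟩
      obtain ⟨k, hk⟩ := hpm m hm
      refine ⟨k, ((inf_centralizer_eq hL hY).le ⟨(m ^ p ^ k : L).2, ?_⟩).2⟩
      refine Subgroup.mem_centralizer_iff.2 fun y hy => ?_
      exact congrArg Subtype.val (Subgroup.mem_centralizer_iff.1 hk ⟨y, hy.2⟩ hy)
    intro m hm
    exact Subgroup.mem_centralizer_iff.2 fun y hy => Subtype.ext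
      (Subgroup.mem_centralizer_iff.1 (hM' ⟨m, hm, rfl⟩) y hy.1)

theorem inf_le_Y {L : Subgroup H} (hL : L.IsSubnormal) :
    largestPReduced p H ⊓ L ≤ largestPReducedOf p L := fun y hy =>
  ⟨⟨y, hy.2⟩, Red.le_largest (inf_reduced hL Red.largest_reduced) hy, rfl⟩

/-- Transport of the largest reduced module. -/
theorem map_largest {A B : Type u} [Group A] [Group B] [Finite A] [Finite B] (e : A ≃* B) :
    (largestPReduced p A).map e.toMonoidHom = largestPReduced p B := by
  have key : ∀ {A B : Type u} [Group A] [Group B] [Finite A] [Finite B] (e : A ≃* B),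
      (largestPReduced p A).map e.toMonoidHom ≤ largestPReduced p B := by
    intro A B _ _ _ _ e
    rw [Subgroup.map_le_iff_le_comap]
    refine sSup_le fun W hW => ?_
    rw [← Subgroup.map_le_iff_le_comap]
    refine Red.le_largest ?_
    obtain ⟨hn, he', hmax⟩ := (Red.reduced_iff W).1 hW
    have hcen : (Subgroup.centralizer ((W.map e.toMonoidHom : Subgroup B) : Set B)).comap e.toMonoidHom =
        Subgroup.centralizer (W : Set A) := by
      ext x
      simp only [Subgroup.mem_comap, Subgroup.mem_centralizer_iff]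
      constructor
      · intro h w hw
        exact e.injective (by simpa using h (e w) ⟨w, hw, rfl⟩)
      · rintro h _ ⟨w, hw, rfl⟩
        simpa using congrArg e (h w hw)
    refine (Red.reduced_iff _).2 ⟨hn.map _ e.surjective, ⟨⟨⟨fun a b => Subtype.ext ?_⟩⟩, ?_⟩, fun M hM hpm => ?_⟩
    · obtain ⟨a', ha', hae⟩ := a.2
      obtain ⟨b', hb', hbe⟩ := b.2
      show (a : B) * b = b * a
      rw [← hae, ← hbe, ← map_mul, ← map_mul]
      exact congrArg _ (show a' * b' = b' * a' from congrArg Subtype.val (he'.1.1.1 ⟨a', ha'⟩ ⟨b', hb'⟩))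
    · rintro _ ⟨a, ha, rfl⟩
      rw [← map_pow, he'.2 a ha, map_one]
    · have h := hmax (M.comap e.toMonoidHom) (hM.comap _) fun x hx => by
        obtain ⟨k, hk⟩ := hpm _ hx
        exact ⟨k, hcen ▸ Subgroup.mem_comap.2 (by rw [map_pow]; exact hk)⟩
      rw [← hcen] at h
      exact (Subgroup.comap_le_comap_of_surjective e.surjective).1 h
  refine le_antisymm (key e) ?_
  have h := Subgroup.map_mono (f := e.toMonoidHom) (key e.symm)
  rwa [Subgroup.map_map, show e.toMonoidHom.comp e.symm.toMonoidHom = MonoidHom.id B from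
    MonoidHom.ext fun b => e.apply_symm_apply b, Subgroup.map_id] at h

/-- The normal case. -/
theorem centralizer_Y_normal (L : Subgroup H) [L.Normal] :
    L ⊓ Subgroup.centralizer ((largestPReducedOf p L : Subgroup H) : Set H) =
      L ⊓ Subgroup.centralizer ((largestPReduced p H : Subgroup H) : Set H) := by
  classical
  set Y := largestPReduced p H
  set V := largestPReducedOf p L with hVdef
  haveI hYn : Y.Normal := (Red.largest_reduced (p := p) (L := H)).1
  have hVL : V ≤ L := Subgroup.map_subtype_le _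
  have hVred := Red.largest_reduced (p := p) (L := ↥L)
  have hVel : IsElementaryAbelian p V := by
    refine ⟨⟨⟨fun a b => Subtype.ext ?_⟩⟩, ?_⟩
    · obtain ⟨a', ha', hae⟩ := a.2
      obtain ⟨b', hb', hbe⟩ := b.2
      show (a : H) * b = b * a
      rw [← hae, ← hbe, ← map_mul, ← map_mul]
      exact congrArg _ (show a' * b' = b' * a' from congrArg Subtype.val (hVred.2.1.1.1.1 ⟨a', ha'⟩ ⟨b', hb'⟩))
    · rintro _ ⟨a, ha, rfl⟩
      rw [← map_pow, hVred.2.1.2 a ha, map_one]
  haveI hVn : V.Normal := by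
    haveI : (largestPReduced p ↥L).Characteristic := Subgroup.characteristic_iff_map_eq.2 fun e => map_largest e
    exact inferInstanceAs ((largestPReduced p ↥L).map L.subtype).Normal
  have hVp : IsPGroup p V := fun v => ⟨1, Subtype.ext (by simpa using hVel.2 v v.2)⟩
  -- a subgroup normal in `L` and a `p`-group modulo `C(V)` centralizes `V`
  have hLred : ∀ N : Subgroup H, N ≤ L → L ≤ Subgroup.normalizer (N : Set H) →
      Red.PMod p N (Subgroup.centralizer (V : Set H)) → N ≤ Subgroup.centralizer (V : Set H) := by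
    intro N hNL hn hpm
    haveI : (N.subgroupOf L).Normal := Subgroup.normal_subgroupOf_of_le_normalizer hn
    have h := ((Red.reduced_iff _).1 hVred).2.2 (N.subgroupOf L) inferInstance (fun x hx => by
      obtain ⟨k, hk⟩ := hpm x hx
      exact ⟨k, Subgroup.mem_centralizer_iff.2 fun v hv => Subtype.ext
        (Subgroup.mem_centralizer_iff.1 hk v ⟨v, hv, rfl⟩)⟩)
    refine fun x hx => Subgroup.mem_centralizer_iff.2 ?_
    rintro _ ⟨v, hv, rfl⟩
    exact congrArg Subtype.val (Subgroup.mem_centralizer_iff.1 (h (show (⟨x, hNL hx⟩ : L) ∈ N.subgroupOf L from hx)) v hv)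
  have key : ∀ W : Subgroup H, W.Normal → W ≤ V →
      (∀ a ∈ L, (orderOf a).Coprime p → a ∈ Subgroup.centralizer (W : Set H) →
        a ∈ Subgroup.centralizer (V : Set H)) →
      ∀ a ∈ L, (orderOf a).Coprime p → a ∈ Subgroup.centralizer (Y : Set H) →
        a ∈ Subgroup.centralizer (V : Set H) := by
    intro W
    induction hn : Nat.card W using Nat.strong_induction_on generalizing W with
    | _ n IH =>
    subst hn
    intro hWn hWV hinv a haL hap haY
    haveI := hWn
    have hWe : IsElementaryAbelian p W := Red.elementary_mono hVel hWV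
    by_cases hred : IsPReducedNormal p W
    · exact hinv a haL hap (Subgroup.centralizer_le (SetLike.coe_subset_coe.2 (Red.le_largest hred)) haY)
    rw [Red.reduced_iff] at hred
    push Not at hred
    obtain ⟨M₀, hM₀, hpm₀, hM₀C⟩ := hred hWn hWe
    haveI := hM₀
    set CW := Subgroup.centralizer (W : Set H) with hCW
    haveI : CW.Normal := Subgroup.normal_centralizer (H := W)
    set M := M₀ ⊔ CW
    have hpm : Red.PMod p M CW := by
      intro x hx
      obtain ⟨m, hm, c, hc, rfl⟩ := Subgroup.mem_sup_of_normal_right.1 hx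
      obtain ⟨k, hk⟩ := hpm₀ m hm
      refine ⟨k, (QuotientGroup.eq_one_iff _).1 ?_⟩
      rw [QuotientGroup.mk_pow, QuotientGroup.mk_mul, (QuotientGroup.eq_one_iff c).2 hc, mul_one,
        ← QuotientGroup.mk_pow, (QuotientGroup.eq_one_iff _).2 hk]
    have hMC : ¬ M ≤ CW := fun h => hM₀C (le_sup_left.trans h)
    set W1 := W ⊓ Subgroup.centralizer (M : Set H)
    haveI : (Subgroup.centralizer (M : Set H)).Normal := Subgroup.normal_centralizer (H := M)
    have hlt : W1 < W := lt_of_le_of_ne inf_le_left fun h => hMC (by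
      rw [hCW, Subgroup.le_centralizer_iff]
      exact inf_eq_left.1 h)
    have hMLV : M ⊓ L ≤ Subgroup.centralizer (V : Set H) := by
      refine hLred _ inf_le_right (fun l hl => mem_normalizer_iff_cj.2 (by rw [cj_inf, cj_of_normal, cj_of_normal])) ?_
      refine pmod_of_pPrime fun x hx hxp => hinv x hx.2 hxp ?_
      obtain ⟨k, hk⟩ := hpm x hx.1
      obtain ⟨n, hn⟩ := exists_pow_eq_self_of_coprime (x := x) ((hxp.pow_right k).symm)
      exact hn ▸ pow_mem hk n
    refine IH _ ?_ W1 rfl inferInstance (inf_le_left.trans hWV) (fun y hyL hyp hy1 => ?_) a haL hap haY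
    · by_contra h
      exact hlt.ne (Subgroup.eq_of_le_of_card_ge hlt.le (Nat.not_lt.1 h))
    -- an element centralizing the fixed points of `M` centralizes `W`
    refine hinv y hyL hyp (Subgroup.mem_centralizer_iff.2 ?_)
    set U := Subgroup.closure ((fun w => ⁅y, w⁆) '' (W : Set H)) with hU
    have hUW : U ≤ W := (Subgroup.closure_le _).2 (by
      rintro _ ⟨w, hw, rfl⟩
      show ⁅y, w⁆ ∈ W
      rw [commutatorElement_def]
      exact mul_mem (hWn.conj_mem w hw y) (inv_mem hw))
    -- `U` is the image of a homomorphism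
    have hUimg : ∀ u ∈ U, ∃ w ∈ W, u = ⁅y, w⁆ := by
      intro u hu
      induction hu using Subgroup.closure_induction with
      | mem x hx => obtain ⟨w, hw, rfl⟩ := hx; exact ⟨w, hw, rfl⟩
      | one => exact ⟨1, one_mem _, by simp⟩
      | mul x z _ _ hx hz =>
        obtain ⟨v, hv, rfl⟩ := hx
        obtain ⟨w, hw, rfl⟩ := hz
        refine ⟨v * w, mul_mem hv hw, ?_⟩
        have hc : Commute v ⁅y, w⁆ := congrArg Subtype.val (hWe.1.1.1 ⟨v, hv⟩ ⟨⁅y, w⁆, by
          rw [commutatorElement_def]; exact mul_mem (hWn.conj_mem w hw y) (inv_mem hw)⟩)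
        rw [show ⁅y, v * w⁆ = ⁅y, v⁆ * (v * ⁅y, w⁆ * v⁻¹) by simp only [commutatorElement_def]; group,
          hc.eq, mul_inv_cancel_right]
      | inv x _ hx =>
        obtain ⟨v, hv, rfl⟩ := hx
        refine ⟨v⁻¹, inv_mem hv, ?_⟩
        have hc : Commute v⁻¹ ⁅y, v⁆⁻¹ := congrArg Subtype.val (hWe.1.1.1 ⟨v⁻¹, inv_mem hv⟩ ⟨⁅y, v⁆⁻¹, inv_mem (by
          rw [commutatorElement_def]; exact mul_mem (hWn.conj_mem v hv y) (inv_mem hv))⟩)
        rw [show ⁅y, v⁻¹⁆ = v⁻¹ * ⁅y, v⁆⁻¹ * v⁻¹⁻¹ by simp only [commutatorElement_def]; group,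
          hc.eq, mul_inv_cancel_right]
    have hMU : M ≤ Subgroup.normalizer (U : Set H) := by
      intro m hm
      refine mem_normalizer_of_cj_le ?_
      rintro _ ⟨u, hu, rfl⟩
      obtain ⟨w, hw, rfl⟩ := hUimg u hu
      have hc : ⁅y⁻¹, m⁆ ∈ CW := by
        refine Subgroup.centralizer_le (SetLike.coe_subset_coe.2 hWV) (hMLV ⟨?_, ?_⟩)
        · show ⁅y⁻¹, m⁆ ∈ M
          rw [commutatorElement_def]; exact mul_mem ((inferInstance : M.Normal).conj_mem m hm _) (inv_mem hm)
        · show ⁅y⁻¹, m⁆ ∈ L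
          rw [commutatorElement_def, show y⁻¹ * m * y⁻¹⁻¹ * m⁻¹ = y⁻¹ * (m * y⁻¹⁻¹ * m⁻¹) by group]
          exact mul_mem (inv_mem hyL) ((inferInstance : L.Normal).conj_mem _ (inv_mem (inv_mem hyL)) m)
      refine Subgroup.subset_closure ⟨m * w * m⁻¹, hWn.conj_mem w hw m, ?_⟩
      show ⁅y, m * w * m⁻¹⁆ = m * ⁅y, w⁆ * m⁻¹
      set c := ⁅y⁻¹, m⁆
      have hw' : c * w = w * c := (Subgroup.mem_centralizer_iff.1 hc w hw).symm
      -- `m y = y c m`
      have e2 : m * y = y * c * m := by simp only [c, commutatorElement_def]; group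
      calc ⁅y, m * w * m⁻¹⁆ = y * (m * w * m⁻¹) * y⁻¹ * (m * w * m⁻¹)⁻¹ := commutatorElement_def _ _
        _ = (y * m) * w * (y * m)⁻¹ * (m * w⁻¹ * m⁻¹) := by group
        _ = m * y * w * (m * y)⁻¹ * (m * w⁻¹ * m⁻¹) := by
            have hwm : c * (m * w * m⁻¹) = (m * w * m⁻¹) * c :=
              (Subgroup.mem_centralizer_iff.1 hc _ (hWn.conj_mem w hw m)).symm
            rw [e2]
            calc y * m * w * (y * m)⁻¹ * (m * w⁻¹ * m⁻¹)
                = y * ((m * w * m⁻¹) * c) * c⁻¹ * y⁻¹ * (m * w⁻¹ * m⁻¹) := by group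
              _ = y * (c * (m * w * m⁻¹)) * c⁻¹ * y⁻¹ * (m * w⁻¹ * m⁻¹) := by rw [hwm]
              _ = y * c * m * w * (y * c * m)⁻¹ * (m * w⁻¹ * m⁻¹) := by group
        _ = m * ⁅y, w⁆ * m⁻¹ := by simp only [commutatorElement_def]; group
    intro w hw
    by_contra hne
    have hU1 : U ≠ ⊥ := fun h => hne (by
      have : ⁅y, w⁆ ∈ U := Subgroup.subset_closure ⟨w, hw, rfl⟩
      rw [h, Subgroup.mem_bot, commutatorElement_eq_one_iff_mul_comm] at this
      exact this.symm)
    obtain ⟨T⟩ : Nonempty (Sylow p H) := inferInstance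
    have hWT : W ≤ (T : Subgroup H) :=
      (Fusion.le_pCore (Red.isPGroup_of_elementary hWe)).trans (pCore_le_sylow T)
    set S0 := ((T : Subgroup H) ⊓ M) ⊔ W
    have hS0 : IsPGroup p S0 := T.2.to_le (sup_le inf_le_left hWT)
    have hWU : W ≤ Subgroup.normalizer (U : Set H) :=
      le_trans (Subgroup.le_centralizer_iff.1 (hUW.trans (Subgroup.le_centralizer_iff_isMulCommutative.2 hWe.1)))
        (Subgroup.centralizer_le_normalizer _)
    obtain ⟨z, hzU, hzo, hzc⟩ := exists_central_order hS0 (hUW.trans le_sup_right)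
      (sup_le (inf_le_right.trans hMU) hWU) hU1
    have hzM : z ∈ Subgroup.centralizer (M : Set H) := by
      have hle : M ≤ Subgroup.centralizer ({z} : Set H) := (Red.le_sup_sylow T M CW le_sup_right hpm).trans (sup_le
        (Subgroup.centralizer_le (Set.singleton_subset_iff.2 (hUW hzU)))
        (fun s hs => Subgroup.mem_centralizer_singleton_iff.2 (hzc s (Subgroup.mem_sup_left hs))))
      exact Subgroup.mem_centralizer_iff.2 fun m hm => Subgroup.mem_centralizer_singleton_iff.1 (hle hm)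
    obtain ⟨v, hv, hzv⟩ := hUimg z hzU
    have h1 : y * ⁅y, v⁆ = ⁅y, v⁆ * y := by
      rw [← hzv]
      exact (Subgroup.mem_centralizer_iff.1 hy1 z ⟨hUW hzU, hzM⟩).symm
    have h2 := commute_of_commutator_fixed (p := p) (n := 1) (x := y) (y := v) hyp
      (by rw [← commutatorElement_def, pow_one, ← hzv]; exact hWe.2 _ (hUW hzU))
      (by rw [← commutatorElement_def]; exact h1)
    rw [commutatorElement_eq_one_iff_mul_comm.2 h2] at hzv
    rw [hzv, orderOf_one] at hzo
    exact hp.out.ne_one hzo.symm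
  refine le_antisymm ?_ ?_
  · refine le_inf inf_le_left fun x hx => ?_
    have h := (inf_centralizer_eq (Subgroup.Normal.isSubnormal inferInstance) Red.largest_reduced).le
      (⟨hx.1, Subgroup.centralizer_le (SetLike.coe_subset_coe.2
        (inf_le_Y (Subgroup.Normal.isSubnormal inferInstance))) hx.2⟩ :
        x ∈ L ⊓ Subgroup.centralizer ((largestPReduced p H ⊓ L : Subgroup H) : Set H))
    exact h.2
  · refine le_inf inf_le_left (hLred _ inf_le_left ?_ (pmod_of_pPrime fun x hx hxp =>
      key V hVn le_rfl (fun a _ _ h => h) x hx.1 hxp hx.2))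
    haveI : (Subgroup.centralizer (Y : Set H)).Normal := Subgroup.normal_centralizer (H := Y)
    exact fun l _ => mem_normalizer_iff_cj.2 (by rw [cj_inf, cj_of_normal, cj_of_normal])

theorem centralizer_Y_subnormal : ∀ (n : ℕ) (G : Type u) [Group G] [Finite G], Nat.card G = n →
    ∀ L : Subgroup G, L.IsSubnormal →
      L ⊓ Subgroup.centralizer ((largestPReducedOf p L : Subgroup G) : Set G) =
        L ⊓ Subgroup.centralizer ((largestPReduced p G : Subgroup G) : Set G) := by
  intro n
  induction n using Nat.strong_induction_on with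
  | _ n IH =>
  intro G _ _ hn L hL
  by_cases htop : L = ⊤
  · subst htop
    rw [largestPReducedOf, show (⊤ : Subgroup G).subtype = (Subgroup.topEquiv : (⊤ : Subgroup G) ≃* G).toMonoidHom from rfl,
      map_largest]
  obtain ⟨K, hKn, hLK, hKlt⟩ := Subgroup.IsSubnormal.exists_normal_and_le_and_lt_top_of_ne hL htop
  haveI := hKn
  set L' := L.subgroupOf K
  have hcard : Nat.card K < n := hn ▸ lt_of_le_of_ne (Subgroup.card_le_card_group K)
    fun h => hKlt.ne (Subgroup.eq_top_of_card_eq K h)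
  have h1 := IH _ hcard K rfl L' hL.subgroupOf
  have hY : largestPReducedOf p L = (largestPReducedOf p L').map K.subtype := by
    rw [largestPReducedOf, largestPReducedOf, ← map_largest (Subgroup.subgroupOfEquivOfLe hLK),
      Subgroup.map_map, Subgroup.map_map]
    rfl
  have hcent : ∀ (W : Subgroup K) (x : K),
      (x : G) ∈ Subgroup.centralizer ((W.map K.subtype : Subgroup G) : Set G) ↔ x ∈ Subgroup.centralizer (W : Set K) := by
    intro W x
    simp only [Subgroup.mem_centralizer_iff]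
    refine ⟨fun h w hw => Subtype.ext (h w ⟨w, hw, rfl⟩), ?_⟩
    rintro h _ ⟨w, hw, rfl⟩
    exact congrArg Subtype.val (h w hw)
  have h2 : ∀ x ∈ L, (x ∈ Subgroup.centralizer ((largestPReducedOf p L : Subgroup G) : Set G) ↔
      x ∈ Subgroup.centralizer ((largestPReducedOf p K : Subgroup G) : Set G)) := fun x hx => by
    rw [hY, show largestPReducedOf p K = (largestPReduced p K).map K.subtype from rfl, hcent _ ⟨x, hLK hx⟩, hcent _ ⟨x, hLK hx⟩]
    have h := SetLike.ext_iff.1 h1 ⟨x, hLK hx⟩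
    simp only [Subgroup.mem_inf] at h
    exact ⟨fun h' => (h.1 ⟨hx, h'⟩).2, fun h' => (h.2 ⟨hx, h'⟩).2⟩
  ext x
  refine and_congr_right fun hx => (h2 x hx).trans ?_
  have h := SetLike.ext_iff.1 (centralizer_Y_normal (p := p) K) x
  simp only [Subgroup.mem_inf] at h
  exact ⟨fun h' => (h.1 ⟨hLK hx, h'⟩).2, fun h' => (h.2 ⟨hLK hx, h'⟩).2⟩

end Cfsg.Agent.LocalEven.RedSub
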