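import Cfsg.Agent.Lib.LocalEven.WeakSubgroup
import Cfsg.Agent.Lib.Fusion.NPC
import Cfsg.Agent.Lib.LocalEven.PIrred

/-!
`O^p(X)` of a subgroup `X`, viewed in the ambient group.
-/

set_option autoImplicit false

open scoped commutatorElement Pointwise

namespace Cfsg.Agent.LocalEven.Res

open Cfsg Cfsg.Agent.Fusion

variable {G : Type*} [Group G] [Finite G] {p : ℕ} [Fact p.Prime]

omit [Finite G] [Fact p.Prime] in
theorem le_self (X : Subgroup G) : (pResidual p ↥X).map X.subtype ≤ X := Subgroup.map_subtype_le _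

omit [Finite G] [Fact p.Prime] in
theorem mem_res {X : Subgroup G} {x : G} (hx : x ∈ X) (hc : (orderOf x).Coprime p) :
    x ∈ (pResidual p ↥X).map X.subtype :=
  ⟨⟨x, hx⟩, Subgroup.subset_closure (show (orderOf (⟨x, hx⟩ : X)).Coprime p by simpa using hc), rfl⟩

omit [Finite G] [Fact p.Prime] in
theorem res_le {X Y : Subgroup G} (h : ∀ x ∈ X, (orderOf x).Coprime p → x ∈ Y) :
    (pResidual p ↥X).map X.subtype ≤ Y := by
  rw [pResidual, MonoidHom.map_closure, Subgroup.closure_le]
  rintro _ ⟨g, hg, rfl⟩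
  exact h g g.2 (show (orderOf (g : G)).Coprime p by simpa using hg)

omit [Finite G] [Fact p.Prime] in
theorem mono {X Y : Subgroup G} (h : X ≤ Y) :
    (pResidual p ↥X).map X.subtype ≤ (pResidual p ↥Y).map Y.subtype :=
  res_le fun _ hx hc => mem_res (h hx) hc

omit [Finite G] [Fact p.Prime] in
theorem idem (X : Subgroup G) :
    (pResidual p ↥((pResidual p ↥X).map X.subtype)).map ((pResidual p ↥X).map X.subtype).subtype =
      (pResidual p ↥X).map X.subtype :=
  le_antisymm (le_self _) (res_le fun _ hx hc => mem_res (mem_res hx hc) hc)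

omit [Fact p.Prime] in
theorem normalizer_le (X : Subgroup G) :
    Subgroup.normalizer (X : Set G) ≤
      Subgroup.normalizer (((pResidual p ↥X).map X.subtype : Subgroup G) : Set G) := by
  refine fun g hg => mem_normalizer_of_cj_le (Subgroup.map_le_iff_le_comap.2 (res_le fun x hx hc => ?_))
  refine mem_res ((Subgroup.mem_normalizer_iff.1 hg x).1 hx) ?_
  rwa [show ((MulAut.conj g).toMonoidHom x) = (MulAut.conj g) x from rfl, MulEquiv.orderOf_eq]

/-- Elements of order prime to `p` of `N P` lie in `N`. -/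
theorem le_of_sup {N P X : Subgroup G} (hP : IsPGroup p P) (hn : P ≤ Subgroup.normalizer (N : Set G))
    (hX : X ≤ N ⊔ P) : (pResidual p ↥X).map X.subtype ≤ (pResidual p ↥N).map N.subtype := by
  refine res_le fun x hx hc => mem_res ?_ hc
  haveI : (N.subgroupOf (N ⊔ P)).Normal :=
    Subgroup.normal_subgroupOf_of_le_normalizer (sup_le Subgroup.le_normalizer hn)
  have hT : IsPGroup p ↥(P.subgroupOf (N ⊔ P)) :=
    hP.comap_of_injective (N ⊔ P).subtype (N ⊔ P).subtype_injective
  have h := PIrr.residual_le_of_sup (p := p) (N := N.subgroupOf (N ⊔ P)) hT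
    (by rw [← Subgroup.subgroupOf_sup le_sup_left le_sup_right, Subgroup.subgroupOf_self])
  exact Subgroup.mem_subgroupOf.1 (h (Subgroup.subset_closure
    (show (orderOf (⟨x, hX hx⟩ : ↥(N ⊔ P))).Coprime p by simpa using hc)))

/-- `X = O^p(X) P` for a Sylow subgroup `P` of `X`. -/
theorem sup_sylIn {X P : Subgroup G} (hP : SylIn p P X) :
    (pResidual p ↥X).map X.subtype ⊔ P = X := by
  obtain ⟨T, hT⟩ := hP.exists_sylow_subgroupOf
  have h := congrArg (Subgroup.map X.subtype) (Fusion.pResidual_sup_sylow (p := p) T)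
  rw [Subgroup.map_sup, hT, Subgroup.subgroupOf_map_subtype, inf_eq_left.2 hP.le,
    ← MonoidHom.range_eq_map, Subgroup.range_subtype] at h
  exact h

theorem res_map {G' : Type*} [Group G'] [Finite G'] (f : G →* G') (X : Subgroup G) :
    ((pResidual p ↥X).map X.subtype).map f = (pResidual p ↥(X.map f)).map (X.map f).subtype := by
  rw [Subgroup.map_map, ← Fusion.map_pResidual_of_surjective (p := p) (f.subgroupMap X)
    (f.subgroupMap_surjective X), Subgroup.map_map]
  congr 1

omit [Finite G] [Fact p.Prime] in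
theorem map_le (f : G →* G) (hf : Function.Injective f) (X : Subgroup G) :
    ((pResidual p ↥X).map X.subtype).map f ≤ (pResidual p ↥(X.map f)).map (X.map f).subtype := by
  refine Subgroup.map_le_iff_le_comap.2 (res_le fun x hx hc => mem_res ⟨x, hx, rfl⟩ ?_)
  rwa [orderOf_injective f hf]

end Cfsg.Agent.LocalEven.Res
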