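import Cfsg.Agent.Lib.Small.SL2.Orders
import Cfsg.Agent.Lib.Perm.PrimitivePart

/-!
# Elements of order `p` in `SL₂(q)` move at least `q` points of index

A non-trivial `p`-element of `SL₂(q)` and one of its conjugates generate an element of order `q + 1`.
-/

set_option autoImplicit false

open scoped commutatorElement

namespace Cfsg.Agent.LocalEven.SL2Disp

open Matrix Cfsg.Agent.Small.SL2C

variable {F : Type*} [Field F] [Fintype F]

local notation "M2" => Matrix (Fin 2) (Fin 2) F
local notation "SL2" => Matrix.SpecialLinearGroup (Fin 2) F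

/-- A generator of a non-split torus, with its trace. -/
theorem exists_nonsplit (p : ℕ) [hp : Fact p.Prime] {n : ℕ} (hn : 2 ≤ n)
    (hF : Fintype.card F = p ^ n) :
    ∃ x : SL2, orderOf x = Fintype.card F + 1 ∧ ¬ IsSc x.1 ∧ x.1.trace * x.1.trace ≠ 4 ∧
      IsSquare (x.1.trace - 2) := by
  classical
  haveI : CharP F p := by
    obtain ⟨r, hr⟩ := CharP.exists F
    obtain ⟨m, hr', hc⟩ := FiniteField.card F r
    have h1 : r ∣ p ^ n := by rw [← hF, hc]; exact dvd_pow_self r m.ne_zero
    exact (Nat.prime_dvd_prime_iff_eq hr' hp.out).1 (hr'.dvd_of_dvd_pow h1) ▸ hr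
  obtain ⟨t, ht, hr⟩ := exists_roots_zero (F := F)
  obtain ⟨g, hgt, hg⟩ := comp_elt t
  rw [← hgt] at ht hr
  have hsol : sol g.1.trace 1 = Fintype.card F + 1 := by
    rcases sol_eq ht with ⟨h, -⟩ | ⟨-, h⟩
    · omega
    · exact h
  haveI := isCyclic_centralizer ht
  obtain ⟨y, hy⟩ := IsCyclic.exists_generator (α := Subgroup.centralizer ({g} : Set SL2))
  set x : SL2 := (y : SL2) with hx
  have hox : orderOf x = Fintype.card F + 1 := by
    rw [← hsol, hx, Subgroup.orderOf_coe, orderOf_eq_card_of_forall_mem_zpowers hy,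
      card_centralizer g hg]
  have hq4 : p * p ≤ Fintype.card F := by
    rw [hF, ← sq]
    exact Nat.pow_le_pow_right hp.out.pos hn
  have hp2 := hp.out.two_le
  have hns : ¬ IsSc x.1 := by
    intro h
    have h2 : x ^ 2 = 1 := by
      apply Subtype.ext
      rw [pow_two, val_mul']
      rcases isSc_SL h with e | e <;> rw [e] <;> simp
    have := Nat.le_of_dvd two_pos (hox ▸ orderOf_dvd_of_pow_eq_one h2)
    nlinarith
  have ht4 : x.1.trace * x.1.trace ≠ 4 := by
    intro h
    obtain ⟨ε, hε, hte⟩ := exists_eps h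
    obtain ⟨b, hb, hc⟩ := exists_epU hns hε hte
    obtain ⟨c, hc⟩ := isConj_iff.mp hc
    have h2 : epU ε b hε ^ (2 * p) = 1 := by
      have e1 : epU ε b hε * epU ε b hε = epU 1 (2 * ε * b) (one_mul 1) := by
        apply Subtype.ext
        rw [val_mul', epU_val, epU_val]
        ext i j
        fin_cases i <;> fin_cases j <;> simp [Matrix.mul_apply, Fin.sum_univ_two, hε] <;> ring
      have e2 : ∀ k : ℕ, epU 1 (2 * ε * b) (one_mul (1 : F)) ^ k = epU 1 (k * (2 * ε * b)) (one_mul 1) := by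
        intro k
        induction k with
        | zero => apply Subtype.ext; rw [pow_zero, epU_val]; simp [Matrix.one_fin_two]
        | succ k ih =>
          rw [pow_succ, ih]
          apply Subtype.ext
          rw [val_mul', epU_val, epU_val, epU_val]
          ext i j
          fin_cases i <;> fin_cases j <;> simp [Matrix.mul_apply, Fin.sum_univ_two] <;> ring
      rw [pow_mul, pow_two, e1, e2]
      apply Subtype.ext
      rw [epU_val, CharP.cast_eq_zero, zero_mul]
      simp [Matrix.one_fin_two]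
    rw [← hc, conj_pow] at h2
    have h3 := orderOf_dvd_of_pow_eq_one (conj_eq_one_iff.mp h2)
    rw [hox] at h3
    have h4 : Nat.Coprime (Fintype.card F + 1) p := by
      refine Nat.Coprime.symm ((Nat.Prime.coprime_iff_not_dvd hp.out).2 fun hd => ?_)
      have : p ∣ Fintype.card F := hF ▸ dvd_pow_self p (by omega)
      exact hp.out.not_dvd_one ((Nat.dvd_add_right this).1 hd)
    have := Nat.le_of_dvd two_pos (h4.dvd_of_dvd_mul_right h3)
    nlinarith
  refine ⟨x, hox, hns, ht4, ?_⟩
  by_cases h2 : ringChar F = 2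
  · exact FiniteField.isSquare_of_char_two h2 _
  have hp2' : p ≠ 2 := fun h => h2 (h ▸ ringChar.eq F p)
  have hsolx : sol x.1.trace 1 = Fintype.card F + 1 := by
    rcases sol_eq ht4 with ⟨-, h⟩ | ⟨-, h⟩
    · exfalso
      have h' := orderOf_dvd_of_pow_eq_one (pow_sol x hns)
      rw [h, hox] at h'
      have := Nat.le_of_dvd (Nat.sub_pos_of_lt (Fintype.one_lt_card (α := F)) : 0 < Fintype.card F - 1) h'
      omega
    · exact h
  have hplus : ¬ IsSquare (x.1.trace + 2) := by
    rintro ⟨s, hs⟩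
    have hs0 : s ≠ 0 := by
      rintro rfl
      exact ht4 (by linear_combination (x.1.trace - 2) * hs)
    set h : SL2 := mkSL (comb x.1 s⁻¹ s⁻¹) (by
      rw [det_comb, x.2, Qf]
      field_simp
      linear_combination hs) with hh
    have e : h * h = x := by
      apply Subtype.ext
      rw [val_mul', hh, mkSL_val, comb]
      simp only [Matrix.add_mul, Matrix.mul_add, Matrix.smul_mul, Matrix.mul_smul, Matrix.one_mul,
        Matrix.mul_one, smul_smul]
      rw [sq_eq x]
      have h3 : s⁻¹ * s⁻¹ * (x.1.trace + 2) = 1 := by rw [hs]; field_simp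
      linear_combination (norm := module) h3 • x.1
    have hcx : h ∈ Subgroup.centralizer ({x} : Set SL2) := by
      rw [Subgroup.mem_centralizer_singleton_iff]
      exact Subtype.ext (by rw [val_mul', val_mul', hh, mkSL_val, comb_comm])
    have h4 : h ^ (Fintype.card F + 1) = 1 := by
      have h5 := pow_card_eq_one' (x := (⟨h, hcx⟩ : Subgroup.centralizer ({x} : Set SL2)))
      rw [card_centralizer x hns, hsolx] at h5
      exact congrArg Subtype.val h5
    have hodd : Odd (Fintype.card F) := hF ▸ (hp.out.odd_of_ne_two hp2').pow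
    obtain ⟨k, hk⟩ := hodd
    have h6 : x ^ (k + 1) = 1 := by
      rw [← e, ← pow_two, ← pow_mul]
      convert h4 using 2
      omega
    have := Nat.le_of_dvd (Nat.succ_pos k) (hox ▸ orderOf_dvd_of_pow_eq_one h6)
    omega
  have hminus : ¬ IsSquare (x.1.trace * x.1.trace - 4) := by
    rintro ⟨s, hs⟩
    have h2' : (2 : F) ≠ 0 := two_ne_zero_of_char p hp2'
    have hr0 : roots x.1.trace 1 = 0 := by
      rcases sol_eq ht4 with ⟨-, h⟩ | ⟨h, -⟩
      · omega
      · exact h
    rw [roots, Nat.card_eq_zero] at hr0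
    rcases hr0 with h | h
    · exact h.false ⟨(-x.1.trace + s) / 2, by field_simp; linear_combination -hs⟩
    · exact h.false
  have hne : x.1.trace - 2 ≠ 0 := fun h => ht4 (by linear_combination (x.1.trace + 2) * h)
  by_contra hm
  have hne' : x.1.trace + 2 ≠ 0 := fun h => hplus (h ▸ ⟨0, (mul_zero 0).symm⟩)
  have a1 := (FiniteField.pow_dichotomy h2 hne).resolve_left fun h => hm ((FiniteField.isSquare_iff h2 hne).2 h)
  have a2 := (FiniteField.pow_dichotomy h2 hne').resolve_left fun h => hplus ((FiniteField.isSquare_iff h2 hne').2 h)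
  refine hminus ((FiniteField.isSquare_iff h2 (sub_ne_zero.2 ht4)).2 ?_)
  rw [show x.1.trace * x.1.trace - 4 = (x.1.trace - 2) * (x.1.trace + 2) by ring, mul_pow, a1, a2]
  ring

/-- A non-trivial `p`-element and a conjugate generate an element of order `q + 1`. -/
theorem exists_commutator (p : ℕ) [hp : Fact p.Prime] {n : ℕ} (hn : 2 ≤ n)
    (hF : Fintype.card F = p ^ n) {α : SL2} (hα : α ≠ 1) {k : ℕ} (hαk : α ^ p ^ k = 1) :
    ∃ g : SL2, orderOf ⁅α, g⁆ = Fintype.card F + 1 := by
  classical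
  haveI : CharP F p := by
    obtain ⟨r, hr⟩ := CharP.exists F
    obtain ⟨m, hr', hc⟩ := FiniteField.card F r
    have h1 : r ∣ p ^ n := by rw [← hF, hc]; exact dvd_pow_self r m.ne_zero
    exact (Nat.prime_dvd_prime_iff_eq hr' hp.out).1 (hr'.dvd_of_dvd_pow h1) ▸ hr
  obtain ⟨x, hox, hns, ht4, δ, hδ⟩ := exists_nonsplit p hn hF
  -- `α` is a transvection
  have hsc : ¬ IsSc α.1 := by
    intro h
    rcases isSc_SL h with e | e
    · exact hα (Subtype.ext e)
    · by_cases hp2 : (2 : F) = 0
      · exact hα (Subtype.ext (by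
          rw [e]; ext i j; fin_cases i <;> fin_cases j <;> simp [show (-1 : F) = 1 by linear_combination -hp2]))
      · have h2 : p ≠ 2 := fun h2 => hp2 (by subst h2; exact_mod_cast CharP.cast_eq_zero F 2)
        have hodd : Odd (p ^ k) := (hp.out.odd_of_ne_two h2).pow
        have hv : α.1 ^ p ^ k = 1 := by
          rw [← Matrix.SpecialLinearGroup.coe_pow, hαk, Matrix.SpecialLinearGroup.coe_one]
        rw [e, hodd.neg_one_pow] at hv
        have h3 : (-1 : F) = 1 := by simpa using congrFun (congrFun hv 0) 0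
        exact hp2 (by linear_combination -h3)
  have htr : α.1.trace = 2 * 1 := by
    rw [mul_one]
    by_contra hne
    have hcases : α.1.trace * α.1.trace ≠ 4 ∨ α.1.trace = -2 := by
      by_cases h : α.1.trace * α.1.trace = 4
      · right
        have : (α.1.trace - 2) * (α.1.trace + 2) = 0 := by linear_combination h
        exact eq_neg_of_add_eq_zero_left ((mul_eq_zero.1 this).resolve_left (sub_ne_zero.2 hne))
      · exact Or.inl h
    rcases hcases with h | h
    · have h1 := orderOf_dvd_of_pow_eq_one (pow_sol α hsc)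
      have h2 := orderOf_dvd_of_pow_eq_one hαk
      have hq : 0 < Fintype.card F := Fintype.card_pos
      have hco : Nat.Coprime (sol α.1.trace 1) (p ^ k) := by
        refine Nat.Coprime.pow_right k (Nat.Coprime.symm ((Nat.Prime.coprime_iff_not_dvd hp.out).2 ?_))
        have hd : p ∣ Fintype.card F := hF ▸ dvd_pow_self p (by omega)
        rcases sol_eq h with ⟨-, e⟩ | ⟨-, e⟩ <;> rw [e] <;> intro hd'
        · have := Nat.dvd_sub hd hd'
          rw [Nat.sub_sub_self hq] at this
          exact hp.out.not_dvd_one this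
        · exact hp.out.not_dvd_one ((Nat.dvd_add_right hd).1 hd')
      exact hα (orderOf_eq_one_iff.1 (Nat.eq_one_of_dvd_coprimes hco h1 h2))
    · have h2 : p ≠ 2 := fun h2 => hne (by
        have : (2 : F) = 0 := by subst h2; exact_mod_cast CharP.cast_eq_zero F 2
        rw [h, this, neg_zero])
      have hεε : (-1 : F) * (-1) = 1 := by ring
      obtain ⟨b, hb, hc⟩ := exists_epU hsc hεε (by rw [h]; ring)
      obtain ⟨c, hc⟩ := isConj_iff.mp hc
      have hpow : ∀ m : ℕ, (epU (-1) b hεε).1 ^ m =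
          !![(-1 : F) ^ m, m * (-1) ^ (m + 1) * b; 0, (-1) ^ m] := by
        intro m
        induction m with
        | zero => simp [Matrix.one_fin_two]
        | succ m ih =>
          rw [pow_succ, ih, epU_val]
          ext i j
          fin_cases i <;> fin_cases j <;> simp [Matrix.mul_apply, Fin.sum_univ_two, pow_succ] <;> ring
      have h1 : epU (-1) b hεε ^ p ^ k = 1 := by
        rw [← hc, conj_pow, hαk, mul_one, mul_inv_cancel]
      have h3 : ((epU (-1) b hεε) ^ p ^ k).1 0 0 = 1 := by rw [h1]; simp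
      rw [Matrix.SpecialLinearGroup.coe_pow, hpow] at h3
      simp [((hp.out.odd_of_ne_two h2).pow).neg_one_pow] at h3
      exact two_ne_zero_of_char p h2 (by linear_combination -h3)
  obtain ⟨β, hβ, hc⟩ := exists_epU hsc (one_mul 1) htr
  obtain ⟨c, hc⟩ := isConj_iff.mp hc
  -- the conjugating element
  have hδ0 : δ ≠ 0 := by
    rintro rfl
    exact ht4 (by linear_combination (x.1.trace + 2) * hδ)
  obtain ⟨s, hs, hs'⟩ : ∃ s : F, s ≠ 0 ∧ s * β = δ := ⟨δ / β, div_ne_zero hδ0 hβ, div_mul_cancel₀ δ hβ⟩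
  set m : SL2 := mkSL !![0, s⁻¹; -s, 0] (by simp [Matrix.det_fin_two, hs])
  have e : (⁅epU 1 β (one_mul 1), m⁆ : SL2).1 = !![1 + s * s * (β * β), β; s * s * β, 1] := by
    rw [commutatorElement_def, Matrix.SpecialLinearGroup.coe_mul, Matrix.SpecialLinearGroup.coe_mul,
      Matrix.SpecialLinearGroup.coe_mul, Matrix.SpecialLinearGroup.coe_inv,
      Matrix.SpecialLinearGroup.coe_inv]
    simp only [m, mkSL_val, epU_val, Matrix.adjugate_fin_two_of]
    ext i j
    fin_cases i <;> fin_cases j <;> simp [Matrix.mul_apply, Fin.sum_univ_two] <;> field_simp <;> ring_nf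
  have ht : (⁅epU 1 β (one_mul 1), m⁆ : SL2).1.trace = x.1.trace := by
    rw [e, Matrix.trace_fin_two]
    simp only [Matrix.of_apply, Matrix.cons_val', Matrix.cons_val_zero, Matrix.cons_val_one,
      Matrix.cons_val_fin_one]
    linear_combination (s * β + δ) * hs' - hδ
  obtain ⟨d, hd⟩ := isConj_iff.mp (isConj_of_trace
    (not_isSc_of_trace (by rw [ht]; exact ht4)) hns ht (Or.inr (by rw [ht]; exact ht4)))
  refine ⟨c⁻¹ * m * c, ?_⟩
  have h1 : ⁅α, c⁻¹ * m * c⁆ = c⁻¹ * ⁅epU 1 β (one_mul 1), m⁆ * c := by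
    rw [← hc]; simp only [commutatorElement_def]; group
  rw [h1, ← MulEquiv.orderOf_eq (MulAut.conj c)]
  simp only [MulAut.conj_apply]
  rw [show c * (c⁻¹ * ⁅epU 1 β (one_mul 1), m⁆ * c) * c⁻¹ = ⁅epU 1 β (one_mul 1), m⁆ by group,
    ← MulEquiv.orderOf_eq (MulAut.conj d)]
  simp only [MulAut.conj_apply]
  rw [hd, hox]

/-- A prime power dividing `p ^ n + 1` which divides no earlier `p ^ d - 1`. -/
theorem exists_primitive {p n : ℕ} (hp : p.Prime) (hn : 2 ≤ n) :
    ∃ r k : ℕ, r.Prime ∧ 1 ≤ k ∧ r ^ k ∣ p ^ n + 1 ∧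
      ∀ d : ℕ, 1 ≤ d → d < 2 * n → ¬ r ^ k ∣ p ^ d - 1 := by
  have key : ∀ r k N D : ℕ, r.Prime → 1 ≤ k → r ^ k ∣ N →
      (∀ d ∈ Finset.range D, 1 ≤ d → ¬ r ^ k ∣ p ^ d - 1) → N = p ^ n + 1 → D = 2 * n →
      ∃ r k : ℕ, r.Prime ∧ 1 ≤ k ∧ r ^ k ∣ p ^ n + 1 ∧
        ∀ d : ℕ, 1 ≤ d → d < 2 * n → ¬ r ^ k ∣ p ^ d - 1 := by
    intro r k N D hr hk hN hD e1 e2
    exact ⟨r, k, hr, hk, e1 ▸ hN, fun d h1 h2 => hD d (Finset.mem_range.2 (e2 ▸ h2)) h1⟩
  rcases PrimPart.good (q := p) (e := 2 * n) hp.two_le with h | h | ⟨m, hm, hcop, hm1⟩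
  · omega
  · simp only [PrimPart.excs, List.mem_cons, Prod.mk.injEq, List.not_mem_nil, or_false] at h
    rcases h with ⟨rfl, h⟩ | ⟨rfl, h⟩ | ⟨rfl, h⟩ | ⟨rfl, h⟩ | ⟨rfl, h⟩ | ⟨rfl, h⟩ | ⟨rfl, h⟩ |
      ⟨rfl, h⟩ | ⟨rfl, h⟩ | ⟨rfl, h⟩ | ⟨rfl, h⟩ | ⟨rfl, h⟩ | ⟨rfl, h⟩
    · obtain rfl : n = 3 := by omega
      exact key 3 2 _ _ (by norm_num) (by omega) (by decide) (by decide) rfl rfl
    · obtain rfl : n = 2 := by omega
      exact key 5 1 _ _ (by norm_num) le_rfl (by decide) (by decide) rfl rfl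
    · obtain rfl : n = 5 := by omega
      exact key 11 1 _ _ (by norm_num) le_rfl (by decide) (by decide) rfl rfl
    · obtain rfl : n = 6 := by omega
      exact key 13 1 _ _ (by norm_num) le_rfl (by decide) (by decide) rfl rfl
    · obtain rfl : n = 9 := by omega
      exact key 19 1 _ _ (by norm_num) le_rfl (by decide) (by decide) rfl rfl
    · obtain rfl : n = 2 := by omega
      exact key 5 1 _ _ (by norm_num) le_rfl (by decide) (by decide) rfl rfl
    · obtain rfl : n = 3 := by omega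
      exact key 7 1 _ _ (by norm_num) le_rfl (by decide) (by decide) rfl rfl
    · obtain rfl : n = 3 := by omega
      exact key 7 1 _ _ (by norm_num) le_rfl (by decide) (by decide) rfl rfl
    · omega
    · obtain rfl : n = 4 := by omega
      exact key 17 1 _ _ (by norm_num) le_rfl (by decide) (by decide) rfl rfl
    · obtain rfl : n = 10 := by omega
      exact key 41 1 _ _ (by norm_num) le_rfl (by decide) (by decide) rfl rfl
    · exact absurd hp (by norm_num)
    · exact absurd hp (by norm_num)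
  · have hr := Nat.minFac_prime (show m ≠ 1 by omega)
    have hrd : ∀ d : ℕ, 1 ≤ d → d < 2 * n → ¬ m.minFac ∣ p ^ d - 1 := fun d h1 h2 h3 =>
      hr.not_dvd_one (((hcop d (Finset.mem_range.2 h2) (by omega)).coprime_dvd_left m.minFac_dvd).eq_one_of_dvd h3 ▸ dvd_refl _)
    refine ⟨m.minFac, 1, hr, le_rfl, ?_, fun d h1 h2 => by rw [pow_one]; exact hrd d h1 h2⟩
    rw [pow_one]
    have h1 := m.minFac_dvd.trans hm
    rw [show p ^ (2 * n) - 1 = (p ^ n + 1) * (p ^ n - 1) by
      rw [← Nat.sq_sub_sq, one_pow, ← pow_mul, mul_comm n 2]] at h1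
    exact (hr.dvd_mul.1 h1).resolve_right (hrd n (by omega) (by omega))

end Cfsg.Agent.LocalEven.SL2Disp
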