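import Cfsg.Agent.Lib.Small.PSL2

/-!
Recognition of the natural module of `SL₂` over a finite field.
-/

set_option autoImplicit false

namespace Cfsg.Agent.LocalEven.SL2Recog

open Cfsg.Agent.Small.PSL2

variable {F : Type*} [Field F] {M : Type*} [AddCommGroup M]
  (ρ : Matrix.SpecialLinearGroup (Fin 2) F →* AddMonoid.End M)

theorem act_mul (g h : Matrix.SpecialLinearGroup (Fin 2) F) (x : M) : ρ (g * h) x = ρ g (ρ h x) := by
  rw [map_mul]; rfl

theorem act_one (x : M) : ρ 1 x = x := by rw [map_one]; rfl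

theorem uS_zero : uS (0 : F) = 1 := by apply Subtype.ext; simp [Matrix.one_fin_two]

theorem wS_hS (a : Fˣ) : uS (a : F) * vS (-(a : F)⁻¹) * uS (a : F) = wS * hS a⁻¹ := by
  apply Subtype.ext
  rw [val_mul, val_mul, val_mul, uS_val, vS_val, wS_val, hS_val]
  simp [Matrix.mul_fin_two]

theorem vS_eq (c : F) : vS c = wS * uS (-c) * wS⁻¹ := by
  rw [wS_uS, neg_neg, mul_inv_cancel_right]

theorem zS_comm (g : Matrix.SpecialLinearGroup (Fin 2) F) : wS * wS * g = g * (wS * wS) := by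
  have h : (wS * wS : Matrix.SpecialLinearGroup (Fin 2) F).1 = -1 := by
    rw [val_mul, wS_val]; simp [Matrix.mul_fin_two, Matrix.one_fin_two]
  apply Subtype.ext
  rw [val_mul, val_mul (A := g), h]
  simp

theorem zS_sq : (wS * wS * (wS * wS) : Matrix.SpecialLinearGroup (Fin 2) F) = 1 := by
  apply Subtype.ext
  simp [Matrix.mul_fin_two, Matrix.one_fin_two]

theorem wS_hS_comm (a : Fˣ) : wS * hS a = hS a⁻¹ * (wS : Matrix.SpecialLinearGroup (Fin 2) F) := by
  apply Subtype.ext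
  rw [val_mul, val_mul, wS_val, hS_val, hS_val]
  simp [Matrix.mul_fin_two]

theorem hS_mul (a b : Fˣ) : hS a * hS b = hS (a * b) := by
  apply Subtype.ext
  rw [val_mul, hS_val, hS_val, hS_val]
  simp [Matrix.mul_fin_two, mul_comm]

theorem hS_one : hS (1 : Fˣ) = 1 := by apply Subtype.ext; simp [Matrix.one_fin_two]

theorem uS_hS (a : Fˣ) (b : F) : uS b * hS a = hS a * uS (((a : F) ^ 2)⁻¹ * b) := by
  rw [hS_uS, ← mul_assoc, mul_inv_cancel₀ (pow_ne_zero _ a.ne_zero), one_mul]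

/-- Generation by the root elements and `w`. -/
theorem gen_induction (P : Matrix.SpecialLinearGroup (Fin 2) F → Prop) (hu : ∀ a, P (uS a)) (hw : P wS)
    (hmul : ∀ A B, P A → P B → P (A * B)) (g : Matrix.SpecialLinearGroup (Fin 2) F) : P g := by
  have hwi : P (wS⁻¹) := by
    have e : (wS⁻¹ : Matrix.SpecialLinearGroup (Fin 2) F) = wS * (wS * wS) := by
      rw [inv_eq_iff_mul_eq_one, ← mul_assoc, zS_sq]
    rw [e]; exact hmul _ _ hw (hmul _ _ hw hw)
  refine Matrix.SL2.transvection_induction (fun A => P A) ?_ (fun A B hA hB => hmul A B hA hB) g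
  intro i j hij c
  fin_cases i <;> fin_cases j
  · exact absurd rfl hij
  · convert hu c using 1
    apply Subtype.ext; rw [Matrix.SpecialLinearGroup.transvection_coe, uS_val]
    ext a b; fin_cases a <;> fin_cases b <;> simp
  · have h := hmul _ _ (hmul _ _ hw (hu (-c))) hwi
    rw [← vS_eq] at h
    convert h using 1
    apply Subtype.ext; rw [Matrix.SpecialLinearGroup.transvection_coe, vS_val]
    ext a b; fin_cases a <;> fin_cases b <;> simp
  · exact absurd rfl hij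

/-- The fixed points of the upper root group. -/
def fixU : AddSubgroup M where
  carrier := {x | ∀ a : F, ρ (uS a) x = x}
  zero_mem' a := map_zero (ρ (uS a))
  add_mem' {x y} hx hy a := by rw [map_add, hx a, hy a]
  neg_mem' {x} hx a := by rw [map_neg, hx a]

/-- The fixed points whose transport by `w` is fixed modulo the fixed points. -/
def core : AddSubgroup M where
  carrier := {x | x ∈ fixU ρ ∧ ∀ a : F, ρ (uS a) (ρ wS x) - ρ wS x ∈ fixU ρ}
  zero_mem' := ⟨zero_mem _, fun a => by simp⟩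
  add_mem' {x y} hx hy := ⟨add_mem hx.1 hy.1, fun a => by
    have h := add_mem (hx.2 a) (hy.2 a)
    simp only [map_add]
    convert h using 1
    abel⟩
  neg_mem' {x} hx := ⟨neg_mem hx.1, fun a => by
    have h := neg_mem (hx.2 a)
    simp only [map_neg]
    convert h using 1
    abel⟩

variable (hC : ∀ x : M, (∀ g, ρ g x = x) → x = 0)

include hC in
theorem eq_zero_of_fix {x : M} (hx : x ∈ fixU ρ) (hwx : ρ wS x ∈ fixU ρ) : x = 0 := by
  refine hC x fun g => ?_
  suffices h : ρ g x = x ∧ ρ g (ρ wS x) = ρ wS x from h.1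
  have hv : ∀ c : F, ρ (vS c) (ρ wS x) = ρ wS x := fun c => by
    rw [← act_mul, show vS c * wS = wS * uS (-c) by rw [wS_uS, neg_neg], act_mul, hx]
  have hwfix : ρ wS (ρ wS x) = ρ wS x := by
    have h1 : ρ (uS (1 : F) * vS (-1) * uS 1) (ρ wS x) = ρ wS x := by rw [act_mul, act_mul, hwx, hv, hwx]
    rwa [uS_vS_uS] at h1
  have hxw : x = ρ wS x := by
    have := congrArg (ρ wS⁻¹) hwfix
    rw [← act_mul ρ wS⁻¹ wS, inv_mul_cancel, act_one, ← act_mul ρ wS⁻¹ wS, inv_mul_cancel, act_one] at this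
    exact this.symm
  refine gen_induction (P := fun g => ρ g x = x ∧ ρ g (ρ wS x) = ρ wS x) (fun a => ⟨hx a, hwx a⟩) ⟨hxw.symm, hwfix⟩
    (fun A B hA hB => ⟨by rw [act_mul, hB.1, hA.1], by rw [act_mul, hB.2, hA.2]⟩) g

theorem hS_fixU (t : Fˣ) {x : M} (hx : x ∈ fixU ρ) : ρ (hS t) x ∈ fixU ρ := fun a => by
  rw [← act_mul, uS_hS, act_mul, hx]

theorem hS_core (t : Fˣ) {x : M} (hx : x ∈ core ρ) : ρ (hS t) x ∈ core ρ := by
  refine ⟨hS_fixU ρ t hx.1, fun a => ?_⟩
  have h := hS_fixU ρ t⁻¹ (hx.2 ((((t⁻¹ : Fˣ) : F) ^ 2)⁻¹ * a))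
  rw [map_sub, ← act_mul, ← uS_hS, act_mul, ← act_mul ρ (hS t⁻¹) wS, ← wS_hS_comm, act_mul] at h
  exact h

theorem zS_core {x : M} (hx : x ∈ core ρ) : ρ (wS * wS) x ∈ core ρ := by
  have hf : ∀ {y : M}, y ∈ fixU ρ → ρ (wS * wS) y ∈ fixU ρ := fun {y} hy a => by
    rw [← act_mul, ← zS_comm, act_mul, hy]
  refine ⟨hf hx.1, fun a => ?_⟩
  have h := hf (hx.2 a)
  rw [map_sub, ← act_mul ρ (wS * wS), zS_comm, act_mul, ← act_mul ρ (wS * wS) wS, zS_comm, act_mul] at h
  exact h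

include hC in
/-- The key identity. -/
theorem key (a : Fˣ) {x : M} (hx : x ∈ core ρ) :
    ρ (uS (a : F)) (ρ wS x) = ρ wS x - ρ (hS a) x := by
  suffices h : ∀ x ∈ core ρ, ρ (uS (a : F)) (ρ wS (ρ (hS a⁻¹) x)) = ρ wS (ρ (hS a⁻¹) x) - x by
    have h1 := h _ (hS_core ρ a hx)
    rwa [← act_mul ρ (hS a⁻¹), hS_mul, inv_mul_cancel, hS_one, act_one] at h1
  intro x hx
  obtain ⟨y, hy⟩ : ∃ y, y = ρ (uS (a : F)⁻¹) (ρ wS (ρ (wS * wS) x)) - ρ wS (ρ (wS * wS) x) := ⟨_, rfl⟩
  have hyW : y ∈ fixU ρ := hy ▸ (zS_core ρ hx).2 _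
  have hwi : (wS⁻¹ : Matrix.SpecialLinearGroup (Fin 2) F) = wS * (wS * wS) := by
    rw [inv_eq_iff_mul_eq_one, ← mul_assoc, zS_sq]
  have hv : ρ (vS (-(a : F)⁻¹)) x = x + ρ wS y := by
    rw [vS_eq, neg_neg, hwi, act_mul, act_mul, act_mul ρ wS (wS * wS), hy, map_sub, ← act_mul ρ wS wS,
      ← act_mul ρ (wS * wS) (wS * wS), zS_sq, act_one]
    abel
  have hw' : ρ wS (ρ (hS a⁻¹) x) = x + ρ (uS (a : F)) (ρ wS y) := by
    rw [← act_mul, ← wS_hS, act_mul, act_mul, hx.1, hv, map_add, hx.1]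
  have hxy : ρ (hS a⁻¹) x = y := by
    have h1 := (hS_core ρ a⁻¹ hx).2 (-(a : F))
    rw [hw', map_add, hx.1, ← act_mul ρ (uS (-(a : F))), ← uS_add, neg_add_cancel, uS_zero, act_one, ← hw'] at h1
    have h2 := sub_mem h1 hx.1
    rw [show x + ρ wS y - ρ wS (ρ (hS a⁻¹) x) - x = ρ wS (y - ρ (hS a⁻¹) x) by rw [map_sub]; abel] at h2
    exact (sub_eq_zero.1 (eq_zero_of_fix ρ hC (sub_mem hyW (hS_fixU ρ _ hx.1)) h2)).symm
  rw [hxy] at hw' ⊢
  rw [eq_sub_iff_add_eq']
  exact hw'.symm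

variable [Finite M] [Fintype F] {p : ℕ} [Fact p.Prime]

/-- The natural module: fixed points as large as half the module, or quadratic action. -/
theorem main (hexp : ∀ x : M, p • x = 0) {n : ℕ} (hF : Fintype.card F = p ^ n)
    (hirr : ∀ N : AddSubgroup M, (∀ g, ∀ x ∈ N, ρ g x ∈ N) → N = ⊥ ∨ N = ⊤)
    (hnt : ∃ g x, ρ g x ≠ x)
    (hyp : (∀ (a b : F) (x : M), ρ (uS a) (ρ (uS b) x - x) = ρ (uS b) x - x) ∨
      Nat.card M ≤ Nat.card ↥(fixU ρ) ^ 2) :
    ∃ Θ : (Fin 2 → F) →+ M, Function.Bijective Θ ∧ ∀ g v, ρ g (Θ v) = Θ (g.1.mulVec v) := by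
  classical
  haveI : Nontrivial M := by
    obtain ⟨g, x, h⟩ := hnt
    exact ⟨_, _, h⟩
  let C : AddSubgroup M :=
    { carrier := {x | ∀ g, ρ g x = x}
      zero_mem' := fun g => map_zero (ρ g)
      add_mem' := fun {x y} hx hy g => by rw [map_add, hx g, hy g]
      neg_mem' := fun {x} hx g => by rw [map_neg, hx g] }
  have hC : ∀ x : M, (∀ g, ρ g x = x) → x = 0 := by
    rcases hirr C (fun g x hx h => by rw [hx g, hx h]) with h | h
    · intro x hx
      have : x ∈ C := hx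
      rwa [h, AddSubgroup.mem_bot] at this
    · obtain ⟨g, x, hgx⟩ := hnt
      exact absurd ((show x ∈ C from h ▸ AddSubgroup.mem_top x) g) hgx
  have hpU : IsPGroup p (Multiplicative F) := IsPGroup.of_card (n := n) (by
    rw [Nat.card_eq_fintype_card, Fintype.card_multiplicative, hF])
  have hdvd : ∀ N : AddSubgroup M, N ≠ ⊥ → p ∣ Nat.card ↥N := by
    intro N hN
    obtain ⟨x, hx, hx0⟩ := N.bot_or_exists_ne_zero.resolve_left hN
    have h1 : addOrderOf x = p := addOrderOf_eq_prime (hexp x) hx0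
    exact h1 ▸ AddSubgroup.addOrderOf_dvd_natCard N hx
  -- a nonzero fixed point
  have hW0 : fixU ρ ≠ ⊥ := by
    letI : MulAction (Multiplicative F) M :=
      { smul := fun a x => ρ (uS a.toAdd) x
        one_smul := fun x => by show ρ (uS (0 : F)) x = x; rw [uS_zero, act_one]
        mul_smul := fun a b x => by show ρ (uS (a.toAdd + b.toAdd)) x = _; rw [uS_add, act_mul]; rfl }
    obtain ⟨x, hx, hx0⟩ := hpU.exists_fixed_point_of_prime_dvd_card_of_fixed_point M
      (by simpa using hdvd ⊤ (by simp)) (a := 0) (fun a => map_zero (ρ (uS a.toAdd)))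
    intro hb
    have : x ∈ fixU ρ := fun a => hx (Multiplicative.ofAdd a)
    rw [hb, AddSubgroup.mem_bot] at this
    exact hx0 this.symm
  -- a nonzero element of the core
  obtain ⟨x₀, hx₀, hx₀0⟩ : ∃ x ∈ core ρ, x ≠ 0 := by
    rcases hyp with hq | hcard
    · obtain ⟨x, hx, hx0⟩ := (fixU ρ).bot_or_exists_ne_zero.resolve_left hW0
      exact ⟨x, ⟨hx, fun b a => hq a b (ρ wS x)⟩, hx0⟩
    · let Φ : ↥(fixU ρ) × ↥(fixU ρ) → M := fun t => (t.1 : M) + ρ wS (t.2 : M)
      have hinj : Function.Injective Φ := by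
        rintro ⟨⟨a, ha⟩, ⟨b, hb⟩⟩ ⟨⟨c, hc⟩, ⟨d, hd⟩⟩ h
        change a + ρ wS b = c + ρ wS d at h
        have h1 : ρ wS (b - d) = c - a := by
          rw [map_sub, sub_eq_sub_iff_add_eq_add, add_comm, h]
        have h2 := eq_zero_of_fix ρ hC (sub_mem hb hd) (h1 ▸ sub_mem hc ha)
        rw [h2, map_zero] at h1
        simp [sub_eq_zero.1 h2, (sub_eq_zero.1 h1.symm).symm]
      have hsurj : Function.Surjective Φ := by
        refine (Nat.bijective_iff_injective_and_card Φ).2 ⟨hinj, le_antisymm (Nat.card_le_card_of_injective Φ hinj) ?_⟩ |>.2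
        rw [Nat.card_prod, ← pow_two]
        exact hcard
      choose π hπ using fun (a : F) (x : ↥(fixU ρ)) => hsurj (ρ (uS a) (ρ wS (x : M)))
      change ∀ a x, ((π a x).1 : M) + ρ wS ((π a x).2 : M) = _ at hπ
      letI : MulAction (Multiplicative F) ↥(fixU ρ) :=
        { smul := fun a x => (π a.toAdd x).2
          one_smul := fun x => by
            show (π 0 x).2 = x
            have := hinj (a₁ := π 0 x) (a₂ := (0, x)) (by
              show ((π 0 x).1 : M) + ρ wS ((π 0 x).2 : M) = ((0 : ↥(fixU ρ)) : M) + ρ wS (x : M)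
              rw [hπ, uS_zero, act_one, ZeroMemClass.coe_zero, zero_add])
            rw [this]
          mul_smul := fun a b x => by
            show (π (a.toAdd + b.toAdd) x).2 = (π a.toAdd (π b.toAdd x).2).2
            have := hinj (a₁ := π (a.toAdd + b.toAdd) x)
              (a₂ := ((π b.toAdd x).1 + (π a.toAdd (π b.toAdd x).2).1, (π a.toAdd (π b.toAdd x).2).2)) (by
                show ((π (a.toAdd + b.toAdd) x).1 : M) + ρ wS ((π (a.toAdd + b.toAdd) x).2 : M) =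
                  ((π b.toAdd x).1 : M) + ((π a.toAdd (π b.toAdd x).2).1 : M) + ρ wS ((π a.toAdd (π b.toAdd x).2).2 : M)
                rw [hπ, add_assoc, hπ, uS_add, act_mul, ← hπ b.toAdd x, map_add, (π b.toAdd x).1.2])
            rw [this] }
      have h0 : (0 : ↥(fixU ρ)) ∈ MulAction.fixedPoints (Multiplicative F) ↥(fixU ρ) := fun a => by
        show (π a.toAdd 0).2 = 0
        have := hinj (a₁ := π a.toAdd 0) (a₂ := (0, 0)) (by
          show ((π a.toAdd 0).1 : M) + ρ wS ((π a.toAdd 0).2 : M) = _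
          rw [hπ]; simp [Φ])
        rw [this]
      obtain ⟨x, hx, hx0⟩ := hpU.exists_fixed_point_of_prime_dvd_card_of_fixed_point _ (hdvd _ hW0) h0
      refine ⟨x, ⟨x.2, fun a => ?_⟩, fun e => hx0 (Subtype.ext e.symm)⟩
      have h1 : (π a x).2 = x := hx (Multiplicative.ofAdd a)
      rw [← hπ a x, h1, add_sub_cancel_right]
      exact (π a x).1.2
  obtain ⟨ψ, hψ⟩ : ∃ ψ : F → M → M, ψ = fun a y => ρ wS y - ρ (uS a) (ρ wS y) := ⟨_, rfl⟩
  have hψu : ∀ (a : Fˣ) {y : M}, y ∈ core ρ → ψ a y = ρ (hS a) y := fun a y hy => by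
    rw [hψ]; show _ - _ = _
    rw [key ρ hC a hy, sub_sub_cancel]
  have hψ0 : ∀ y, ψ 0 y = 0 := fun y => by
    rw [hψ]; show _ - _ = _
    rw [uS_zero, act_one, sub_self]
  have hψc : ∀ (a : F) {y : M}, y ∈ core ρ → ψ a y ∈ core ρ := fun a y hy => by
    by_cases ha : a = 0
    · rw [ha, hψ0]; exact zero_mem _
    · rw [show a = ((Units.mk0 a ha : Fˣ) : F) from rfl, hψu _ hy]; exact hS_core ρ _ hy
  have hψadd : ∀ (a b : F) {y : M}, y ∈ core ρ → ψ (a + b) y = ψ a y + ψ b y := fun a b y hy => by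
    have hb : ρ (uS a) (ψ b y) = ψ b y := (hψc b hy).1 a
    rw [hψ] at hb ⊢
    simp only [map_sub] at hb
    show _ - _ = (_ - _) + (_ - _)
    rw [uS_add, act_mul, ← hb]
    abel
  have hψneg : ∀ (a : F) {y : M}, y ∈ core ρ → ψ (-a) y = -ψ a y := fun a y hy => by
    rw [eq_neg_iff_add_eq_zero, ← hψadd _ _ hy, neg_add_cancel, hψ0]
  have hψmul : ∀ (a b : F) {y : M}, y ∈ core ρ → ψ a (ψ b y) = ψ (a * b) y := fun a b y hy => by
    by_cases ha : a = 0
    · rw [ha, zero_mul, hψ0, hψ0]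
    by_cases hb : b = 0
    · rw [hb, mul_zero, hψ0]
      rw [hψ]; simp
    have e1 := hψu (Units.mk0 a ha) (hψc b hy)
    have e2 := hψu (Units.mk0 b hb) hy
    have e3 := hψu (Units.mk0 a ha * Units.mk0 b hb) hy
    simp only [Units.val_mul, Units.val_mk0] at e1 e2 e3
    rw [e1, e2, ← act_mul, hS_mul, e3]
  have hshift : ∀ (a : F) {y : M}, ρ (uS a) (ρ wS y) = ρ wS y - ψ a y := fun a y => by
    rw [hψ]; show _ = _ - (_ - _)
    rw [sub_sub_cancel]
  have hz : ∀ {y : M}, y ∈ core ρ → ρ wS (ρ wS y) = -y := fun {y} hy => by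
    have e1 : ρ (uS (1 : F)) (ρ wS y) = ρ wS y - y := by
      have h := key ρ hC 1 hy
      rwa [Units.val_one, hS_one, act_one] at h
    have e2 : ρ (vS (-1 : F)) (ρ wS y) = ρ wS y := by
      rw [← act_mul, show vS (-1 : F) * wS = wS * uS 1 from (wS_uS 1).symm, act_mul, hy.1]
    have e3 : ρ (uS (1 : F)) (ρ (vS (-1 : F)) y) = ρ wS y := by
      conv_rhs => rw [← uS_vS_uS, act_mul, act_mul, hy.1]
    calc ρ wS (ρ wS y) = ρ (uS 1) (ρ (vS (-1)) (ρ (uS 1) (ρ wS y))) := by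
          conv_rhs => rw [← act_mul, ← act_mul, uS_vS_uS]
      _ = -y := by
          rw [e1, map_sub, e2, map_sub, e1, e3]
          abel
  let Θ : (Fin 2 → F) →+ M :=
    { toFun := fun v => -ψ (v 0) x₀ + ρ wS (ψ (v 1) x₀)
      map_zero' := by simp [hψ0]
      map_add' := fun v v' => by
        simp only [Pi.add_apply, hψadd _ _ hx₀, map_add]
        abel }
  have hΘ : ∀ v, Θ v = -ψ (v 0) x₀ + ρ wS (ψ (v 1) x₀) := fun v => rfl
  have hequiv : ∀ g v, ρ g (Θ v) = Θ (g.1.mulVec v) := by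
    intro g
    refine gen_induction (P := fun g => ∀ v, ρ g (Θ v) = Θ (g.1.mulVec v)) (fun a v => ?_) (fun v => ?_)
      (fun A B hA hB v => ?_) g
    · rw [hΘ, hΘ, map_add, map_neg, (hψc _ hx₀).1 a, hshift, hψmul _ _ hx₀, uS_val]
      simp [Matrix.mulVec, dotProduct, Fin.sum_univ_two, hψadd _ _ hx₀]
      abel
    · rw [hΘ, hΘ, map_add, map_neg, hz (hψc _ hx₀), wS_val]
      simp [Matrix.mulVec, dotProduct, Fin.sum_univ_two, hψneg _ hx₀]
      abel
    · rw [act_mul, hB, hA, Matrix.mulVec_mulVec, val_mul]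
  refine ⟨Θ, ⟨(injective_iff_map_eq_zero Θ).2 fun v hv => ?_, ?_⟩, hequiv⟩
  · rw [hΘ] at hv
    have h1 : ρ wS (ψ (v 1) x₀) = ψ (v 0) x₀ := by
      rw [← sub_eq_zero, ← hv]; abel
    have h2 := eq_zero_of_fix ρ hC (hψc _ hx₀).1 (h1 ▸ (hψc _ hx₀).1)
    rw [h2, map_zero] at h1
    have hinj : ∀ c : F, ψ c x₀ = 0 → c = 0 := fun c hc => by
      by_contra hc0
      rw [show c = ((Units.mk0 c hc0 : Fˣ) : F) from rfl, hψu _ hx₀] at hc
      have h3 := congrArg (ρ (hS (Units.mk0 c hc0))⁻¹) hc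
      rw [← act_mul, inv_mul_cancel, act_one, map_zero] at h3
      exact hx₀0 h3
    funext i
    fin_cases i
    · exact hinj _ h1.symm
    · exact hinj _ h2
  · have htop := (hirr Θ.range ?_).resolve_left ?_
    · exact AddMonoidHom.range_eq_top.1 htop
    · rintro g _ ⟨v, rfl⟩
      exact ⟨_, (hequiv g v).symm⟩
    · intro hb
      have : Θ ![-1, 0] ∈ Θ.range := ⟨_, rfl⟩
      rw [hb, AddSubgroup.mem_bot, hΘ] at this
      simp [hψ0, hψneg _ hx₀] at this
      have h1 := hψu 1 hx₀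
      rw [Units.val_one, hS_one, act_one, this] at h1
      exact hx₀0 h1.symm

end Cfsg.Agent.LocalEven.SL2Recog
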