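import Cfsg.Agent.Lib.Solv.Component
import Cfsg.Agent.Lib.Solv.Basic
import Cfsg.Agent.Lib.Solv.Zipper
import Cfsg.Agent.Lib.Perm.Subnormalizer
import Cfsg.Agent.Lib.Fusion.Cores
import Cfsg.Agent.S3012
import Cfsg.Agent.S3013

/-!
A minimal counterexample for the Sidki pair problem is a nonabelian simple group extended by the
elementary abelian subgroup.
-/

set_option autoImplicit false
set_option linter.style.haveILetI false

namespace Cfsg.Agent.LocalEven.SidkiMin

open Cfsg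

universe u

variable {G : Type u} [Group G]

/-- An element of odd order equal to its inverse is trivial. -/
theorem eq_one_of_eq_inv {h : G} (ho : Odd (orderOf h)) (e : h = h⁻¹) : h = 1 := by
  rw [← orderOf_eq_one_iff]
  have h2 : orderOf h ∣ 2 := orderOf_dvd_of_pow_eq_one (by rw [pow_two]; nth_rw 2 [e]; exact mul_inv_cancel h)
  rcases (Nat.dvd_prime Nat.prime_two).1 h2 with h3 | h3
  · exact h3
  · rw [h3] at ho; exact absurd ho (by decide)

/-- An element of odd order lies in the subgroup containing its square. -/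
theorem mem_of_sq {h : G} (ho : Odd (orderOf h)) {A : Subgroup G} (hA : h ^ 2 ∈ A) : h ∈ A := by
  obtain ⟨j, hj⟩ := ho
  have h1 := A.pow_mem hA (j + 1)
  rwa [← pow_mul, show 2 * (j + 1) = 2 * j + 1 + 1 by omega, pow_succ, ← hj, pow_orderOf_eq_one, one_mul] at h1

theorem isSubnormal_normal (N : Subgroup G) [hN : N.Normal] : N.IsSubnormal :=
  Subgroup.IsSubnormal.step N ⊤ le_top Subgroup.IsSubnormal.top inferInstance

/-- Elements in the 2-core of an overgroup of a subnormal subgroup `D` that normalise `D`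
centralise it, when the 2-core of the whole group is trivial. -/
theorem commute_of_mem_pCore [Finite G] (hO : pCore 2 G = ⊥) {D H : Subgroup G} (hD : D.IsSubnormal)
    (hDH : D ≤ H) {w : ↥H} (hw : w ∈ pCore 2 ↥H) (hwD : ∀ d ∈ D, (w : G) * d * (w : G)⁻¹ ∈ D) :
    ∀ d ∈ D, (w : G) * d = d * (w : G) := by
  haveI : Fact (Nat.Prime 2) := ⟨Nat.prime_two⟩
  haveI : (pCore 2 ↥H).Normal := inferInstance
  set R := (pCore 2 ↥H).map H.subtype ⊓ D with hR
  have hRp : IsPGroup 2 R := ((Fusion.isPGroup_pCore 2 ↥H).map H.subtype).to_le inf_le_left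
  have hRn : (R.subgroupOf D).Normal := ⟨fun x hx d => by
    obtain ⟨⟨y, hy, hyx⟩, hxD⟩ := hx
    refine ⟨⟨⟨d, hDH d.2⟩ * y * ⟨d, hDH d.2⟩⁻¹, (inferInstance : (pCore 2 ↥H).Normal).conj_mem y hy _, ?_⟩,
      (d * x * d⁻¹).2⟩
    show (d : G) * (y : G) * (d : G)⁻¹ = (d : G) * (x : G) * (d : G)⁻¹
    rw [show (y : G) = (x : G) from hyx]⟩
  have hsub : R.IsSubnormal := Subgroup.IsSubnormal.step R D inf_le_right hD hRn
  have hbot : R = ⊥ := le_bot_iff.1 (hO ▸ Perm.subnormal_pgroup_le_pCore hsub hRp)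
  intro d hd
  have hx : (w : G) * d * (w : G)⁻¹ * d⁻¹ ∈ R := by
    refine ⟨⟨w * (⟨d, hDH hd⟩ * w⁻¹ * ⟨d, hDH hd⟩⁻¹), (pCore 2 ↥H).mul_mem hw
      ((inferInstance : (pCore 2 ↥H).Normal).conj_mem _ ((pCore 2 ↥H).inv_mem hw) _), ?_⟩, D.mul_mem (hwD d hd) (D.inv_mem hd)⟩
    show (w : G) * (d * (w : G)⁻¹ * d⁻¹) = _
    group
  rw [hbot, Subgroup.mem_bot, mul_inv_eq_one, mul_inv_eq_iff_eq_mul] at hx
  exact hx

theorem main [Finite G] (V : Subgroup G) (hV : IsElementaryAbelian 2 V) (hV1 : V ≠ ⊥)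
    (hS : IsSidkiPair V) (hVO : V ⊓ pCore 2 G = ⊥)
    (hminG : ∀ (H : Type u) [Group H] [Finite H] (W : Subgroup H), Nat.card H < Nat.card G →
      IsElementaryAbelian 2 W → W ≠ ⊥ → IsSidkiPair W → W ⊓ pCore 2 H ≠ ⊥) :
    IsSimpleGroup ↥(generalizedFittingSubgroup G) ∧
      ¬ IsMulCommutative ↥(generalizedFittingSubgroup G) ∧ V ⊔ generalizedFittingSubgroup G = ⊤ := by
  classical
  haveI : Fact (Nat.Prime 2) := ⟨Nat.prime_two⟩
  obtain ⟨hab, hexp⟩ := hV
  have hcomm : ∀ a ∈ V, ∀ b ∈ V, a * b = b * a :=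
    fun a ha b hb => congrArg Subtype.val (hab.is_comm.comm ⟨a, ha⟩ ⟨b, hb⟩)
  have hinv : ∀ a ∈ V, a⁻¹ = a := fun a ha => inv_eq_of_mul_eq_one_right (pow_two a ▸ hexp a ha)
  have hV2 : IsPGroup 2 V := fun x => ⟨1, Subtype.ext (by simpa using hexp x x.2)⟩
  obtain ⟨v₀, hv₀, hv₀1⟩ : ∃ v ∈ V, v ≠ 1 := by
    obtain ⟨x, hx⟩ := Subgroup.ne_bot_iff_exists_ne_one.1 hV1
    exact ⟨x, x.2, fun e => hx (Subtype.ext e)⟩
  -- induction inside a proper subgroup
  have hindH : ∀ (H U : Subgroup G), H ≠ ⊤ → U ≤ V → (∃ x ∈ U, x ≠ 1 ∧ x ∈ H) →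
      IsSidkiPair (U.subgroupOf H) → ∃ w : ↥H, (w : G) ∈ U ∧ (w : G) ≠ 1 ∧ w ∈ pCore 2 ↥H := by
    intro H U hH hUV hx hSid
    have hlt : Nat.card ↥H < Nat.card G :=
      lt_of_le_of_ne (Nat.le_of_dvd Nat.card_pos (Subgroup.card_subgroup_dvd_card H))
        fun h => hH (Subgroup.eq_top_of_card_eq H h)
    have hne : U.subgroupOf H ≠ ⊥ := by
      obtain ⟨x, hxU, hx1, hxH⟩ := hx
      intro hb
      have : (⟨x, hxH⟩ : ↥H) ∈ U.subgroupOf H := hxU
      rw [hb, Subgroup.mem_bot] at this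
      exact hx1 (congrArg Subtype.val this)
    have hel : IsElementaryAbelian 2 (U.subgroupOf H) :=
      ⟨⟨⟨fun a b => Subtype.ext (Subtype.ext (hcomm _ (hUV a.2) _ (hUV b.2)))⟩⟩,
        fun a ha => Subtype.ext (by simpa using hexp _ (hUV ha))⟩
    obtain ⟨⟨w, hwU, hwp⟩, hw1⟩ := Subgroup.ne_bot_iff_exists_ne_one.1 (hminG ↥H _ hlt hel hne hSid)
    exact ⟨w, hwU, fun e => hw1 (Subtype.ext (Subtype.ext e)), hwp⟩
  -- induction in a quotient
  have hquot : ∀ (K : Subgroup G) [K.Normal], K ≠ ⊥ → V ⊓ K = ⊥ →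
      ∃ w ∈ V, w ≠ 1 ∧ QuotientGroup.mk' K w ∈ pCore 2 (G ⧸ K) := by
    intro K _ hK hVK
    have hinj : ∀ w ∈ V, QuotientGroup.mk' K w = 1 → w = 1 := fun w hw h => by
      have : w ∈ V ⊓ K := ⟨hw, (QuotientGroup.eq_one_iff w).1 h⟩
      rwa [hVK, Subgroup.mem_bot] at this
    have hlt : Nat.card (G ⧸ K) < Nat.card G := by
      have h1 : 1 < Nat.card K := Subgroup.one_lt_card_iff_ne_bot K |>.2 hK
      rw [Subgroup.card_eq_card_quotient_mul_card_subgroup K]
      exact lt_mul_of_one_lt_right Nat.card_pos h1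
    have hel : IsElementaryAbelian 2 (V.map (QuotientGroup.mk' K)) := by
      refine ⟨⟨⟨?_⟩⟩, ?_⟩
      · rintro ⟨_, a, ha, rfl⟩ ⟨_, b, hb, rfl⟩
        exact Subtype.ext (by
          show QuotientGroup.mk' K a * QuotientGroup.mk' K b = QuotientGroup.mk' K b * QuotientGroup.mk' K a
          rw [← map_mul, hcomm a ha b hb, map_mul])
      · rintro _ ⟨a, ha, rfl⟩
        rw [← map_pow, hexp a ha, map_one]
    have hne : V.map (QuotientGroup.mk' K) ≠ ⊥ := fun hb => hv₀1 (hinj _ hv₀ (by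
      have := Subgroup.mem_map_of_mem (QuotientGroup.mk' K) hv₀
      rwa [hb, Subgroup.mem_bot] at this))
    obtain ⟨⟨x, ⟨w, hw, rfl⟩, hxp⟩, hx1⟩ := Subgroup.ne_bot_iff_exists_ne_one.1
      (hminG (G ⧸ K) _ hlt hel hne (S3012.result V K ⟨hab, hexp⟩ hV1 hS hVK))
    exact ⟨w, hw, fun e => hx1 (Subtype.ext (by show QuotientGroup.mk' K w = 1; rw [e, map_one])), hxp⟩
  have hO : pCore 2 G = ⊥ := by
    by_contra hne
    obtain ⟨w, hw, hw1, hwp⟩ := hquot _ hne hVO
    set π := QuotientGroup.mk' (pCore 2 G) with hπ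
    have hp : IsPGroup 2 ↥((pCore 2 (G ⧸ pCore 2 G)).comap π) :=
      (Fusion.isPGroup_pCore 2 (G ⧸ pCore 2 G)).comap_of_ker_isPGroup π (by
        rw [hπ, QuotientGroup.ker_mk']; exact Fusion.isPGroup_pCore 2 G)
    have : w ∈ V ⊓ pCore 2 G := ⟨hw, Fusion.le_pCore hp hwp⟩
    rw [hVO, Subgroup.mem_bot] at this
    exact hw1 this
  have hsn : ∀ A : Subgroup G, A.IsSubnormal → IsPGroup 2 A → A = ⊥ := fun A hA hp =>
    le_bot_iff.1 (hO ▸ Perm.subnormal_pgroup_le_pCore hA hp)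
  have hout : ∀ v ∈ V, v ≠ 1 → ∃ h : G, h ≠ 1 ∧ Odd (orderOf h) ∧ v * h * v⁻¹ = h⁻¹ := by
    intro v hv hv1
    refine Solv.exists_odd_inverted (orderOf_eq_prime (hexp v hv) hv1) fun hc => hv1 ?_
    rwa [hO, Subgroup.mem_bot] at hc
  -- trivial centre
  have hZ : Subgroup.center G = ⊥ := by
    by_contra hne
    have hVZ : V ⊓ Subgroup.center G = ⊥ := by
      haveI : (V ⊓ Subgroup.center G).Normal := ⟨fun x hx g => by
        rwa [Subgroup.mem_center_iff.1 hx.2 g, mul_inv_cancel_right]⟩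
      exact hsn _ (isSubnormal_normal _) (hV2.to_le inf_le_left)
    obtain ⟨w, hw, hw1, hwp⟩ := hquot _ hne hVZ
    obtain ⟨h, hh, hho, hwh⟩ := hout w hw hw1
    set π := QuotientGroup.mk' (Subgroup.center G)
    haveI : (pCore 2 (G ⧸ Subgroup.center G)).Normal := inferInstance
    have h2 : π (h ^ 2) ∈ pCore 2 (G ⧸ Subgroup.center G) := by
      have h1 : π (h⁻¹ * h⁻¹) ∈ pCore 2 (G ⧸ Subgroup.center G) := by
        rw [show h⁻¹ * h⁻¹ = w * (h * w⁻¹ * h⁻¹) from by
          conv_lhs => arg 1; rw [← hwh]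
          group, map_mul, map_mul, map_mul, map_inv, map_inv]
        exact mul_mem hwp ((inferInstance : (pCore 2 (G ⧸ Subgroup.center G)).Normal).conj_mem _ (inv_mem hwp) _)
      rw [← mul_inv_rev, map_inv, inv_mem_iff, ← pow_two] at h1
      exact h1
    obtain ⟨k, hk⟩ := Fusion.isPGroup_pCore 2 (G ⧸ Subgroup.center G) ⟨_, h2⟩
    have hk1 : orderOf (π (h ^ 2)) ∣ 2 ^ k := orderOf_dvd_of_pow_eq_one (congrArg Subtype.val hk)
    have hk2 : orderOf (π (h ^ 2)) ∣ orderOf h :=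
      (orderOf_map_dvd π _).trans (orderOf_pow_dvd 2)
    have hk3 : orderOf (π (h ^ 2)) = 1 :=
      Nat.eq_one_of_dvd_coprimes ((Nat.coprime_two_left.2 hho).pow_left k) hk1 hk2
    have hhZ : h ∈ Subgroup.center G :=
      mem_of_sq hho ((QuotientGroup.eq_one_iff _).1 (orderOf_eq_one_iff.1 hk3))
    refine hh (eq_one_of_eq_inv hho ?_)
    rw [← hwh, Subgroup.mem_center_iff.1 hhZ w, mul_inv_cancel_right]
  -- elements of `V` act faithfully on normal subgroups
  have key : ∀ (D : Subgroup G), D.Normal → D ≠ ⊥ → ∀ u ∈ V, u ∈ Subgroup.centralizer (D : Set G) → u = 1 := by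
    intro D hDn hD u hu huD
    by_contra hu1
    set F := Subgroup.centralizer (D : Set G) with hF
    haveI : F.Normal := Solv.centralizer_normal_of_normal D
    have hFtop : F ≠ ⊤ := fun ht => hD (by
      rw [eq_bot_iff, ← hZ]
      exact fun d hd => Subgroup.mem_center_iff.2 fun g =>
        (Subgroup.mem_centralizer_iff.1 (show g ∈ F from ht ▸ Subgroup.mem_top g) d hd).symm)
    obtain ⟨w, hwV, hw1, hwp⟩ := hindH F V hFtop le_rfl ⟨u, hu, hu1, huD⟩ (by
      rintro ⟨h, hhF⟩ ⟨x, hxF⟩ hxV hodd heq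
      have heq' : x * h * x⁻¹ = h⁻¹ := congrArg Subtype.val heq
      have hodd' : Odd (orderOf h) := by rwa [← Subgroup.orderOf_coe] at hodd
      by_cases hh : h = 1
      · exact ⟨⟨u, huD⟩, hu, fun e => hu1 (congrArg Subtype.val e), Subtype.ext (by simp [hh])⟩
      set C := Subgroup.centralizer ({x} : Set G) ⊓ Subgroup.centralizer ({h} : Set G) with hC
      have hCtop : C ≠ ⊤ := fun ht => hh (by
        have hhZ : h ∈ Subgroup.center G := Subgroup.mem_center_iff.2 fun g =>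
          Subgroup.mem_centralizer_singleton_iff.1 (show g ∈ C from ht ▸ Subgroup.mem_top g).2
        rwa [hZ, Subgroup.mem_bot] at hhZ)
      obtain ⟨hne, hSid⟩ := S3013.result V ⟨hab, hexp⟩ hV1 hS x h hxV hodd' heq' C hC
      obtain ⟨⟨y, hy⟩, hy1⟩ := Subgroup.ne_bot_iff_exists_ne_one.1 hne
      obtain ⟨w, hwU, hw1, hwp⟩ := hindH C (C ⊓ V) hCtop inf_le_right
        ⟨y, hy, fun e => hy1 (Subtype.ext e), hy.1⟩ hSid
      have hDC : D ≤ C := fun d hd =>
        ⟨Subgroup.mem_centralizer_singleton_iff.2 (Subgroup.mem_centralizer_iff.1 hxF d hd),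
          Subgroup.mem_centralizer_singleton_iff.2 (Subgroup.mem_centralizer_iff.1 hhF d hd)⟩
      have hwD := commute_of_mem_pCore hO (isSubnormal_normal D) hDC hwp fun d hd => hDn.conj_mem d hd _
      exact ⟨⟨w, Subgroup.mem_centralizer_iff.2 fun d hd => (hwD d hd).symm⟩, hwU.2,
        fun e => hw1 (congrArg Subtype.val e),
        Subtype.ext (Subgroup.mem_centralizer_singleton_iff.1 hwU.1.2)⟩)
    have hbot : (pCore 2 ↥F).map F.subtype = ⊥ := by
      refine hsn _ (Subgroup.IsSubnormal.step _ F (Subgroup.map_subtype_le _) (isSubnormal_normal F) ?_)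
        ((Fusion.isPGroup_pCore 2 ↥F).map _)
      rw [Subgroup.subgroupOf, Subgroup.comap_map_eq_self_of_injective F.subtype_injective]
      infer_instance
    have : (w : G) ∈ (⊥ : Subgroup G) := hbot ▸ Subgroup.mem_map_of_mem F.subtype hwp
    exact hw1 this
  -- a minimal normal subgroup
  haveI : Nontrivial G := ⟨⟨v₀, 1, hv₀1⟩⟩
  obtain ⟨N, hNn, hN1, hNmin⟩ := Solv.exists_minimal_normal (G := G)
  haveI := hNn
  haveI hCNn : (Subgroup.centralizer (N : Set G)).Normal := Solv.centralizer_normal_of_normal N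
  have hNV : N ⊔ V = ⊤ := by
    by_contra hne
    have hVH : V ≤ N ⊔ V := le_sup_right
    obtain ⟨w, hwV, hw1, hwp⟩ := hindH (N ⊔ V) V hne le_rfl ⟨v₀, hv₀, hv₀1, hVH hv₀⟩ (by
      rintro ⟨h, _⟩ ⟨x, _⟩ hxV hodd heq
      obtain ⟨w, hw, hw1, hwc⟩ := hS h x hxV (by rwa [← Subgroup.orderOf_coe] at hodd)
        (congrArg Subtype.val heq)
      exact ⟨⟨w, hVH hw⟩, hw, fun e => hw1 (congrArg Subtype.val e), Subtype.ext hwc⟩)
    have hwN := commute_of_mem_pCore hO (isSubnormal_normal N) le_sup_left hwp fun d hd => hNn.conj_mem d hd _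
    exact hw1 (key N hNn hN1 _ hwV (Subgroup.mem_centralizer_iff.2 fun d hd => (hwN d hd).symm))
  have hdec : ∀ g : G, ∃ n ∈ N, ∃ v ∈ V, n * v = g := fun g =>
    Subgroup.mem_sup_of_normal_left.1 (hNV ▸ Subgroup.mem_top g)
  -- normality is tested on `N` and on `V`
  have hnorm : ∀ A : Subgroup G, (∀ n ∈ N, ∀ a ∈ A, n * a * n⁻¹ ∈ A) →
      (∀ v ∈ V, ∀ a ∈ A, v * a * v⁻¹ ∈ A) → A.Normal := fun A h1 h2 => ⟨fun a ha g => by
    obtain ⟨n, hn, v, hv, rfl⟩ := hdec g
    rw [show n * v * a * (n * v)⁻¹ = n * (v * a * v⁻¹) * n⁻¹ by group]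
    exact h1 n hn _ (h2 v hv a ha)⟩
  have hnc : ∃ x ∈ N, ∃ y ∈ N, x * y ≠ y * x := by
    by_contra hc
    push Not at hc
    have hodd : ∀ n ∈ N, Odd (orderOf n) := by
      intro n hn
      obtain ⟨a, m, hm, hnm⟩ := Nat.exists_eq_two_pow_mul_odd (n := orderOf n) (orderOf_pos _).ne'
      have hle : Subgroup.zpowers (n ^ m) ≤ N := Subgroup.zpowers_le.2 (N.pow_mem hn m)
      have hb := hsn _ (Subgroup.IsSubnormal.step _ N hle (isSubnormal_normal N) ⟨fun x hx g => by
          rw [Subgroup.mem_subgroupOf] at hx ⊢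
          rw [Subgroup.coe_mul, Subgroup.coe_mul, Subgroup.coe_inv, hc _ g.2 _ (hle hx), mul_inv_cancel_right]
          exact hx⟩)
        (IsPGroup.of_card (n := orderOf (n ^ m) |>.factorization 2) (by
          rw [Nat.card_zpowers]
          have h1 : orderOf (n ^ m) ∣ 2 ^ a := orderOf_dvd_of_pow_eq_one (by
            rw [← pow_mul, mul_comm, ← hnm, pow_orderOf_eq_one])
          obtain ⟨i, -, hi⟩ := (Nat.dvd_prime_pow Nat.prime_two).1 h1
          rw [hi, Nat.Prime.factorization_pow Nat.prime_two, Finsupp.single_eq_same]))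
      exact Odd.of_dvd_nat hm (orderOf_dvd_of_pow_eq_one (Subgroup.zpowers_eq_bot.1 hb))
    have hinvall : ∀ v ∈ V, v ≠ 1 → ∀ n ∈ N, v * n * v⁻¹ = n⁻¹ := by
      intro v hv hv1
      let M : Subgroup G :=
        { carrier := {n | n ∈ N ∧ v * n * v⁻¹ = n⁻¹}
          one_mem' := ⟨N.one_mem, by group⟩
          mul_mem' := by
            rintro a b ⟨ha, ha'⟩ ⟨hb, hb'⟩
            refine ⟨N.mul_mem ha hb, ?_⟩
            rw [show v * (a * b) * v⁻¹ = (v * a * v⁻¹) * (v * b * v⁻¹) by group, ha', hb', mul_inv_rev,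
              hc _ (N.inv_mem ha) _ (N.inv_mem hb)]
          inv_mem' := by
            rintro a ⟨ha, ha'⟩
            exact ⟨N.inv_mem ha, by rw [← conj_inv, ha']⟩ }
      have hMn : M.Normal := by
        refine hnorm M (fun n hn a ha => ?_) (fun x hx a ha => ⟨hNn.conj_mem a ha.1 x, ?_⟩)
        · rw [hc n hn a ha.1, mul_inv_cancel_right]; exact ha
        · calc v * (x * a * x⁻¹) * v⁻¹ = (v * x) * a * (v * x)⁻¹ := by group
            _ = (x * v) * a * (x * v)⁻¹ := by rw [hcomm v hv x hx]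
            _ = x * (v * a * v⁻¹) * x⁻¹ := by group
            _ = _ := by rw [ha.2]; group
      have hM1 : M ≠ ⊥ := by
        intro hb
        refine hv1 (key N hNn hN1 v hv (Subgroup.mem_centralizer_iff.2 fun n hn => ?_))
        have hy : v * n * v⁻¹ * n⁻¹ ∈ M := by
          refine ⟨N.mul_mem (hNn.conj_mem n hn v) (N.inv_mem hn), ?_⟩
          calc v * (v * n * v⁻¹ * n⁻¹) * v⁻¹ = (v * v) * n * (v * v)⁻¹ * (v * n⁻¹ * v⁻¹) := by group
            _ = n * (v * n⁻¹ * v⁻¹) := by rw [← pow_two, hexp v hv]; group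
            _ = _ := by group
        rw [hb, Subgroup.mem_bot, mul_inv_eq_one, mul_inv_eq_iff_eq_mul] at hy
        exact hy.symm
      intro n hn
      rcases hNmin M hMn (fun a ha => ha.1) with h | h
      · exact absurd h hM1
      · exact (show n ∈ M from h ▸ hn).2
    obtain ⟨⟨n, hn⟩, hn1'⟩ := Subgroup.ne_bot_iff_exists_ne_one.1 hN1
    have hn1 : n ≠ 1 := fun e => hn1' (Subtype.ext e)
    obtain ⟨w, hw, hw1, hwn⟩ := hS n v₀ hv₀ (hodd n hn) (hinvall v₀ hv₀ hv₀1 n hn)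
    refine hn1 (eq_one_of_eq_inv (hodd n hn) ?_)
    rw [← hinvall w hw hw1 n hn, mul_inv_eq_iff_eq_mul.2 hwn]
  have hCN : Subgroup.centralizer (N : Set G) = ⊥ := by
    have hi : Subgroup.centralizer (N : Set G) ⊓ N = ⊥ := by
      refine (hNmin _ inferInstance inf_le_right).resolve_right fun h => ?_
      obtain ⟨x, hx, y, hy, hxy⟩ := hnc
      have hxc : x ∈ Subgroup.centralizer (N : Set G) := (h.symm ▸ hx : x ∈ _ ⊓ N).1
      exact hxy (Subgroup.mem_centralizer_iff.1 hxc y hy).symm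
    refine hsn _ (isSubnormal_normal _) fun x => ⟨1, Subtype.ext ?_⟩
    obtain ⟨n, hn, v, hv, hx⟩ := hdec (x : G)
    have h1 : ((x : G)) ^ 2 ∈ Subgroup.centralizer (N : Set G) ⊓ N := by
      refine ⟨Subgroup.pow_mem _ x.2 2, ?_⟩
      rw [← hx, show (n * v) ^ 2 = n * (v * n * v⁻¹) * v ^ 2 by simp only [pow_two]; group, hexp v hv, mul_one]
      exact N.mul_mem hn (hNn.conj_mem n hn v)
    rw [hi, Subgroup.mem_bot] at h1
    simpa using h1
  -- `N` is simple
  have hsimple : IsSimpleGroup ↥N := by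
    haveI : Nontrivial ↥N := (Subgroup.nontrivial_iff_ne_bot N).2 hN1
    obtain ⟨S', hS'n, hS'1, hS'min⟩ := Solv.exists_minimal_normal (G := ↥N)
    by_cases hS't : S' = ⊤
    · exact ⟨fun K hK => hS't ▸ hS'min K hK (by rw [hS't]; exact le_top)⟩
    exfalso
    set S := S'.map N.subtype with hSdef
    have hSN : S ≤ N := Subgroup.map_subtype_le S'
    have hSsub : S.subgroupOf N = S' := Subgroup.comap_map_eq_self_of_injective N.subtype_injective S'
    have hS1 : S ≠ ⊥ := fun h => hS'1 ((Subgroup.map_eq_bot_iff_of_injective S' N.subtype_injective).1 h)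
    have hSnN : ∀ n ∈ N, ∀ a ∈ S, n * a * n⁻¹ ∈ S := by
      rintro n hn _ ⟨a, ha, rfl⟩
      exact ⟨⟨n, hn⟩ * a * ⟨n, hn⟩⁻¹, hS'n.conj_mem a ha _, rfl⟩
    have hSsn : S.IsSubnormal :=
      Subgroup.IsSubnormal.step S N hSN (isSubnormal_normal N) (hSsub.symm ▸ hS'n)
    have hSnG : ¬ S.Normal := fun h => by
      rcases hNmin S h hSN with h' | h'
      · exact hS1 h'
      · exact hS't (by rw [← hSsub, h', Subgroup.subgroupOf_self])
    -- normalisers of `S` in `V`
    let Stab : G → Prop := fun w => ∀ a ∈ S, w * a * w⁻¹ ∈ S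
    have hmove : ∀ w ∈ V, ¬ Stab w → ∀ y ∈ S, w * y * w⁻¹ ∈ S → y = 1 := by
      intro w hw hns y hy hwy
      let M : Subgroup ↥N :=
        { carrier := {a | (a : G) ∈ S ∧ w * (a : G) * w⁻¹ ∈ S}
          one_mem' := ⟨S.one_mem, by simp⟩
          mul_mem' := by
            rintro a b ⟨ha, ha'⟩ ⟨hb, hb'⟩
            refine ⟨S.mul_mem ha hb, ?_⟩
            have := S.mul_mem ha' hb'
            rwa [show w * (a : G) * w⁻¹ * (w * (b : G) * w⁻¹) = w * ((a * b : ↥N) : G) * w⁻¹ by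
              push_cast; group] at this
          inv_mem' := by
            rintro a ⟨ha, ha'⟩
            refine ⟨S.inv_mem ha, ?_⟩
            have := S.inv_mem ha'
            rwa [conj_inv] at this }
      have hMn : M.Normal := ⟨fun a ha n => ⟨hSnN n n.2 _ ha.1, by
        show w * ((n : G) * (a : G) * (n : G)⁻¹) * w⁻¹ ∈ S
        have := hSnN _ (hNn.conj_mem (n : G) n.2 w) _ ha.2
        rwa [show w * (n : G) * w⁻¹ * (w * (a : G) * w⁻¹) * (w * (n : G) * w⁻¹)⁻¹ =
          w * ((n : G) * (a : G) * (n : G)⁻¹) * w⁻¹ by group] at this⟩⟩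
      rcases hS'min M hMn (fun a ha => hSsub.le ha.1) with h | h
      · have : (⟨y, hSN hy⟩ : ↥N) ∈ M := ⟨hy, hwy⟩
        rw [h, Subgroup.mem_bot] at this
        exact congrArg Subtype.val this
      · refine absurd (fun a ha => ?_) hns
        have : (⟨a, hSN ha⟩ : ↥N) ∈ S' := hSsub.le ha
        exact (show (⟨a, hSN ha⟩ : ↥N) ∈ M from h ▸ this).2
    have hcomm' : ∀ w ∈ V, ¬ Stab w → ∀ x ∈ S, ∀ y ∈ S, x * (w * y * w⁻¹) = (w * y * w⁻¹) * x := by
      intro w hw hns x hx y hy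
      have hyN := hNn.conj_mem y (hSN hy) w
      set z := x * (w * y * w⁻¹) * x⁻¹ * (w * y * w⁻¹)⁻¹ with hz
      have hz1 : z ∈ S := by
        rw [hz, show x * (w * y * w⁻¹) * x⁻¹ * (w * y * w⁻¹)⁻¹ =
          x * ((w * y * w⁻¹) * x⁻¹ * (w * y * w⁻¹)⁻¹) by group]
        exact S.mul_mem hx (hSnN _ hyN _ (S.inv_mem hx))
      have hz2 : w⁻¹ * z * w ∈ S := by
        have hn : w⁻¹ * x * w ∈ N := by simpa using hNn.conj_mem x (hSN hx) w⁻¹
        have := S.mul_mem (hSnN _ hn _ hy) (S.inv_mem hy)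
        rwa [show w⁻¹ * x * w * y * (w⁻¹ * x * w)⁻¹ * y⁻¹ = w⁻¹ * z * w by rw [hz]; group] at this
      have := hmove w hw hns z hz1 (by rw [hinv w hw] at hz2 ⊢; exact hz2)
      rwa [hz, mul_inv_eq_one, mul_inv_eq_iff_eq_mul] at this
    have hgen : ∀ g : G, (∀ w ∈ V, ∀ y ∈ S, g * (w * y * w⁻¹) = (w * y * w⁻¹) * g) →
        g ∈ Subgroup.centralizer (N : Set G) := by
      intro g hg
      set J := Subgroup.closure {x : G | ∃ w ∈ V, ∃ y ∈ S, x = w * y * w⁻¹} with hJ
      have hJn : J.Normal := by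
        have hmap : ∀ k : G, (∀ x ∈ {x : G | ∃ w ∈ V, ∃ y ∈ S, x = w * y * w⁻¹}, k * x * k⁻¹ ∈ J) →
            ∀ a ∈ J, k * a * k⁻¹ ∈ J := by
          intro k hk a ha
          exact (Subgroup.closure_le (K := J.comap (MulAut.conj k).toMonoidHom)).2 (fun x hx => hk x hx) ha
        refine hnorm J (fun n hn => hmap n ?_) (fun v hv => hmap v ?_)
        · rintro _ ⟨w, hw, y, hy, rfl⟩
          refine Subgroup.subset_closure ⟨w, hw, (w⁻¹ * n * w) * y * (w⁻¹ * n * w)⁻¹, ?_, by group⟩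
          exact hSnN _ (by simpa using hNn.conj_mem n hn w⁻¹) _ hy
        · rintro _ ⟨w, hw, y, hy, rfl⟩
          exact Subgroup.subset_closure ⟨v * w, V.mul_mem hv hw, y, hy, by group⟩
      have hJN : J ≤ N := (Subgroup.closure_le _).2 (by
        rintro _ ⟨w, hw, y, hy, rfl⟩
        exact hNn.conj_mem y (hSN hy) w)
      have hSJ : S ≤ J := fun y hy => Subgroup.subset_closure ⟨1, V.one_mem, y, hy, by group⟩
      have hJeq : J = N := (hNmin J hJn hJN).resolve_left fun h => hS1 (le_bot_iff.1 (h ▸ hSJ))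
      have hJc : J ≤ Subgroup.centralizer ({g} : Set G) := (Subgroup.closure_le _).2 (by
        rintro _ ⟨w, hw, y, hy, rfl⟩
        exact Subgroup.mem_centralizer_singleton_iff.2 (hg w hw y hy).symm)
      exact Subgroup.mem_centralizer_iff.2 fun n hn =>
        Subgroup.mem_centralizer_singleton_iff.1 (hJc (hJeq.symm ▸ hn))
    have hcen : ∀ a ∈ S, (∀ y ∈ S, a * y = y * a) → a = 1 := by
      intro a ha hay
      have := hgen a fun w hw y hy => by
        by_cases hs : Stab w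
        · exact hay _ (hs y hy)
        · exact hcomm' w hw hs a ha y hy
      rwa [hCN, Subgroup.mem_bot] at this
    obtain ⟨v, hv, hvm⟩ : ∃ v ∈ V, ¬ Stab v := by
      by_contra hall
      push Not at hall
      exact hSnG (hnorm S hSnN hall)
    obtain ⟨u, hu, hu1, hus⟩ : ∃ u ∈ V, u ≠ 1 ∧ Stab u := by
      by_contra hall
      push Not at hall
      obtain ⟨a, ha, ha1, hao⟩ : ∃ a ∈ S, a ≠ 1 ∧ Odd (orderOf a) := by
        by_contra hno
        push Not at hno
        refine hS1 (hsn S hSsn fun x => ?_)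
        obtain ⟨k, m, hm, hxm⟩ := Nat.exists_eq_two_pow_mul_odd (n := orderOf (x : G)) (orderOf_pos _).ne'
        refine ⟨k, Subtype.ext ?_⟩
        show (x : G) ^ 2 ^ k = 1
        by_contra hne
        refine hno _ (S.pow_mem x.2 _) hne (Odd.of_dvd_nat hm (orderOf_dvd_of_pow_eq_one ?_))
        rw [← pow_mul, ← hxm, pow_orderOf_eq_one]
      set b := v * a⁻¹ * v⁻¹ with hb
      have hab' : Commute a b := hcomm' v hv hvm a ha a⁻¹ (S.inv_mem ha)
      have hbo : orderOf b = orderOf a := by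
        rw [hb, ← orderOf_inv a]
        exact (MulAut.conj v).orderOf_eq a⁻¹
      have hho : Odd (orderOf (a * b)) := Odd.of_dvd_nat (hao.mul (hbo.symm ▸ hao))
        hab'.orderOf_mul_dvd_mul_orderOf
      have hhinv : v * (a * b) * v⁻¹ = (a * b)⁻¹ := by
        calc v * (a * b) * v⁻¹ = (v * a * v⁻¹) * ((v * v) * a⁻¹ * (v * v)⁻¹) := by rw [hb]; group
          _ = b⁻¹ * a⁻¹ := by rw [← pow_two, hexp v hv, hb]; group
          _ = _ := by group
      obtain ⟨w, hw, hw1, hwc⟩ := hS _ v hv hho hhinv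
      have hwc' : w * (a * b) * w⁻¹ = a * b := mul_inv_eq_iff_eq_mul.2 hwc
      have hwm : ¬ Stab w := hall w hw hw1
      by_cases hwv : w = v
      · subst hwv
        have h1 : a * b = 1 := eq_one_of_eq_inv hho (hwc'.symm.trans hhinv)
        refine ha1 (hmove w hw hwm a ha ?_)
        have h2 := eq_inv_of_mul_eq_one_left h1
        rw [hb, ← conj_inv, inv_inv] at h2
        rw [← h2]; exact ha
      · have hwv1 : w * v ≠ 1 := fun e => hwv (by rw [eq_inv_of_mul_eq_one_left e, hinv v hv])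
        refine ha1 (hcen a ha fun y hy => ?_)
        have ea : a = (w * a * w⁻¹) * (w * v * a⁻¹ * (w * v)⁻¹) * (v * a * v⁻¹) := by
          calc a = (a * b) * b⁻¹ := by group
            _ = (w * (a * b) * w⁻¹) * b⁻¹ := by rw [hwc']
            _ = _ := by rw [hb]; group
        have c1 : Commute (w * a * w⁻¹) y := (hcomm' w hw hwm y hy a ha).symm
        have c2 : Commute (w * v * a⁻¹ * (w * v)⁻¹) y :=
          (hcomm' _ (V.mul_mem hw hv) (hall _ (V.mul_mem hw hv) hwv1) y hy a⁻¹ (S.inv_mem ha)).symm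
        have c3 : Commute (v * a * v⁻¹) y := (hcomm' v hv hvm y hy a ha).symm
        rw [ea]
        exact ((c1.mul_left c2).mul_left c3).eq
    set U := V ⊓ Subgroup.normalizer (S : Set G) with hU
    have hStab : ∀ w ∈ V, Stab w → w ∈ Subgroup.normalizer (S : Set G) := by
      intro w hw hs
      refine Subgroup.mem_normalizer_iff.2 fun a => ⟨fun ha => hs a ha, fun ha => ?_⟩
      have h1 := hs _ ha
      rwa [show w * (w * a * w⁻¹) * w⁻¹ = (w * w) * a * (w * w)⁻¹ by group, ← pow_two, hexp w hw, one_mul,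
        inv_one, mul_one] at h1
    set H := S ⊔ U with hH
    have hHle : H ≤ Subgroup.normalizer (S : Set G) := sup_le Subgroup.le_normalizer inf_le_right
    have hHne : H ≠ ⊤ := fun ht => hSnG ⟨fun a ha g =>
      (Subgroup.mem_normalizer_iff.1 (hHle (ht ▸ Subgroup.mem_top g)) a).1 ha⟩
    have huU : u ∈ U := ⟨hu, hStab u hu hus⟩
    have hUH : U ≤ H := le_sup_right
    obtain ⟨w, hwU, hw1, hwp⟩ := hindH H U hHne inf_le_left ⟨u, huU, hu1, hUH huU⟩ (by
      rintro ⟨h, hhH⟩ ⟨x, _⟩ hxU hodd heq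
      have hodd' : Odd (orderOf h) := by rwa [← Subgroup.orderOf_coe] at hodd
      have hhS : h ∈ S := by
        refine mem_of_sq hodd' ?_
        haveI : (S.subgroupOf H).Normal := (Subgroup.normal_subgroupOf_iff_le_normalizer le_sup_left).2 hHle
        obtain ⟨s, hs, t, ht, hst⟩ :=
          Subgroup.mem_sup_of_normal_left (s := S.subgroupOf H) (t := U.subgroupOf H) (x := ⟨h, hhH⟩) |>.1 (by
            rw [← Subgroup.subgroupOf_sup le_sup_left le_sup_right]
            exact Subgroup.mem_subgroupOf.2 hhH)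
        have hst' : (s : G) * (t : G) = h := congrArg Subtype.val hst
        rw [← hst', show ((s : G) * (t : G)) ^ 2 = (s : G) * ((t : G) * (s : G) * (t : G)⁻¹) * (t : G) ^ 2 by
          simp only [pow_two]; group, hexp (t : G) ht.1, mul_one]
        exact S.mul_mem hs ((Subgroup.mem_normalizer_iff.1 ht.2 _).1 hs)
      by_cases hh : h = 1
      · exact ⟨⟨u, hUH huU⟩, huU, fun e => hu1 (congrArg Subtype.val e), Subtype.ext (by simp [hh])⟩
      obtain ⟨w, hw, hw1, hwc⟩ := hS h x hxU.1 hodd' (congrArg Subtype.val heq)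
      have hwU : w ∈ U := ⟨hw, hStab w hw (by
        by_contra hs
        exact hh (hmove w hw hs h hhS (by rw [mul_inv_eq_iff_eq_mul.2 hwc]; exact hhS)))⟩
      exact ⟨⟨w, hUH hwU⟩, hwU, fun e => hw1 (congrArg Subtype.val e), Subtype.ext hwc⟩)
    have hwS := commute_of_mem_pCore hO hSsn le_sup_left hwp fun d hd =>
      (Subgroup.mem_normalizer_iff.1 hwU.2 d).1 hd
    refine hw1 (key N hNn hN1 _ hwU.1 (hgen _ fun x hx y hy => ?_))
    have hcw := hcomm _ hwU.1 x hx
    calc (w : G) * (x * y * x⁻¹) = ((w : G) * x) * y * x⁻¹ := by group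
      _ = x * ((w : G) * y) * x⁻¹ := by rw [hcw]; group
      _ = x * y * ((w : G) * x⁻¹) := by rw [hwS y hy]; group
      _ = x * y * (x⁻¹ * (w : G)) := by rw [hcomm _ hwU.1 _ (V.inv_mem hx)]
      _ = _ := by group
  -- the generalised Fitting subgroup
  have hgf : generalizedFittingSubgroup G = N := by
    haveI : (generalizedFittingSubgroup G).Normal := Local.gfit_normal
    refine (hNmin (generalizedFittingSubgroup G) inferInstance
      (show layer G ⊔ fittingSubgroup G ≤ N from sup_le (sSup_le fun K hK => ?_) (sSup_le fun M hM => ?_))).resolve_left ?_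
    · rcases Solv.component_normal_dichotomy hK N with h | h
      · exact h
      · rw [Subgroup.commutator_eq_bot_iff_le_centralizer, hCN, le_bot_iff] at h
        exact absurd h (Solv.qs_ne_bot hK.2)
    · obtain ⟨hMn, hMnil⟩ := hM
      haveI := hMn
      rcases hNmin (M ⊓ N) inferInstance inf_le_right with h | h
      · refine le_trans (le_trans ?_ hCN.le) bot_le
        rw [← Subgroup.commutator_eq_bot_iff_le_centralizer, eq_bot_iff, ← h]
        exact le_inf (Subgroup.commutator_le_left M N) (Subgroup.commutator_le_right M N)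
      · haveI := Solv.isNilpotent_of_le (h ▸ inf_le_left : N ≤ M) hMnil
        haveI : Nontrivial ↥N := (Subgroup.nontrivial_iff_ne_bot N).2 hN1
        obtain ⟨z, hz⟩ := Subgroup.ne_bot_iff_exists_ne_one.1
          (Group.IsNilpotent.center_ne_bot (G := ↥N))
        refine absurd ?_ hz
        have hzc : ((z : ↥N) : G) ∈ Subgroup.centralizer (N : Set G) :=
          Subgroup.mem_centralizer_iff.2 fun n hn =>
            congrArg Subtype.val (Subgroup.mem_center_iff.1 z.2 ⟨n, hn⟩)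
        rw [hCN, Subgroup.mem_bot] at hzc
        exact Subtype.ext (Subtype.ext hzc)
    · intro h
      have h1 := Solv.centralizer_gfit_le (G := G)
      rw [h, le_bot_iff, Subgroup.centralizer_eq_top_iff_subset.2 (by simp)] at h1
      exact absurd h1 top_ne_bot
  rw [hgf]
  refine ⟨hsimple, fun hc => ?_, by rw [sup_comm, hNV]⟩
  obtain ⟨x, hx, y, hy, hxy⟩ := hnc
  exact hxy (congrArg Subtype.val (hc.is_comm.comm ⟨x, hx⟩ ⟨y, hy⟩))

end Cfsg.Agent.LocalEven.SidkiMin
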