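import Cfsg.Agent.Lib.LocalEven.FunctorRegular

/-!
Normalisers of the members of a functor and its singular maximal locals control Sylow intersections.
-/

set_option autoImplicit false

namespace Cfsg.Agent.LocalEven.SingularLocals

open Cfsg
open Cfsg.Agent.Fusion
open Cfsg.Agent.LocalEven

variable {G : Type*} [Group G] {p : ℕ}

/-- A step of a controlling chain which keeps `D`. -/
def Step (𝓕 : Set (Subgroup G)) (D : Subgroup G) (A B : Sylow p G) : Prop :=
  ∃ X : Subgroup G, X ∈ sylowMembers p 𝓕 (A : Subgroup G) ∧ X ∈ sylowMembers p 𝓕 (B : Subgroup G) ∧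
    ∃ x ∈ X, subgroupConjRight x (B : Subgroup G) = (A : Subgroup G) ∧ D ≤ (B : Subgroup G) ⊓ X

theorem step_mono {𝓕 : Set (Subgroup G)} {D E : Subgroup G} (h : D ≤ E) {A B : Sylow p G}
    (hs : Step 𝓕 E A B) : Step 𝓕 D A B := by
  obtain ⟨X, h1, h2, x, hx, hxe, hle⟩ := hs
  exact ⟨X, h1, h2, x, hx, hxe, h.trans hle⟩

theorem controls_of_reach {𝓕 : Set (Subgroup G)}
    (h : ∀ S T : Sylow p G, (S : Subgroup G) ⊓ (T : Subgroup G) ≠ ⊥ →
      Relation.ReflTransGen (Step 𝓕 ((S : Subgroup G) ⊓ (T : Subgroup G))) S T) :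
    ControlsSylowIntersections p 𝓕 := by
  intro S T _ hne
  set D := (S : Subgroup G) ⊓ (T : Subgroup G) with hD
  have : ∀ U, Relation.ReflTransGen (Step 𝓕 D) S U →
      ∃ (n : ℕ) (c : Fin (n + 1) → Sylow p G) (X : Fin n → Subgroup G) (x : Fin n → G),
        c 0 = S ∧ c (Fin.last n) = U ∧ ∀ i : Fin n,
          X i ∈ sylowMembers p 𝓕 (c i.castSucc : Subgroup G) ∧ X i ∈ sylowMembers p 𝓕 (c i.succ : Subgroup G) ∧
          x i ∈ X i ∧ subgroupConjRight (x i) (c i.succ : Subgroup G) = (c i.castSucc : Subgroup G) ∧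
          D ≤ (c i.succ : Subgroup G) ⊓ X i := by
    intro U hU
    induction hU with
    | refl => exact ⟨0, fun _ => S, Fin.elim0, Fin.elim0, rfl, rfl, fun i => i.elim0⟩
    | @tail B U hab hbc ih =>
      obtain ⟨n, c, X, x, h0, hl, hs⟩ := ih
      obtain ⟨Y, hY1, hY2, y, hy, hye, hle⟩ := hbc
      refine ⟨n + 1, Fin.snoc c U, Fin.snoc X Y, Fin.snoc x y, ?_, Fin.snoc_last _ _, fun i => ?_⟩
      · rw [show (0 : Fin (n + 1 + 1)) = Fin.castSucc 0 from rfl, Fin.snoc_castSucc, h0]
      · induction i using Fin.lastCases with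
        | last =>
          simp only [Fin.snoc_castSucc, Fin.succ_last, Fin.snoc_last, hl]
          exact ⟨hY1, hY2, hy, hye, hle⟩
        | cast j =>
          simp only [Fin.snoc_castSucc, Fin.succ_castSucc]
          exact hs j
  exact this T (h S T hne)

variable [Finite G] [Fact p.Prime] {f : Subgroup G → Set (Subgroup G)}

theorem exists_maximal_local {N : Subgroup G} (h : IsPLocal p N) : ∃ M, IsMaximalPLocal p M ∧ N ≤ M := by
  obtain ⟨M, ⟨hM, hNM⟩, hmax⟩ := Set.Finite.exists_maximal (s := {M : Subgroup G | IsPLocal p M ∧ N ≤ M})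
    (Set.toFinite _) ⟨N, h, le_rfl⟩
  exact ⟨M, ⟨hM, fun K hK hMK => le_antisymm (hmax ⟨hK, hNM.trans hMK⟩ hMK) hMK⟩, hNM⟩

theorem exists_sylow_ge {M : Subgroup G} {Q : Subgroup G} (hQ : IsPGroup p Q) (hQM : Q ≤ M) :
    ∃ P : Subgroup G, SylIn p P M ∧ Q ≤ P ∧ ∃ S : Sylow p G, P ≤ (S : Subgroup G) ∧ (S : Subgroup G) ⊓ M = P := by
  obtain ⟨P, hP, hQP⟩ := exists_sylIn_ge hQ hQM
  obtain ⟨S, hS⟩ := hP.isPGroup.exists_le_sylow
  exact ⟨P, hP, hQP, S, hS, hP.eq_of_le S.isPGroup'.to_inf_left (le_inf hS hP.le) inf_le_right⟩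

theorem lt_inf_normalizer {S : Sylow p G} {D : Subgroup G} (hD : D ≤ (S : Subgroup G))
    (hne : D ≠ (S : Subgroup G)) {M : Subgroup G} (hM : Subgroup.normalizer (D : Set G) ≤ M) :
    D < (S : Subgroup G) ⊓ M :=
  (SylIn.normalizer_growth hD hne S.isPGroup').trans_le (inf_le_inf_left _ hM)

theorem mem_members {𝓕 : Set (Subgroup G)} {X : Subgroup G} (hX : X ∈ 𝓕) {S : Subgroup G}
    (h : SylIn p (S ⊓ X) X) : X ∈ sylowMembers p 𝓕 S := by
  obtain ⟨P, hP⟩ := h.exists_sylow_subgroupOf
  exact ⟨hX, P, by rw [hP, Subgroup.map_subgroupOf_eq_of_le inf_le_right]⟩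

/-- The controlling family connects all Sylow subgroups through a nontrivial subgroup. -/
theorem reach (hf : IsNormalizerFunctor p f)
    (hf1 : ∀ P : Subgroup G, IsPGroup p ↥P → P ≠ ⊥ → ∀ F ∈ f P, F ≠ ⊥) (𝓕 : Set (Subgroup G))
    (h1 : ∀ (P : Sylow p G), ∀ F ∈ f (P : Subgroup G), Subgroup.normalizer (F : Set G) ∈ 𝓕)
    (h2 : ∀ M, IsMaximalPLocal p M → ¬ IsFunctorRegular p f M → M ∈ 𝓕) (k : ℕ) :
    ∀ D : Subgroup G, D ≠ ⊥ → Nat.card G - Nat.card D ≤ k → ∀ S T : Sylow p G, D ≤ (S : Subgroup G) →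
      D ≤ (T : Subgroup G) → Relation.ReflTransGen (Step 𝓕 D) S T := by
  induction k using Nat.strong_induction_on with
  | _ k ih =>
  intro D hD hk S T hDS hDT
  -- the induction hypothesis
  have IH : ∀ (E : Subgroup G) (A B : Sylow p G), D < E → E ≤ (A : Subgroup G) → E ≤ (B : Subgroup G) →
      Relation.ReflTransGen (Step 𝓕 D) A B := by
    intro E A B hDE hA hB
    have hlt : Nat.card D < Nat.card E := by
      refine lt_of_le_of_ne (Subgroup.card_le_of_le hDE.le) fun he => hDE.ne ?_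
      exact Subgroup.eq_of_le_of_card_ge hDE.le he.ge
    have hE : Nat.card E ≤ Nat.card G := Subgroup.card_le_card_group E
    exact Relation.ReflTransGen.mono (fun a b => step_mono hDE.le) _ _
      (ih (Nat.card G - Nat.card E) (by omega) E (ne_bot_of_le_ne_bot hD hDE.le) le_rfl A B hA hB)
  rcases eq_or_ne D (S : Subgroup G) with he | hne
  · obtain rfl : S = T := Sylow.ext ((Subgroup.eq_of_le_of_card_ge (he ▸ hDT)
      (le_of_eq ((Sylow.card_eq_multiplicity T).trans (Sylow.card_eq_multiplicity S).symm))))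
    exact .refl
  have hneT : D ≠ (T : Subgroup G) := fun he => hne (Subgroup.eq_of_le_of_card_ge hDS
    (le_of_eq (by rw [he]; exact (Sylow.card_eq_multiplicity S).trans (Sylow.card_eq_multiplicity T).symm)))
  have hDp : IsPGroup p D := S.isPGroup'.to_le hDS
  suffices main : ∀ (j : ℕ) (M : Subgroup G), IsMaximalPLocal p M → ∀ (P : Subgroup G), SylIn p P M →
      Nat.card G - Nat.card P ≤ j → ∀ A B : Sylow p G, D ≤ (A : Subgroup G) → D ≤ (B : Subgroup G) →
      D < (A : Subgroup G) ⊓ M → D < (B : Subgroup G) ⊓ M → Relation.ReflTransGen (Step 𝓕 D) A B by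
    obtain ⟨M, hM, hNM⟩ := exists_maximal_local (p := p) ⟨D, hDp, hD, rfl⟩
    obtain ⟨P, hP⟩ := exists_sylIn (p := p) M
    exact main _ M hM P hP le_rfl S T hDS hDT (lt_inf_normalizer hDS hne hNM) (lt_inf_normalizer hDT hneT hNM)
  intro j
  induction j using Nat.strong_induction_on with
  | _ j ihj =>
  intro M hM P hP hj A B hDA hDB hA hB
  obtain ⟨PA, hPA, hAP, A', hPA', hA'M⟩ := exists_sylow_ge (M := M) (A.isPGroup'.to_inf_left (K := M)) inf_le_right
  obtain ⟨PB, hPB, hBP, B', hPB', hB'M⟩ := exists_sylow_ge (M := M) (B.isPGroup'.to_inf_left (K := M)) inf_le_right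
  refine ((IH _ A A' hA inf_le_left (hAP.trans hPA')).trans ?_).trans
    (IH _ B' B hB (hBP.trans hPB') inf_le_left)
  by_cases hAB : PA = PB
  · exact IH PA A' B' (hA.trans_le hAP) hPA' (hAB ▸ hPB')
  by_cases hreg : IsFunctorRegular p f M
  swap
  · -- a singular maximal local is a member of the family
    have hMF := h2 M hM hreg
    obtain ⟨m, hm, hmP⟩ := hPA.conj_eq hPB
    have hmM : cj M m = M := cj_eq_self_of_mem hm
    have hB'' : (m • A' : Sylow p G).toSubgroup ⊓ M = PB := by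
      show cj (A' : Subgroup G) m ⊓ M = PB
      rw [← hmM, ← cj_inf, hA'M, hmP]
    refine Relation.ReflTransGen.head ?_ (IH PB (m • A') B' (hB.trans_le hBP)
      (by rw [← hB'']; exact inf_le_left) hPB')
    refine ⟨M, mem_members hMF (by rw [hA'M]; exact hPA), mem_members hMF (by rw [hB'']; exact hPB), m, hm, ?_, ?_⟩
    · exact cj_cj_inv (A' : Subgroup G) m
    · rw [hB'']
      exact (le_inf hDB (hB.le.trans inf_le_right)).trans hBP
  -- the regular case
  obtain ⟨QA, hQA⟩ := hPA.exists_sylow_subgroupOf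
  obtain ⟨QB, hQB⟩ := hPB.exists_sylow_subgroupOf
  have hDPA : D ≤ PA := hA.le.trans hAP
  have hDPB : D ≤ PB := hB.le.trans hBP
  have hQne : QA ≠ QB := fun he => hAB (by
    rw [← Subgroup.map_subgroupOf_eq_of_le hPA.le, ← hQA, he, hQB, Subgroup.map_subgroupOf_eq_of_le hPB.le])
  have hDQ : D.subgroupOf M ≤ (QA : Subgroup M) ⊓ (QB : Subgroup M) := by
    rw [hQA, hQB]
    exact fun w hw => ⟨hDPA hw, hDPB hw⟩
  obtain ⟨n, c, X, x, hc0, hcl, hstep⟩ := hreg QA QB hQne (ne_bot_of_le_ne_bot (by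
    rw [ne_eq, Subgroup.subgroupOf_eq_bot, disjoint_iff, inf_eq_left.2 (hDPA.trans hPA.le)]; exact hD) hDQ)
  let Pc : Fin (n + 1) → Subgroup G := fun i => (c i : Subgroup M).map M.subtype
  have hPc : ∀ i, SylIn p (Pc i) M := fun i => sylIn_map M (c i)
  have hlift : ∀ i, ∃ U : Sylow p G, Pc i ≤ (U : Subgroup G) := fun i => (hPc i).isPGroup.exists_le_sylow
  choose U hU using hlift
  have hDP : ∀ i, D ≤ Pc i := by
    intro i
    induction i using Fin.cases with
    | zero =>
      show D ≤ (c 0 : Subgroup M).map M.subtype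
      rw [hc0, hQA, Subgroup.map_subgroupOf_eq_of_le hPA.le]
      exact hDPA
    | succ i =>
      intro d hd
      have hdM : d ∈ M := hPA.le (hDPA hd)
      exact ⟨⟨d, hdM⟩, ((hstep i).2.2.2.2 (hDQ (show (⟨d, hdM⟩ : M) ∈ D.subgroupOf M from hd))).1, rfl⟩
  have hDlt : ∀ i, D < Pc i := fun i => lt_of_le_of_ne (hDP i) fun he => (hA.trans_le hAP).ne
    (Subgroup.eq_of_le_of_card_ge hDPA (by
      have h' := (hPc i).card_le hPA.isPGroup hPA.le
      rwa [← he] at h'))
  have hchain : ∀ i, Relation.ReflTransGen (Step 𝓕 D) (U 0) (U i) := by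
    intro i
    induction i using Fin.induction with
    | zero => exact .refl
    | succ i ihi =>
      refine ihi.trans ?_
      obtain ⟨⟨⟨_, ⟨R, F, hF, rfl⟩, hXe⟩, Q1, hQ1⟩, ⟨-, Q2, hQ2⟩, hx, hxe, -⟩ := hstep i
      set RM := (R : Subgroup M).map M.subtype with hRM
      have hR : SylIn p RM M := sylIn_map M R
      have hRF : RM ≤ Subgroup.normalizer (F : Set G) :=
        Subgroup.le_normalizer.trans ((hf _ hR.isPGroup).1 F hF).2
      -- both Sylow subgroups normalise `F`
      have hnorm : ∀ (C : Sylow p M) (Q : Sylow p (X i)),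
          (Q : Subgroup (X i)).map (X i).subtype = (C : Subgroup M) ⊓ X i →
          (C : Subgroup M).map M.subtype ≤ Subgroup.normalizer (F : Set G) := by
        intro C Q hQ
        have hQm := sylIn_map (X i) Q
        rw [hQ] at hQm
        have hc1 : Nat.card (R : Subgroup M) ≤ Nat.card ↥((C : Subgroup M) ⊓ X i) := hQm.card_le R.isPGroup'
          (fun w hw => by rw [← hXe]; exact ⟨w.2, hRF ⟨w, hw, rfl⟩⟩)
        have hc2 : (C : Subgroup M) ⊓ X i = (C : Subgroup M) := Subgroup.eq_of_le_of_card_ge inf_le_left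
          ((le_of_eq (Sylow.card_eq_multiplicity C)).trans
            ((le_of_eq (Sylow.card_eq_multiplicity R).symm).trans hc1))
        rintro _ ⟨w, hw, rfl⟩
        have hw' : w ∈ X i := inf_eq_left.1 hc2 hw
        rw [← hXe] at hw'
        exact hw'.2
      have hFi : Pc i.castSucc ≤ Subgroup.normalizer (F : Set G) := hnorm _ Q1 hQ1
      have hFs : Pc i.succ ≤ Subgroup.normalizer (F : Set G) := hnorm _ Q2 hQ2
      have hxF : ((x i : M) : G) ∈ Subgroup.normalizer (F : Set G) := by rw [← hXe] at hx; exact hx.2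
      have hconj : cj (Pc i.castSucc) (x i : G) = Pc i.succ := by
        show cj ((c i.castSucc : Subgroup M).map M.subtype) (x i : G) = _
        rw [← hxe]
        show ((((c i.succ : Subgroup M).map (MulAut.conj (x i)⁻¹).toMonoidHom)).map M.subtype).map
          (MulAut.conj (x i : G)).toMonoidHom = (c i.succ : Subgroup M).map M.subtype
        rw [Subgroup.map_map, Subgroup.map_map]
        congr 1
        ext w
        simp [mul_assoc]
      -- the subgroup `P_i` lies in a local containing the normaliser of `F`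
      obtain ⟨y, hy, hyR⟩ := (hR.mono (le_inf hR.le hRF) inf_le_left).conj_eq
        ((hPc i.castSucc).mono (le_inf (hPc _).le hFi) inf_le_left)
      have hF1 : F ∈ f (Pc i.castSucc) := by
        rw [← hyR]
        exact ((hf _ hR.isPGroup).2 y).symm ▸ ⟨F, hF, cj_eq_self hy.2⟩
      have hF2 : F ∈ f (Pc i.succ) := by
        rw [← hconj]
        exact ((hf _ (hPc _).isPGroup).2 (x i : G)).symm ▸ ⟨F, hF1, cj_eq_self hxF⟩
      have hcard : ∀ l, Nat.card ↥(Pc l) = Nat.card P := fun l =>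
        le_antisymm (hP.card_le (hPc l).isPGroup (hPc l).le) ((hPc l).card_le hP.isPGroup hP.le)
      have hUcard : ∀ a b : Sylow p G, Nat.card a = Nat.card b := fun a b =>
        (Sylow.card_eq_multiplicity a).trans (Sylow.card_eq_multiplicity b).symm
      by_cases hfull : Nat.card (U i.castSucc) ≤ Nat.card P
      · -- full Sylow subgroups: a direct step
        have e1 : Pc i.castSucc = (U i.castSucc : Subgroup G) :=
          Subgroup.eq_of_le_of_card_ge (hU _) (by rw [hcard]; exact hfull)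
        have e2 : Pc i.succ = (U i.succ : Subgroup G) :=
          Subgroup.eq_of_le_of_card_ge (hU _) (by rw [hcard]; exact (hUcard _ _).le.trans hfull)
        have hmem := h1 (U i.castSucc) F (e1 ▸ hF1)
        refine .single ⟨_, mem_members hmem ?_, mem_members hmem ?_, (x i : G), hxF, ?_, ?_⟩
        · rw [inf_eq_left.2 (e1 ▸ hFi)]
          exact (sylIn_top _).mono (e1 ▸ hFi) le_top
        · rw [inf_eq_left.2 (e2 ▸ hFs)]
          exact (sylIn_top _).mono (e2 ▸ hFs) le_top
        · show cj (U i.succ : Subgroup G) (x i : G)⁻¹ = _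
          rw [← e2, ← e1, ← hconj, cj_cj_inv]
        · exact le_inf (e2 ▸ hDP _) ((hDP _).trans hFs)
      · -- pass to a maximal local containing the normaliser of `F`
        have hFne : F ≠ ⊥ := hf1 _ (hPc _).isPGroup (ne_bot_of_le_ne_bot hD (hDP _)) F hF1
        obtain ⟨M2, hM2, hNM2⟩ := exists_maximal_local (p := p)
          ⟨F, (hPc _).isPGroup.to_le ((hf _ (hPc _).isPGroup).1 F hF1).1, hFne, rfl⟩
        have hgrow : ∀ l, F ∈ f (Pc l) → Pc l < (U l : Subgroup G) ⊓ M2 := fun l hl => by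
          refine (SylIn.normalizer_growth (hU l) (fun he => hfull ?_) (U l).isPGroup').trans_le
            (inf_le_inf_left _ (((hf _ (hPc l).isPGroup).1 F hl).2.trans hNM2))
          rw [hUcard (U i.castSucc) (U l)]
          exact le_of_eq ((congrArg (fun H : Subgroup G => Nat.card H) he).symm.trans (hcard l))
        obtain ⟨P2, hP2⟩ := exists_sylIn (p := p) M2
        have hlt : Nat.card P < Nat.card P2 := by
          refine lt_of_lt_of_le ?_ (hP2.card_le (U i.castSucc).isPGroup'.to_inf_left inf_le_right)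
          rw [← hcard i.castSucc]
          refine lt_of_le_of_ne (Subgroup.card_le_of_le (hgrow _ hF1).le) fun he => (hgrow _ hF1).ne ?_
          exact Subgroup.eq_of_le_of_card_ge (hgrow _ hF1).le he.ge
        have hle2 : Nat.card P2 ≤ Nat.card G := Subgroup.card_le_card_group P2
        exact ihj (Nat.card G - Nat.card P2) (by omega) M2 hM2 P2 hP2 le_rfl _ _ ((hDP _).trans (hU _))
          ((hDP _).trans (hU _)) ((hDlt _).trans (hgrow _ hF1)) ((hDlt _).trans (hgrow _ hF2))
  have h0 : Pc 0 = PA := by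
    show (c 0 : Subgroup M).map M.subtype = PA
    rw [hc0, hQA, Subgroup.map_subgroupOf_eq_of_le hPA.le]
  have hl : Pc (Fin.last n) = PB := by
    show (c (Fin.last n) : Subgroup M).map M.subtype = PB
    rw [hcl, hQB, Subgroup.map_subgroupOf_eq_of_le hPB.le]
  exact ((IH (Pc 0) A' (U 0) (hDlt 0) (h0.le.trans hPA') (hU 0)).trans (hchain _)).trans
    (IH (Pc (Fin.last n)) (U (Fin.last n)) B' (hDlt _) (hU _) (hl.le.trans hPB'))

end Cfsg.Agent.LocalEven.SingularLocals
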