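import Cfsg.Agent.Lib.LocalEven.ParabolicInherit
import Cfsg.Agent.Lib.Fusion.Cores
import Cfsg.Agent.Lib.Fusion.OperatorFactor
import Cfsg.Agent.Lib.Fusion.TransferSplit
import Cfsg.Agent.Lib.Solv.Component
import Cfsg.Agent.Lib.Solv.Subnormal
import Cfsg.Agent.S2820

/-!
Wielandt: a Sylow subgroup meets the join of two subnormal subgroups in the join of its
intersections with them.
-/

set_option autoImplicit false

open scoped commutatorElement

namespace Cfsg.Agent.LocalEven.SnJoin

open Cfsg

universe u

variable {G : Type u} [Group G] [Finite G]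

/-- A subgroup containing a Sylow subgroup of `H` for every prime contains `H`. -/
theorem le_of_sylow_le (H X : Subgroup G)
    (h : ∀ (q : ℕ) [Fact q.Prime] (P : Sylow q H), (P : Subgroup H).map H.subtype ≤ X) : H ≤ X := by
  suffices hT : X.subgroupOf H = ⊤ from Subgroup.subgroupOf_eq_top.1 hT
  rw [← Subgroup.card_eq_iff_eq_top]
  refine Nat.dvd_antisymm (Subgroup.card_subgroup_dvd_card _) ?_
  rw [← Nat.factorization_le_iff_dvd Nat.card_pos.ne' Nat.card_pos.ne']
  intro q
  by_cases hq : q.Prime
  · haveI : Fact q.Prime := ⟨hq⟩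
    obtain ⟨P⟩ : Nonempty (Sylow q H) := inferInstance
    have hP : (P : Subgroup H) ≤ X.subgroupOf H := fun x hx => h q P ⟨x, hx, rfl⟩
    have := Subgroup.card_dvd_of_le hP
    rw [P.card_eq_multiplicity] at this
    exact (hq.pow_dvd_iff_le_factorization Nat.card_pos.ne').1 this
  · rw [Nat.factorization_eq_zero_of_not_prime _ hq]
    exact Nat.zero_le _

theorem map_inf_sylow {Q : Type*} [Group Q] [Finite Q] {p : ℕ} [Fact p.Prime] (f : G →* Q)
    (S : Sylow p G) {A : Subgroup G} (hA : A.IsSubnormal) :
    A.map f ⊓ (S : Subgroup G).map f = (A ⊓ (S : Subgroup G)).map f := by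
  have h := (sylIn_inf_subnormal S hA).map_hom f
  rw [inf_comm (S : Subgroup G)] at h
  exact h.eq_of_le (S.isPGroup'.map f).to_inf_right (Subgroup.map_inf_le _ _ f) inf_le_left

/-- The key induction. -/
theorem sylow_le_aux : ∀ (n : ℕ) (G : Type u) [Group G] [Finite G], Nat.card G ≤ n →
    ∀ (p : ℕ) [Fact p.Prime] (S : Sylow p G) (A B : Subgroup G), A.IsSubnormal → B.IsSubnormal →
      A ⊔ B = ⊤ → (S : Subgroup G) ≤ (A ⊓ (S : Subgroup G)) ⊔ (B ⊓ (S : Subgroup G)) := by
  intro n
  induction n with
  | zero => intro G _ _ h; exact absurd h (not_le.2 Nat.card_pos)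
  | succ n ih =>
    intro G _ _ hn p _ S A B hA hB hAB
    rcases eq_or_ne A ⊤ with rfl | hAt
    · rw [top_inf_eq]; exact le_sup_left
    rcases eq_or_ne B ⊤ with rfl | hBt
    · rw [top_inf_eq]; exact le_sup_right
    -- the statement inside proper subgroups
    have inside : ∀ {J X Y : Subgroup G}, J ≠ ⊤ → X.IsSubnormal → Y.IsSubnormal → X ⊔ Y = J →
        ∀ (q : ℕ) [Fact q.Prime] (T : Sylow q G),
        J ⊓ (T : Subgroup G) ≤ (X ⊓ (T : Subgroup G)) ⊔ (Y ⊓ (T : Subgroup G)) := by
      intro J X Y hJ hX hY hXY q _ T
      obtain ⟨P, hP⟩ := (sylIn_inf_subnormal T (hXY ▸ Solv.isSubnormal_sup hX hY)).exists_sylow_subgroupOf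
      have hXJ : X ≤ J := hXY ▸ le_sup_left
      have hYJ : Y ≤ J := hXY ▸ le_sup_right
      have h := ih J (Nat.lt_succ_iff.1 (lt_of_lt_of_le ((Subgroup.card_le_card_group J).lt_of_ne
          fun h => hJ (Subgroup.card_eq_iff_eq_top J |>.1 h)) hn)) q P _ _
        (Solv.isSubnormal_subgroupOf hX (L := J)) (Solv.isSubnormal_subgroupOf hY (L := J))
        (by rw [← Subgroup.subgroupOf_sup hXJ hYJ, hXY, Subgroup.subgroupOf_self])
      rw [hP] at h
      have h2 := Subgroup.map_mono (f := J.subtype) h
      rw [Subgroup.map_sup, Subgroup.map_subgroupOf_eq_of_le inf_le_right] at h2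
      rw [inf_comm]
      refine h2.trans (sup_le_sup ?_ ?_)
      · rintro _ ⟨x, hx, rfl⟩
        exact ⟨hx.1, (Subgroup.mem_subgroupOf.1 hx.2).1⟩
      · rintro _ ⟨x, hx, rfl⟩
        exact ⟨hx.1, (Subgroup.mem_subgroupOf.1 hx.2).1⟩
    haveI : Nontrivial G := by
      by_contra h
      rw [not_nontrivial_iff_subsingleton] at h
      exact hAt (Subgroup.eq_top_iff' A |>.2 fun x => by rw [Subsingleton.elim x 1]; exact one_mem A)
    obtain ⟨M, hMn, hM0, hmin⟩ := Solv.exists_minimal_normal (G := G)
    haveI := hMn
    have hcardQ : Nat.card (G ⧸ M) ≤ n := by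
      have h1 := M.card_eq_card_quotient_mul_card_subgroup
      have h2 : 2 ≤ Nat.card M := (Subgroup.one_lt_card_iff_ne_bot M).2 hM0
      have h3 : 0 < Nat.card (G ⧸ M) := Nat.card_pos
      nlinarith
    -- every prime: the intersections cover modulo `M`
    have hmod : ∀ (q : ℕ) [Fact q.Prime] (T : Sylow q G),
        (T : Subgroup G) ≤ (A ⊓ (T : Subgroup G)) ⊔ (B ⊓ (T : Subgroup G)) ⊔ M := by
      intro q _ T
      obtain ⟨P, hP⟩ := (Fusion.sylIn_map_mk (N := M) (Fusion.sylIn_top T)).exists_sylow
      have h := ih (G ⧸ M) hcardQ q P _ _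
        (hA.map (f := QuotientGroup.mk' M) (QuotientGroup.mk'_surjective M))
        (hB.map (f := QuotientGroup.mk' M) (QuotientGroup.mk'_surjective M))
        (by rw [← Subgroup.map_sup, hAB, Subgroup.map_top_of_surjective _ (QuotientGroup.mk'_surjective M)])
      rw [hP, map_inf_sylow _ T hA, map_inf_sylow _ T hB, ← Subgroup.map_sup, Subgroup.map_le_iff_le_comap,
        Subgroup.comap_map_eq, QuotientGroup.ker_mk'] at h
      exact h
    have hMS : M ⊓ (S : Subgroup G) ≤ (A ⊓ (S : Subgroup G)) ⊔ (B ⊓ (S : Subgroup G)) := by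
      by_cases hsol : Group.IsSolvable M
      swap
      · -- a minimal normal subgroup that is not solvable
        by_cases hMt : M = ⊤
        · exfalso
          have key : ∀ {C : Subgroup G}, C.IsSubnormal → C = ⊤ ∨ C = ⊥ := by
            intro C hC
            induction hC with
            | top => exact Or.inl rfl
            | step C K hCK _ hN ihK =>
              rcases ihK with rfl | rfl
              · haveI : C.Normal := by
                  rw [← Subgroup.normalizer_eq_top_iff, eq_top_iff]
                  exact (Subgroup.normal_subgroupOf_iff_le_normalizer hCK).1 hN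
                exact (hmin C inferInstance (hMt ▸ le_top)).symm.imp (fun h => h.trans hMt) id
              · exact Or.inr (le_bot_iff.1 hCK)
          rw [(key hA).resolve_left hAt, (key hB).resolve_left hBt, bot_sup_eq] at hAB
          exact bot_ne_top hAB
        have hnab : ⁅M, M⁆ = M := by
          refine (hmin _ inferInstance (Subgroup.commutator_le_left M M)).resolve_left fun h => hsol ?_
          haveI : IsMulCommutative M := Subgroup.le_centralizer_iff_isMulCommutative.1
            ((Subgroup.commutator_eq_bot_iff_le_centralizer).1 h)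
          letI : CommGroup M := { (inferInstance : Group M) with mul_comm := fun a b => ‹IsMulCommutative M›.is_comm.comm a b }
          infer_instance
        obtain ⟨L, hLM, hL⟩ := Finite.exists_le_minimal
          (p := fun L : Subgroup G => L.IsSubnormal ∧ L ≠ ⊥) (a := M) ⟨hMn.isSubnormal, hM0⟩
        have hLsub : ∀ N : Subgroup L, N.Normal → N ≠ ⊤ → N = ⊥ := by
          intro N hN hNt
          by_contra hNb
          have h1 : (N.map L.subtype).IsSubnormal := Subgroup.IsSubnormal.step _ L
            (Subgroup.map_subtype_le N) hL.1.1 (by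
              rw [Subgroup.subgroupOf, Subgroup.comap_map_eq_self_of_injective L.subtype_injective]
              exact hN)
          have h2 : L ≤ N.map L.subtype := hL.2
            ⟨h1, fun h => hNb ((Subgroup.map_eq_bot_iff_of_injective _ L.subtype_injective).1 h)⟩
            (Subgroup.map_subtype_le N)
          exact hNt (eq_top_iff.2 fun x _ => by
            obtain ⟨y, hy, e⟩ := h2 x.2
            rwa [Subtype.ext e] at hy)
        have hperf : ⁅L, L⁆ = L := by
          by_contra hne
          have hcb : ⁅L, L⁆ = ⊥ := by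
            have h1 := hLsub (commutator L) inferInstance fun h => hne (by
              rw [← Subgroup.map_subtype_commutator, h, ← MonoidHom.range_eq_map, Subgroup.range_subtype])
            rw [← Subgroup.map_subtype_commutator, h1, Subgroup.map_bot]
          haveI : IsMulCommutative L := Subgroup.le_centralizer_iff_isMulCommutative.1
            ((Subgroup.commutator_eq_bot_iff_le_centralizer).1 hcb)
          letI : CommGroup L := { (inferInstance : Group L) with mul_comm := fun a b => ‹IsMulCommutative L›.is_comm.comm a b }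
          have hLF : L ≤ fittingSubgroup G := Solv.subnormal_nilpotent_le_fitting hL.1.1 inferInstance
          haveI := Solv.fittingSubgroup_normal (G := G)
          rcases hmin (M ⊓ fittingSubgroup G) inferInstance inf_le_left with h | h
          · exact hL.1.2 (le_bot_iff.1 (h ▸ le_inf hLM hLF))
          · refine hsol (Solv.isSolvable_of_le (h ▸ inf_le_right) ?_)
            haveI := Solv.fittingSubgroup_nilpotent (G := G)
            infer_instance
        have hLc : IsComponent L := Solv.isComponent_of_minimal hL.1.1 hL.1.2 hperf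
          (fun N hN hNt => by rw [hLsub N hN hNt]; exact bot_le)
        -- every conjugate lies in `A` or in `B`
        have hgen : Subgroup.normalClosure (L : Set G) ≤ (M ⊓ A) ⊔ (M ⊓ B) := by
          rw [Subgroup.normalClosure, Subgroup.closure_le]
          intro x hx
          obtain ⟨l, hl, hlx⟩ := Group.mem_conjugatesOfSet_iff.1 hx
          obtain ⟨g, rfl⟩ := isConj_iff.1 hlx
          have hK := Solv.component_conj hLc g
          have hKM : L.map (MulAut.conj g).toMonoidHom ≤ M := by
            rintro _ ⟨y, hy, rfl⟩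
            exact hMn.conj_mem y (hLM hy) g
          have hgl : g * l * g⁻¹ ∈ L.map (MulAut.conj g).toMonoidHom := ⟨l, hl, rfl⟩
          rcases Solv.component_subnormal_dichotomy hK hA with h | h
          · exact Subgroup.mem_sup_left ⟨hKM hgl, h hgl⟩
          rcases Solv.component_subnormal_dichotomy hK hB with h' | h'
          · exact Subgroup.mem_sup_right ⟨hKM hgl, h' hgl⟩
          exfalso
          refine Solv.qs_not_le_centralizer hK.2 (le_bot_iff.1 ?_)
          rw [Subgroup.commutator_eq_bot_iff_le_centralizer] at h h'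
          have h3 : L.map (MulAut.conj g).toMonoidHom ≤ Subgroup.centralizer ((⊤ : Subgroup G) : Set G) := by
            rw [← hAB, Subgroup.le_centralizer_iff]
            exact sup_le (Subgroup.le_centralizer_iff.1 h) (Subgroup.le_centralizer_iff.1 h')
          rw [le_bot_iff, Subgroup.commutator_eq_bot_iff_le_centralizer]
          exact h3.trans (Subgroup.centralizer_le (SetLike.coe_subset_coe.2 le_top))
        have hJ : (M ⊓ A) ⊔ (M ⊓ B) = M := by
          refine le_antisymm (sup_le inf_le_left inf_le_left) (le_trans ?_ hgen)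
          rcases hmin (Subgroup.normalClosure (L : Set G)) inferInstance
            (Subgroup.normalClosure_le_normal hLM) with h | h
          · exact absurd (le_bot_iff.1 (h ▸ Subgroup.le_normalClosure)) hL.1.2
          · rw [h]
        refine (inside hMt ?_ ?_ hJ p S).trans
          (sup_le_sup (inf_le_inf_right _ inf_le_right) (inf_le_inf_right _ inf_le_right))
        · exact hMn.isSubnormal.inf hA
        · exact hMn.isSubnormal.inf hB
      · obtain ⟨hab, r, hr, -, hMr⟩ := Solv.minimal_normal_elementaryAbelian M hsol hM0 hmin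
        haveI : Fact r.Prime := ⟨hr⟩
        -- primes other than `r` are settled by the quotient
        have hoff : ∀ (q : ℕ) [Fact q.Prime], q ≠ r → ∀ T : Sylow q G,
            (T : Subgroup G) ≤ (A ⊓ (T : Subgroup G)) ⊔ (B ⊓ (T : Subgroup G)) := by
          intro q _ hqr T t ht
          obtain ⟨u, hu, m, hm, rfl⟩ := Subgroup.mem_sup_of_normal_right.1 (hmod q T ht)
          have huT := sup_le (inf_le_right (a := A)) (inf_le_right (a := B)) hu
          have hmT : m ∈ (T : Subgroup G) := (Subgroup.mul_mem_cancel_left _ huT).1 ht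
          rw [show m = 1 by
            rw [← Subgroup.mem_bot,
              ← (IsPGroup.disjoint_of_ne q r hqr _ _ T.isPGroup' hMr).eq_bot]
            exact ⟨hmT, hm⟩, mul_one]
          exact hu
        by_cases hpr : p = r
        swap
        · exact inf_le_right.trans (hoff p hpr S)
        subst hpr
        obtain ⟨T, hT⟩ : ∃ T, T = (A ⊓ (S : Subgroup G)) ⊔ (B ⊓ (S : Subgroup G)) := ⟨_, rfl⟩
        rw [← hT]
        have hTS : T ≤ (S : Subgroup G) := hT ▸ sup_le inf_le_right inf_le_right
        have hMS' : M ≤ (S : Subgroup G) :=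
          le_sup_left.trans (S.3 (hMr.to_sup_of_normal_left S.isPGroup') le_sup_right).le
        -- the residuals
        obtain ⟨A', hA'⟩ : ∃ A', A' = (pResidual p A).map A.subtype := ⟨_, rfl⟩
        obtain ⟨B', hB'⟩ : ∃ B', B' = (pResidual p B).map B.subtype := ⟨_, rfl⟩
        have hres : ∀ {C : Subgroup G}, C.IsSubnormal →
            ((pResidual p C).map C.subtype).IsSubnormal ∧
            (∀ (q : ℕ) [Fact q.Prime], q ≠ p → ∀ {P : Subgroup G}, IsPGroup q P → P ≤ C →
              P ≤ (pResidual p C).map C.subtype) ∧
            (pResidual p ↥((pResidual p C).map C.subtype)).map ((pResidual p C).map C.subtype).subtype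
              = (pResidual p C).map C.subtype := by
          intro C hC
          refine ⟨Subgroup.IsSubnormal.step _ C (Subgroup.map_subtype_le _) hC (by
            rw [Subgroup.subgroupOf, Subgroup.comap_map_eq_self_of_injective C.subtype_injective]
            infer_instance), ?_, ?_⟩
          · intro q hq hqp P hP hPC x hx
            refine ⟨⟨x, hPC hx⟩, Subgroup.subset_closure ?_, rfl⟩
            obtain ⟨k, hk⟩ := IsPGroup.iff_orderOf.1 hP ⟨x, hx⟩
            rw [Subgroup.orderOf_mk] at hk
            show (orderOf _).Coprime p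
            rw [Subgroup.orderOf_mk, hk]
            exact ((Nat.coprime_primes hq.out Fact.out).2 hqp).pow_left k
          · refine le_antisymm (Subgroup.map_subtype_le _) ?_
            rw [Subgroup.map_le_iff_le_comap, pResidual, Subgroup.closure_le]
            intro x hx
            have hx' : (x : G) ∈ (pResidual p C).map C.subtype := ⟨x, Subgroup.subset_closure hx, rfl⟩
            refine ⟨⟨x, hx'⟩, Subgroup.subset_closure ?_, rfl⟩
            show (orderOf (⟨(x : G), hx'⟩ : ↥((pResidual p C).map C.subtype))).Coprime p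
            rw [Subgroup.orderOf_mk, Subgroup.orderOf_coe]
            exact hx
        obtain ⟨hA'sn, hA'q, hA'p⟩ := hres hA
        obtain ⟨hB'sn, hB'q, hB'p⟩ := hres hB
        rw [← hA'] at hA'sn hA'q hA'p
        rw [← hB'] at hB'sn hB'q hB'p
        have hA'A : A' ≤ A := hA' ▸ Subgroup.map_subtype_le _
        have hB'B : B' ≤ B := hB' ▸ Subgroup.map_subtype_le _
        -- the join of the residuals contains all elements of order prime to `p`
        have hR : pResidual p G ≤ A' ⊔ B' := by
          rw [pResidual, Subgroup.closure_le]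
          intro g hg
          refine le_of_sylow_le (Subgroup.zpowers g) _ (fun q _ P => ?_) (Subgroup.mem_zpowers g)
          by_cases hqp : q = p
          · subst hqp
            rintro _ ⟨x, hx, rfl⟩
            rw [show x = 1 from orderOf_eq_one_iff.1 ?_]
            · exact one_mem _
            obtain ⟨k, hk⟩ := IsPGroup.iff_orderOf.1 P.isPGroup' ⟨x, hx⟩
            rw [Subgroup.orderOf_mk] at hk
            refine Nat.eq_one_of_dvd_coprimes (Nat.Coprime.pow_right k hg) ?_ hk.dvd
            exact (orderOf_dvd_natCard x).trans (Nat.card_zpowers g).dvd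
          · obtain ⟨T', hT'⟩ := (P.isPGroup'.map (Subgroup.zpowers g).subtype).exists_le_sylow
            refine hT'.trans ((hoff q hqp T').trans (sup_le ?_ ?_))
            · exact le_sup_of_le_left (hA'q q hqp T'.isPGroup'.to_inf_right inf_le_left)
            · exact le_sup_of_le_right (hB'q q hqp T'.isPGroup'.to_inf_right inf_le_left)
        by_cases hRt : A' ⊔ B' = ⊤
        swap
        · have hRS : (A' ⊔ B') ⊓ (S : Subgroup G) ≤ T := hT ▸ (inside hRt hA'sn hB'sn rfl p S).trans
            (sup_le_sup (inf_le_inf_right _ hA'A) (inf_le_inf_right _ hB'B))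
          have hgen : ∀ {C C' : Subgroup G}, C.IsSubnormal → C ⊓ (S : Subgroup G) ≤ T →
              C' = (pResidual p C).map C.subtype → C' ≤ pResidual p G → C ≤ pResidual p G ⊔ T := by
            intro C C' hC hCT hC' hC'R
            obtain ⟨P, hP⟩ := (sylIn_inf_subnormal S hC).exists_sylow_subgroupOf
            have h := congrArg (Subgroup.map C.subtype) (Fusion.pResidual_sup_sylow (p := p) P)
            rw [Subgroup.map_sup, hP, Subgroup.map_subgroupOf_eq_of_le inf_le_right, ← hC',
              ← MonoidHom.range_eq_map, Subgroup.range_subtype] at h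
            rw [← h]
            exact sup_le_sup hC'R (by rw [inf_comm]; exact hCT)
          have hsub : ∀ {C C' : Subgroup G}, C' = (pResidual p C).map C.subtype → C' ≤ pResidual p G := by
            rintro C _ rfl
            rw [Subgroup.map_le_iff_le_comap, pResidual, Subgroup.closure_le]
            intro x hx
            refine Subgroup.subset_closure ?_
            show (orderOf (x : G)).Coprime p
            rw [Subgroup.orderOf_coe]
            exact hx
          have htop : pResidual p G ⊔ T = ⊤ := by
            rw [eq_top_iff, ← hAB]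
            exact sup_le (hgen hA (hT ▸ le_sup_left) hA' (hsub hA'))
              (hgen hB (hT ▸ le_sup_right) hB' (hsub hB'))
          intro m hm
          obtain ⟨r, hr, t, ht, rfl⟩ := Subgroup.mem_sup_of_normal_left.1 (htop ▸ Subgroup.mem_top m)
          refine mul_mem (hRS ⟨hR hr, ?_⟩) ht
          exact (Subgroup.mul_mem_cancel_right _ (hTS ht)).1 hm.2
        -- now `G` has no `p`-quotient
        refine inf_le_left.trans ?_
        by_contra hMT
        obtain ⟨M0, hM0d⟩ : ∃ M0, M0 = (M ⊓ A) ⊔ (M ⊓ B) := ⟨_, rfl⟩
        have hM0M : M0 ≤ M := hM0d ▸ sup_le inf_le_left inf_le_left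
        have hM0T : M0 ≤ T := hM0d ▸ hT ▸ sup_le_sup (fun x hx => ⟨hx.2, hMS' hx.1⟩) (fun x hx => ⟨hx.2, hMS' hx.1⟩)
        have hcom : ∀ {C' : Subgroup G}, C'.IsSubnormal →
            (pResidual p C').map C'.subtype = C' → M ⊓ C' ≤ M0 → ⁅M, C'⁆ ≤ M0 := by
          intro C' hsn hp' hle
          refine le_trans (le_inf (Subgroup.commutator_le_left M C') ?_) hle
          have := (Cfsg.Agent.S2820.result M C' hMn.isSubnormal hsn hMr hp').1
          exact Subgroup.le_normalizer_iff_commutator_le_right.1 this
        have h1 : ⁅M, A'⁆ ≤ M0 := hcom hA'sn hA'p (hM0d ▸ le_sup_of_le_left (inf_le_inf_left _ hA'A))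
        have h2 : ⁅M, B'⁆ ≤ M0 := hcom hB'sn hB'p (hM0d ▸ le_sup_of_le_right (inf_le_inf_left _ hB'B))
        haveI hM0n : M0.Normal := by
          rw [← Subgroup.normalizer_eq_top_iff, eq_top_iff, ← hRt]
          refine sup_le ?_ ?_
          · rw [Subgroup.le_normalizer_iff_commutator_le_left]
            exact (Subgroup.commutator_mono hM0M le_rfl).trans h1
          · rw [Subgroup.le_normalizer_iff_commutator_le_left]
            exact (Subgroup.commutator_mono hM0M le_rfl).trans h2
        have hMc : M ≤ Subgroup.center G := by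
          rcases hmin M0 hM0n hM0M with h | h
          · rw [← Subgroup.centralizer_univ, ← Subgroup.coe_top, ← hRt, Subgroup.le_centralizer_iff]
            rw [h, le_bot_iff, Subgroup.commutator_eq_bot_iff_le_centralizer] at h1 h2
            exact sup_le (Subgroup.le_centralizer_iff.1 h1) (Subgroup.le_centralizer_iff.1 h2)
          · exact absurd (h ▸ hM0T) hMT
        have hdis : T ⊓ M = ⊥ := by
          haveI : (T ⊓ M).Normal := ⟨fun x hx g => by
            rw [Subgroup.mem_center_iff.1 (hMc hx.2) g, mul_inv_cancel_right]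
            exact hx⟩
          rcases hmin (T ⊓ M) inferInstance inf_le_right with h | h
          · exact h
          · exact absurd (h ▸ inf_le_left) hMT
        letI : CommGroup M := { (inferInstance : Group M) with mul_comm := fun a b => hab.is_comm.comm a b }
        have hdec : ∀ s : ↥(S : Subgroup G), ∃! m : M, (s : G) * (m : G)⁻¹ ∈ T := by
          intro s
          obtain ⟨t, ht, m, hm, e⟩ := Subgroup.mem_sup_of_normal_right.1 (hT ▸ hmod p S s.2)
          refine ⟨⟨m, hm⟩, show (s : G) * m⁻¹ ∈ T by rw [← e, mul_inv_cancel_right]; exact ht, fun m' hm' => Subtype.ext ?_⟩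
          replace hm' : (s : G) * (m' : G)⁻¹ ∈ T := hm'
          rw [← e, mul_assoc, Subgroup.mul_mem_cancel_left _ ht] at hm'
          have : m * (m' : G)⁻¹ ∈ T ⊓ M := Subgroup.mem_inf.2 ⟨hm', mul_mem hm (inv_mem m'.2)⟩
          rw [hdis, Subgroup.mem_bot, mul_inv_eq_one] at this
          exact this.symm
        choose θ hθ hθu using hdec
        let Θ : ↥(S : Subgroup G) →* M := MonoidHom.mk' θ fun a b => (hθu (a * b) _ (by
          have e : ((a * b : ↥(S : Subgroup G)) : G) * ((θ a * θ b : M) : G)⁻¹
              = ((a : G) * (θ a : G)⁻¹) * ((b : G) * (θ b : G)⁻¹) := by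
            have hc := Subgroup.mem_center_iff.1 (hMc (inv_mem (θ a).2))
            push_cast
            rw [mul_inv_rev]
            calc (a : G) * b * ((θ b : G)⁻¹ * (θ a : G)⁻¹)
                = (a : G) * ((b * (θ b : G)⁻¹) * (θ a : G)⁻¹) := by group
              _ = _ := by rw [hc, ← mul_assoc]
          show _ ∈ T
          rw [e]
          exact mul_mem (hθ a) (hθ b))).symm
        obtain ⟨φ, hφ⟩ := Fusion.exists_retraction M.subtype
          (fun m e => (Subgroup.mem_center_iff.1 (hMc m.2) e).symm) (S : Subgroup G) (fun m => hMS' m.2) Θ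
          (fun m => (hθu ⟨m, hMS' m.2⟩ m (by
            show (m : G) * (m : G)⁻¹ ∈ T
            rw [mul_inv_cancel]
            exact one_mem T)).symm)
          (by
            obtain ⟨k, hk⟩ := IsPGroup.iff_card.1 hMr
            rw [hk]
            exact ((Nat.Prime.coprime_iff_not_dvd Fact.out).2 S.not_dvd_index).pow_left k)
        have hker : A' ⊔ B' ≤ φ.ker := by
          have hle : pResidual p G ≤ φ.ker := by
            rw [pResidual, Subgroup.closure_le]
            intro g hg
            rw [SetLike.mem_coe, MonoidHom.mem_ker, ← orderOf_eq_one_iff]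
            obtain ⟨k, hk⟩ := IsPGroup.iff_orderOf.1 hMr (φ g)
            exact Nat.eq_one_of_dvd_coprimes (Nat.Coprime.pow_right k hg) (orderOf_map_dvd φ g) hk.dvd
          have hsub : ∀ {C : Subgroup G}, (pResidual p C).map C.subtype ≤ pResidual p G := by
            intro C
            rw [Subgroup.map_le_iff_le_comap, pResidual, Subgroup.closure_le]
            intro x hx
            refine Subgroup.subset_closure ?_
            show (orderOf (x : G)).Coprime p
            rw [Subgroup.orderOf_coe]
            exact hx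
          exact (sup_le (hA' ▸ hsub) (hB' ▸ hsub)).trans hle
        apply hM0
        rw [eq_bot_iff]
        intro m hm
        have := hker (hRt ▸ Subgroup.mem_top m)
        rw [MonoidHom.mem_ker, show φ m = ⟨m, hm⟩ from hφ ⟨m, hm⟩] at this
        exact Subgroup.mem_bot.2 (congrArg Subtype.val this)
    intro s hs
    obtain ⟨u, hu, m, hm, rfl⟩ := Subgroup.mem_sup_of_normal_right.1 (hmod p S hs)
    refine mul_mem hu (hMS ⟨hm, ?_⟩)
    exact (Subgroup.mul_mem_cancel_left _ (sup_le (inf_le_right (a := A)) (inf_le_right (a := B)) hu)).1 hs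

/-- Wielandt's theorem. -/
theorem sup_inf_sylow {p : ℕ} [Fact p.Prime] (S : Sylow p G) {A B : Subgroup G}
    (hA : A.IsSubnormal) (hB : B.IsSubnormal) :
    (A ⊔ B) ⊓ (S : Subgroup G) = (A ⊓ (S : Subgroup G)) ⊔ (B ⊓ (S : Subgroup G)) := by
  refine le_antisymm ?_ (sup_le (inf_le_inf_right _ le_sup_left) (inf_le_inf_right _ le_sup_right))
  obtain ⟨J, hJ⟩ : ∃ J, J = A ⊔ B := ⟨_, rfl⟩
  rw [← hJ]
  obtain ⟨P, hP⟩ := (sylIn_inf_subnormal S (hJ ▸ Solv.isSubnormal_sup hA hB)).exists_sylow_subgroupOf
  have hAJ : A ≤ J := hJ ▸ le_sup_left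
  have hBJ : B ≤ J := hJ ▸ le_sup_right
  have h := sylow_le_aux _ J le_rfl p P _ _
    (Solv.isSubnormal_subgroupOf hA (L := J)) (Solv.isSubnormal_subgroupOf hB (L := J))
    (by rw [← Subgroup.subgroupOf_sup hAJ hBJ, ← hJ, Subgroup.subgroupOf_self])
  rw [hP] at h
  have h2 := Subgroup.map_mono (f := J.subtype) h
  rw [Subgroup.map_sup, Subgroup.map_subgroupOf_eq_of_le inf_le_right] at h2
  rw [inf_comm]
  refine h2.trans (sup_le_sup ?_ ?_)
  · rintro _ ⟨x, hx, rfl⟩
    exact ⟨hx.1, (Subgroup.mem_subgroupOf.1 hx.2).1⟩
  · rintro _ ⟨x, hx, rfl⟩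
    exact ⟨hx.1, (Subgroup.mem_subgroupOf.1 hx.2).1⟩

end Cfsg.Agent.LocalEven.SnJoin
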