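import Mathlib
import Cfsg.Prelude.Def_ClassificationK

/-!
# Symplectic type centralizers: a conjugate involution in the core is symmetric
-/

set_option autoImplicit false
set_option linter.unusedSectionVars false

namespace Cfsg.Agent.LocalEven.SymConj

variable {G : Type*} [Group G]

/-- A two-group all of whose squares are small, sitting in the centralizer of the involution `z`. -/
structure Sym (z : G) (Q : Subgroup G) : Prop where
  zQ : z ∈ Q
  two : z * z = 1
  cz : ∀ q ∈ Q, q * z = z * q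
  sq : ∀ q ∈ Q, q * q = 1 ∨ q * q = z
  comm : ∀ a ∈ Q, ∀ b ∈ Q, ∃ e : G, (e = 1 ∨ e = z) ∧ a * b * a⁻¹ = b * e
  cen : ∀ t ∈ Q, t * t = 1 → (∀ q ∈ Q, q * t = t * q) → t = 1 ∨ t = z
  norm : ∀ c : G, c * z = z * c → ∀ q ∈ Q, c * q * c⁻¹ ∈ Q
  self : ∀ c : G, c * z = z * c → (∀ q ∈ Q, c * q = q * c) → c ∈ Q

theorem Sym.conj {z : G} {Q : Subgroup G} (h : Sym z Q) (g : G) :
    Sym (g * z * g⁻¹) (Q.map (MulAut.conj g).toMonoidHom) := by
  have hm : ∀ {x : G}, x ∈ Q.map (MulAut.conj g).toMonoidHom ↔ ∃ q ∈ Q, g * q * g⁻¹ = x := by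
    intro x; simp [Subgroup.mem_map]
  have hcom : ∀ {a b : G}, a * b = b * a → g * a * g⁻¹ * (g * b * g⁻¹) = g * b * g⁻¹ * (g * a * g⁻¹) :=
    fun e => by rw [conj_mul, conj_mul, e]
  refine ⟨hm.2 ⟨z, h.zQ, rfl⟩, by rw [conj_mul, h.two]; group, ?_, ?_, ?_, ?_, ?_, ?_⟩
  · intro x hx
    obtain ⟨q, hq, rfl⟩ := hm.1 hx
    exact hcom (h.cz q hq)
  · intro x hx
    obtain ⟨q, hq, rfl⟩ := hm.1 hx
    rw [conj_mul]
    rcases h.sq q hq with e | e <;> rw [e]
    · exact Or.inl (by group)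
    · exact Or.inr rfl
  · intro a ha b hb
    obtain ⟨a, ha', rfl⟩ := hm.1 ha
    obtain ⟨b, hb', rfl⟩ := hm.1 hb
    obtain ⟨e, he, e1⟩ := h.comm a ha' b hb'
    refine ⟨g * e * g⁻¹, ?_, ?_⟩
    · rcases (he).imp Eq.symm Eq.symm with rfl | rfl
      · exact Or.inl (by group)
      · exact Or.inr rfl
    · rw [show g * b * g⁻¹ * (g * e * g⁻¹) = g * (b * e) * g⁻¹ from conj_mul, ← e1]; group
  · intro t ht ht2 htc
    obtain ⟨q, hq, rfl⟩ := hm.1 ht
    rcases h.cen q hq (by rw [conj_mul] at ht2; exact conj_eq_one_iff.1 ht2) (fun r hr => by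
      have := htc _ (hm.2 ⟨r, hr, rfl⟩)
      rw [conj_mul, conj_mul] at this
      exact mul_left_cancel (mul_right_cancel this)) with e | e <;> rw [e]
    · exact Or.inl (by group)
    · exact Or.inr rfl
  · intro c hc x hx
    obtain ⟨q, hq, rfl⟩ := hm.1 hx
    refine hm.2 ⟨(g⁻¹ * c * g) * q * (g⁻¹ * c * g)⁻¹, h.norm _ ?_ q hq, by group⟩
    calc g⁻¹ * c * g * z = g⁻¹ * (c * (g * z * g⁻¹)) * g := by group
      _ = g⁻¹ * (g * z * g⁻¹ * c) * g := by rw [hc]
      _ = z * (g⁻¹ * c * g) := by group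
  · intro c hc hcq
    refine hm.2 ⟨g⁻¹ * c * g, h.self _ ?_ (fun q hq => ?_), by group⟩
    · calc g⁻¹ * c * g * z = g⁻¹ * (c * (g * z * g⁻¹)) * g := by group
        _ = g⁻¹ * (g * z * g⁻¹ * c) * g := by rw [hc]
        _ = z * (g⁻¹ * c * g) := by group
    · calc g⁻¹ * c * g * q = g⁻¹ * (c * (g * q * g⁻¹)) * g := by group
        _ = g⁻¹ * (g * q * g⁻¹ * c) * g := by rw [hcq _ (hm.2 ⟨q, hq, rfl⟩)]
        _ = q * (g⁻¹ * c * g) := by group

variable [Finite G] {z : G} {Q : Subgroup G} (h : Sym z Q) {g : G}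
include h

/-- If `gzg⁻¹` lies in `Q`, then `z` lies in `gQg⁻¹`. -/
theorem Sym.symmetric (hne : g * z * g⁻¹ ≠ z) (hin : g * z * g⁻¹ ∈ Q) :
    z ∈ Q.map (MulAut.conj g).toMonoidHom := by
  obtain ⟨w, hw⟩ : ∃ w, w = g * z * g⁻¹ := ⟨_, rfl⟩
  obtain ⟨B, hB⟩ : ∃ B, B = Q.map (MulAut.conj g).toMonoidHom := ⟨_, rfl⟩
  have hBs : Sym w B := hw ▸ hB ▸ h.conj g
  rw [← hw] at hne hin
  rw [← hB]
  have hz1 : z ≠ 1 := fun e => hne (by rw [hw, e]; group)
  have hw1 : w ≠ 1 := fun e => hz1 (by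
    calc z = g⁻¹ * w * g := by rw [hw]; group
      _ = 1 := by rw [e]; group)
  have hzw : w * z = z * w := h.cz w hin
  -- `x` moves `w`
  obtain ⟨x, hx, hxw⟩ : ∃ x ∈ Q, x * w ≠ w * x := by
    by_contra hno
    push Not at hno
    rcases h.cen w hin hBs.two hno with e | e
    · exact hw1 e
    · exact hne e
  have hxw' : x * w * x⁻¹ = w * z := by
    obtain ⟨e, he, e1⟩ := h.comm x hx w hin
    rcases (he).imp Eq.symm Eq.symm with rfl | rfl
    · rw [mul_one, mul_inv_eq_iff_eq_mul] at e1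
      exact absurd e1 hxw
    · exact e1
  by_contra hzB
  -- a moved `z` would make the relation symmetric
  have hA : ∀ y ∈ B, z * y * z * y⁻¹ ≠ w := by
    intro y hy e
    apply hzB
    have hzi : z⁻¹ = z := inv_eq_of_mul_eq_one_right h.two
    have e1 : y * z * y⁻¹ = z * w := by
      rw [← e, show z * (z * y * z * y⁻¹) = z * z * (y * z * y⁻¹) by group, h.two, one_mul]
    -- both `y` and `x * g` send `z` to `z * w`
    have e2 : x * g * z * (x * g)⁻¹ = z * w := by
      rw [← hzw, ← hxw', hw]; group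
    have hc : (g⁻¹ * x⁻¹ * y) * z = z * (g⁻¹ * x⁻¹ * y) := by
      calc (g⁻¹ * x⁻¹ * y) * z = g⁻¹ * x⁻¹ * (y * z * y⁻¹) * y := by group
        _ = g⁻¹ * x⁻¹ * (x * g * z * (x * g)⁻¹) * y := by rw [e1, e2]
        _ = z * (g⁻¹ * x⁻¹ * y) := by group
    -- `w ∈ Q` gives `w ∈ yQy⁻¹ = xBx⁻¹`
    have hyw : y⁻¹ * w * y = w := by
      rw [mul_assoc, ← hBs.cz y hy, ← mul_assoc, inv_mul_cancel, one_mul]
    have h1 : x⁻¹ * w * x ∈ B := by
      rw [hB]
      refine ⟨(g⁻¹ * x⁻¹ * y) * w * (g⁻¹ * x⁻¹ * y)⁻¹, h.norm _ hc w hin, ?_⟩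
      simp only [MulEquiv.toMonoidHom_eq_coe, MonoidHom.coe_coe, MulAut.conj_apply]
      calc g * (g⁻¹ * x⁻¹ * y * w * (g⁻¹ * x⁻¹ * y)⁻¹) * g⁻¹ = x⁻¹ * (y * w * y⁻¹) * x := by group
        _ = x⁻¹ * w * x := by
          rw [show y * w * y⁻¹ = w by rw [hBs.cz y hy, mul_inv_cancel_right]]
    have h2 : x⁻¹ * w * x = z * w := by
      calc x⁻¹ * w * x = x⁻¹ * (w * z * z) * x := by rw [mul_assoc w, h.two, mul_one]
        _ = x⁻¹ * (x * w * x⁻¹ * z) * x := by rw [hxw']
        _ = w * (x⁻¹ * z * x) := by group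
        _ = z * w := by rw [mul_assoc x⁻¹, ← h.cz x hx, inv_mul_cancel_left, hzw]
    rw [h2] at h1
    have := mul_mem h1 (inv_mem hBs.zQ)
    rwa [mul_inv_cancel_right] at this
  have hzi : z⁻¹ = z := inv_eq_of_mul_eq_one_right h.two
  have hwz : w * w = 1 := hBs.two
  have hzB' : ∀ y ∈ B, z * y * z ∈ B := fun y hy => by
    have := hBs.norm z hzw.symm y hy
    rwa [hzi] at this
  -- the commutators with `z` are involutions fixed by `z`
  have hδ : ∀ y ∈ B, z * y * z * y⁻¹ ∈ B ∧ z * (z * y * z * y⁻¹) = (z * y * z * y⁻¹) * z ∧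
      (z * y * z * y⁻¹) * (z * y * z * y⁻¹) = 1 := by
    intro y hy
    obtain ⟨i, hi⟩ : ∃ i, i = z * y * z * y⁻¹ := ⟨_, rfl⟩
    have hiB : i ∈ B := hi ▸ mul_mem (hzB' y hy) (inv_mem hy)
    have h1 : z * i * z = i⁻¹ := by
      rw [hi, mul_inv_rev, mul_inv_rev, mul_inv_rev, inv_inv, hzi]
      simp only [mul_assoc]; rw [← mul_assoc z z, h.two, one_mul]
    have h2 : i * i = 1 := by
      rcases hBs.sq i hiB with e | e
      · exact e
      · exfalso
        refine hA i hiB ?_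
        rw [h1, ← mul_inv_rev, e, inv_eq_of_mul_eq_one_right hwz]
    rw [inv_eq_of_mul_eq_one_right h2] at h1
    rw [← hi]
    refine ⟨hiB, ?_, h2⟩
    calc z * i = z * (i * (z * z)) := by rw [h.two, mul_one]
      _ = z * i * z * z := by group
      _ = i * z := by rw [h1]
  -- `C_B(C_B(z)) ≤ C_B(z)`
  have hJ : ∀ j ∈ B, (∀ s ∈ B, z * s = s * z → j * s = s * j) → z * j = j * z := by
    intro j hj hjs
    obtain ⟨hkB, hkz, hk2⟩ := hδ j hj
    obtain ⟨k, hk⟩ : ∃ k, k = z * j * z * j⁻¹ := ⟨_, rfl⟩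
    rw [← hk] at hkB hkz hk2
    have hkj : z * j * z = k * j := by rw [hk, inv_mul_cancel_right]
    have hkc : ∀ y ∈ B, y * k = k * y := by
      intro y hy
      obtain ⟨hiB, hiz, -⟩ := hδ y hy
      obtain ⟨i, hi⟩ : ∃ i, i = z * y * z * y⁻¹ := ⟨_, rfl⟩
      rw [← hi] at hiB hiz
      have hiy : z * y * z = i * y := by rw [hi, inv_mul_cancel_right]
      have hji := hjs i hiB hiz
      have hki : k * i = i * k := by
        have e1 : (z * j * z) * i = i * (z * j * z) := by
          calc z * j * z * i = z * j * (z * i) := by group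
            _ = z * (j * i) * z := by rw [hiz]; group
            _ = z * i * j * z := by rw [hji]; group
            _ = i * (z * j * z) := by rw [hiz]; group
        rw [hkj] at e1
        exact mul_right_cancel (b := j) (by rw [mul_assoc, ← hji, ← mul_assoc, e1, mul_assoc])
      obtain ⟨ε, hε, e2⟩ := hBs.comm j hj y hy
      have hεz : z * ε * z = ε := by
        rcases (hε).imp Eq.symm Eq.symm with rfl | rfl
        · rw [mul_one, h.two]
        · rw [← hzw, mul_assoc, h.two, mul_one]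
      have hεB : ∀ b ∈ B, ε * b = b * ε := fun b hb => by
        rcases (hε).imp Eq.symm Eq.symm with rfl | rfl
        · rw [one_mul, mul_one]
        · exact (hBs.cz b hb).symm
      have e3 : (k * j) * (i * y) * (k * j)⁻¹ = (i * y) * ε := by
        rw [← hkj, ← hiy, ← hεz]
        calc z * j * z * (z * y * z) * (z * j * z)⁻¹
            = z * j * (z * z) * y * z * z⁻¹ * j⁻¹ * z⁻¹ := by group
          _ = z * (j * y * j⁻¹) * z := by rw [h.two, hzi]; simp [mul_assoc, ← mul_assoc z z, h.two]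
          _ = z * y * (z * z) * ε * z := by rw [e2, h.two]; group
          _ = z * y * z * (z * ε * z) := by group
      have e4 : (k * j) * (i * y) * (k * j)⁻¹ = i * (k * y * k⁻¹) * ε := by
        calc (k * j) * (i * y) * (k * j)⁻¹ = k * (j * i) * y * j⁻¹ * k⁻¹ := by group
          _ = (k * i) * (j * y * j⁻¹) * k⁻¹ := by rw [hji]; group
          _ = i * k * y * (ε * k⁻¹) := by rw [hki, e2]; group
          _ = i * (k * y * k⁻¹) * ε := by rw [hεB _ (inv_mem hkB)]; group
      rw [e4] at e3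
      have e5 := mul_left_cancel (mul_right_cancel e3)
      exact (mul_inv_eq_iff_eq_mul.1 e5).symm
    rcases hBs.cen k hkB hk2 hkc with e | e
    · rw [hk, mul_inv_eq_one] at e
      calc z * j = z * j * (z * z) := by rw [h.two, mul_one]
        _ = z * j * z * z := by group
        _ = j * z := by rw [e]
    · exact absurd (hk.symm.trans e) (hA j hj)
  -- `C_Q(w)` acts on `C_B(z)` through `⟨w⟩`
  have hRQ : ∀ r ∈ Q, r * w = w * r → ∀ b ∈ B, r * b * r⁻¹ ∈ B := fun r _ hr => hBs.norm r hr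
  have hRS : ∀ r ∈ Q, r * w = w * r → ∀ s ∈ B, z * s = s * z →
      r * s * r⁻¹ = s ∨ r * s * r⁻¹ = s * w := by
    intro r hr hrw s hs hsz
    obtain ⟨t, ht⟩ : ∃ t, t = s⁻¹ * (r * s * r⁻¹) := ⟨_, rfl⟩
    have htB : t ∈ B := ht ▸ mul_mem (inv_mem hs) (hRQ r hr hrw s hs)
    have htQ : t ∈ Q := by
      have hsz' : s⁻¹ * z = z * s⁻¹ := by
        rw [eq_mul_inv_iff_mul_eq, mul_assoc, hsz, inv_mul_cancel_left]
      have := mul_mem (h.norm s⁻¹ hsz' r hr) (inv_mem hr)
      rw [ht]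
      convert this using 1
      group
    have htz : t * z = z * t := h.cz t htQ
    have ht2 : t * t = 1 := by
      rcases h.sq t htQ with e | e
      · exact e
      · exact absurd (e ▸ mul_mem htB htB) hzB
    have htR : ∀ u ∈ Q, u * w = w * u → u * t = t * u := by
      intro u hu huw
      obtain ⟨e, he, e1⟩ := h.comm u hu t htQ
      have heB : e ∈ B := by
        have := mul_mem (inv_mem htB) (hRQ u hu huw t htB)
        rwa [e1, inv_mul_cancel_left] at this
      rcases (he).imp Eq.symm Eq.symm with rfl | rfl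
      · rw [mul_one, mul_inv_eq_iff_eq_mul] at e1
        exact e1
      · exact absurd heB hzB
    have hfin : t = 1 ∨ t = w := by
      have hall : ∀ t' ∈ Q, t' * t' = 1 → (∀ u ∈ Q, u * w = w * u → u * t' = t' * u) → x * t' = t' * x →
          t' = 1 ∨ t' = z := by
        intro t' ht' ht'2 htu htx
        refine h.cen t' ht' ht'2 fun q hq => ?_
        by_cases hqw : q * w = w * q
        · exact htu q hq hqw
        · obtain ⟨e, he, e1⟩ := h.comm q hq w hin
          rcases (he).imp Eq.symm Eq.symm with rfl | rfl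
          · rw [mul_one, mul_inv_eq_iff_eq_mul] at e1
            exact absurd e1 hqw
          have hu : (x⁻¹ * q) * w = w * (x⁻¹ * q) := by
            calc x⁻¹ * q * w = x⁻¹ * (q * w * q⁻¹) * q := by group
              _ = x⁻¹ * (x * w * x⁻¹) * q := by rw [e1, hxw']
              _ = w * (x⁻¹ * q) := by group
          have := htu _ (mul_mem (inv_mem hx) hq) hu
          calc q * t' = x * (x⁻¹ * q * t') := by group
            _ = x * t' * (x⁻¹ * q) := by rw [this]; group
            _ = t' * q := by rw [htx]; group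
      obtain ⟨e, he, e1⟩ := h.comm x hx t htQ
      rcases (he).imp Eq.symm Eq.symm with rfl | rfl
      · rw [mul_one, mul_inv_eq_iff_eq_mul] at e1
        rcases hall t htQ ht2 htR e1 with e2 | e2
        · exact Or.inl e2
        · exact absurd (e2 ▸ htB) hzB
      · have htw : t * w = w * t := (htR w hin rfl).symm
        rcases hall (t * w) (mul_mem htQ hin) (by
            rw [mul_assoc, ← mul_assoc w, ← htw, mul_assoc t w, hwz, mul_one, ht2])
          (fun u hu huw => by rw [← mul_assoc, htR u hu huw, mul_assoc, huw, mul_assoc]) (by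
            calc x * (t * w) = (x * t * x⁻¹) * (x * w * x⁻¹) * x := by group
              _ = t * (z * w) * z * x := by rw [e1, hxw']; group
              _ = t * w * x := by rw [← hzw, mul_assoc t, mul_assoc w, h.two, mul_one]) with e2 | e2
        · exact Or.inr (by rw [eq_inv_of_mul_eq_one_left e2, inv_eq_of_mul_eq_one_right hwz])
        · exact absurd (e2 ▸ mul_mem htB hBs.zQ) hzB
    have e3 : r * s * r⁻¹ = s * t := by rw [ht, mul_inv_cancel_left]
    rcases hfin with e | e <;> rw [e] at e3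
    · exact Or.inl (by rw [e3, mul_one])
    · exact Or.inr e3
  -- so does it on `B` modulo `C_B(z) ∩ C(C_B(z))`
  have hRB : ∀ r ∈ Q, r * w = w * r → ∀ y ∈ B, r * y * r⁻¹ * y⁻¹ ∈ B ∧
      (z * (r * y * r⁻¹ * y⁻¹) = (r * y * r⁻¹ * y⁻¹) * z) ∧
        ∀ s ∈ B, z * s = s * z → (r * y * r⁻¹ * y⁻¹) * s = s * (r * y * r⁻¹ * y⁻¹) := by
    intro r hr hrw y hy
    have heB := mul_mem (hRQ r hr hrw y hy) (inv_mem hy)
    have hes : ∀ s ∈ B, z * s = s * z → (r * y * r⁻¹ * y⁻¹) * s = s * (r * y * r⁻¹ * y⁻¹) := by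
      intro s hs hsz
      have hr' : r⁻¹ * w = w * r⁻¹ := by
        rw [eq_mul_inv_iff_mul_eq, mul_assoc, ← hrw, inv_mul_cancel_left]
      obtain ⟨η, hη, e1⟩ := hBs.comm y hy s hs
      have hηy : y⁻¹ * η * y = η ∧ η * η = 1 ∧ r * η * r⁻¹ = η ∧ (∀ b ∈ B, η * b = b * η) := by
        rcases (hη).imp Eq.symm Eq.symm with rfl | rfl
        · exact ⟨by group, one_mul 1, by group, fun b _ => by rw [one_mul, mul_one]⟩
        · exact ⟨by rw [mul_assoc, ← hBs.cz y hy, inv_mul_cancel_left], hwz,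
            by rw [hrw, mul_inv_cancel_right], fun b hb => (hBs.cz b hb).symm⟩
      have e2 : y⁻¹ * s * y = s * η := by
        calc y⁻¹ * s * y = y⁻¹ * (y * s * y⁻¹ * η) * y := by rw [e1, mul_assoc s, hηy.2.1, mul_one]
          _ = s * (y⁻¹ * η * y) := by group
          _ = s * η := by rw [hηy.1]
      rw [← mul_inv_eq_iff_eq_mul]
      have e3 : ∀ ε : G, (ε = 1 ∨ ε = w) → r * (y * (s * ε) * y⁻¹) * r⁻¹ = r * (s * ε) * r⁻¹ * η := by
        intro ε hε
        have hεy : y * ε * y⁻¹ = ε ∧ ε * η = η * ε := by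
          rcases (hε).imp Eq.symm Eq.symm with rfl | rfl
          · exact ⟨by group, by rw [one_mul, mul_one]⟩
          · exact ⟨by rw [hBs.cz y hy, mul_inv_cancel_right], (hηy.2.2.2 _ hBs.zQ).symm⟩
        calc r * (y * (s * ε) * y⁻¹) * r⁻¹ = r * (y * s * y⁻¹ * (y * ε * y⁻¹)) * r⁻¹ := by group
          _ = r * (s * (η * ε)) * r⁻¹ := by rw [e1, hεy.1]; simp only [mul_assoc]
          _ = r * (s * ε) * r⁻¹ * (r * η * r⁻¹) := by rw [← hεy.2]; group
          _ = r * (s * ε) * r⁻¹ * η := by rw [hηy.2.2.1]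
      calc r * y * r⁻¹ * y⁻¹ * s * (r * y * r⁻¹ * y⁻¹)⁻¹
          = r * y * r⁻¹ * (y⁻¹ * s * y) * r * y⁻¹ * r⁻¹ := by group
        _ = r * y * (r⁻¹ * s * r⁻¹⁻¹) * (r⁻¹ * η * r) * y⁻¹ * r⁻¹ := by rw [e2]; group
        _ = r * (y * (r⁻¹ * s * r⁻¹⁻¹ * η) * y⁻¹) * r⁻¹ := by
          rw [show r⁻¹ * η * r = η by
            calc r⁻¹ * η * r = r⁻¹ * (r * η * r⁻¹) * r := by rw [hηy.2.2.1]
              _ = η := by group]
          group
        _ = s := by
          have h5 := hRS r⁻¹ (inv_mem hr) hr' s hs hsz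
          obtain ⟨ε, hε, e4⟩ : ∃ ε, (ε = 1 ∨ ε = w) ∧ r⁻¹ * s * r⁻¹⁻¹ = s * ε := by
            rcases h5 with e | e
            · exact ⟨1, Or.inl rfl, by rw [e, mul_one]⟩
            · exact ⟨w, Or.inr rfl, e⟩
          have hεη : (ε * η = 1 ∨ ε * η = w) := by
            rcases (hε).imp Eq.symm Eq.symm with rfl | rfl <;> rcases (hη).imp Eq.symm Eq.symm with rfl | rfl <;> simp [hwz]
          rw [e4, mul_assoc s ε η, e3 _ hεη]
          calc r * (s * (ε * η)) * r⁻¹ * η = r * (s * ε) * r⁻¹ * (r * η * r⁻¹ * η) := by group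
            _ = r * (r⁻¹ * s * r⁻¹⁻¹) * r⁻¹ := by rw [e4, hηy.2.2.1, hηy.2.1, mul_one]
            _ = s := by group
    exact ⟨heB, hJ _ heB hes, hes⟩
  -- `z` is no square and no commutator in `C_Q(w)`
  have hact : ∀ r ∈ Q, r * w = w * r → ∀ b ∈ B, z * b = b * z →
      ∃ ε : G, (ε = 1 ∨ ε = w) ∧ r * b * r⁻¹ = b * ε := by
    intro r hr hrw b hb hbz
    rcases hRS r hr hrw b hb hbz with e | e
    · exact ⟨1, Or.inl rfl, by rw [e, mul_one]⟩
    · exact ⟨w, Or.inr rfl, e⟩
  have hsmall : ∀ y ∈ B, (∃ ε : G, (ε = 1 ∨ ε = w) ∧ z * y * z * y⁻¹ = ε) → z * y = y * z := by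
    rintro y hy ⟨ε, hε, e⟩
    rcases (hε).imp Eq.symm Eq.symm with rfl | rfl
    · rw [mul_inv_eq_one] at e
      calc z * y = z * y * (z * z) := by rw [h.two, mul_one]
        _ = z * y * z * z := by group
        _ = y * z := by rw [e]
    · exact absurd e (hA y hy)
  have hfinish : (∀ y ∈ B, z * y = y * z) → False := fun hall =>
    hzB (hBs.self z hzw.symm hall)
  have hsqr : ∀ r ∈ Q, r * w = w * r → r * r ≠ z := by
    intro r hr hrw e
    refine hfinish fun y hy => ?_
    obtain ⟨heB, hez, hes⟩ := hRB r hr hrw y hy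
    obtain ⟨ε, hε, e1⟩ := hact r hr hrw _ heB hez
    obtain ⟨u, hu⟩ : ∃ u, u = r * y * r⁻¹ * y⁻¹ := ⟨_, rfl⟩
    rw [← hu] at heB e1
    have hεw : ∀ b ∈ B, ε * b = b * ε := fun b hb => by
      rcases (hε).imp Eq.symm Eq.symm with rfl | rfl
      · rw [one_mul, mul_one]
      · exact (hBs.cz b hb).symm
    refine hsmall y hy ⟨u * u * ε, ?_, ?_⟩
    · rcases hBs.sq u heB with e2 | e2 <;> rcases (hε).imp Eq.symm Eq.symm with rfl | rfl <;> simp [e2, hwz]
    · calc z * y * z * y⁻¹ = (r * r) * y * (r * r)⁻¹ * y⁻¹ := by rw [e, hzi]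
        _ = r * (u * y) * r⁻¹ * y⁻¹ := by rw [hu]; group
        _ = (r * u * r⁻¹) * u := by rw [hu]; group
        _ = u * u * ε := by rw [e1, mul_assoc, hεw u heB, ← mul_assoc]
  have hcom : ∀ a ∈ Q, a * w = w * a → ∀ b ∈ Q, b * w = w * b → a * b = b * a := by
    intro a ha haw b hb hbw
    obtain ⟨c, hc, hab⟩ := h.comm a ha b hb
    rcases hc with hc1 | hcz
    · rw [hc1, mul_one, mul_inv_eq_iff_eq_mul] at hab
      exact hab
    exfalso
    rw [hcz] at hab
    have hab' : a * b = b * a * z := by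
      rw [mul_inv_eq_iff_eq_mul] at hab
      rw [hab, mul_assoc b z, mul_assoc b a, h.cz a ha]
    refine hfinish fun y hy => ?_
    obtain ⟨hA1, hA2, hA3⟩ := hRB a ha haw y hy
    obtain ⟨hB1, hB2, hB3⟩ := hRB b hb hbw y hy
    obtain ⟨u, hu⟩ : ∃ u, u = a * y * a⁻¹ * y⁻¹ := ⟨_, rfl⟩
    obtain ⟨v, hv⟩ : ∃ v, v = b * y * b⁻¹ * y⁻¹ := ⟨_, rfl⟩
    rw [← hu] at hA1 hA2 hA3
    rw [← hv] at hB1 hB2 hB3
    obtain ⟨hiB, hiz, -⟩ := hδ y hy
    obtain ⟨i, hi⟩ : ∃ i, i = z * y * z * y⁻¹ := ⟨_, rfl⟩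
    rw [← hi] at hiB hiz
    obtain ⟨ε, hε, e1⟩ := hact a ha haw v hB1 hB2
    obtain ⟨ε', hε', e2⟩ := hact b hb hbw u hA1 hA2
    obtain ⟨ε'', hε'', e3⟩ := hact b hb hbw i hiB hiz
    obtain ⟨ε₄, hε₄, e4⟩ := hact a ha haw i hiB hiz
    have huv : v * u = u * v := hB3 u hA1 hA2
    have hcen : ∀ {ε : G}, (ε = 1 ∨ ε = w) → ε ∈ Subgroup.centralizer (B : Set G) := fun {ε} hε => by
      refine Subgroup.mem_centralizer_iff.2 fun b hb => ?_
      rcases (hε).imp Eq.symm Eq.symm with rfl | rfl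
      · rw [one_mul, mul_one]
      · exact hBs.cz b hb
    have sw : ∀ {ε b : G}, (ε = 1 ∨ ε = w) → b ∈ B → ε * b = b * ε := fun hε hb =>
      (Subgroup.mem_centralizer_iff.1 (hcen hε) _ hb).symm
    have eab : (a * b) * y * (a * b)⁻¹ = v * u * ε * y := by
      calc (a * b) * y * (a * b)⁻¹ = (a * v * a⁻¹) * (a * y * a⁻¹) := by rw [hv]; group
        _ = v * ε * (u * y) := by rw [e1, hu]; group
        _ = v * (ε * u) * y := by group
        _ = v * u * ε * y := by rw [sw hε hA1]; group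
    have eba : (a * b) * y * (a * b)⁻¹ = u * v * ε' * (b * (a * i * a⁻¹) * b⁻¹) * y := by
      calc (a * b) * y * (a * b)⁻¹ = (b * a) * (z * y * z⁻¹) * (b * a)⁻¹ := by rw [hab']; group
        _ = (b * a) * (i * y) * (b * a)⁻¹ := by rw [hzi, hi]; group
        _ = (b * (a * i * a⁻¹) * b⁻¹) * ((b * u * b⁻¹) * (b * y * b⁻¹)) := by rw [hu]; group
        _ = (b * (a * i * a⁻¹) * b⁻¹) * (u * ε' * (v * y)) := by rw [e2, hv]; group
        _ = u * v * ε' * (b * (a * i * a⁻¹) * b⁻¹) * y := by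
          rw [e4, ← conj_mul, e3]
          have hb4 : b * ε₄ * b⁻¹ = ε₄ := by
            rcases (hε₄).imp Eq.symm Eq.symm with rfl | rfl
            · group
            · rw [hbw, mul_inv_cancel_right]
          rw [hb4]
          have c1 : Commute i u := (hA3 i hiB hiz).symm
          have c2 : Commute i v := (hB3 i hiB hiz).symm
          have d1 : ∀ {ε : G}, (ε = 1 ∨ ε = w) → Commute ε u ∧ Commute ε v ∧ Commute ε i ∧ Commute ε ε' :=
            fun hε => ⟨sw hε hA1, sw hε hB1, sw hε hiB, sw hε (by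
              rcases (hε').imp Eq.symm Eq.symm with rfl | rfl
              · exact one_mem B
              · exact hBs.zQ)⟩
          have k1 : Commute (i * ε'' * ε₄) u := (c1.mul_left (d1 hε'').1).mul_left (d1 hε₄).1
          have k2 : Commute (i * ε'' * ε₄) v := (c2.mul_left (d1 hε'').2.1).mul_left (d1 hε₄).2.1
          have k3 : Commute (i * ε'' * ε₄) ε' :=
            ((d1 hε').2.2.1.symm.mul_left (d1 hε'').2.2.2).mul_left (d1 hε₄).2.2.2
          calc (i * ε'' * ε₄) * (u * ε' * (v * y)) = (i * ε'' * ε₄) * u * ε' * v * y := by group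
            _ = u * ((i * ε'' * ε₄) * ε') * v * y := by rw [k1.eq]; group
            _ = u * ε' * ((i * ε'' * ε₄) * v) * y := by rw [k3.eq]; group
            _ = u * (ε' * v) * (i * ε'' * ε₄) * y := by rw [k2.eq]; group
            _ = u * v * ε' * (i * ε'' * ε₄) * y := by rw [((d1 hε').2.1).eq]; group
    rw [eab, huv, e4, ← conj_mul, e3] at eba
    have hb4 : b * ε₄ * b⁻¹ = ε₄ := by
      rcases (hε₄).imp Eq.symm Eq.symm with rfl | rfl
      · group
      · rw [hbw, mul_inv_cancel_right]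
    rw [hb4, mul_left_inj, mul_assoc (u * v) ε', mul_right_inj] at eba
    refine hsmall y hy ⟨i, ?_, hi.symm⟩
    have e5 : i = ε'⁻¹ * ε * ε₄⁻¹ * ε''⁻¹ := by rw [eba]; group
    have hwi : w⁻¹ = w := inv_eq_of_mul_eq_one_right hwz
    rw [e5]
    rcases (hε).imp Eq.symm Eq.symm with rfl | rfl <;> rcases (hε').imp Eq.symm Eq.symm with rfl | rfl <;> rcases (hε'').imp Eq.symm Eq.symm with rfl | rfl <;>
      rcases (hε₄).imp Eq.symm Eq.symm with rfl | rfl <;> simp [hwi, hwz]
  -- hence `Q` has order at most eight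
  have hQcard : Nat.card ↥Q ≤ 8 := by
    have hR : ∀ r ∈ Q, r * w = w * r → r = 1 ∨ r = z ∨ r = w ∨ r = w * z := by
      intro r hr hrw
      have hr2 : r * r = 1 := (h.sq r hr).resolve_right (hsqr r hr hrw)
      have hall : ∀ t ∈ Q, t * t = 1 → t * w = w * t → x * t = t * x → t = 1 ∨ t = z := by
        intro t ht ht2 htw htx
        refine h.cen t ht ht2 fun q hq => ?_
        by_cases hqw : q * w = w * q
        · exact hcom q hq hqw t ht htw
        · obtain ⟨e, he, e1⟩ := h.comm q hq w hin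
          rcases (he).imp Eq.symm Eq.symm with rfl | rfl
          · rw [mul_one, mul_inv_eq_iff_eq_mul] at e1
            exact absurd e1 hqw
          have hu : (x⁻¹ * q) * w = w * (x⁻¹ * q) := by
            calc x⁻¹ * q * w = x⁻¹ * (q * w * q⁻¹) * q := by group
              _ = x⁻¹ * (x * w * x⁻¹) * q := by rw [e1, hxw']
              _ = w * (x⁻¹ * q) := by group
          have := hcom _ (mul_mem (inv_mem hx) hq) hu t ht htw
          calc q * t = x * (x⁻¹ * q * t) := by group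
            _ = x * t * (x⁻¹ * q) := by rw [this]; group
            _ = t * q := by rw [htx]; group
      obtain ⟨e, he, e1⟩ := h.comm x hx r hr
      rcases (he).imp Eq.symm Eq.symm with rfl | rfl
      · rw [mul_one, mul_inv_eq_iff_eq_mul] at e1
        rcases hall r hr hr2 hrw e1 with e | e
        · exact Or.inl e
        · exact Or.inr (Or.inl e)
      · rcases hall (r * w) (mul_mem hr hin) (by
            rw [mul_assoc, ← mul_assoc w, ← hrw, mul_assoc r w, hwz, mul_one, hr2])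
          (by rw [hrw, mul_assoc, hrw]) (by
            calc x * (r * w) = (x * r * x⁻¹) * (x * w * x⁻¹) * x := by group
              _ = r * (z * w) * z * x := by rw [e1, hxw']; group
              _ = r * w * x := by rw [← hzw, mul_assoc r, mul_assoc w, h.two, mul_one]) with e | e
        · exact Or.inr (Or.inr (Or.inl (by rw [eq_inv_of_mul_eq_one_left e, inv_eq_of_mul_eq_one_right hwz])))
        · refine Or.inr (Or.inr (Or.inr ?_))
          rw [hzw, ← e, mul_assoc, hwz, mul_one]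
    have hsub : (Q : Set G) ⊆ {1, z, w, w * z, x, x * z, x * w, x * (w * z)} := by
      intro q hq
      by_cases hqw : q * w = w * q
      · rcases hR q hq hqw with e | e | e | e <;> simp [e]
      · obtain ⟨e, he, e1⟩ := h.comm q hq w hin
        rcases (he).imp Eq.symm Eq.symm with rfl | rfl
        · rw [mul_one, mul_inv_eq_iff_eq_mul] at e1
          exact absurd e1 hqw
        have hu : (x⁻¹ * q) * w = w * (x⁻¹ * q) := by
          calc x⁻¹ * q * w = x⁻¹ * (q * w * q⁻¹) * q := by group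
            _ = x⁻¹ * (x * w * x⁻¹) * q := by rw [e1, hxw']
            _ = w * (x⁻¹ * q) := by group
        rcases hR _ (mul_mem (inv_mem hx) hq) hu with e | e | e | e <;>
          (rw [inv_mul_eq_iff_eq_mul] at e; simp [e])
    rw [← SetLike.coe_sort_coe, Nat.card_coe_set_eq]
    refine (Set.ncard_le_ncard hsub (Set.toFinite _)).trans ?_
    classical
    have hf : ({1, z, w, w * z, x, x * z, x * w, x * (w * z)} : Set G) =
        (({1, z, w, w * z, x, x * z, x * w, x * (w * z)} : Finset G) : Set G) := by push_cast; rfl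
    rw [hf, Set.ncard_coe_finset]
    exact (le_trans (Finset.card_insert_le _ _) (Nat.succ_le_succ (le_trans (Finset.card_insert_le _ _) (Nat.succ_le_succ (le_trans (Finset.card_insert_le _ _) (Nat.succ_le_succ (le_trans (Finset.card_insert_le _ _) (Nat.succ_le_succ (le_trans (Finset.card_insert_le _ _) (Nat.succ_le_succ (le_trans (Finset.card_insert_le _ _) (Nat.succ_le_succ (le_trans (Finset.card_insert_le _ _) (Nat.succ_le_succ (Finset.card_singleton _).le))))))))))))))
  -- the width one case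
  refine hfinish fun y hy => ?_
  by_contra hyz
  obtain ⟨hiB, hiz, hi2⟩ := hδ y hy
  obtain ⟨i, hi⟩ : ∃ i, i = z * y * z * y⁻¹ := ⟨_, rfl⟩
  rw [← hi] at hiB hiz hi2
  have hiy : i * y = y * i := by
    have h1 : z * (y * y) * z = y * y := by
      rcases hBs.sq y hy with e | e <;> rw [e]
      · rw [mul_one, h.two]
      · rw [← hzw, mul_assoc, h.two, mul_one]
    have h2 : (i * y) * (i * y) = y * y := by
      rw [hi, inv_mul_cancel_right]
      calc z * y * z * (z * y * z) = z * y * (z * z) * y * z := by group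
        _ = y * y := by rw [h.two, mul_one, mul_assoc z y y]; exact h1
    have h3 : i * (y * i) = y := mul_right_cancel (b := y) (by rw [← h2]; group)
    calc i * y = i * (i * (y * i)) := by rw [h3]
      _ = y * i := by rw [← mul_assoc, hi2, one_mul]
  obtain ⟨S, hS⟩ : ∃ S, S = B ⊓ Subgroup.centralizer ({z} : Set G) := ⟨_, rfl⟩
  obtain ⟨K, hK⟩ : ∃ K, K = B ⊓ Subgroup.centralizer ({i} : Set G) := ⟨_, rfl⟩
  have memS : ∀ {s : G}, s ∈ S ↔ s ∈ B ∧ s * z = z * s := by
    intro s; rw [hS, Subgroup.mem_inf, Subgroup.mem_centralizer_singleton_iff]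
  have memK : ∀ {s : G}, s ∈ K ↔ s ∈ B ∧ s * i = i * s := by
    intro s; rw [hK, Subgroup.mem_inf, Subgroup.mem_centralizer_singleton_iff]
  have hi1 : i ≠ 1 := fun e => hyz (hsmall y hy ⟨1, Or.inl rfl, hi ▸ e⟩)
  -- `i` is not central in `B`
  obtain ⟨b, hb, hbi⟩ : ∃ b ∈ B, b * i ≠ i * b := by
    by_contra hno
    push Not at hno
    rcases hBs.cen i hiB hi2 hno with e | e
    · exact hi1 e
    · exact hA y hy (hi ▸ e)
  have hiw : i ≠ w := fun e => hA y hy (hi ▸ e)
  -- `i` commutes with `C_B(z)`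
  have hSK : S ≤ K := by
    intro s hs
    obtain ⟨hsB, hsz⟩ := memS.1 hs
    refine memK.2 ⟨hsB, ?_⟩
    obtain ⟨ε, hε, e1⟩ := hBs.comm s hsB y hy
    have hεz : z * ε * z = ε := by
      rcases (hε).imp Eq.symm Eq.symm with rfl | rfl
      · rw [mul_one, h.two]
      · rw [← hzw, mul_assoc, h.two, mul_one]
    have hsz' : z * s * z = s := by rw [← hsz, mul_assoc, h.two, mul_one]
    have e2 : s * (i * y) * s⁻¹ = i * y * ε := by
      rw [hi, inv_mul_cancel_right]
      calc s * (z * y * z) * s⁻¹ = (s * z) * y * (z * s⁻¹) := by group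
        _ = z * (s * y * s⁻¹) * z := by
          rw [hsz, show z * s⁻¹ = s⁻¹ * z by
            rw [eq_inv_mul_iff_mul_eq, ← mul_assoc, hsz, mul_inv_cancel_right]]
          group
        _ = z * y * (z * z) * ε * z := by rw [e1, h.two]; group
        _ = z * y * z * (z * ε * z) := by group
        _ = z * y * z * ε := by rw [hεz]
    have e3 : (s * i * s⁻¹) * (s * y * s⁻¹) = i * (y * ε) := by
      rw [conj_mul, e2]; group
    rw [e1] at e3
    have e4 := mul_right_cancel e3
    exact mul_inv_eq_iff_eq_mul.1 e4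
  have hKlt : K < B := lt_of_le_of_ne (hK ▸ inf_le_left) fun e => hbi (memK.1 (e.symm ▸ hb)).2
  have hSlt : S < K := lt_of_le_of_ne hSK fun e => hyz (memS.1 (e ▸ memK.2 ⟨hy, hiy.symm⟩ : y ∈ S)).2.symm
  have step : ∀ {H L : Subgroup G}, H < L → 2 * Nat.card ↥H ≤ Nat.card ↥L := by
    intro H L hlt
    obtain ⟨m, hm⟩ := Subgroup.card_dvd_of_le hlt.le
    have h1 : Nat.card ↥H < Nat.card ↥L := lt_of_le_of_ne (Subgroup.card_le_of_le hlt.le) fun e =>
      hlt.ne (Subgroup.eq_of_le_of_card_ge hlt.le e.ge)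
    rw [hm] at h1 ⊢
    rcases m with _ | _ | m
    · omega
    · omega
    · rw [mul_comm 2]; exact Nat.mul_le_mul_left _ (by omega)
  have h3 : 3 ≤ Nat.card ↥S := by
    classical
    have hsub : (({1, w, i} : Finset G) : Set G) ⊆ (S : Set G) := by
      intro s hs
      simp only [Finset.coe_insert, Finset.coe_singleton, Set.mem_insert_iff, Set.mem_singleton_iff] at hs
      rcases hs with rfl | rfl | rfl
      · exact one_mem S
      · exact memS.2 ⟨hBs.zQ, hzw⟩
      · exact memS.2 ⟨hiB, hiz.symm⟩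
    have h1 := Set.ncard_le_ncard hsub (Set.toFinite _)
    rw [Set.ncard_coe_finset, ← Nat.card_coe_set_eq] at h1
    refine le_trans ?_ h1
    rw [Finset.card_insert_of_notMem (by simp [Ne.symm hw1, Ne.symm hi1]),
      Finset.card_insert_of_notMem (by simp [Ne.symm hiw]), Finset.card_singleton]
  have hcB : Nat.card ↥B = Nat.card ↥Q := by
    rw [hB]; exact Subgroup.card_map_of_injective (MulAut.conj g).injective
  have := step hSlt
  have := step hKlt
  omega

end Cfsg.Agent.LocalEven.SymConj
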