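import Cfsg.Agent.Lib.LocalEven.TISL2
import Cfsg.Agent.Lib.Solv.Zipper
import Cfsg.Agent.Lib.Fusion.Cores
import Cfsg.Agent.Lib.Lie.SuzukiSp4
import Cfsg.Agent.Lib.Small.SuzukiSylowFacts
import Cfsg.Agent.Lib.Lead.SuzukiBinary

/-!
# The three models for the quotient: groups generated by two involutions, `SL₂`, Suzuki groups
-/

set_option autoImplicit false

namespace Cfsg.Agent.LocalEven.TI

variable {Q : Type*} [Group Q] [Finite Q] {p : ℕ}

/-- The property `Pre.prop` of a subgroup. -/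
def OmegaSelf (p : ℕ) (E : Subgroup Q) : Prop :=
  ∀ x : Q, x ^ p = 1 → x ∈ Subgroup.normalizer (E : Set Q) → x ∈ E

theorem Pre.of_core {K : Type*} [Group K] [hp : Fact p.Prime] {π : K →* Q} {Y : Subgroup K}
    (surj : Function.Surjective π) (comm : ∀ a ∈ Y, ∀ b ∈ Y, a * b = b * a) (elem : ∀ y ∈ Y, y ^ p = 1)
    (kerN : π.ker ≤ Subgroup.normalizer (Y : Set K))
    (max : ∀ X : Subgroup K, Y ≤ X → X ≠ ⊤ → X ≤ Subgroup.normalizer (Y : Set K))
    (hcore : Cfsg.pCore p Q = ⊥) (hne : Y.map π ≠ ⊥) (prop : OmegaSelf p (Y.map π)) : Pre p π Y := by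
  have hpE : IsPGroup p ↥(Y.map π) := by
    rintro ⟨_, y, hy, rfl⟩
    exact ⟨1, Subtype.ext (by rw [pow_one, SubmonoidClass.coe_pow, ← map_pow, elem y hy, map_one]; rfl)⟩
  refine ⟨surj, comm, elem, kerN, max, fun e => hne ?_, prop, fun x hx hxp => ?_⟩
  · haveI : (Y.map π).Normal := Subgroup.normalizer_eq_top_iff.1 e
    exact le_bot_iff.1 (hcore ▸ Fusion.le_pCore hpE)
  · haveI : (Subgroup.zpowers x).Normal := ⟨fun z hz g => by
      obtain ⟨k, rfl⟩ := hz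
      exact ⟨k, by
        rw [← ((show Commute x g from hx g).zpow_left k).eq, mul_inv_cancel_right]⟩⟩
    have h1 : IsPGroup p ↥(Subgroup.zpowers x) := by
      rintro ⟨_, k, rfl⟩
      exact ⟨1, Subtype.ext (by
        rw [pow_one, SubmonoidClass.coe_pow, ← zpow_natCast, ← zpow_mul, mul_comm, zpow_mul, zpow_natCast,
          hxp, one_zpow]; rfl)⟩
    simpa using (hcore ▸ Fusion.le_pCore h1 : Subgroup.zpowers x ≤ ⊥)

/-- A Sylow subgroup absorbs the `p`-elements normalising it. -/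
theorem OmegaSelf.of_sylow [hp : Fact p.Prime] {E : Subgroup Q} (hE : IsPGroup p ↥E)
    (hmax : ∀ R : Subgroup Q, IsPGroup p ↥R → E ≤ R → R = E) : OmegaSelf p E := by
  intro x hx hN
  have h1 : IsPGroup p ↥(Subgroup.zpowers x) := by
    rintro ⟨_, k, rfl⟩
    exact ⟨1, Subtype.ext (by
      rw [pow_one, SubmonoidClass.coe_pow, ← zpow_natCast, ← zpow_mul, mul_comm, zpow_mul, zpow_natCast,
        hx, one_zpow]; rfl)⟩
  rw [← hmax _ (h1.to_sup_of_normal_right' hE (Subgroup.zpowers_le.2 hN)) le_sup_right]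
  exact Subgroup.mem_sup_left (Subgroup.mem_zpowers x)

/-- A group generated by any two noncommuting conjugates of an involution. -/
theorem two_case (hcore : Cfsg.pCore 2 Q = ⊥) {E : Subgroup Q} (hE : Nat.card ↥E = 2)
    (hmax : ∀ X : Subgroup Q, E ≤ X → X ≠ ⊤ → X ≤ Subgroup.normalizer (E : Set Q)) :
    OmegaSelf 2 E ∧
      ∀ s : Q, Odd (orderOf s) → ∃ t ∈ E, t ≠ 1 ∧ t * s * t⁻¹ = s⁻¹ := by
  obtain ⟨t, htE, ht1⟩ := E.ne_bot_iff_exists_ne_one.1 (fun e => by rw [e] at hE; simp at hE) |>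
    fun ⟨⟨t, ht⟩, h1⟩ => (⟨t, ht, fun e => h1 (Subtype.ext e)⟩ : ∃ t, t ∈ E ∧ t ≠ 1)
  have hord : orderOf t = 2 := by
    have h1 : orderOf t ∣ 2 := hE ▸ E.orderOf_dvd_natCard htE
    exact ((Nat.dvd_prime Nat.prime_two).1 h1).resolve_left (by rwa [orderOf_eq_one_iff])
  have hEt : E = Subgroup.zpowers t := (Subgroup.eq_of_le_of_card_ge (Subgroup.zpowers_le.2 htE)
    (by rw [hE, Nat.card_zpowers, hord])).symm
  have ht2 : t * t = 1 := by rw [← sq, ← hord, pow_orderOf_eq_one]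
  have hti : t⁻¹ = t := inv_eq_of_mul_eq_one_right ht2
  obtain ⟨h, h1, ho, hinv⟩ := Solv.exists_odd_inverted hord (by rw [hcore]; exact ht1)
  have hhh : h * h ≠ 1 := fun e => h1 (by
    rw [← orderOf_eq_one_iff]
    exact Nat.Coprime.eq_one_of_dvd (Nat.coprime_two_right.2 ho) (orderOf_dvd_of_pow_eq_one (by rw [sq, e])))
  have hpar : ∀ k : ℤ, t ^ k = 1 ∨ t ^ k = t := fun k => by
    rcases Int.even_or_odd k with ⟨j, rfl⟩ | ⟨j, rfl⟩
    · exact Or.inl (by rw [← two_mul, zpow_mul, zpow_ofNat, sq, ht2, one_zpow])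
    · exact Or.inr (by rw [zpow_add, zpow_mul, zpow_ofNat, sq, ht2, one_zpow, one_mul, zpow_one])
  have htop : Subgroup.zpowers t ⊔ Subgroup.zpowers h = ⊤ := by
    by_contra hne
    have h2 := hmax _ (hEt ▸ le_sup_left) hne (Subgroup.mem_sup_right (Subgroup.mem_zpowers h))
    rw [hEt] at h2
    obtain ⟨k, hk⟩ := (Subgroup.mem_normalizer_iff.1 h2 t).1 (Subgroup.mem_zpowers t)
    refine hhh ?_
    simp only at hk
    have hk' : h * t * h⁻¹ = t := by
      rcases hpar k with e | e <;> rw [e] at hk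
      · exact absurd (by simpa using hk.symm) ht1
      · exact hk.symm
    calc h * h = (h⁻¹)⁻¹ * h := by rw [inv_inv]
      _ = (t * h * t⁻¹)⁻¹ * h := by rw [hinv]
      _ = t * h⁻¹ * t * h := by rw [hti, mul_inv_rev, mul_inv_rev, hti]; group
      _ = t * h⁻¹ * (h * t * h⁻¹) * h := by rw [hk']
      _ = 1 := by rw [show t * h⁻¹ * (h * t * h⁻¹) * h = t * t by group, ht2]
  have hform : ∀ x : Q, ∃ u ∈ Subgroup.zpowers h, x = u ∨ x = t * u := by
    have hN : Subgroup.zpowers t ≤ Subgroup.normalizer ((Subgroup.zpowers h : Subgroup Q) : Set Q) := by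
      refine Subgroup.zpowers_le.2 (Fusion.mem_normalizer_of_cj_le ?_)
      rintro _ ⟨_, ⟨k, rfl⟩, rfl⟩
      exact ⟨-k, by simp [← conj_zpow, hinv]⟩
    intro x
    have hx : x ∈ Subgroup.zpowers t ⊔ Subgroup.zpowers h := htop ▸ Subgroup.mem_top x
    rw [← SetLike.mem_coe, Subgroup.coe_mul_of_left_le_normalizer_right _ _ hN, Set.mem_mul] at hx
    obtain ⟨a, ha, u, hu, rfl⟩ := hx
    obtain ⟨k, rfl⟩ := ha
    refine ⟨u, hu, ?_⟩
    rcases hpar k with e | e <;> simp only [e]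
    · exact Or.inl (one_mul u)
    · exact Or.inr trivial
  have hodd : ∀ u ∈ Subgroup.zpowers h, u * u = 1 → u = 1 := fun u hu e => by
    rw [← orderOf_eq_one_iff]
    refine Nat.Coprime.eq_one_of_dvd ((Nat.coprime_two_right.2 ho).coprime_dvd_left ?_)
      (orderOf_dvd_of_pow_eq_one (by rw [sq, e]))
    exact (Nat.card_zpowers h) ▸ Subgroup.orderOf_dvd_natCard _ hu
  have hinv' : ∀ u ∈ Subgroup.zpowers h, t * u * t⁻¹ = u⁻¹ := by
    rintro _ ⟨k, rfl⟩
    rw [← conj_zpow, hinv, inv_zpow]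
  refine ⟨fun x hx hN => ?_, fun s hs => ⟨t, htE, ht1, ?_⟩⟩
  · rw [sq] at hx
    obtain ⟨u, hu, rfl | rfl⟩ := hform x
    · rw [hodd x hu hx]; exact one_mem E
    · have h2 := (Subgroup.mem_normalizer_iff.1 hN t).1 htE
      rw [hEt] at h2
      have h3 : t * u * t * (t * u)⁻¹ = u⁻¹ * u⁻¹ * t := by
        calc t * u * t * (t * u)⁻¹ = (t * u * t⁻¹) * (t * t * u⁻¹ * t⁻¹) := by group
          _ = u⁻¹ * u⁻¹ * t := by rw [hinv' u hu, ht2, one_mul, hti, mul_assoc]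
      rw [h3] at h2
      have h4 : u⁻¹ * u⁻¹ ∈ Subgroup.zpowers t := by
        have := mul_mem h2 (inv_mem (Subgroup.mem_zpowers t))
        rwa [mul_inv_cancel_right] at this
      have h5 : u⁻¹ * u⁻¹ = 1 := by
        have hd : orderOf (u⁻¹ * u⁻¹) ∣ 2 :=
          (Nat.card_zpowers t).trans hord ▸ Subgroup.orderOf_dvd_natCard _ h4
        have := orderOf_dvd_iff_pow_eq_one.1 hd
        rw [sq] at this
        exact hodd _ (mul_mem (inv_mem hu) (inv_mem hu)) this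
      rw [hodd _ (inv_mem hu) h5 |> inv_eq_one.1, mul_one]
      exact htE
  · obtain ⟨u, hu, rfl | rfl⟩ := hform s
    · exact hinv' s hu
    · exfalso
      have h2 : (t * u) ^ 2 = 1 := by
        rw [sq, show t * u * (t * u) = (t * u * t⁻¹) * (t * t) * u by group, hinv' u hu, ht2, mul_one,
          inv_mul_cancel]
      have h3 : t * u = 1 := by
        rw [← orderOf_eq_one_iff]
        exact Nat.Coprime.eq_one_of_dvd (Nat.coprime_two_right.2 hs) (orderOf_dvd_of_pow_eq_one h2)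
      have h4 : t = u⁻¹ := eq_inv_of_mul_eq_one_left h3
      exact ht1 (h4 ▸ hodd _ (inv_mem hu) (h4 ▸ ht2) : t = 1)

section SL2

variable {F : Type*} [Field F] [Fintype F]

local notation "SL" => Matrix.SpecialLinearGroup (Fin 2) F

open Cfsg.Agent.NatSL2

theorem sl2_case {p n : ℕ} [hp : Fact p.Prime] (hF : Fintype.card F = p ^ n) {E : Subgroup SL}
    (hE : Nat.card ↥E = Fintype.card F) :
    OmegaSelf p E ∧ ∃ e : SL ≃* SL, E.map e.toMonoidHom = uni F := by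
  classical
  obtain ⟨P, hP⟩ := uni_sylow (F := F) hF
  have hpE : IsPGroup p ↥E := IsPGroup.of_card (hE.trans hF)
  obtain ⟨P', hP'⟩ := hpE.exists_le_sylow
  have hEP : (P' : Subgroup SL) = E := (Subgroup.eq_of_le_of_card_ge hP' (by
    rw [P'.card_eq_multiplicity, ← P.card_eq_multiplicity, hP, card_uni, hE])).symm
  refine ⟨OmegaSelf.of_sylow hpE fun R hR hle => ?_, ?_⟩
  · rw [← hEP] at hle ⊢
    exact P'.is_maximal' hR hle
  · obtain ⟨g, hg⟩ := MulAction.exists_smul_eq SL P' P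
    refine ⟨MulAut.conj g, ?_⟩
    rw [← hP, ← hg, ← hEP]
    rfl

end SL2

section Suzuki

open Cfsg.Agent.Lie.Suzuki

variable {F : Type*} [Field F] [Fintype F] {m : ℕ} (hF : Fintype.card F = 2 ^ (2 * m + 1))
include hF

theorem sz_case (hm : 1 ≤ m) {E : Subgroup (Cfsg.Sz F m)} (hE : Nat.card ↥E = Fintype.card F)
    (hel : ∀ x ∈ E, x ^ 2 = 1) :
    OmegaSelf 2 E ∧ ∀ s : Cfsg.Sz F m, s ≠ 1 → Odd (orderOf s) →
      ∃ x : Cfsg.Sz F m, ∃ t ∈ E, t ≠ 1 ∧ x * t * x⁻¹ * s * (x * t * x⁻¹)⁻¹ = s⁻¹ := by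
  haveI : Fact (Nat.Prime 2) := ⟨Nat.prime_two⟩
  have key : ∀ R : Subgroup (Cfsg.Sz F m), IsPGroup 2 ↥R → ∃ g : Cfsg.Sz F m, ∀ x ∈ R, x ^ 2 = 1 →
      g⁻¹ * x * g ∈ zSub hF := by
    intro R hR
    obtain ⟨P, hP⟩ := hR.exists_le_sylow
    obtain ⟨g, hg⟩ := Small.SuzukiFacts.exists_conj_uSub hF hm P
    refine ⟨g, fun x hx hx2 => ?_⟩
    have h1 := hP hx
    rw [hg, SzBinary.mem_map_conj] at h1
    obtain ⟨a, b, hab⟩ := h1
    have h2 : (g⁻¹ * x * g) * (g⁻¹ * x * g) = 1 := by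
      rw [show g⁻¹ * x * g * (g⁻¹ * x * g) = g⁻¹ * x ^ 2 * g by rw [sq]; group, hx2]; group
    rw [hab, tS_mul hF, add_self hF, add_self hF, zero_add, ← tS_zero (m := m) hF] at h2
    have h3 := (tM_injective (m := m) (congrArg Subtype.val h2 :
      tM m 0 (a ^ 2 ^ (m + 1) * a) = tM m (0 : F) 0)).2
    have ha : a = 0 := by
      rcases mul_eq_zero.1 h3 with h | h
      · exact eq_zero_of_pow_eq_zero h
      · exact h
    exact ⟨b, by rw [hab, ha]⟩
  have hpE : IsPGroup 2 ↥E := IsPGroup.of_card (hE.trans hF)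
  have conjZ : ∀ R : Subgroup (Cfsg.Sz F m), IsPGroup 2 ↥R → E ≤ R → ∃ g : Cfsg.Sz F m,
      (∀ x ∈ R, x ^ 2 = 1 → g⁻¹ * x * g ∈ zSub hF) ∧
        E = (zSub hF).map (MulAut.conj g).toMonoidHom := by
    intro R hR hle
    obtain ⟨g, hg⟩ := key R hR
    refine ⟨g, hg, Subgroup.eq_of_le_of_card_ge (fun x hx => ?_) ?_⟩
    · exact SzBinary.mem_map_conj.2 (hg x (hle hx) (hel x hx))
    · rw [Subgroup.card_map_of_injective (MulAut.conj g).injective, card_zSub hF, hE]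
  refine ⟨fun x hx hN => ?_, fun s hs1 hs => ?_⟩
  · have h1 : IsPGroup 2 ↥(Subgroup.zpowers x) := by
      rintro ⟨_, k, rfl⟩
      exact ⟨1, Subtype.ext (by
        rw [pow_one, SubmonoidClass.coe_pow, ← zpow_natCast, ← zpow_mul, mul_comm, zpow_mul, zpow_natCast,
          hx, one_zpow]; rfl)⟩
    obtain ⟨g, hg, hEg⟩ := conjZ _ (h1.to_sup_of_normal_right' hpE (Subgroup.zpowers_le.2 hN)) le_sup_right
    rw [hEg, SzBinary.mem_map_conj]
    exact hg x (Subgroup.mem_sup_left (Subgroup.mem_zpowers x)) hx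
  · obtain ⟨w, hw, hws⟩ := SzBinary.exists_inverting hF hm hs1 (by
      rw [← even_iff_two_dvd, Nat.not_even_iff_odd]; exact hs)
    obtain ⟨g, hg⟩ := key (Subgroup.zpowers w)
      (IsPGroup.of_card (n := 1) (by rw [Nat.card_zpowers, hw, pow_one]))
    obtain ⟨g₀, -, hEg⟩ := conjZ E hpE le_rfl
    have hwz := hg w (Subgroup.mem_zpowers w) (by rw [← hw, pow_orderOf_eq_one])
    refine ⟨g * g₀⁻¹, g₀ * (g⁻¹ * w * g) * g₀⁻¹, ?_, fun e => ?_, ?_⟩
    · rw [hEg, SzBinary.mem_map_conj]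
      simpa [mul_assoc] using hwz
    · have h1 : w = 1 := by
        calc w = g * g₀⁻¹ * (g₀ * (g⁻¹ * w * g) * g₀⁻¹) * (g₀ * g⁻¹) := by group
          _ = 1 := by rw [e]; group
      rw [h1, orderOf_one] at hw
      exact absurd hw (by norm_num)
    · rw [show g * g₀⁻¹ * (g₀ * (g⁻¹ * w * g) * g₀⁻¹) * (g * g₀⁻¹)⁻¹ = w by group]
      exact hws

end Suzuki

end Cfsg.Agent.LocalEven.TI
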