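import Cfsg.Agent.Lib.LocalEven.TISetup

/-!
# The case of `SL₂`: elements of order prime to `p` act without fixed points
-/

set_option autoImplicit false

namespace Cfsg.Agent.LocalEven.TI

open Cfsg.Agent.Fusion (cj mem_cj conj_mem_cj)
open Cfsg.Agent.NatSL2

variable {F : Type*} [Field F]

local notation "SL" => Matrix.SpecialLinearGroup (Fin 2) F

/-- A lower transvection. -/
def lowT (b : F) : SL := ⟨!![1, 0; b, 1], by simp [Matrix.det_fin_two]⟩

/-- The monomial matrix `(0 c; -c⁻¹ 0)`. -/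
def monC (c : F) (hc : c ≠ 0) : SL :=
  ⟨!![0, c; -c⁻¹, 0], by simp [Matrix.det_fin_two, hc]⟩

theorem monC_eq (c : F) (hc : c ≠ 0) : u c * lowT (-c⁻¹) * u c = monC c hc := by
  apply Subtype.ext
  simp only [Matrix.SpecialLinearGroup.coe_mul]
  ext i j
  fin_cases i <;> fin_cases j <;>
    simp [u, lowT, monC, Matrix.mul_apply, Fin.sum_univ_two, hc]

theorem monC_conj_u (b : F) :
    monC (1 : F) one_ne_zero * u b * (monC (1 : F) one_ne_zero)⁻¹ = lowT (-b) := by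
  rw [mul_inv_eq_iff_eq_mul]
  apply Subtype.ext
  simp only [Matrix.SpecialLinearGroup.coe_mul]
  ext i j
  fin_cases i <;> fin_cases j <;> simp [u, lowT, monC, Matrix.mul_apply, Fin.sum_univ_two]

/-- The companion form of a non-scalar element inside `SL₂`. -/
theorem exists_form (A : SL) (hA : ¬ ∃ a : F, (A : Matrix (Fin 2) (Fin 2) F) = !![a, 0; 0, a]) :
    ∃ (P : SL) (c t : F) (_ : c ≠ 0),
      ((P⁻¹ * A * P : SL) : Matrix (Fin 2) (Fin 2) F) = !![0, c; -c⁻¹, t] := by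
  have hd := Matrix.det_fin_two (A : Matrix (Fin 2) (Fin 2) F)
  rw [A.2] at hd
  obtain ⟨v, hv⟩ : ∃ v : Fin 2 → F, v 0 * (A.1 1 0 * v 0 + A.1 1 1 * v 1) -
      v 1 * (A.1 0 0 * v 0 + A.1 0 1 * v 1) ≠ 0 := by
    by_contra! hall
    have h0 := hall ![1, 0]
    have h1 := hall ![0, 1]
    have h2 := hall ![1, 1]
    simp at h0 h1 h2
    refine hA ⟨A.1 0 0, ?_⟩
    have h3 : A.1 1 1 = A.1 0 0 := by linear_combination h2 - h0 + h1
    ext i j
    fin_cases i <;> fin_cases j <;> simp [h0, h1, h3]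
  obtain ⟨l, hl⟩ : ∃ l : F, l = (v 0 * (A.1 1 0 * v 0 + A.1 1 1 * v 1) -
      v 1 * (A.1 0 0 * v 0 + A.1 0 1 * v 1))⁻¹ := ⟨_, rfl⟩
  have hl0 : l ≠ 0 := hl ▸ inv_ne_zero hv
  let P : SL := ⟨!![v 0, l * (A.1 0 0 * v 0 + A.1 0 1 * v 1); v 1, l * (A.1 1 0 * v 0 + A.1 1 1 * v 1)], by
    rw [Matrix.det_fin_two]
    simp
    rw [hl]
    have hv' := inv_mul_cancel₀ hv
    linear_combination hv'⟩
  refine ⟨P, -l, A.1 0 0 + A.1 1 1, neg_ne_zero.2 hl0, ?_⟩
  let M : SL := ⟨!![0, -l; -(-l)⁻¹, A.1 0 0 + A.1 1 1], by simp [Matrix.det_fin_two, hl0]⟩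
  have e : A * P = P * M := by
    apply Subtype.ext
    simp only [Matrix.SpecialLinearGroup.coe_mul]
    ext i j
    fin_cases i <;> fin_cases j <;> simp [P, M, Matrix.mul_apply, Fin.sum_univ_two, hl0]
    · field_simp
    · linear_combination (l * v 0) * hd
    · field_simp
    · linear_combination (l * v 1) * hd
  rw [mul_assoc, e, ← mul_assoc, inv_mul_cancel, one_mul]

/-- A non-scalar element of trace `2` in companion form is unipotent. -/
theorem pow_form {c : F} (hc : c ≠ 0) (n : ℕ) :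
    (!![0, c; -c⁻¹, 2] : Matrix (Fin 2) (Fin 2) F) ^ n =
      !![1 - (n : F), (n : F) * c; -((n : F) * c⁻¹), 1 + (n : F)] := by
  induction n with
  | zero =>
    ext i j
    fin_cases i <;> fin_cases j <;> simp
  | succ n ih =>
    rw [pow_succ, ih]
    ext i j
    fin_cases i <;> fin_cases j <;> simp [Matrix.mul_apply, Fin.sum_univ_two] <;> field_simp <;> first | ring1 | exact Or.inl (by ring) | simp

variable [Finite F] {K : Type*} [Group K] [Finite K] {p : ℕ} [hp : Fact p.Prime] [CharP F p]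
  {π : K →* Matrix.SpecialLinearGroup (Fin 2) F} {Y : Subgroup K}

/-- Elements of order prime to `p` fix nothing in the kernel. -/
theorem Full.no_fixed_sl2 (h : Full p π Y) (hE : Y.map π = uni F) {s a : K} (ha : a ∈ π.ker)
    (hcs : s * a = a * s) {r : ℕ} (hr : r.Prime) (hrp : r ≠ p) (hs : orderOf (π s) = r) : a = 1 := by
  classical
  letI : CommGroup ↥π.ker :=
    { (inferInstance : Group ↥π.ker) with
      mul_comm := fun x y => Subtype.ext (h.ker_comm _ x.2 _ y.2) }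
  let κ : K →* MulAut ↥π.ker := MulAut.conjNormal
  have hκ : ∀ (k : K) (x : ↥π.ker), ((κ k x : ↥π.ker) : K) = k * x * k⁻¹ := fun k x =>
    MulAut.conjNormal_apply k x
  have lift : ∀ b : F, ∃ y ∈ Y, π y = u b := fun b => by
    have : u b ∈ Y.map π := hE ▸ ⟨b, rfl⟩
    obtain ⟨y, hy, e⟩ := this
    exact ⟨y, hy, e⟩
  obtain ⟨g, hg⟩ := h.pre.surj (monC (1 : F) one_ne_zero)
  have hgN : g ∉ Subgroup.normalizer (Y : Set K) := by
    intro hN
    have h1 := (h.pre.norm_iff g).1 hN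
    rw [hE] at h1
    obtain ⟨b, hb⟩ := (Subgroup.mem_normalizer_iff.1 h1 (u 1)).1 ⟨1, rfl⟩
    rw [hg, monC_conj_u] at hb
    have := congrArg (fun M : SL => (M : Matrix (Fin 2) (Fin 2) F) 1 0) hb
    simp [u, lowT] at this
  -- the lifts of `u c`, `lowT (-c⁻¹)` and `monC c`
  have core : ∀ (c : F) (hc : c ≠ 0), ∃ y ∈ Y, π y = u c ∧ ∃ ω : K, π ω = monC c hc ∧
      ∀ d e : ↥π.ker, (d : K) ∈ Y → g⁻¹ * (e : K) * g ∈ Y →
        ∃ d' e' : ↥π.ker, (d' : K) ∈ Y ∧ g⁻¹ * (e' : K) * g ∈ Y ∧ κ ω d = e' ∧ κ ω e = d' ∧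
          κ y e = d' * e ∧ κ y d = d ∧ κ ω d' = e⁻¹ ∧ κ ω e' = d⁻¹ := by
    intro c hc
    obtain ⟨y, hy, hye⟩ := lift c
    obtain ⟨y', hy', hye'⟩ := lift c⁻¹
    obtain ⟨z, hz⟩ : ∃ z, z = g * y' * g⁻¹ := ⟨_, rfl⟩
    have hze : π z = lowT (-c⁻¹) := by
      rw [hz, map_mul, map_mul, map_inv, hg, hye', monC_conj_u]
    obtain ⟨ω, hω⟩ : ∃ ω, ω = y * z * y := ⟨_, rfl⟩
    have hωe : π ω = monC c hc := by rw [hω, map_mul, map_mul, hye, hze, monC_eq]
    refine ⟨y, hy, hye, ω, hωe, ?_⟩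
    have hdiag : ∀ k : K, (∃ a b : F, ((π k : SL) : Matrix (Fin 2) (Fin 2) F) = !![a, 0; 0, b]) →
        k ∈ Subgroup.normalizer (Y : Set K) := by
      rintro k ⟨α, β, e⟩
      refine (h.pre.norm_iff k).2 (Fusion.mem_normalizer_of_cj_le ?_)
      rw [hE]
      rintro _ ⟨_, ⟨b, rfl⟩, rfl⟩
      have hdet := (π k).2
      rw [e, Matrix.det_fin_two] at hdet
      simp at hdet
      have hβ : β ≠ 0 := fun hh => by simp [hh] at hdet
      refine ⟨α * b / β, ?_⟩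
      simp only [MulEquiv.toMonoidHom_eq_coe, MonoidHom.coe_coe, MulAut.conj_apply]
      rw [eq_mul_inv_iff_mul_eq]
      apply Subtype.ext
      simp only [Matrix.SpecialLinearGroup.coe_mul, e]
      ext i j
      fin_cases i <;> fin_cases j <;> simp [u, Matrix.mul_apply, Fin.sum_univ_two] <;> field_simp
    have hn1 : g⁻¹ * ω ∈ Subgroup.normalizer (Y : Set K) := hdiag _ ⟨c⁻¹, c, by
      rw [map_mul, map_inv, hg, hωe, Matrix.SpecialLinearGroup.coe_mul, Matrix.SpecialLinearGroup.coe_inv]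
      ext i j
      fin_cases i <;> fin_cases j <;>
        simp [monC, Matrix.mul_apply, Fin.sum_univ_two, Matrix.adjugate_fin_two]⟩
    have hn2 : ω * g ∈ Subgroup.normalizer (Y : Set K) := hdiag _ ⟨-c, -c⁻¹, by
      rw [map_mul, hg, hωe, Matrix.SpecialLinearGroup.coe_mul]
      ext i j
      fin_cases i <;> fin_cases j <;>
        simp [monC, Matrix.mul_apply, Fin.sum_univ_two]⟩
    intro d e hd he
    -- the commutator maps
    let φ : ↥π.ker → ↥π.ker := fun x => κ y x * x⁻¹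
    let ψ : ↥π.ker → ↥π.ker := fun x => κ z x * x⁻¹
    have hφ : ∀ x, (φ x : K) ∈ Y := fun x => by
      have h1 := h.pre.commutator_mem 1 hy x.2
      rw [Fusion.cj_one, one_mul, inv_one, mul_one] at h1
      show ((κ y x : ↥π.ker) : K) * (x : K)⁻¹ ∈ Y
      rw [hκ]; exact h1.1
    have hψ : ∀ x, g⁻¹ * (ψ x : K) * g ∈ Y := fun x => by
      have h1 := mem_cj.1 (h.pre.commutator_mem g hy' x.2)
      show g⁻¹ * (((κ z x : ↥π.ker) : K) * (x : K)⁻¹) * g ∈ Y
      rw [hκ, hz]; exact h1.1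
    have hyd : ∀ x : ↥π.ker, (x : K) ∈ Y → κ y x = x := fun x hx => Subtype.ext (by
      rw [hκ, h.pre.comm y hy x hx, mul_inv_cancel_right])
    have hzd : ∀ x : ↥π.ker, g⁻¹ * (x : K) * g ∈ Y → κ z x = x := fun x hx => Subtype.ext (by
      rw [hκ, hz]
      calc g * y' * g⁻¹ * (x : K) * (g * y' * g⁻¹)⁻¹
          = g * (y' * (g⁻¹ * x * g) * y'⁻¹) * g⁻¹ := by group
        _ = g * (g⁻¹ * x * g) * g⁻¹ := by rw [h.pre.comm y' hy' _ hx, mul_inv_cancel_right]
        _ = x := by group)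
    have hy_ : ∀ x, κ y x = φ x * x := fun x => by simp [φ]
    have hz_ : ∀ x, κ z x = ψ x * x := fun x => by simp [ψ]
    have hω_ : ∀ x, κ ω x = κ y (κ z (κ y x)) := fun x => by
      rw [hω, map_mul, map_mul]; rfl
    have sep : ∀ d₀ e₀ : ↥π.ker, (d₀ : K) ∈ Y → g⁻¹ * (e₀ : K) * g ∈ Y →
        g⁻¹ * ((d₀ * e₀ : ↥π.ker) : K) * g ∈ Y → d₀ = 1 := by
      intro d₀ e₀ h1 h2 h3
      refine Subtype.ext (h.inter g hgN _ h1 d₀.2 ?_)
      have := mul_mem h3 (inv_mem h2)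
      rw [Subgroup.coe_mul] at this
      convert this using 1
      group
    have sep' : ∀ d₀ e₀ : ↥π.ker, (d₀ : K) ∈ Y → g⁻¹ * (e₀ : K) * g ∈ Y →
        ((d₀ * e₀ : ↥π.ker) : K) ∈ Y → e₀ = 1 := by
      intro d₀ e₀ h1 h2 h3
      have h4 : (e₀ : K) ∈ Y := by
        have := mul_mem (inv_mem h1) h3
        rwa [Subgroup.coe_mul, inv_mul_cancel_left] at this
      exact Subtype.ext (h.inter g hgN _ h4 e₀.2 h2)
    have hdown : ∀ x : ↥π.ker, (x : K) ∈ Y → φ (ψ x) * x = 1 ∧ κ ω x = ψ x := by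
      intro x hx
      have e1 : κ ω x = φ (ψ x) * x * ψ x := by
        rw [hω_, hyd x hx, hz_, map_mul, hy_, hyd x hx, mul_right_comm]
      have h1 : g⁻¹ * ((κ ω x : ↥π.ker) : K) * g ∈ Y := by
        rw [hκ]
        have := (Subgroup.mem_normalizer_iff.1 hn1 x).1 hx
        convert this using 1
        group
      rw [e1] at h1
      have h2 := sep _ _ (mul_mem (hφ _) hx) (hψ x) h1
      exact ⟨h2, by rw [e1, h2, one_mul]⟩
    have hup : ∀ x : ↥π.ker, g⁻¹ * (x : K) * g ∈ Y → ψ (φ x) * x = 1 ∧ κ ω x = φ x := by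
      intro x hx
      have e1 : κ ω x = φ x * (φ (ψ (φ x)) * φ x) * (ψ (φ x) * x) := by
        rw [hω_, hy_ x, map_mul, hz_, hzd x hx, map_mul, map_mul, hy_ (ψ (φ x)), hyd _ (hφ x), hy_ x]
        ac_rfl
      have h3 : g⁻¹ * ((ψ (φ x) * x : ↥π.ker) : K) * g ∈ Y := by
        have := mul_mem (hψ (φ x)) hx
        rw [Subgroup.coe_mul]
        convert this using 1
        group
      have h1 : ((κ ω x : ↥π.ker) : K) ∈ Y := by
        rw [hκ]
        have := (Subgroup.mem_normalizer_iff.1 hn2 _).1 hx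
        convert this using 1
        group
      rw [e1] at h1
      have h2 := sep' _ _ (mul_mem (hφ x) (mul_mem (hφ _) (hφ x))) h3 h1
      refine ⟨h2, ?_⟩
      rw [e1, h2, mul_one, (hdown (φ x) (hφ x)).1, mul_one]
    obtain ⟨hd1, hd2⟩ := hdown d hd
    obtain ⟨he1, he2⟩ := hup e he
    refine ⟨φ e, ψ d, hφ e, hψ d, hd2, he2, hy_ e, hyd d hd, ?_, ?_⟩
    · rw [(hdown _ (hφ e)).2]; exact eq_inv_of_mul_eq_one_left he1
    · rw [(hup _ (hψ d)).2]; exact eq_inv_of_mul_eq_one_left hd1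
  by_cases hsc : ∃ α : F, ((π s : SL) : Matrix (Fin 2) (Fin 2) F) = !![α, 0; 0, α]
  · obtain ⟨α, hα⟩ := hsc
    have hα1 : α * α = 1 := by
      have := (π s).2
      rw [hα, Matrix.det_fin_two] at this
      simpa using this
    have hα2 : α = -1 := by
      rcases mul_self_eq_one_iff.1 hα1 with rfl | rfl
      · exfalso
        refine hr.ne_one ?_
        rw [← hs, orderOf_eq_one_iff]
        apply Subtype.ext
        rw [hα]
        ext i j
        fin_cases i <;> fin_cases j <;> simp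
      · rfl
    have hp2 : p ≠ 2 := by
      rintro rfl
      refine hr.ne_one ?_
      rw [← hs, orderOf_eq_one_iff]
      apply Subtype.ext
      rw [hα, hα2, CharTwo.neg_eq]
      ext i j
      fin_cases i <;> fin_cases j <;> simp
    obtain ⟨y, hy, hye, ω, hω, hmaps⟩ := core 1 one_ne_zero
    have hk : π (ω * ω) = π s := by
      apply Subtype.ext
      rw [map_mul, hω, Matrix.SpecialLinearGroup.coe_mul, hα, hα2]
      ext i j
      fin_cases i <;> fin_cases j <;> simp [monC, Matrix.mul_apply, Fin.sum_univ_two]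
    obtain ⟨k, hk', rfl⟩ : ∃ k ∈ π.ker, s = ω * ω * k :=
      ⟨(ω * ω)⁻¹ * s, by show π _ = 1; rw [map_mul, map_inv, hk, inv_mul_cancel], by group⟩
    have hfix : κ (ω * ω) ⟨a, ha⟩ = ⟨a, ha⟩ := Subtype.ext (by
      rw [hκ]
      show ω * ω * a * (ω * ω)⁻¹ = a
      rw [mul_inv_eq_iff_eq_mul]
      refine mul_right_cancel (b := k) ?_
      calc ω * ω * a * k = ω * ω * (a * k) := mul_assoc _ _ _
        _ = ω * ω * (k * a) := by rw [h.ker_comm a ha k hk']
        _ = a * (ω * ω * k) := by rw [← mul_assoc, hcs]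
        _ = a * (ω * ω) * k := (mul_assoc _ _ _).symm)
    obtain ⟨d, hd, e, he, hde⟩ := h.decomp hgN ha
    have heA : e ∈ π.ker := (Fusion.cj_mono inf_le_right g).trans_eq (Fusion.cj_of_normal _ g) he
    obtain ⟨d', e', -, -, m1, m2, -, -, m3, m4⟩ := hmaps ⟨d, hd.2⟩ ⟨e, heA⟩ hd.1 (mem_cj.1 he).1
    have e1 : (⟨a, ha⟩ : ↥π.ker) = ⟨d, hd.2⟩ * ⟨e, heA⟩ := Subtype.ext hde.symm
    rw [e1, map_mul κ, MulAut.mul_apply, map_mul, m1, m2, map_mul, m4, m3, ← mul_inv, ← e1] at hfix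
    have h2 : a ^ 2 = 1 := by
      have h0 : a⁻¹ = a := congrArg Subtype.val hfix
      rw [sq]
      nth_rewrite 1 [← h0]
      exact inv_mul_cancel a
    have h3 := (pow_gcd_eq_one (a := a)).2 ⟨h.ker_pow ha, h2⟩
    rwa [(Nat.coprime_primes hp.out Nat.prime_two).2 hp2, pow_one] at h3
  · obtain ⟨P, c, t, hc, hP⟩ := exists_form (π s) hsc
    obtain ⟨m, hm⟩ := h.pre.surj P⁻¹
    obtain ⟨y, hy, hye, ω, hω, hmaps⟩ := core c hc
    obtain ⟨yT, hyT, hyTe⟩ := lift (-(c * t))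
    have hk : π (ω * yT) = π (m * s * m⁻¹) := by
      apply Subtype.ext
      rw [map_mul, map_mul, map_mul, map_inv, hω, hyTe, hm, inv_inv, hP, Matrix.SpecialLinearGroup.coe_mul]
      ext i j
      fin_cases i <;> fin_cases j <;> simp [monC, u, Matrix.mul_apply, Fin.sum_univ_two, hc]
    obtain ⟨k, hk', hsk⟩ : ∃ k ∈ π.ker, m * s * m⁻¹ = ω * yT * k :=
      ⟨(ω * yT)⁻¹ * (m * s * m⁻¹), by show π _ = 1; rw [map_mul, map_inv, hk, inv_mul_cancel], by group⟩
    have hb : m * a * m⁻¹ ∈ π.ker := (inferInstance : π.ker.Normal).conj_mem a ha m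
    suffices hb1 : m * a * m⁻¹ = 1 by
      rwa [mul_inv_eq_one, mul_eq_left] at hb1
    have hfix : κ (ω * yT) ⟨_, hb⟩ = ⟨_, hb⟩ := Subtype.ext (by
      rw [hκ]
      show ω * yT * (m * a * m⁻¹) * (ω * yT)⁻¹ = m * a * m⁻¹
      rw [mul_inv_eq_iff_eq_mul]
      refine mul_right_cancel (b := k) ?_
      rw [mul_assoc _ (m * a * m⁻¹) k, ← h.ker_comm k hk' _ hb, ← mul_assoc, ← hsk, mul_assoc (m * a * m⁻¹),
        ← hsk, conj_mul, conj_mul, hcs])
    obtain ⟨d, hd, e, he, hde⟩ := h.decomp hgN hb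
    have heA : e ∈ π.ker := (Fusion.cj_mono inf_le_right g).trans_eq (Fusion.cj_of_normal _ g) he
    obtain ⟨d', e', hd', he', m1, m2, m5, m6, m3, -⟩ := hmaps ⟨d, hd.2⟩ ⟨e, heA⟩ hd.1 (mem_cj.1 he).1
    have e1 : (⟨_, hb⟩ : ↥π.ker) = ⟨d, hd.2⟩ * ⟨e, heA⟩ := Subtype.ext hde.symm
    -- the commutator with the lift of the transvection
    obtain ⟨χ, hχ⟩ : ∃ χ : ↥π.ker, χ = κ yT ⟨e, heA⟩ * (⟨e, heA⟩ : ↥π.ker)⁻¹ := ⟨_, rfl⟩
    have hχY : (χ : K) ∈ Y := by
      have h1 := h.pre.commutator_mem 1 hyT heA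
      rw [Fusion.cj_one, one_mul, inv_one, mul_one] at h1
      rw [hχ, Subgroup.coe_mul, Subgroup.coe_inv, hκ]
      exact h1.1
    have hfixY : ∀ z ∈ Y, ∀ x : ↥π.ker, (x : K) ∈ Y → κ z x = x := fun z hz x hx => Subtype.ext (by
      rw [hκ, h.pre.comm z hz x hx, mul_inv_cancel_right])
    obtain ⟨_, eχ, -, heχ, n1, -, -, -, -, n4⟩ := hmaps χ 1 hχY (by simp)
    have hT : κ yT ⟨e, heA⟩ = χ * ⟨e, heA⟩ := by rw [hχ, inv_mul_cancel_right]
    rw [e1, map_mul κ, MulAut.mul_apply, map_mul, hT, hfixY yT hyT _ hd.1, map_mul, map_mul, n1, m1, m2]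
      at hfix
    -- components in `Y` and in its conjugate are unique
    have sep : ∀ x₁ y₁ x₂ y₂ : ↥π.ker, (x₁ : K) ∈ Y → g⁻¹ * (y₁ : K) * g ∈ Y → (x₂ : K) ∈ Y →
        g⁻¹ * (y₂ : K) * g ∈ Y → x₁ * y₁ = x₂ * y₂ → x₁ = x₂ ∧ y₁ = y₂ := by
      intro x₁ y₁ x₂ y₂ a1 b1 a2 b2 E
      have e2 : x₂⁻¹ * x₁ = y₂ * y₁⁻¹ := by
        rw [eq_mul_inv_iff_mul_eq, mul_assoc, E, inv_mul_cancel_left]
      have h3 : g⁻¹ * ((x₂⁻¹ * x₁ : ↥π.ker) : K) * g ∈ Y := by
        rw [e2, Subgroup.coe_mul, Subgroup.coe_inv]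
        have := mul_mem b2 (inv_mem b1)
        convert this using 1
        group
      have h4 : x₂⁻¹ * x₁ = 1 :=
        Subtype.ext (h.inter g hgN _ (mul_mem (inv_mem a2) a1) (x₂⁻¹ * x₁).2 h3)
      rw [inv_mul_eq_one] at h4
      subst h4
      exact ⟨rfl, mul_left_cancel E⟩
    have heg : g⁻¹ * e * g ∈ Y := (mem_cj.1 he).1
    obtain ⟨c1, c2⟩ := sep d' (e' * eχ) ⟨d, hd.2⟩ ⟨e, heA⟩ hd'
      (by
        have := mul_mem he' heχ
        rw [Subgroup.coe_mul]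
        convert this using 1
        group) hd.1 heg (by rw [← hfix]; ac_rfl)
    subst c1
    have he'' : e' = (⟨e, heA⟩ : ↥π.ker)⁻¹ := m1.symm.trans m3
    have heχ2 : eχ = ⟨e, heA⟩ * ⟨e, heA⟩ := by
      rw [he'', inv_mul_eq_iff_eq_mul] at c2
      exact c2
    have hχd : χ * (⟨d, hd.2⟩ * ⟨d, hd.2⟩) = 1 := by
      have h1 := n4
      rw [heχ2, map_mul, m2] at h1
      rw [h1, mul_inv_cancel]
    obtain ⟨q, hq⟩ : ∃ q, q = y * y * yT := ⟨_, rfl⟩
    have hqe : κ q ⟨e, heA⟩ = ⟨e, heA⟩ := by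
      rw [hq, map_mul, map_mul, MulAut.mul_apply, MulAut.mul_apply, hT, map_mul, hfixY y hy _ hχY, m5,
        map_mul, map_mul, hfixY y hy _ hχY, m6, m5]
      calc χ * (⟨d, hd.2⟩ * (⟨d, hd.2⟩ * ⟨e, heA⟩))
          = χ * (⟨d, hd.2⟩ * ⟨d, hd.2⟩) * ⟨e, heA⟩ := by ac_rfl
        _ = _ := by rw [hχd, one_mul]
    have hqπ : π q = u (c + c + -(c * t)) := by rw [hq, map_mul, map_mul, hye, hyTe, u_mul, u_mul]
    by_cases hqA : q ∈ π.ker
    · exfalso
      have h0 : c + c + -(c * t) = 0 := by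
        have h1 : π q = 1 := hqA
        rw [hqπ] at h1
        simpa [u] using congrArg (fun M : SL => (M : Matrix (Fin 2) (Fin 2) F) 0 1) h1
      have ht : t = 2 := mul_left_cancel₀ hc (by linear_combination -h0)
      have h1 : (P⁻¹ * π s * P) ^ p = 1 := by
        apply Subtype.ext
        rw [Matrix.SpecialLinearGroup.coe_pow, hP, ht, pow_form hc p]
        ext i j
        fin_cases i <;> fin_cases j <;> simp
      have h2 : π s ^ p = 1 := by
        rw [show P⁻¹ * π s * P = MulAut.conj P⁻¹ (π s) by simp, ← map_pow] at h1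
        exact (MulEquiv.map_eq_one_iff _).1 h1
      have h3 := orderOf_dvd_of_pow_eq_one h2
      rw [hs] at h3
      exact hrp ((Nat.prime_dvd_prime_iff_eq hr hp.out).1 h3)
    · have hqY : q ∈ Y := hq ▸ mul_mem (mul_mem hy hy) hyT
      have hcq : q * e = e * q := by
        have h1 := congrArg Subtype.val hqe
        rw [hκ] at h1
        exact mul_inv_eq_iff_eq_mul.1 h1
      have heY := h.fix hqY hqA heA hcq
      have hee : e = 1 := h.inter g hgN e heY heA heg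
      have hd1 : (⟨d, hd.2⟩ : ↥π.ker) = 1 := by
        rw [← m2]
        rw [show (⟨e, heA⟩ : ↥π.ker) = 1 from Subtype.ext hee, map_one]
      rw [← hde, hee, mul_one]
      exact congrArg Subtype.val hd1

end Cfsg.Agent.LocalEven.TI
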