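import Cfsg.Agent.Lib.Fusion.Basic
import Cfsg.Agent.Lib.LocalEven.NaturalSL2

/-!
# An elementary abelian subgroup generating a group with two of its conjugates

`π : K →* Q` is surjective, `Y` is elementary abelian, the kernel `A` of `π` normalises `Y`, every
proper overgroup of `Y` normalises `Y`. Elements of order prime to `p` are shown to act without
fixed points on `A` when `Y ⊓ A` has trivial intersection with its conjugates.
-/

set_option autoImplicit false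

namespace Cfsg.Agent.LocalEven.TI

open Cfsg.Agent.Fusion (cj mem_cj conj_mem_cj)

variable {K : Type*} [Group K] {Q : Type*} [Group Q] {p : ℕ} {π : K →* Q} {Y : Subgroup K}

/-- The part of the set-up not using trivial intersections. -/
structure Pre (p : ℕ) (π : K →* Q) (Y : Subgroup K) : Prop where
  surj : Function.Surjective π
  comm : ∀ a ∈ Y, ∀ b ∈ Y, a * b = b * a
  elem : ∀ y ∈ Y, y ^ p = 1
  kerN : π.ker ≤ Subgroup.normalizer (Y : Set K)
  max : ∀ X : Subgroup K, Y ≤ X → X ≠ ⊤ → X ≤ Subgroup.normalizer (Y : Set K)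
  nn : Subgroup.normalizer ((Y.map π : Subgroup Q) : Set Q) ≠ ⊤
  prop : ∀ x : Q, x ^ p = 1 → x ∈ Subgroup.normalizer ((Y.map π : Subgroup Q) : Set Q) → x ∈ Y.map π
  centr : ∀ x : Q, (∀ q, x * q = q * x) → x ^ p = 1 → x = 1

/-- The full set-up. -/
structure Full (p : ℕ) (π : K →* Q) (Y : Subgroup K) : Prop where
  pre : Pre p π Y
  clos : π.ker ≤ Subgroup.normalClosure ((Y ⊓ π.ker : Subgroup K) : Set K)
  inter : ∀ g : K, g ∉ Subgroup.normalizer (Y : Set K) → ∀ x ∈ Y, x ∈ π.ker → g⁻¹ * x * g ∈ Y → x = 1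

variable [Finite K]

theorem Pre.norm_iff (h : Pre p π Y) (g : K) :
    g ∈ Subgroup.normalizer (Y : Set K) ↔
      π g ∈ Subgroup.normalizer ((Y.map π : Subgroup Q) : Set Q) := by
  constructor
  · exact fun hg => Subgroup.le_normalizer_map π ⟨g, hg, rfl⟩
  · intro hg
    refine h.max ((Subgroup.normalizer ((Y.map π : Subgroup Q) : Set Q)).comap π) (fun y hy => ?_) ?_ hg
    · exact Subgroup.le_normalizer ⟨y, hy, rfl⟩
    · intro e
      refine h.nn (eq_top_iff.2 fun q _ => ?_)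
      obtain ⟨k, rfl⟩ := h.surj q
      exact (e ▸ Subgroup.mem_top k : k ∈ (Subgroup.normalizer ((Y.map π : Subgroup Q) : Set Q)).comap π)

theorem Pre.exists_notMem (h : Pre p π Y) : ∃ g : K, g ∉ Subgroup.normalizer (Y : Set K) := by
  by_contra hno
  push Not at hno
  refine h.nn (eq_top_iff.2 fun q _ => ?_)
  obtain ⟨k, rfl⟩ := h.surj q
  exact (h.norm_iff k).1 (hno k)

theorem Pre.gen (h : Pre p π Y) {g : K} (hg : g ∉ Subgroup.normalizer (Y : Set K)) :
    Y ⊔ cj Y g = ⊤ := by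
  by_contra hne
  have hle := h.max _ le_sup_left hne
  haveI : Finite Q := Finite.of_surjective π h.surj
  refine hg ((h.norm_iff g).2 (Fusion.mem_normalizer_of_cj_le ?_))
  rintro x hx
  rw [mem_cj] at hx
  obtain ⟨y, hy, e⟩ := hx
  have hx : x = π (g * y * g⁻¹) := by rw [map_mul, map_mul, map_inv, e]; group
  subst hx
  refine h.prop _ ?_ ((h.norm_iff _).1 (hle (Subgroup.mem_sup_right (conj_mem_cj hy))))
  rw [← map_pow, conj_pow, h.elem y hy, mul_one, mul_inv_cancel, map_one]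

theorem Pre.commutes (h : Pre p π Y) {g : K} (hg : g ∉ Subgroup.normalizer (Y : Set K)) {x : K}
    (h1 : ∀ y ∈ Y, x * y = y * x) (h2 : ∀ y ∈ Y, x * (g * y * g⁻¹) = (g * y * g⁻¹) * x) :
    ∀ k : K, x * k = k * x := by
  intro k
  have hle : Y ⊔ cj Y g ≤ Subgroup.centralizer ({x} : Set K) := by
    refine sup_le (fun y hy => Subgroup.mem_centralizer_singleton_iff.2 (h1 y hy).symm) fun y hy => ?_
    obtain ⟨z, hz, rfl⟩ := hy
    exact Subgroup.mem_centralizer_singleton_iff.2 (h2 z hz).symm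
  rw [h.gen hg] at hle
  exact (Subgroup.mem_centralizer_singleton_iff.1 (hle (Subgroup.mem_top k))).symm

/-- The image of `Y` meets the images of its conjugates trivially. -/
theorem Pre.tinter (h : Pre p π Y) {g : K} (hg : g ∉ Subgroup.normalizer (Y : Set K)) {t : K}
    (ht : t ∈ Y) {y : K} (hy : y ∈ Y) (e : π t = π (g * y * g⁻¹)) : π t = 1 := by
  refine h.centr _ (fun q => ?_) (by rw [← map_pow, h.elem t ht, map_one])
  obtain ⟨k, rfl⟩ := h.surj q
  have hle : Y ⊔ cj Y g ≤ (Subgroup.centralizer ({π t} : Set Q)).comap π := by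
    refine sup_le (fun z hz => ?_) ?_
    · refine Subgroup.mem_centralizer_singleton_iff.2 ?_
      rw [← map_mul, ← map_mul, h.comm t ht z hz]
    · rintro _ ⟨z, hz, rfl⟩
      refine Subgroup.mem_centralizer_singleton_iff.2 ?_
      rw [e, ← map_mul, ← map_mul]
      simp only [MulEquiv.toMonoidHom_eq_coe, MonoidHom.coe_coe, MulAut.conj_apply]
      rw [conj_mul, conj_mul, h.comm y hy z hz]
  rw [h.gen hg] at hle
  exact (Subgroup.mem_centralizer_singleton_iff.1 (hle (Subgroup.mem_top k))).symm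

theorem Pre.commutator_mem (h : Pre p π Y) (g : K) {y a : K} (hy : y ∈ Y) (ha : a ∈ π.ker) :
    (g * y * g⁻¹) * a * (g * y * g⁻¹)⁻¹ * a⁻¹ ∈ cj (Y ⊓ π.ker) g := by
  rw [mem_cj]
  have ha' : g⁻¹ * a * g ∈ π.ker := by
    simpa using (inferInstance : π.ker.Normal).conj_mem a ha g⁻¹
  refine ⟨?_, ?_⟩
  · have h1 := (Subgroup.mem_normalizer_iff.1 (h.kerN ha') y⁻¹).1 (inv_mem hy)
    have e : g⁻¹ * ((g * y * g⁻¹) * a * (g * y * g⁻¹)⁻¹ * a⁻¹) * g =
        y * ((g⁻¹ * a * g) * y⁻¹ * (g⁻¹ * a * g)⁻¹) := by group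
    rw [SetLike.mem_coe, e]
    exact mul_mem hy h1
  · show π _ = 1
    rw [MonoidHom.mem_ker] at ha
    simp [ha]

/-- `Y ⊓ A` is normalised by `A`. -/
theorem Pre.ker_le_normalizer_inf (h : Pre p π Y) :
    π.ker ≤ Subgroup.normalizer ((Y ⊓ π.ker : Subgroup K) : Set K) := fun a ha => by
  refine Fusion.mem_normalizer_of_cj_le ?_
  rintro _ ⟨x, ⟨hxY, hxA⟩, rfl⟩
  exact ⟨(Subgroup.mem_normalizer_iff.1 (h.kerN ha) x).1 hxY, (inferInstance : π.ker.Normal).conj_mem x hxA a⟩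

theorem Pre.ker_le_normalizer_cj (h : Pre p π Y) (g : K) :
    π.ker ≤ Subgroup.normalizer ((cj (Y ⊓ π.ker) g : Subgroup K) : Set K) := fun a ha => by
  refine Fusion.mem_normalizer_of_cj_le ?_
  rw [Fusion.cj_cj, show a * g = g * (g⁻¹ * a * g) by group, ← Fusion.cj_cj]
  refine Fusion.cj_mono (le_of_eq (Fusion.cj_eq_self (h.ker_le_normalizer_inf ?_))) g
  simpa using (inferInstance : π.ker.Normal).conj_mem a ha g⁻¹

variable (h : Full p π Y)
include h

theorem Full.disjoint {g : K} (hg : g ∉ Subgroup.normalizer (Y : Set K)) {x : K}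
    (h1 : x ∈ Y ⊓ π.ker) (h2 : x ∈ cj (Y ⊓ π.ker) g) : x = 1 :=
  h.inter g hg x h1.1 h1.2 (mem_cj.1 h2).1

theorem Full.decomp {g : K} (hg : g ∉ Subgroup.normalizer (Y : Set K)) {a : K} (ha : a ∈ π.ker) :
    ∃ d ∈ Y ⊓ π.ker, ∃ e ∈ cj (Y ⊓ π.ker) g, d * e = a := by
  obtain ⟨D, hD⟩ : ∃ D, D = Y ⊓ π.ker := ⟨_, rfl⟩
  obtain ⟨E, hE⟩ : ∃ E, E = cj (Y ⊓ π.ker) g := ⟨_, rfl⟩
  have hDA : D ≤ π.ker := hD ▸ inf_le_right
  have hEA : E ≤ π.ker := by
    rw [hE]
    exact (Fusion.cj_mono inf_le_right g).trans_eq (Fusion.cj_of_normal _ g)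
  have hgen : ∀ y ∈ Y, ∀ x ∈ D ⊔ E, y * x * y⁻¹ ∈ D ⊔ E := fun y hy x hx => by
    have h1 := h.pre.commutator_mem 1 hy ((sup_le hDA hEA) hx)
    rw [one_mul, inv_one, mul_one, Fusion.cj_one, ← hD] at h1
    have := mul_mem (Subgroup.mem_sup_left h1 : _ ∈ D ⊔ E) hx
    simpa [mul_assoc] using this
  have hgen' : ∀ y ∈ cj Y g, ∀ x ∈ D ⊔ E, y * x * y⁻¹ ∈ D ⊔ E := by
    rintro _ ⟨y, hy, rfl⟩ x hx
    have h1 := h.pre.commutator_mem g hy ((sup_le hDA hEA) hx)
    rw [← hE] at h1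
    have := mul_mem (Subgroup.mem_sup_right h1 : _ ∈ D ⊔ E) hx
    simpa [mul_assoc] using this
  have hn : (D ⊔ E).Normal := by
    rw [← Subgroup.normalizer_eq_top_iff, eq_top_iff, ← h.pre.gen hg]
    refine sup_le (fun y hy => Fusion.mem_normalizer_of_cj_le ?_) fun y hy => Fusion.mem_normalizer_of_cj_le ?_
    · rintro _ ⟨x, hx, rfl⟩
      exact hgen y hy x hx
    · rintro _ ⟨x, hx, rfl⟩
      exact hgen' y hy x hx
  have h1 : a ∈ D ⊔ E := by
    haveI := hn
    have hsub : Subgroup.normalClosure ((Y ⊓ π.ker : Subgroup K) : Set K) ≤ D ⊔ E :=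
      Subgroup.normalClosure_le_normal (SetLike.coe_subset_coe.2 (by rw [← hD]; exact le_sup_left))
    exact hsub (h.clos ha)
  have h2 : D ≤ Subgroup.normalizer (E : Set K) := hE ▸ (hDA.trans (h.pre.ker_le_normalizer_cj g))
  rw [← SetLike.mem_coe, Subgroup.coe_mul_of_left_le_normalizer_right D E h2, Set.mem_mul] at h1
  obtain ⟨d, hd, e, he, hde⟩ := h1
  exact ⟨d, hD ▸ hd, e, hE ▸ he, hde⟩

theorem Full.ker_comm : ∀ a ∈ π.ker, ∀ b ∈ π.ker, a * b = b * a := by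
  obtain ⟨g, hg⟩ := h.pre.exists_notMem
  have hDE : ∀ d ∈ Y ⊓ π.ker, ∀ e ∈ cj (Y ⊓ π.ker) g, d * e = e * d := by
    intro d hd e he
    have heA : e ∈ π.ker := (Fusion.cj_mono inf_le_right g).trans_eq (Fusion.cj_of_normal _ g) he
    have h1 : d * e * d⁻¹ * e⁻¹ ∈ Y ⊓ π.ker := by
      have := mul_mem hd ((Subgroup.mem_normalizer_iff.1 (h.pre.ker_le_normalizer_inf heA) d⁻¹).1 (inv_mem hd))
      simpa [mul_assoc] using this
    have h2 : d * e * d⁻¹ * e⁻¹ ∈ cj (Y ⊓ π.ker) g :=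
      mul_mem ((Subgroup.mem_normalizer_iff.1 (h.pre.ker_le_normalizer_cj g hd.2) e).1 he) (inv_mem he)
    have h3 := h.disjoint hg h1 h2
    rw [mul_inv_eq_one, mul_inv_eq_iff_eq_mul] at h3
    exact h3
  intro a ha b hb
  obtain ⟨d, hd, e, he, rfl⟩ := h.decomp hg ha
  obtain ⟨d', hd', e', he', rfl⟩ := h.decomp hg hb
  have c1 : Commute d d' := h.pre.comm d hd.1 d' hd'.1
  have c2 : Commute d e' := hDE d hd e' he'
  have c3 : Commute e d' := (hDE d' hd' e he).symm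
  have c4 : Commute e e' := by
    obtain ⟨u, hu, rfl⟩ := he
    obtain ⟨v, hv, rfl⟩ := he'
    show _ * _ = _ * _
    rw [← map_mul, ← map_mul, h.pre.comm u hu.1 v hv.1]
  exact ((c1.mul_right c2).mul_left (c3.mul_right c4)).eq

theorem Full.ker_pow {a : K} (ha : a ∈ π.ker) : a ^ p = 1 := by
  obtain ⟨g, hg⟩ := h.pre.exists_notMem
  obtain ⟨d, hd, e, he, rfl⟩ := h.decomp hg ha
  have heA : e ∈ π.ker := (Fusion.cj_mono inf_le_right g).trans_eq (Fusion.cj_of_normal _ g) he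
  obtain ⟨u, hu, rfl⟩ := he
  rw [(show Commute d _ from h.ker_comm d hd.2 _ heA).mul_pow, h.pre.elem d hd.1, one_mul, ← map_pow,
    h.pre.elem u hu.1, map_one]

/-- An element of `Y` outside `A` fixes only `Y ⊓ A` in `A`. -/
theorem Full.fix {t : K} (ht : t ∈ Y) (htA : t ∉ π.ker) {a : K} (ha : a ∈ π.ker) (hc : t * a = a * t) :
    a ∈ Y := by
  obtain ⟨g, hg⟩ := h.pre.exists_notMem
  obtain ⟨d, hd, e, he, rfl⟩ := h.decomp hg ha
  have hce : t * e = e * t := by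
    have h1 : t * d = d * t := h.pre.comm t ht d hd.1
    rw [← mul_assoc, h1, mul_assoc, mul_assoc] at hc
    exact mul_left_cancel hc
  suffices he1 : e = 1 by rw [he1, mul_one]; exact hd.1
  obtain ⟨u, hu, rfl⟩ := he
  simp only [MulEquiv.toMonoidHom_eq_coe, MonoidHom.coe_coe, MulAut.conj_apply] at hce ⊢
  by_cases hX : cj Y g ⊔ Subgroup.zpowers t = ⊤
  · have hle : cj Y g ⊔ Subgroup.zpowers t ≤ Subgroup.centralizer ({g * u * g⁻¹} : Set K) := by
      refine sup_le ?_ (Subgroup.zpowers_le.2 (Subgroup.mem_centralizer_singleton_iff.2 hce))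
      rintro _ ⟨v, hv, rfl⟩
      refine Subgroup.mem_centralizer_singleton_iff.2 ?_
      simp only [MulEquiv.toMonoidHom_eq_coe, MonoidHom.coe_coe, MulAut.conj_apply]
      rw [conj_mul, conj_mul, h.pre.comm v hv u hu.1]
    rw [hX] at hle
    have hz := Subgroup.mem_centralizer_singleton_iff.1 (hle (Subgroup.mem_top g))
    have e1 : g * u * g⁻¹ = u := by
      have : g * (g * u * g⁻¹) = g * u := by rw [hz]; group
      exact mul_left_cancel this
    exact h.disjoint hg (e1.symm ▸ hu) (conj_mem_cj hu)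
  · exfalso
    have hle := h.pre.max (cj (cj Y g ⊔ Subgroup.zpowers t) g⁻¹) ?_ ?_
    · have h1 : g⁻¹ * t * g ∈ Subgroup.normalizer (Y : Set K) := hle (by
        have := conj_mem_cj (g := g⁻¹) (Subgroup.mem_sup_right (S := cj Y g) (Subgroup.mem_zpowers t))
        simpa using this)
      obtain ⟨y, hy, hy'⟩ := h.pre.prop (π (g⁻¹ * t * g)) (by
        rw [← map_pow, show g⁻¹ * t * g = g⁻¹ * t * g⁻¹⁻¹ by rw [inv_inv], conj_pow, h.pre.elem t ht, mul_one,
          mul_inv_cancel, map_one]) ((h.pre.norm_iff _).1 h1)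
      refine htA (h.pre.tinter hg ht hy ?_)
      rw [map_mul, map_mul, hy', map_inv, ← map_mul, ← map_inv, ← map_mul]
      congr 1
      group
    · intro y hy
      rw [mem_cj, inv_inv]
      exact Subgroup.mem_sup_left (conj_mem_cj hy)
    · intro htop
      refine hX (eq_top_iff.2 fun k _ => ?_)
      have h1 : g⁻¹ * k * g⁻¹⁻¹ ∈ cj (cj Y g ⊔ Subgroup.zpowers t) g⁻¹ := htop ▸ Subgroup.mem_top _
      rw [mem_cj] at h1
      simpa [mul_assoc] using h1

/-- `p = 2`: elements inverted by an involution in a conjugate of `Y`. -/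
theorem Full.no_fixed_of_inverted (hp : p = 2) {s a x y : K} (ha : a ∈ π.ker) (hy : y ∈ Y)
    (hy1 : π y ≠ 1) (hc : s * a = a * s) (hs : Odd (orderOf (π s))) (hs1 : π s ≠ 1)
    (hinv : π (x * y * x⁻¹) * π s * (π (x * y * x⁻¹))⁻¹ = (π s)⁻¹) : a = 1 := by
  subst hp
  by_contra ha1
  set t := x * y * x⁻¹ with ht
  have ht2 : t * t = 1 := by
    rw [← sq, ht, conj_pow, h.pre.elem y hy, mul_one, mul_inv_cancel]
  have hti : t⁻¹ = t := inv_eq_of_mul_eq_one_right ht2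
  have hn := (inferInstance : π.ker.Normal)
  have htat : t * a * t⁻¹ ∈ π.ker := hn.conj_mem a ha t
  have hsta : s * (t * a * t⁻¹) = t * a * t⁻¹ * s := by
    obtain ⟨k, hk, hk'⟩ : ∃ k ∈ π.ker, t⁻¹ * s * t = s⁻¹ * k := by
      refine ⟨s * (t⁻¹ * s * t), ?_, by group⟩
      show π _ = 1
      rw [map_mul, hti, show t * s * t = t * s * t⁻¹ by rw [hti], map_mul, map_mul, map_inv, hinv,
        mul_inv_cancel]
    have h1 : (s⁻¹ * k) * a = a * (s⁻¹ * k) := by
      rw [mul_assoc, h.ker_comm k hk a ha, ← mul_assoc,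
        (show Commute s a from hc).inv_left.eq, mul_assoc]
    rw [← hk'] at h1
    calc s * (t * a * t⁻¹) = t * (t⁻¹ * s * t * a) * t⁻¹ := by group
      _ = t * (a * (t⁻¹ * s * t)) * t⁻¹ := by rw [h1]
      _ = t * a * t⁻¹ * s := by group
  obtain ⟨c, hcA, hc1, hcs, hct⟩ : ∃ c ∈ π.ker, c ≠ 1 ∧ s * c = c * s ∧ t * c = c * t := by
    by_cases hat : t * a * t⁻¹ = a
    · exact ⟨a, ha, ha1, hc, mul_inv_eq_iff_eq_mul.1 hat⟩
    refine ⟨a * (t * a * t⁻¹), mul_mem ha htat, fun e => hat ?_, ?_, ?_⟩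
    · have h2 := h.ker_pow ha
      rw [sq] at h2
      exact (mul_left_cancel (h2.trans e.symm)).symm
    · rw [← mul_assoc, hc, mul_assoc, hsta, ← mul_assoc]
    · refine mul_inv_eq_iff_eq_mul.1 ?_
      have h3 := h.ker_comm a ha _ htat
      rw [hti] at h3 ⊢
      calc t * (a * (t * a * t)) * t = t * a * t * a * (t * t) := by group
        _ = a * (t * a * t) := by rw [ht2, mul_one, ← h3]
  -- `c` is fixed by `t`, hence lies in a conjugate of `Y`
  have hc' : x⁻¹ * c * x ∈ Y := by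
    refine h.fix hy hy1 ?_ ?_
    · simpa using hn.conj_mem c hcA x⁻¹
    · calc y * (x⁻¹ * c * x) = x⁻¹ * (t * c) * x := by rw [ht]; group
        _ = x⁻¹ * (c * t) * x := by rw [hct]
        _ = x⁻¹ * c * x * y := by rw [ht]; group
  have hc'A : x⁻¹ * c * x ∈ π.ker := by simpa using hn.conj_mem c hcA x⁻¹
  by_cases hN : x⁻¹ * s * x ∈ Subgroup.normalizer (Y : Set K)
  · have h1 := (h.pre.norm_iff _).1 hN
    obtain ⟨σ, hσ⟩ : ∃ σ, σ = π (x⁻¹ * s * x) := ⟨_, rfl⟩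
    have h2 : π y * σ * (π y)⁻¹ = σ⁻¹ := by
      have e1 : π y * σ * (π y)⁻¹ = (π x)⁻¹ * (π (x * y * x⁻¹) * π s * (π (x * y * x⁻¹))⁻¹) * π x := by
        rw [hσ]; simp only [map_mul, map_inv]; group
      rw [e1, hinv, hσ, map_mul, map_mul, map_inv]; group
    have h4 : σ * σ ∈ Y.map π := by
      have hyE : π y ∈ Y.map π := ⟨y, hy, rfl⟩
      have h5 := (Subgroup.mem_normalizer_iff.1 (hσ ▸ h1 : σ ∈ _) (π y)⁻¹).1 (inv_mem hyE)
      have h6 := mul_mem hyE h5
      rw [show π y * (σ * (π y)⁻¹ * σ⁻¹) = π y * σ * (π y)⁻¹ * σ⁻¹ by group, h2] at h6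
      have := inv_mem h6
      rwa [mul_inv_rev, inv_inv] at this
    obtain ⟨z, hz, hz'⟩ := h4
    have h7 : σ ^ 4 = 1 := by
      rw [show σ ^ 4 = (σ * σ) ^ 2 by rw [← sq, ← pow_mul], ← hz', ← map_pow, h.pre.elem z hz, map_one]
    have ho : Odd (orderOf σ) := by
      rw [hσ, map_mul, map_mul, map_inv]
      have : orderOf ((π x)⁻¹ * π s * π x) = orderOf (π s) :=
        (MulEquiv.orderOf_eq (MulAut.conj (π x)⁻¹) (π s)).symm ▸ by simp
      rwa [this]
    have h8 : σ = 1 := by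
      rw [← orderOf_eq_one_iff]
      exact Nat.Coprime.eq_one_of_dvd
        ((Nat.coprime_two_right.2 ho).pow_right 2) (orderOf_dvd_of_pow_eq_one h7)
    apply hs1
    rw [hσ, map_mul, map_mul, map_inv] at h8
    calc π s = π x * ((π x)⁻¹ * π s * π x) * (π x)⁻¹ := by group
      _ = 1 := by rw [h8]; group
  · refine hc1 ?_
    have h1 := h.inter _ hN _ hc' hc'A ?_
    · calc c = x * (x⁻¹ * c * x) * x⁻¹ := by group
        _ = 1 := by rw [h1]; group
    · have e1 : (x⁻¹ * s * x)⁻¹ * (x⁻¹ * c * x) * (x⁻¹ * s * x) = x⁻¹ * c * x := by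
        calc (x⁻¹ * s * x)⁻¹ * (x⁻¹ * c * x) * (x⁻¹ * s * x) = x⁻¹ * (s⁻¹ * (c * s)) * x := by group
          _ = x⁻¹ * c * x := by rw [← hcs]; group
      rw [e1]; exact hc'

end Cfsg.Agent.LocalEven.TI
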