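import Mathlib

/-!
# Finite groups in which every nontrivial element fixes exactly two points
-/

set_option autoImplicit false

namespace Cfsg.Agent.LocalEven

open Finset

/-- Sizes of three orbits in a group of order `n` with two fixed points for each nontrivial element. -/
theorem three_orbit_arith {n a b c ea eb ec : ℕ} (ha : a * ea = n) (hb : b * eb = n) (hc : c * ec = n)
    (hea : 2 ≤ ea) (heb : 2 ≤ eb) (hec : 4 ≤ ec) (hsum : a + b + c = n + 2) :
    ea < 4 ∧ eb < 4 ∧ c ≤ 12 ∧ (6 ≤ ec → c = 2) := by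
  have h2a : 2 * a ≤ n := ha ▸ (mul_comm 2 a).le.trans (Nat.mul_le_mul_left a hea)
  have h2b : 2 * b ≤ n := hb ▸ (mul_comm 2 b).le.trans (Nat.mul_le_mul_left b heb)
  have h4c : 4 * c ≤ n := hc ▸ (mul_comm 4 c).le.trans (Nat.mul_le_mul_left c hec)
  have hea4 : ea < 4 := by
    by_contra h
    have : 4 * a ≤ n := ha ▸ (mul_comm 4 a).le.trans (Nat.mul_le_mul_left a (not_lt.1 h))
    omega
  have heb4 : eb < 4 := by
    by_contra h
    have : 4 * b ≤ n := hb ▸ (mul_comm 4 b).le.trans (Nat.mul_le_mul_left b (not_lt.1 h))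
    omega
  have h6 : 6 ≤ ec → 6 * c ≤ n := fun h => hc ▸ (mul_comm 6 c).le.trans (Nat.mul_le_mul_left c h)
  refine ⟨hea4, heb4, ?_, fun h => ?_⟩
  · rcases Nat.lt_or_ge ec 6 with h | h
    · interval_cases ea <;> interval_cases eb <;> interval_cases ec <;> omega
    · have := h6 h
      interval_cases ea <;> interval_cases eb <;> omega
  · have := h6 h
    interval_cases ea <;> interval_cases eb <;> omega

/-- In a finite group in which every nontrivial element fixes exactly two points, at most twelve points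
have a stabiliser of order at least four, and at most two have one of order at least six. -/
theorem card_le_of_two_fixed {Γ Ω : Type*} [Group Γ] [Finite Γ] [MulAction Γ Ω]
    (h2 : ∀ g : Γ, g ≠ 1 → ∃ a b : Ω, a ≠ b ∧ ∀ x : Ω, g • x = x ↔ x = a ∨ x = b)
    (c : ℕ) (hc : 4 ≤ c) (Y : Finset Ω) (hY : ∀ x ∈ Y, c ≤ Nat.card (MulAction.stabilizer Γ x)) :
    Y.card ≤ 12 ∧ (6 ≤ c → Y.card ≤ 2) := by
  classical
  letI : Fintype Γ := Fintype.ofFinite Γ
  rcases Y.eq_empty_or_nonempty with rfl | ⟨y0, hy0⟩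
  · simp
  set n := Fintype.card Γ with hn
  have hn4 : 4 ≤ n := (hc.trans (hY y0 hy0)).trans
    ((Subgroup.card_le_card_group _).trans Nat.card_eq_fintype_card.le)
  choose fa fb hne hfix using h2
  set X : Finset Ω := (univ : Finset Γ).biUnion
    (fun g => if h : g = 1 then ∅ else {fa g h, fb g h}) with hX
  have memX : ∀ {x : Ω}, x ∈ X ↔ ∃ g : Γ, g ≠ 1 ∧ g • x = x := by
    intro x
    simp only [hX, Finset.mem_biUnion, Finset.mem_univ, true_and]
    refine exists_congr fun g => ?_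
    by_cases hg : g = 1 <;> simp [hg, hfix]
  obtain ⟨e, he⟩ : ∃ e : Ω → ℕ, ∀ x, e x = (univ.filter fun g : Γ => g • x = x).card :=
    ⟨fun x => (univ.filter fun g : Γ => g • x = x).card, fun _ => rfl⟩
  have he' : ∀ x, Nat.card (MulAction.stabilizer Γ x) = e x := fun x => by
    rw [he, ← Fintype.card_subtype, ← Nat.card_eq_fintype_card]
    exact Nat.card_congr (Equiv.subtypeEquivRight fun g => MulAction.mem_stabilizer_iff)
  obtain ⟨o, ho⟩ : ∃ o : Ω → Finset Ω, ∀ x, o x = univ.image (fun g : Γ => g • x) :=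
    ⟨fun x => univ.image (fun g : Γ => g • x), fun _ => rfl⟩
  have ho' : ∀ x, (o x).card * e x = n := fun x => by
    have h := MulAction.orbitEquivQuotientStabilizer Γ x
    have h1 : (o x).card = Nat.card (MulAction.orbit Γ x) := by
      rw [← Nat.card_eq_finsetCard]
      exact Nat.card_congr (Equiv.subtypeEquivRight fun y => by simp [ho, MulAction.orbit])
    rw [h1, Nat.card_congr h, ← he', hn, ← Nat.card_eq_fintype_card]
    exact (Subgroup.card_eq_card_quotient_mul_card_subgroup _).symm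
  have hox : ∀ x, x ∈ o x := fun x => by rw [ho]; exact mem_image.2 ⟨1, mem_univ _, one_smul _ _⟩
  have hosub : ∀ x ∈ X, o x ⊆ X := by
    intro x hx y hy
    obtain ⟨g, hg1, hg⟩ := memX.1 hx
    rw [ho] at hy
    obtain ⟨k, -, rfl⟩ := mem_image.1 hy
    refine memX.2 ⟨k * g * k⁻¹, fun h => hg1 (conj_eq_one_iff.1 h), ?_⟩
    rw [mul_smul, inv_smul_smul, mul_smul, hg]
  have hoeq : ∀ x y, y ∈ o x → o y = o x := by
    intro x y hy
    rw [ho] at hy
    obtain ⟨k, -, rfl⟩ := mem_image.1 hy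
    rw [ho, ho]
    ext z
    simp only [mem_image, mem_univ, true_and]
    exact ⟨fun ⟨g, hg⟩ => ⟨g * k, by rw [mul_smul, hg]⟩,
      fun ⟨g, hg⟩ => ⟨g * k⁻¹, by rw [mul_smul, inv_smul_smul, hg]⟩⟩
  have he2 : ∀ x ∈ X, 2 ≤ e x := by
    intro x hx
    obtain ⟨g, hg1, hg⟩ := memX.1 hx
    rw [he]
    refine Finset.one_lt_card.2 ⟨g, mem_filter.2 ⟨mem_univ _, hg⟩, 1, mem_filter.2 ⟨mem_univ _, one_smul _ _⟩, hg1⟩
  -- double counting of the fixed points
  have hcount : ∑ x ∈ X, (e x - 1) = 2 * (n - 1) := by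
    calc ∑ x ∈ X, (e x - 1) = ∑ x ∈ X, ((univ.erase (1 : Γ)).filter fun g => g • x = x).card := by
          refine Finset.sum_congr rfl fun x _ => ?_
          have h1 : (1 : Γ) ∈ univ.filter fun g : Γ => g • x = x := mem_filter.2 ⟨mem_univ _, one_smul _ _⟩
          rw [Finset.filter_erase, Finset.card_erase_of_mem h1, he]
      _ = ∑ g ∈ univ.erase (1 : Γ), (X.filter fun x => g • x = x).card := by
          simp only [Finset.card_filter]
          exact Finset.sum_comm
      _ = ∑ _g ∈ univ.erase (1 : Γ), 2 := by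
          refine Finset.sum_congr rfl fun g hg => ?_
          have hg1 : g ≠ 1 := (mem_erase.1 hg).1
          rw [show X.filter (fun x => g • x = x) = {fa g hg1, fb g hg1} from ?_, card_pair (hne g hg1)]
          ext x
          simp only [mem_filter, mem_insert, Finset.mem_singleton]
          exact ⟨fun h => (hfix g hg1 x).1 h.2,
            fun h => ⟨memX.2 ⟨g, hg1, (hfix g hg1 x).2 h⟩, (hfix g hg1 x).2 h⟩⟩
      _ = 2 * (n - 1) := by
          rw [Finset.sum_const, Finset.card_erase_of_mem (mem_univ _), Finset.card_univ, smul_eq_mul, mul_comm]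
  set R := X.image o with hR
  have hfib : ∀ x ∈ X, X.filter (fun y => o y = o x) = o x := by
    intro x hx
    ext y
    rw [mem_filter]
    exact ⟨fun h => h.2 ▸ hox y, fun h => ⟨hosub x hx h, hoeq x y h⟩⟩
  have hsum : ∑ O ∈ R, (n - O.card) = 2 * (n - 1) := by
    rw [← hcount, ← Finset.sum_fiberwise_of_maps_to (g := o) (t := R) (fun x hx => mem_image_of_mem o hx)]
    refine Finset.sum_congr rfl fun O hO => ?_
    obtain ⟨x, hx, rfl⟩ := mem_image.1 hO
    have hpos : 0 < (o x).card := card_pos.2 ⟨x, hox x⟩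
    have hconst : ∀ y ∈ o x, e y - 1 = e x - 1 := fun y hy => by
      have h := ho' y
      rw [hoeq x y hy] at h
      rw [Nat.eq_of_mul_eq_mul_left hpos (h.trans (ho' x).symm)]
    rw [hfib x hx, Finset.sum_congr rfl hconst,
      Finset.sum_const, smul_eq_mul, Nat.mul_sub, ho', mul_one]
  have hRfact : ∀ O ∈ R, ∃ k, 2 ≤ k ∧ O.card * k = n ∧ 0 < O.card ∧ ∀ y ∈ O, e y = k := by
    intro O hO
    obtain ⟨x, hx, rfl⟩ := mem_image.1 hO
    have hpos : 0 < (o x).card := card_pos.2 ⟨x, hox x⟩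
    exact ⟨e x, he2 x hx, ho' x, hpos, fun y hy =>
      Nat.eq_of_mul_eq_mul_left hpos (((hoeq x y hy) ▸ ho' y).trans (ho' x).symm)⟩
  have hYX : ∀ y ∈ Y, ∃ O ∈ R, y ∈ O ∧ c ≤ e y := by
    intro y hy
    have h := hY y hy
    have h1 : y ∈ X := by
      rw [he', he] at h
      obtain ⟨g, hg, hg1⟩ := Finset.exists_mem_ne (show 1 < (univ.filter fun g : Γ => g • y = y).card by omega) 1
      exact memX.2 ⟨g, hg1, (mem_filter.1 hg).2⟩
    exact ⟨o y, mem_image_of_mem o h1, hox y, he' y ▸ h⟩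
  have hhalf : ∀ O ∈ R, 2 * O.card ≤ n ∧ 0 < O.card := fun O hO => by
    obtain ⟨k, hk, hk', hpos, -⟩ := hRfact O hO
    exact ⟨hk' ▸ (mul_comm 2 _).le.trans (Nat.mul_le_mul_left _ hk), hpos⟩
  have hr1 : 2 ≤ R.card := by
    by_contra h
    have : ∑ O ∈ R, (n - O.card) ≤ R.card * (n - 1) := by
      rw [← smul_eq_mul]
      exact Finset.sum_le_card_nsmul _ _ _ fun O hO => by have := hhalf O hO; omega
    have h' : R.card * (n - 1) ≤ 1 * (n - 1) := Nat.mul_le_mul_right _ (by omega)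
    omega
  have hr2 : R.card ≤ 3 := by
    by_contra h
    have : R.card * n ≤ ∑ O ∈ R, 2 * (n - O.card) := by
      rw [← smul_eq_mul]
      exact Finset.card_nsmul_le_sum _ _ _ fun O hO => by have := hhalf O hO; omega
    rw [← Finset.mul_sum, hsum] at this
    have h' : 4 * n ≤ R.card * n := Nat.mul_le_mul_right _ (by omega)
    omega
  rcases (show R.card = 2 ∨ R.card = 3 by omega) with hr | hr
  · obtain ⟨A, B, hAB, hRe⟩ := card_eq_two.1 hr
    rw [hRe, sum_pair hAB] at hsum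
    have hA := hhalf A (by simp [hRe])
    have hB := hhalf B (by simp [hRe])
    have hYsub : Y ⊆ A ∪ B := by
      intro y hy
      obtain ⟨O, hO, hyO, -⟩ := hYX y hy
      rw [hRe] at hO
      simp only [mem_insert, Finset.mem_singleton] at hO
      rcases hO with rfl | rfl <;> simp [hyO]
    have := (card_le_card hYsub).trans (card_union_le A B)
    exact ⟨by omega, fun _ => by omega⟩
  obtain ⟨A, B, C, hAB, hAC, hBC, hRe⟩ := card_eq_three.1 hr
  rw [hRe, sum_insert (by simp [hAB, hAC]), sum_pair hBC] at hsum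
  obtain ⟨ka, hka, ha, hap, hae⟩ := hRfact A (by simp [hRe])
  obtain ⟨kb, hkb, hb, hbp, hbe⟩ := hRfact B (by simp [hRe])
  obtain ⟨kc, hkc, hcc, hcp, hce⟩ := hRfact C (by simp [hRe])
  have hs : A.card + B.card + C.card = n + 2 := by
    have := hhalf A (by simp [hRe]); have := hhalf B (by simp [hRe]); have := hhalf C (by simp [hRe]); omega
  have hYe : ∀ y ∈ Y, (y ∈ A ∧ c ≤ ka) ∨ (y ∈ B ∧ c ≤ kb) ∨ (y ∈ C ∧ c ≤ kc) := by
    intro y hy
    obtain ⟨O, hO, hyO, hye⟩ := hYX y hy
    rw [hRe] at hO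
    simp only [mem_insert, Finset.mem_singleton] at hO
    rcases hO with rfl | rfl | rfl
    · exact Or.inl ⟨hyO, hae y hyO ▸ hye⟩
    · exact Or.inr (Or.inl ⟨hyO, hbe y hyO ▸ hye⟩)
    · exact Or.inr (Or.inr ⟨hyO, hce y hyO ▸ hye⟩)
  rcases hYe y0 hy0 with ⟨-, h⟩ | ⟨-, h⟩ | ⟨-, h⟩
  · obtain ⟨h1, h2, h3, h4⟩ := three_orbit_arith hb hcc ha hkb hkc (hc.trans h) (by omega)
    have hsub : Y ⊆ A := fun y hy => by
      rcases hYe y hy with ⟨hm, -⟩ | ⟨-, hk⟩ | ⟨-, hk⟩
      · exact hm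
      · omega
      · omega
    exact ⟨(card_le_card hsub).trans h3, fun h6 => (card_le_card hsub).trans (h4 (h6.trans h)).le⟩
  · obtain ⟨h1, h2, h3, h4⟩ := three_orbit_arith ha hcc hb hka hkc (hc.trans h) (by omega)
    have hsub : Y ⊆ B := fun y hy => by
      rcases hYe y hy with ⟨-, hk⟩ | ⟨hm, -⟩ | ⟨-, hk⟩
      · omega
      · exact hm
      · omega
    exact ⟨(card_le_card hsub).trans h3, fun h6 => (card_le_card hsub).trans (h4 (h6.trans h)).le⟩
  · obtain ⟨h1, h2, h3, h4⟩ := three_orbit_arith ha hb hcc hka hkb (hc.trans h) (by omega)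
    have hsub : Y ⊆ C := fun y hy => by
      rcases hYe y hy with ⟨-, hk⟩ | ⟨-, hk⟩ | ⟨hm, -⟩
      · omega
      · omega
      · exact hm
    exact ⟨(card_le_card hsub).trans h3, fun h6 => (card_le_card hsub).trans (h4 (h6.trans h)).le⟩

end Cfsg.Agent.LocalEven
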