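import Cfsg.Agent.Lib.Fusion.WeakClosure
import Cfsg.Agent.Lib.Fusion.WeakClosureFunctor
import Cfsg.Prelude.Def_EvenType
import Cfsg.Prelude.Def_LocalStructure

/-!
Centralizers of the core of a subgroup containing a weakly closed self-centralizing subgroup.
-/

set_option autoImplicit false

open scoped commutatorElement

namespace Cfsg.Agent.LocalEven.WeaklyClosedCentralizer

open Cfsg Cfsg.Agent.Fusion

variable {G : Type*} [Group G] [Finite G] {p : ℕ} [hp : Fact p.Prime]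

omit [Finite G] in
/-- A `p'`-element that commutes with a `p`-element by which it shifts `u` fixes `u`. -/
theorem eq_one_of_shift {a u c : G} (h : a * u = c * u * a) (hca : Commute a c) (ha : ¬ p ∣ orderOf a) {k : ℕ}
    (hc : c ^ p ^ k = 1) : c = 1 := by
  have hstep : ∀ n : ℕ, a ^ n * u = c ^ n * u * a ^ n := by
    intro n
    induction n with
    | zero => simp
    | succ n ih =>
      rw [pow_succ' a n, mul_assoc, ih, ← mul_assoc, ← mul_assoc, (hca.pow_right n).eq,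
        mul_assoc (c ^ n) a, h, pow_succ]
      simp only [mul_assoc]
  have h5 := hstep (orderOf a)
  rw [pow_orderOf_eq_one, one_mul, mul_one] at h5
  have h6 := pow_gcd_eq_one.mpr ⟨mul_eq_right.1 h5.symm, hc⟩
  rwa [Nat.Coprime.gcd_eq_one (Nat.Coprime.pow_right k (hp.out.coprime_iff_not_dvd.mpr ha).symm), pow_one] at h6

omit hp in
theorem pCoreOf_invariant [Fact p.Prime] {H : Subgroup G} {g : G} (hg : g ∈ Subgroup.normalizer (H : Set G)) :
    g ∈ Subgroup.normalizer (pCoreOf p H : Set G) := by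
  refine mem_normalizer_of_cj_le (le_pCoreOf ?_ ?_ (isPGroup_cj (pCoreOf_isPGroup H) g))
  · exact (cj_mono (pCoreOf_le H) g).trans (cj_eq_self hg).le
  · intro h hh
    refine mem_normalizer_of_cj_le ?_
    have h1 : g⁻¹ * h * g ∈ H := (Subgroup.mem_normalizer_iff''.1 hg h).1 hh
    rw [cj_cj, show h * g = g * (g⁻¹ * h * g) by group, ← cj_cj,
      cj_eq_self (le_normalizer_pCoreOf H h1)]

/-- Thompson's lemma for a `p`-group normalizing the acted group. -/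
theorem mem_centralizer_of_fix {P R : Subgroup G} (hP : IsPGroup p P) (hR : IsPGroup p R)
    (hRP : R ≤ Subgroup.normalizer (P : Set G)) {a : G} (ha : a ∈ Subgroup.normalizer (P : Set G))
    (hreg : ¬ p ∣ orderOf a) (hRa : ∀ x ∈ R, x * a = a * x)
    (hC : ∀ x ∈ P, x ∈ Subgroup.centralizer (R : Set G) → x * a = a * x) :
    ∀ x ∈ P, x * a = a * x := by
  have hK : IsPGroup p (P ⊔ R : Subgroup G) := hP.to_sup_of_normal_left' hR hRP
  haveI : Group.IsNilpotent (P ⊔ R : Subgroup G) := hK.isNilpotent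
  set K : Subgroup G := P ⊔ R
  set C : Subgroup K := (Subgroup.centralizer ({a} : Set G)).subgroupOf K with hCdef
  have hmem : ∀ x : K, x ∈ C ↔ (x : G) * a = a * x := fun x => by
    rw [hCdef, Subgroup.mem_subgroupOf, Subgroup.mem_centralizer_singleton_iff]
  suffices hCtop : C = ⊤ by
    intro x hx
    exact (hmem ⟨x, Subgroup.mem_sup_left hx⟩).1 (hCtop ▸ Subgroup.mem_top _)
  apply normalizerCondition_iff_only_full_group_self_normalizing.mp Group.normalizerCondition_of_isNilpotent C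
  refine le_antisymm (fun g hg => ?_) Subgroup.le_normalizer
  obtain ⟨r, hr, v, hv, hvr⟩ : ∃ r ∈ R, ∃ v ∈ P, v * r = (g : G) := by
    have h0 : (g : G) ∈ ((P ⊔ R : Subgroup G) : Set G) := g.2
    rw [Subgroup.coe_mul_of_right_le_normalizer_left P R hRP] at h0
    obtain ⟨v, hv, r, hr, h⟩ := h0
    exact ⟨r, hr, v, hv, h⟩
  have hrC : (⟨r, Subgroup.mem_sup_right hr⟩ : K) ∈ C := (hmem _).2 (hRa r hr)
  have hvN : (⟨v, Subgroup.mem_sup_left hv⟩ : K) ∈ Subgroup.normalizer (C : Set K) := by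
    have := mul_mem hg (inv_mem (Subgroup.le_normalizer hrC))
    convert this using 1
    exact Subtype.ext (show v = (g : G) * r⁻¹ by rw [← hvr, mul_inv_cancel_right])
  suffices hva : v * a = a * v by
    rw [hmem, ← hvr, mul_assoc, hRa r hr, ← mul_assoc, hva, mul_assoc]
  set v' : G := a * v * a⁻¹ with hv'
  have hv'P : v' ∈ P := (Subgroup.mem_normalizer_iff.mp ha v).mp hv
  set c : G := v' * v⁻¹ with hc
  have hcP : c ∈ P := mul_mem hv'P (inv_mem hv)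
  have hcR : c ∈ Subgroup.centralizer (R : Set G) := by
    intro x hx
    have hxC : (⟨x, Subgroup.mem_sup_right hx⟩ : K) ∈ C := (hmem _).mpr (hRa x hx)
    have h1 := (Subgroup.mem_normalizer_iff''.mp hvN _).mp hxC
    rw [hmem] at h1
    simp only [Subgroup.coe_mul, Subgroup.coe_inv] at h1
    have h3 : v'⁻¹ * x * v' = v⁻¹ * x * v := by
      calc v'⁻¹ * x * v' = a * v⁻¹ * (a⁻¹ * (x * a)) * v * a⁻¹ := by rw [hv']; group
        _ = a * (v⁻¹ * x * v) * a⁻¹ := by rw [hRa x hx, inv_mul_cancel_left]; group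
        _ = v⁻¹ * x * v := by rw [← h1, mul_inv_cancel_right]
    show x * c = c * x
    calc x * c = v' * (v'⁻¹ * x * v') * v⁻¹ := by rw [hc]; group
      _ = v' * (v⁻¹ * x * v) * v⁻¹ := by rw [h3]
      _ = c * x := by rw [hc]; group
  obtain ⟨k, hk⟩ := hP ⟨c, hcP⟩
  have hc1 : c = 1 := eq_one_of_shift (show a * v = c * v * a by rw [hc, hv']; group)
    (hC c hcP hcR).symm hreg (k := k) (by simpa using congrArg (fun y : P => (y : G)) hk)
  have h7 : v' = v := by rw [← mul_inv_eq_one, ← hc, hc1]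
  rw [hv'] at h7
  calc v * a = a * v * a⁻¹ * a := by rw [h7]
    _ = a * v := by rw [inv_mul_cancel_right]

/-- Characteristic `p`, for elements. -/
def CharPIn (p : ℕ) (C : Subgroup G) : Prop :=
  ∀ c ∈ C, ¬ p ∣ orderOf c → (∀ x ∈ pCoreOf p C, x * c = c * x) → c = 1

/-- Characteristic `p` climbs centralizers of `p`-groups along normalizers. -/
theorem charPIn_step {R R' : Subgroup G} (hR : IsPGroup p R) (hR'R : R' ≤ R) (hn : R ≤ Subgroup.normalizer (R' : Set G))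
    (h : CharPIn p (Subgroup.centralizer (R' : Set G))) : CharPIn p (Subgroup.centralizer (R : Set G)) := by
  intro c hc hreg hfix
  have hcC : c ∈ Subgroup.centralizer (R' : Set G) := Subgroup.centralizer_le hR'R hc
  refine h c hcC hreg (mem_centralizer_of_fix (pCoreOf_isPGroup _) hR
    (fun r hr => pCoreOf_invariant ?_) (le_normalizer_pCoreOf _ hcC) hreg
    (fun x hx => Subgroup.mem_centralizer_iff.1 hc x hx) fun x hx hxR => ?_)
  · refine mem_normalizer_of_cj_le ?_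
    rintro _ ⟨z, hz, rfl⟩
    refine Subgroup.mem_centralizer_iff.2 fun w hw => ?_
    have h1 := Subgroup.mem_centralizer_iff.1 hz _ ((Subgroup.mem_normalizer_iff''.1 (hn hr) w).1 hw)
    show w * (r * z * r⁻¹) = r * z * r⁻¹ * w
    calc w * (r * z * r⁻¹) = r * ((r⁻¹ * w * r) * z) * r⁻¹ := by group
      _ = r * (z * (r⁻¹ * w * r)) * r⁻¹ := by rw [h1]
      _ = r * z * r⁻¹ * w := by group
  · refine hfix x (le_pCoreOf (N := pCoreOf p (Subgroup.centralizer (R' : Set G)) ⊓ Subgroup.centralizer (R : Set G))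
      inf_le_right ?_ ((pCoreOf_isPGroup _).to_le inf_le_left) ⟨hx, hxR⟩)
    intro d hd
    refine mem_normalizer_of_cj_le ?_
    rintro _ ⟨z, ⟨hz, hzR⟩, rfl⟩
    exact ⟨(Subgroup.mem_normalizer_iff.1 (le_normalizer_pCoreOf _ (Subgroup.centralizer_le hR'R hd)) z).1 hz,
      Subgroup.mul_mem _ (Subgroup.mul_mem _ hd hzR) (Subgroup.inv_mem _ hd)⟩

theorem charPIn_mono {R R' : Subgroup G} (hR : IsPGroup p R) (hR'R : R' ≤ R)
    (h : CharPIn p (Subgroup.centralizer (R' : Set G))) : CharPIn p (Subgroup.centralizer (R : Set G)) := by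
  induction hn : Nat.card R - Nat.card R' using Nat.strong_induction_on generalizing R' with
  | _ n ih =>
  by_cases hne : R' = R
  · subst hne; exact h
  have hlt : R' < R ⊓ Subgroup.normalizer (R' : Set G) := SylIn.normalizer_growth hR'R hne hR
  have hc : Nat.card R' < Nat.card (R ⊓ Subgroup.normalizer (R' : Set G) : Subgroup G) := by
    refine lt_of_le_of_ne (Subgroup.card_le_of_le hlt.le) fun he => hlt.ne ?_
    exact Subgroup.eq_of_le_of_card_ge hlt.le he.ge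
  refine ih (Nat.card R - Nat.card (R ⊓ Subgroup.normalizer (R' : Set G) : Subgroup G)) ?_ inf_le_left
    (charPIn_step (hR.to_le inf_le_left) hlt.le inf_le_right h) rfl
  have := Subgroup.card_le_of_le (inf_le_left : R ⊓ Subgroup.normalizer (R' : Set G) ≤ R)
  omega

omit hp in
theorem charPIn_of_subtype [Fact p.Prime] (X : Subgroup G)
    (h : Subgroup.centralizer (pCore p ↥X : Set ↥X) ≤ pCore p ↥X) : CharPIn p X := by
  intro c hc hreg hfix
  have h1 : (⟨c, hc⟩ : X) ∈ pCore p ↥X := h (Subgroup.mem_centralizer_iff.2 fun w hw =>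
    Subtype.ext (hfix w ⟨w, hw, rfl⟩))
  obtain ⟨j, -, hj⟩ : ∃ j, j ≤ j ∧ orderOf c = p ^ j := by
    obtain ⟨k, hk⟩ := (isPGroup_pCore p ↥X) ⟨_, h1⟩
    have hk' : c ^ p ^ k = 1 := congrArg (fun z : pCore p ↥X => ((z : X) : G)) hk
    obtain ⟨j, -, hj⟩ := (Nat.dvd_prime_pow (Fact.out : p.Prime)).1 (orderOf_dvd_of_pow_eq_one hk')
    exact ⟨j, le_rfl, hj⟩
  rcases Nat.eq_zero_or_pos j with rfl | hj0
  · exact orderOf_eq_one_iff.1 (by rw [hj, pow_zero])
  · exact absurd (hj ▸ dvd_pow_self p hj0.ne') hreg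

theorem isPGroup_of_regular_eq_one {C : Subgroup G} (h : ∀ c ∈ C, ¬ p ∣ orderOf c → c = 1) : IsPGroup p C := by
  refine IsPGroup.iff_card.2 ⟨_, Nat.eq_prime_pow_of_unique_prime_dvd Nat.card_pos.ne' fun {q} hq hd => ?_⟩
  by_contra hne
  haveI := Fact.mk hq
  obtain ⟨x, hx⟩ := exists_prime_orderOf_dvd_card' (G := C) q hd
  rw [← Subgroup.orderOf_coe] at hx
  refine hq.ne_one (hx ▸ orderOf_eq_one_iff.2 (h _ x.2 ?_))
  rw [hx]
  exact fun hdvd => hne ((Nat.prime_dvd_prime_iff_eq hp.out hq).1 hdvd).symm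

/-- The three conclusions. -/
theorem main {Q : Subgroup G} (hQp : IsPGroup p Q) (hwc : IsWeaklyClosedSubgroup p Q)
    (hCQ : Subgroup.centralizer (Q : Set G) ≤ Q) {L : Subgroup G} (hQL : Q ≤ L)
    (hchar : CharPIn p (Subgroup.centralizer (pCoreOf p L : Set G))) :
    ⁅Q, Subgroup.centralizer (pCoreOf p L : Set G)⁆ ≤ Q ⊓ pCoreOf p L ∧
      IsPGroup p (Subgroup.centralizer (pCoreOf p L : Set G)) ∧
      Subgroup.centralizer (pCore p ↥L : Set ↥L) ≤ pCore p ↥L := by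
  obtain ⟨T, hT⟩ := hwc
  obtain ⟨R, hRd⟩ : ∃ R, R = pCoreOf p L := ⟨_, rfl⟩
  rw [← hRd] at hchar ⊢
  obtain ⟨C, hCd⟩ : ∃ C : Subgroup G, C = Subgroup.centralizer (R : Set G) := ⟨_, rfl⟩
  rw [← hCd] at hchar ⊢
  have hQN : ∀ W : Subgroup G, IsPGroup p W → Q ≤ W → W ≤ Subgroup.normalizer (Q : Set G) :=
    fun W hW hQW => weaklyClosed_le_normalizer (sylIn_top T) hT hW hQW
  have hLC : L ≤ Subgroup.normalizer (C : Set G) := fun l hl => mem_normalizer_of_cj_le (by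
    rintro _ ⟨z, hz, rfl⟩
    rw [hCd] at hz ⊢
    refine Subgroup.mem_centralizer_iff.2 fun w hw => ?_
    have h1 := Subgroup.mem_centralizer_iff.1 hz _
      ((Subgroup.mem_normalizer_iff''.1 (hRd ▸ le_normalizer_pCoreOf L hl : l ∈ Subgroup.normalizer (R : Set G)) w).1 hw)
    show w * (l * z * l⁻¹) = l * z * l⁻¹ * w
    calc w * (l * z * l⁻¹) = l * ((l⁻¹ * w * l) * z) * l⁻¹ := by group
      _ = l * (z * (l⁻¹ * w * l)) * l⁻¹ := by rw [h1]
      _ = l * z * l⁻¹ * w := by group)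
  obtain ⟨P, hPd⟩ : ∃ P, P = pCoreOf p C := ⟨_, rfl⟩
  have hPp : IsPGroup p P := hPd ▸ pCoreOf_isPGroup C
  have hPC : P ≤ C := hPd ▸ pCoreOf_le C
  have hLP : L ≤ Subgroup.normalizer (P : Set G) := fun l hl => hPd ▸ pCoreOf_invariant (hLC hl)
  have hPQ : P ≤ Subgroup.normalizer (Q : Set G) :=
    le_sup_left.trans (hQN _ (hPp.to_sup_of_normal_left' hQp (hQL.trans hLP)) le_sup_right)
  -- the central part
  obtain ⟨Z, hZd⟩ : ∃ Z, Z = P ⊓ L := ⟨_, rfl⟩
  have hZR : Z ≤ R := hRd ▸ le_pCoreOf (hZd ▸ inf_le_right) (fun l hl => by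
    rw [hZd]
    exact mem_normalizer_of_cj_le (by
      rintro _ ⟨z, ⟨hzP, hzL⟩, rfl⟩
      exact ⟨(Subgroup.mem_normalizer_iff.1 (hLP hl) z).1 hzP, L.mul_mem (L.mul_mem hl hzL) (L.inv_mem hl)⟩))
    (hPp.to_le (hZd ▸ inf_le_left))
  have hZc : ∀ z ∈ Z, ∀ c ∈ C, z * c = c * z := fun z hz c hc =>
    Subgroup.mem_centralizer_iff.1 (hCd ▸ hc) z (hZR hz)
  have hQP : ∀ q ∈ Q, ∀ u ∈ P, q * u * q⁻¹ * u⁻¹ ∈ Z := fun q hq u hu => by
    rw [hZd]
    refine ⟨P.mul_mem ((Subgroup.mem_normalizer_iff.1 (hLP (hQL hq)) u).1 hu) (P.inv_mem hu), hQL ?_⟩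
    rw [show q * u * q⁻¹ * u⁻¹ = q * (u * q⁻¹ * u⁻¹) by group]
    exact Q.mul_mem hq ((Subgroup.mem_normalizer_iff.1 (hPQ hu) _).1 (Q.inv_mem hq))
  -- elements of `C` shifting `P` into `Z`
  let K : Subgroup G :=
    { carrier := {e | e ∈ C ∧ ∀ u ∈ P, e * u * e⁻¹ * u⁻¹ ∈ Z}
      one_mem' := ⟨C.one_mem, fun u _ => by simp⟩
      mul_mem' := by
        rintro e f ⟨he, heu⟩ ⟨hf, hfu⟩
        refine ⟨C.mul_mem he hf, fun u hu => ?_⟩
        rw [show e * f * u * (e * f)⁻¹ * u⁻¹ = (e * (f * u * f⁻¹ * u⁻¹) * e⁻¹) * (e * u * e⁻¹ * u⁻¹) by group,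
          ← hZc _ (hfu u hu) e he, mul_inv_cancel_right]
        exact Z.mul_mem (hfu u hu) (heu u hu)
      inv_mem' := by
        rintro e ⟨he, heu⟩
        refine ⟨C.inv_mem he, fun u hu => ?_⟩
        rw [show e⁻¹ * u * e⁻¹⁻¹ * u⁻¹ = e⁻¹ * (e * u * e⁻¹ * u⁻¹)⁻¹ * e by group, mul_assoc,
          hZc _ (Z.inv_mem (heu u hu)) e he, inv_mul_cancel_left]
        exact Z.inv_mem (heu u hu) }
  have hKp : IsPGroup p K := isPGroup_of_regular_eq_one fun e he hreg => hchar e he.1 hreg fun u hu => by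
    rw [← hPd] at hu
    obtain ⟨k, hk⟩ := hPp ⟨e * u * e⁻¹ * u⁻¹,
      P.mul_mem ((Subgroup.mem_normalizer_iff.1 (hPd ▸ le_normalizer_pCoreOf C he.1) u).1 hu) (P.inv_mem hu)⟩
    have h1 := eq_one_of_shift (show e * u = (e * u * e⁻¹ * u⁻¹) * u * e by group)
      (hZc _ (he.2 u hu) e he.1).symm hreg (k := k) (congrArg Subtype.val hk)
    rw [mul_inv_eq_one] at h1
    calc u * e = e * u * e⁻¹ * e := by rw [h1]
      _ = e * u := by rw [inv_mul_cancel_right]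
  have hQC : Q ≤ Subgroup.normalizer (C : Set G) := hQL.trans hLC
  have hKQ : Q ≤ Subgroup.normalizer (K : Set G) := fun q hq => mem_normalizer_of_cj_le (by
    rintro _ ⟨e, ⟨he, heu⟩, rfl⟩
    refine ⟨(Subgroup.mem_normalizer_iff.1 (hQC hq) e).1 he, fun u hu => ?_⟩
    have hu' : q⁻¹ * u * q ∈ P := (Subgroup.mem_normalizer_iff''.1 (hLP (hQL hq)) u).1 hu
    show q * e * q⁻¹ * u * (q * e * q⁻¹)⁻¹ * u⁻¹ ∈ Z
    rw [show q * e * q⁻¹ * u * (q * e * q⁻¹)⁻¹ * u⁻¹ = q * (e * (q⁻¹ * u * q) * e⁻¹ * (q⁻¹ * u * q)⁻¹) * q⁻¹ by group]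
    obtain ⟨h1, h2⟩ := hZd ▸ heu _ hu'
    exact hZd ▸ ⟨(Subgroup.mem_normalizer_iff.1 (hLP (hQL hq)) _).1 h1,
      L.mul_mem (L.mul_mem (hQL hq) h2) (L.inv_mem (hQL hq))⟩)
  have hgen : ∀ c ∈ C, ∀ q ∈ Q, c * q * c⁻¹ * q⁻¹ ∈ K := fun c hc q hq => by
    refine ⟨?_, fun u hu => ?_⟩
    · rw [show c * q * c⁻¹ * q⁻¹ = c * (q * c⁻¹ * q⁻¹) by group]
      exact C.mul_mem hc ((Subgroup.mem_normalizer_iff.1 (hQC hq) _).1 (C.inv_mem hc))
    · have hcP : c ∈ Subgroup.normalizer (P : Set G) := hPd ▸ le_normalizer_pCoreOf C hc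
      have h1 : q⁻¹ * u * q ∈ P := (Subgroup.mem_normalizer_iff''.1 (hLP (hQL hq)) u).1 hu
      have h2 : c⁻¹ * (q⁻¹ * u * q) * c ∈ P := (Subgroup.mem_normalizer_iff''.1 hcP _).1 h1
      have z1 := hQP q⁻¹ (Q.inv_mem hq) u hu
      rw [inv_inv] at z1
      have z2 := hQP q hq _ h2
      have e1 : c * q * c⁻¹ * q⁻¹ * u * (c * q * c⁻¹ * q⁻¹)⁻¹ * u⁻¹ =
          (c * (q * (c⁻¹ * (q⁻¹ * u * q) * c) * q⁻¹ * (c⁻¹ * (q⁻¹ * u * q) * c)⁻¹) * c⁻¹) * (q⁻¹ * u * q * u⁻¹) := by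
        group
      rw [e1, ← hZc _ z2 c hc, mul_inv_cancel_right]
      exact Z.mul_mem z2 z1
  have hCN : C ≤ Subgroup.normalizer (Q : Set G) := fun c hc => by
    refine mem_normalizer_iff_cj.2 (weaklyClosed_eq_of_le (sylIn_top T) hT
      (hKp.to_sup_of_normal_left' hQp hKQ) le_sup_right ?_)
    rintro _ ⟨q, hq, rfl⟩
    show c * q * c⁻¹ ∈ K ⊔ Q
    rw [show c * q * c⁻¹ = (c * q * c⁻¹ * q⁻¹) * q by group]
    exact Subgroup.mul_mem_sup (hgen c hc q hq) hq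
  have hQCZ : Q ⊓ C ≤ Z := by
    refine hZd ▸ le_inf (hPd ▸ le_pCoreOf inf_le_right (fun c hc => mem_normalizer_of_cj_le ?_)
      (hQp.to_le inf_le_left)) (inf_le_left.trans hQL)
    rintro _ ⟨z, ⟨hzQ, hzC⟩, rfl⟩
    exact ⟨(Subgroup.mem_normalizer_iff.1 (hCN hc) z).1 hzQ, C.mul_mem (C.mul_mem hc hzC) (C.inv_mem hc)⟩
  have hcomm : ∀ c ∈ C, ∀ q ∈ Q, c * q * c⁻¹ * q⁻¹ ∈ Q ⊓ C := fun c hc q hq =>
    ⟨Q.mul_mem ((Subgroup.mem_normalizer_iff.1 (hCN hc) q).1 hq) (Q.inv_mem hq), (hgen c hc q hq).1⟩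
  have hCp : IsPGroup p C := isPGroup_of_regular_eq_one fun c hc hreg => by
    have hcQ : c ∈ Q := hCQ (Subgroup.mem_centralizer_iff.2 fun q hq => by
      obtain ⟨k, hk⟩ := hQp ⟨_, (hcomm c hc q hq).1⟩
      have h1 := eq_one_of_shift (show c * q = (c * q * c⁻¹ * q⁻¹) * q * c by group)
        (hZc _ (hQCZ (hcomm c hc q hq)) c hc).symm hreg (k := k) (congrArg Subtype.val hk)
      rw [mul_inv_eq_one] at h1
      calc q * c = c * q * c⁻¹ * c := by rw [h1]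
        _ = c * q := by rw [inv_mul_cancel_right])
    obtain ⟨j, hj⟩ := IsPGroup.iff_orderOf.1 hQp ⟨c, hcQ⟩
    rw [Subgroup.orderOf_mk] at hj
    rcases Nat.eq_zero_or_pos j with rfl | hj0
    · exact orderOf_eq_one_iff.1 (by rw [hj, pow_zero])
    · exact absurd (hj ▸ dvd_pow_self p hj0.ne') hreg
  refine ⟨Subgroup.commutator_le.2 fun q hq c hc => ?_, hCp, fun x hx => ?_⟩
  · have h1 := hcomm c hc q hq
    have h2 : ⁅q, c⁆ = (c * q * c⁻¹ * q⁻¹)⁻¹ := by rw [commutatorElement_def]; group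
    rw [h2]
    exact ⟨Q.inv_mem h1.1, R.inv_mem (hZR (hQCZ h1))⟩
  · have hxC : (x : G) ∈ C := hCd ▸ Subgroup.mem_centralizer_iff.2 fun w hw => by
      obtain ⟨y, hy, rfl⟩ := hRd ▸ hw
      exact congrArg Subtype.val (Subgroup.mem_centralizer_iff.1 hx y hy)
    obtain ⟨y, hy, hyx⟩ := le_pCoreOf (N := C ⊓ L) inf_le_right (fun l hl => mem_normalizer_of_cj_le (by
      rintro _ ⟨z, ⟨hzC, hzL⟩, rfl⟩
      exact ⟨(Subgroup.mem_normalizer_iff.1 (hLC hl) z).1 hzC, L.mul_mem (L.mul_mem hl hzL) (L.inv_mem hl)⟩))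
      (hCp.to_le inf_le_left) (⟨hxC, x.2⟩ : (x : G) ∈ C ⊓ L)
    rwa [← Subtype.ext (hyx : (y : G) = x)]

end Cfsg.Agent.LocalEven.WeaklyClosedCentralizer
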