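import Cfsg.Agent.Lib.Perm.HallWielandt

/-!
# Transfer through the normalizer of a weakly closed subgroup

The Engel condition in the Hall–Wielandt argument is only needed modulo the Frattini subgroup of the
maximal subgroups of `W`.
-/

set_option autoImplicit false
set_option linter.style.haveILetI false

namespace Cfsg.Agent.YoshidaWeak

open Cfsg Cfsg.Agent.Fusion Cfsg.Agent.Perm.HallWielandt

variable {p : ℕ} [Fact p.Prime] {G A : Type*} [Group G] [CommGroup A] [Finite G]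

/-- The norm vanishes when the iterated commutator lies in the Frattini subgroup. -/
theorem norm_eq_one_mod (hA : ∀ a : A, a ^ p = 1) (T : Subgroup G) (M : Subgroup ↥T) [hM : M.Normal]
    (W : Subgroup G) (hWT : W ≤ T) (hWn : ∀ t ∈ T, ∀ w ∈ W, t * w * t⁻¹ ∈ W) (hMi : M.index = p)
    (μ : M →* A) (u : ↥T) (hu : (u : G) ∈ W) (huM : u ∉ M) (x : M)
    (h : ∀ y ∈ W, (fun t : G => t⁻¹ * (u : G)⁻¹ * t * (u : G))^[p - 1] ((x : ↥T) : G) = y →
      ∀ W₀ : Subgroup ↥W, IsCoatom W₀ → y ∈ W₀.map W.subtype → y ∈ ((frattini ↥W₀).map W₀.subtype).map W.subtype) :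
    ∏ i ∈ Finset.range p, μ ⟨u⁻¹ ^ i * x * (u⁻¹ ^ i)⁻¹, hM.conj_mem _ x.2 _⟩ = 1 := by
  have hp : p.Prime := Fact.out
  let f : ↥T → ↥T := fun y => y⁻¹ * u⁻¹ * y * u
  have hm : ∀ k, f^[k] (x : ↥T) ∈ M := by
    intro k
    induction k with
    | zero => exact x.2
    | succ k ih =>
      rw [Function.iterate_succ_apply']
      have e : f (f^[k] (x : ↥T)) = (f^[k] (x : ↥T))⁻¹ * (u⁻¹ * f^[k] (x : ↥T) * (u⁻¹)⁻¹) := by
        simp [f, mul_assoc]
      rw [e]
      exact M.mul_mem (M.inv_mem ih) (hM.conj_mem _ ih _)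
  let F : ℕ → ℕ → A := fun k i => μ ⟨u⁻¹ ^ i * f^[k] (x : ↥T) * (u⁻¹ ^ i)⁻¹, hM.conj_mem _ (hm k) _⟩
  have h1 := prod_eq_of_iterate hA F (fun k i => by
    show μ _ = μ _ * (μ _)⁻¹
    rw [mul_comm, ← map_inv, ← map_mul]
    congr 1
    apply Subtype.ext
    simp only [Subgroup.coe_mul, Subgroup.coe_inv, Function.iterate_succ_apply']
    show u⁻¹ ^ i * ((f^[k] (x : ↥T))⁻¹ * u⁻¹ * f^[k] (x : ↥T) * u) * (u⁻¹ ^ i)⁻¹ = _
    rw [pow_succ]
    group)
  refine h1.symm.trans ?_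
  obtain ⟨d, hd⟩ : ∃ d, d = f^[p - 1] (x : ↥T) := ⟨_, rfl⟩
  have hdG : (fun t : G => t⁻¹ * (u : G)⁻¹ * t * (u : G))^[p - 1] ((x : ↥T) : G) = (d : G) := by
    have hk : ∀ k : ℕ, ((f^[k] (x : ↥T) : ↥T) : G) =
        (fun t : G => t⁻¹ * (u : G)⁻¹ * t * (u : G))^[k] ((x : ↥T) : G) := by
      intro k
      induction k with
      | zero => rfl
      | succ k ih =>
        rw [Function.iterate_succ_apply', Function.iterate_succ_apply', ← ih]
        rfl
    rw [hd, hk]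
  have hdW : (d : G) ∈ W := by
    obtain ⟨k, hk⟩ : ∃ k, p - 1 = k + 1 := ⟨p - 2, by have := hp.two_le; omega⟩
    rw [hd, hk, Function.iterate_succ_apply']
    show ((f^[k] (x : ↥T) : ↥T) : G)⁻¹ * (u : G)⁻¹ * (f^[k] (x : ↥T) : ↥T) * (u : G) ∈ W
    refine W.mul_mem ?_ hu
    have := hWn _ (T.inv_mem (f^[k] (x : ↥T)).2) _ (W.inv_mem hu)
    rwa [inv_inv] at this
  obtain ⟨W₀, hW₀⟩ : ∃ W₀, W₀ = M.comap (Subgroup.inclusion hWT) := ⟨_, rfl⟩
  haveI : W₀.Normal := hW₀ ▸ hM.comap _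
  have hW₀top : W₀ ≠ ⊤ := fun ht => huM (by
    have h2 : (⟨(u : G), hu⟩ : W) ∈ W₀ := ht ▸ Subgroup.mem_top _
    rw [hW₀] at h2
    exact h2)
  have hidx : W₀.index = p := by
    have h2 : W₀.index ∣ p := by
      rw [← hMi, hW₀, Subgroup.index_comap]
      exact Subgroup.relIndex_dvd_index_of_normal M _
    exact ((Nat.dvd_prime hp).1 h2).resolve_left fun h3 => hW₀top (Subgroup.index_eq_one.1 h3)
  have hco : IsCoatom W₀ := by
    refine ⟨hW₀top, fun K hK => ?_⟩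
    have h2 : K.index ∣ p := hidx ▸ Subgroup.index_dvd_of_le hK.le
    rcases (Nat.dvd_prime hp).1 h2 with h3 | h3
    · exact Subgroup.index_eq_one.1 h3
    · exfalso
      refine hK.ne (Subgroup.eq_of_le_of_card_ge hK.le ?_)
      have e1 := W₀.card_mul_index
      have e2 := K.card_mul_index
      rw [hidx] at e1
      rw [h3, ← e1] at e2
      exact (Nat.eq_of_mul_eq_mul_right hp.pos e2).le
  have hdW₀ : (⟨(d : G), hdW⟩ : W) ∈ W₀ := by
    rw [hW₀]
    show (⟨(d : G), _⟩ : ↥T) ∈ M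
    exact hd ▸ hm (p - 1)
  obtain ⟨_, ⟨w, hw, rfl⟩, hwe⟩ := h _ hdW hdG W₀ hco ⟨_, hdW₀, rfl⟩
  let ν : ↥W₀ →* A := μ.comp (((Subgroup.inclusion hWT).comp W₀.subtype).codRestrict M fun w => by
    exact hW₀.le w.2)
  have hν : ν w = 1 := by
    suffices hle : frattini ↥W₀ ≤ ν.ker from hle hw
    rcases eq_or_ne ν.ker ⊤ with ht | ht
    · rw [ht]; exact le_top
    have hker : ν.ker = ⨅ K ∈ {K : Subgroup ↥W₀ | ν.ker ≤ K ∧ IsCoatom K}, K := by
      refine le_antisymm (le_iInf₂ fun K hK => hK.1) fun z hz => ?_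
      by_contra hzk
      have hz1 : ν z ≠ 1 := fun h2 => hzk h2
      obtain ⟨K, ⟨hkK, hzK⟩, hmax⟩ := Set.exists_max_image {K : Subgroup ↥W₀ | ν.ker ≤ K ∧ z ∉ K}
        (fun K : Subgroup ↥W₀ => Nat.card K) (Set.toFinite _) ⟨_, le_rfl, hzk⟩
      refine hzK (Subgroup.mem_iInf.1 (Subgroup.mem_iInf.1 hz K) ⟨hkK, ?_⟩)
      refine ⟨fun h2 => hzK (h2 ▸ Subgroup.mem_top z), fun J hJ => ?_⟩
      have hzJ : z ∈ J := by
        by_contra hzJ
        exact hJ.ne (Subgroup.eq_of_le_of_card_ge hJ.le (hmax J ⟨hkK.trans hJ.le, hzJ⟩))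
      refine (Subgroup.eq_top_iff' J).2 fun v => ?_
      obtain ⟨j, hj, hjK⟩ := SetLike.exists_of_lt hJ
      have hjz : ν z ∈ (K ⊔ Subgroup.zpowers j).map ν := by
        have hzin : z ∈ K ⊔ Subgroup.zpowers j := by
          by_contra h2
          have := Subgroup.eq_of_le_of_card_ge le_sup_left (hmax _ ⟨hkK.trans le_sup_left, h2⟩)
          exact hjK (this ▸ Subgroup.mem_sup_right (Subgroup.mem_zpowers j))
        exact ⟨z, hzin, rfl⟩
      by_cases hv : v ∈ K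
      · exact hJ.le hv
      have hzin : z ∈ K ⊔ Subgroup.zpowers v := by
        by_contra h2
        have := Subgroup.eq_of_le_of_card_ge le_sup_left (hmax _ ⟨hkK.trans le_sup_left, h2⟩)
        exact hv (this ▸ Subgroup.mem_sup_right (Subgroup.mem_zpowers v))
      haveI : K.Normal := ⟨fun a ha b => by
        have h2 : (b * a * b⁻¹) * a⁻¹ ∈ ν.ker := by
          rw [MonoidHom.mem_ker, map_mul, map_mul, map_mul, map_inv, map_inv, mul_inv_cancel_comm,
            mul_inv_cancel]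
        have := K.mul_mem (hkK h2) ha
        rwa [inv_mul_cancel_right] at this⟩
      obtain ⟨a, ha, b, hb, hab⟩ := Subgroup.mem_sup_of_normal_left.1 hzin
      obtain ⟨n, rfl⟩ := Subgroup.mem_zpowers_iff.1 hb
      have hvp : v ^ p ∈ K := hkK (by rw [MonoidHom.mem_ker, map_pow, hA])
      have hn : ¬ (p : ℤ) ∣ n := by
        rintro ⟨k, rfl⟩
        refine hzK (hab ▸ K.mul_mem ha ?_)
        rw [zpow_mul, zpow_natCast]
        exact K.zpow_mem hvp k
      obtain ⟨s, t, hst⟩ := ((Nat.prime_iff_prime_int.1 hp).irreducible.coprime_iff_not_dvd.2 hn)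
      have hvn : v ^ n ∈ J := by
        have : a⁻¹ * z ∈ J := J.mul_mem (J.inv_mem (hJ.le ha)) hzJ
        rwa [← hab, inv_mul_cancel_left] at this
      have hv' : v ^ (s * (p : ℤ) + t * n) ∈ J := by
        rw [zpow_add, mul_comm s, mul_comm t, zpow_mul, zpow_mul, zpow_natCast]
        exact J.mul_mem (J.zpow_mem (hJ.le hvp) s) (J.zpow_mem hvn t)
      rwa [hst, zpow_one] at hv'
    rw [hker]
    exact le_iInf₂ fun K hK => frattini_le_coatom hK.2
  show μ _ = 1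
  have he : (⟨u⁻¹ ^ 0 * f^[p - 1] (x : ↥T) * (u⁻¹ ^ 0)⁻¹, hM.conj_mem _ (hm _) _⟩ : M) =
      ((Subgroup.inclusion hWT).comp W₀.subtype).codRestrict M (fun w => by
        exact hW₀.le w.2) w := Subtype.ext (Subtype.ext (by
    simp only [pow_zero, inv_one, one_mul, mul_one, ← hd]
    exact hwe.symm))
  rw [he]
  exact hν

open scoped Classical in
/-- Over orbits of a p-group in which a subgroup `W` fixes no point, a cocycle has product one. -/
theorem prod_cocycle_avoid {Q : Type*} [MulAction G Q] (hA : ∀ a : A, a ^ p = 1) (c : G → Q → A)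
    (hc : ∀ a b q, c (a * b) q = c a (b • q) * c b q) (S W : Subgroup G) (hS : IsPGroup p S)
    (hWn : ∀ s ∈ S, ∀ w ∈ W, s * w * s⁻¹ ∈ W)
    (hiter : ∀ u ∈ S, ∀ z ∈ W, ∀ y ∈ W, (fun t : G => t⁻¹ * z⁻¹ * t * z)^[p - 1] u = y →
      ∀ W₀ : Subgroup ↥W, IsCoatom W₀ → y ∈ W₀.map W.subtype → y ∈ ((frattini ↥W₀).map W₀.subtype).map W.subtype) (x : G)
    (hx0 : ∀ (n : ℕ) (q : Q), p ∣ n → x ^ n • q = q → c (x ^ n) q = 1) :
    ∀ (N : ℕ) (T : Subgroup G), Nat.card T = N → T ≤ S → W ≤ T → x ∈ T → ∀ X : Finset Q,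
      (∀ t ∈ T, ∀ q ∈ X, t • q ∈ X) → (∀ q ∈ X, ∃ w ∈ W, w • q ≠ q) → ∏ q ∈ X, c x q = 1 := by
  have hp : p.Prime := Fact.out
  intro N
  induction N using Nat.strong_induction_on with
  | _ N ih =>
  intro T hN hTS hWT hxT X
  induction X using Finset.strongInduction with
  | _ X ihX =>
  intro hTX hWX
  rcases X.eq_empty_or_nonempty with rfl | ⟨q₀, hq₀⟩
  · simp
  let O : Finset Q := X.filter fun q => ∃ g : T, (g : G) • q₀ = q
  have hOX : O ⊆ X := Finset.filter_subset _ _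
  have hOinv : ∀ t ∈ T, ∀ q ∈ O, t • q ∈ O := by
    intro t ht q hq
    obtain ⟨hqX, g, rfl⟩ := Finset.mem_filter.1 hq
    exact Finset.mem_filter.2 ⟨hTX t ht _ hqX, ⟨t, ht⟩ * g, mul_smul t (g : G) q₀⟩
  by_cases hOne : O ≠ X
  · rw [← Finset.prod_sdiff hOX, ihX O (lt_of_le_of_ne hOX hOne) hOinv (fun q hq => hWX q (hOX hq)), mul_one]
    refine ihX (X \ O) (Finset.sdiff_ssubset hOX ⟨q₀, Finset.mem_filter.2 ⟨hq₀, 1, one_smul _ _⟩⟩) ?_
      (fun q hq => hWX q (Finset.mem_sdiff.1 hq).1)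
    intro t ht q hq
    obtain ⟨hqX, hqO⟩ := Finset.mem_sdiff.1 hq
    refine Finset.mem_sdiff.2 ⟨hTX t ht q hqX, fun h => hqO ?_⟩
    have := hOinv t⁻¹ (T.inv_mem ht) _ h
    rwa [inv_smul_smul] at this
  push Not at hOne
  have hex : ∀ q ∈ X, ∃ g : T, (g : G) • q₀ = q := fun q hq => (Finset.mem_filter.1 (hOne.symm ▸ hq : q ∈ O)).2
  have hTp : IsPGroup p T := hS.to_le hTS
  obtain ⟨n, hn⟩ := IsPGroup.iff_card.1 hTp
  obtain ⟨a, ha⟩ := IsPGroup.iff_card.1 (hTp.to_subgroup ((MulAction.stabilizer G q₀).subgroupOf T))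
  obtain ⟨w0, hw0, hw0ne⟩ := hWX q₀ hq₀
  have han : a < n := by
    have h1 : Nat.card ((MulAction.stabilizer G q₀).subgroupOf T) < Nat.card T :=
      lt_of_le_of_ne (Subgroup.card_le_card_group _) fun h => hw0ne (by
        have h2 : (⟨w0, hWT hw0⟩ : T) ∈ (MulAction.stabilizer G q₀).subgroupOf T := by
          rw [Subgroup.eq_top_of_card_eq _ h]; trivial
        exact h2)
    rw [hn, ha] at h1
    exact (Nat.pow_lt_pow_iff_right hp.one_lt).1 h1
  obtain ⟨M, hMc, hHM⟩ := Sylow.exists_subgroup_card_pow_prime_le p (n := a) (m := n - 1)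
    (by rw [hn]; exact pow_dvd_pow p (by omega)) _ ha (by omega)
  have hMi : M.index = p := by
    have h := M.index_mul_card
    rw [hn, hMc] at h
    refine Nat.eq_of_mul_eq_mul_right (pow_pos hp.pos (n - 1)) (h.trans ?_)
    rw [← pow_succ', show n - 1 + 1 = n by omega]
  haveI hMn : M.Normal := Subgroup.normal_of_index_eq_minFac_card (by
    rw [hMi, hn, Nat.pow_minFac (by omega), hp.minFac_eq])
  let g : Q → T := fun q => if h : ∃ g : T, (g : G) • q₀ = q then h.choose else 1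
  have hg : ∀ q ∈ X, (g q : G) • q₀ = q := fun q hq => by
    show ((dite _ _ _ : T) : G) • q₀ = q
    rw [dif_pos (hex q hq)]
    exact (hex q hq).choose_spec
  let β : Q → T ⧸ M := fun q => (g q : T ⧸ M)
  have hβ : ∀ (a : T), ∀ q ∈ X, β ((a : G) • q) = (a : T ⧸ M) * β q := fun a q hq => by
    show (g ((a : G) • q) : T ⧸ M) = _
    rw [← QuotientGroup.mk_mul, QuotientGroup.eq]
    refine hHM ?_
    show ((g ((a : G) • q))⁻¹ * (a * g q) : T).1 • q₀ = q₀
    simp only [Subgroup.coe_mul, Subgroup.coe_inv, mul_smul]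
    rw [inv_smul_eq_iff, hg q hq, hg _ (hTX a a.2 q hq)]
  set z : T := ⟨x, hxT⟩ with hz
  obtain hzM | hzM := em (z ∈ M)
  swap
  · let π : Equiv.Perm {q // q ∈ X} :=
      { toFun := fun q => ⟨x • (q : Q), hTX x hxT q q.2⟩
        invFun := fun q => ⟨x⁻¹ • (q : Q), hTX x⁻¹ (T.inv_mem hxT) q q.2⟩
        left_inv := fun q => Subtype.ext (inv_smul_smul x (q : Q))
        right_inv := fun q => Subtype.ext (smul_inv_smul x (q : Q)) }
    have hπ : ∀ (i : ℕ) (q : {q // q ∈ X}), ((π ^ i) q : Q) = x ^ i • (q : Q) := fun i q => by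
      induction i with
      | zero => simp
      | succ i ih =>
        rw [pow_succ', pow_succ', mul_smul, ← ih]
        rfl
    rw [← Finset.prod_coe_sort]
    refine (Cfsg.Agent.Local.FS.prod_eq_pow_card π (fun q => c x (q : Q)) 1 fun q m hm => ?_).trans (one_pow _)
    simp only [hπ, prod_iterate hc, one_pow]
    have hm' := congrArg Subtype.val hm
    rw [hπ] at hm'
    refine hx0 m q ?_ hm'
    have h1 := hβ (z ^ m) q q.2
    rw [SubgroupClass.coe_pow, hm', right_eq_mul, QuotientGroup.mk_pow] at h1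
    have h2 : orderOf (z : T ⧸ M) = p := by
      refine orderOf_eq_prime ?_ fun h => hzM ((QuotientGroup.eq_one_iff z).1 h)
      rw [← hMi, Subgroup.index_eq_card]; exact pow_card_eq_one'
    exact h2 ▸ orderOf_dvd_of_pow_eq_one h1
  let blk : T ⧸ M → Finset Q := fun j => X.filter fun q => β q = j
  have hblk : ∀ j (m : M), ∀ q, q ∈ blk j → ((m : T) : G) • q ∈ blk j := fun j m q hq => by
    obtain ⟨hqX, hqj⟩ := Finset.mem_filter.1 hq
    exact Finset.mem_filter.2 ⟨hTX _ (m : T).2 q hqX,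
      by rw [hβ _ _ hqX, (QuotientGroup.eq_one_iff (m : T)).2 m.2, one_mul, hqj]⟩
  haveI : Fintype (T ⧸ M) := Fintype.ofFinite _
  have hsum : ∏ q ∈ X, c x q = ∏ j : T ⧸ M, ∏ q ∈ blk j, c x q :=
    (Finset.prod_fiberwise X β (fun q => c x q)).symm
  by_cases hWM : W.subgroupOf T ≤ M
  · rw [hsum]
    refine Finset.prod_eq_one fun j _ => ?_
    refine ih (Nat.card (M.map T.subtype)) ?_ (M.map T.subtype) rfl ((Subgroup.map_subtype_le M).trans hTS)
      (fun w hw => ⟨⟨w, hWT hw⟩, hWM hw, rfl⟩) ⟨z, hzM, rfl⟩ (blk j) ?_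
      (fun q hq => hWX q (Finset.mem_filter.1 hq).1)
    · rw [← hN, Subgroup.card_map_of_injective T.subtype_injective, hn, hMc]
      exact Nat.pow_lt_pow_right hp.one_lt (by omega)
    · rintro _ ⟨m, hm, rfl⟩ q hq
      exact hblk j ⟨m, hm⟩ q hq
  · obtain ⟨⟨u0, hu0T⟩, hu0W, hu0M⟩ := SetLike.not_le_iff_exists.1 hWM
    set u : T := ⟨u0, hu0T⟩ with hu
    have hshift : ∀ j (m : T), m ∈ M → ∀ f : Q → A, ∏ q ∈ blk j, f ((m : G) • q) = ∏ q ∈ blk j, f q := by
      intro j m hm f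
      refine Finset.prod_bij (fun q _ => (m : G) • q) (fun q hq => hblk j ⟨m, hm⟩ q hq)
        (fun q _ q' _ h => MulAction.injective (m : G) h)
        (fun q hq => ⟨((m : G))⁻¹ • q, ?_, smul_inv_smul _ _⟩) fun q _ => rfl
      exact hblk j ⟨m⁻¹, M.inv_mem hm⟩ q hq
    let μ : T ⧸ M → (M →* A) := fun j =>
      MonoidHom.mk' (fun m => ∏ q ∈ blk j, c ((m : T) : G) q) fun m m' => by
        simp only [Subgroup.coe_mul, hc, Finset.prod_mul_distrib]
        rw [hshift j (m' : T) m'.2 (fun q => c ((m : T) : G) q)]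
    have hμ : ∀ (a : T) (j : T ⧸ M) (m : M),
        μ ((a : T ⧸ M) * j) ⟨a * m * a⁻¹, hMn.conj_mem _ m.2 _⟩ = μ j m := by
      intro a j m
      show ∏ q ∈ blk ((a : T ⧸ M) * j), c ((a * (m : T) * a⁻¹ : T) : G) q = ∏ q ∈ blk j, c ((m : T) : G) q
      have e : ∀ q ∈ blk j, c ((a * (m : T) * a⁻¹ : T) : G) ((a : G) • q) =
          c (a : G) (((m : T) : G) • q) * c ((m : T) : G) q * (c (a : G) q)⁻¹ := by
        intro q _
        simp only [Subgroup.coe_mul, Subgroup.coe_inv]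
        have h1 := hc ((a : G) * ((m : T) : G) * (a : G)⁻¹) (a : G) q
        rw [inv_mul_cancel_right, hc] at h1
        exact eq_mul_inv_of_mul_eq h1.symm
      rw [← Finset.prod_bij (s := blk j) (f := fun q => c ((a * (m : T) * a⁻¹ : T) : G) ((a : G) • q))
        (fun q _ => (a : G) • q)
        (fun q hq => by
          obtain ⟨hqX, hqj⟩ := Finset.mem_filter.1 hq
          exact Finset.mem_filter.2 ⟨hTX _ a.2 q hqX, by rw [hβ a q hqX, hqj]⟩)
        (fun q _ q' _ h => (MulAction.injective (a : G)) h)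
        (fun q hq => by
          obtain ⟨hqX, hqj⟩ := Finset.mem_filter.1 hq
          refine ⟨((a : G))⁻¹ • q, Finset.mem_filter.2 ⟨hTX _ (T.inv_mem a.2) q hqX, ?_⟩, smul_inv_smul _ _⟩
          have h1 := hβ a⁻¹ q hqX
          rw [Subgroup.coe_inv] at h1
          rw [h1, hqj, QuotientGroup.mk_inv, inv_mul_cancel_left])
        fun q _ => rfl,
        Finset.prod_congr rfl e, Finset.prod_mul_distrib, Finset.prod_mul_distrib, Finset.prod_inv_distrib,
        hshift j (m : T) m.2 (fun q => c (a : G) q), mul_inv_cancel_comm]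
    have hu' : orderOf (u : T ⧸ M) = p := by
      refine orderOf_eq_prime ?_ fun h => hu0M ((QuotientGroup.eq_one_iff u).1 h)
      rw [← hMi, Subgroup.index_eq_card]; exact pow_card_eq_one'
    have hbij : Function.Bijective fun i : Fin p => (u : T ⧸ M) ^ (i : ℕ) := by
      rw [Nat.bijective_iff_injective_and_card]
      refine ⟨fun i j h => Fin.ext ?_, by rw [Nat.card_eq_fintype_card, Fintype.card_fin, ← hMi, Subgroup.index_eq_card]⟩
      exact pow_injOn_Iio_orderOf (by rw [Set.mem_Iio, hu']; exact i.2)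
        (by rw [Set.mem_Iio, hu']; exact j.2) h
    calc ∏ q ∈ X, c x q = ∏ j : T ⧸ M, μ j ⟨z, hzM⟩ := hsum
      _ = ∏ i : Fin p, μ ((u : T ⧸ M) ^ (i : ℕ)) ⟨z, hzM⟩ :=
          (hbij.prod_comp fun j => μ j ⟨z, hzM⟩).symm
      _ = ∏ i ∈ Finset.range p, μ 1 ⟨u⁻¹ ^ i * z * (u⁻¹ ^ i)⁻¹, hMn.conj_mem _ hzM _⟩ := by
          rw [Finset.prod_range]
          refine Finset.prod_congr rfl fun i _ => ?_
          have h1 := hμ (u⁻¹ ^ (i : ℕ)) ((u : T ⧸ M) ^ (i : ℕ)) ⟨z, hzM⟩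
          rw [QuotientGroup.mk_pow, QuotientGroup.mk_inv, inv_pow, inv_mul_cancel] at h1
          exact h1.symm
      _ = 1 := by
          exact norm_eq_one_mod hA T M W hWT (fun t ht w hw => hWn t (hTS ht) w hw) hMi (μ 1) u hu0W hu0M ⟨z, hzM⟩
            fun y hy hy' W₀ hW₀ hyW₀ => hiter x (hTS hxT) u0 hu0W y hy hy' W₀ hW₀ hyW₀


variable {p : ℕ}

namespace HomPart

variable {G : Type*} [Group G] [Finite G] {p : ℕ} [Fact p.Prime]

open scoped Classical in
/-- Every homomorphism of `H` to a group of exponent `p` is trivial on `S ∩ O^p(G)`. -/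
theorem hom_eq_one (S : Sylow p G) (H W : Subgroup G) (hSH : (S : Subgroup G) ≤ H) (hWS : W ≤ (S : Subgroup G))
    (hfix : ∀ g : G, (∀ w ∈ W, g⁻¹ * w * g ∈ H) → g ∈ H)
    (hWn : ∀ s ∈ (S : Subgroup G), ∀ w ∈ W, s * w * s⁻¹ ∈ W)
    (hiter : ∀ u ∈ (S : Subgroup G), ∀ z ∈ W, ∀ y ∈ W, (fun t : G => t⁻¹ * z⁻¹ * t * z)^[p - 1] u = y →
      ∀ W₀ : Subgroup ↥W, IsCoatom W₀ → y ∈ W₀.map W.subtype → y ∈ ((frattini ↥W₀).map W₀.subtype).map W.subtype)
    {A : Type*} [CommGroup A] (hA : ∀ a : A, a ^ p = 1) (χ : H →* A) :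
    ∀ (N : ℕ) (x : G), orderOf x = N → ∀ hx : x ∈ (S : Subgroup G), x ∈ pResidual p G → χ ⟨x, hSH hx⟩ = 1 := by
  have hp : p.Prime := Fact.out
  let σ : G ⧸ H → G := Quotient.out
  have hσ : ∀ q, (σ q : G ⧸ H) = q := Quotient.out_eq
  have hmem : ∀ (a : G) (q : G ⧸ H), (σ (a • q))⁻¹ * a * σ q ∈ H := fun a q => by
    rw [mul_assoc, ← QuotientGroup.eq, hσ]
    show a • q = a • (σ q : G ⧸ H)
    rw [hσ]
  let c : G → G ⧸ H → A := fun a q => χ ⟨_, hmem a q⟩
  have hc : ∀ a b q, c (a * b) q = c a (b • q) * c b q := fun a b q => by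
    show χ _ = χ _ * χ _
    rw [← map_mul]
    congr 1
    apply Subtype.ext
    simp only [Subgroup.coe_mul, mul_smul]
    group
  letI : Fintype (G ⧸ H) := Fintype.ofFinite _
  let V : G →* A := MonoidHom.mk' (fun a => ∏ q, c a q) fun a b => by
    show ∏ q, c (a * b) q = (∏ q, c a q) * ∏ q, c b q
    rw [Finset.prod_congr rfl (fun q _ => hc a b q), Finset.prod_mul_distrib]
    exact congrArg (· * _) (Equiv.prod_comp (MulAction.toPerm b) (c a))
  have hV : ∀ y ∈ pResidual p G, V y = 1 := by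
    intro y hy
    refine MonoidHom.mem_ker.1 ((Subgroup.closure_le V.ker).2 (fun g hg => ?_) hy)
    refine MonoidHom.mem_ker.2 (orderOf_eq_one_iff.1 ?_)
    exact Nat.eq_one_of_dvd_coprimes (hg : (orderOf g).Coprime p) (orderOf_map_dvd V g)
      (orderOf_dvd_of_pow_eq_one (hA _))
  intro N
  induction N using Nat.strong_induction_on with
  | _ N ih =>
  intro x hN hxS hxR
  set q₀ : G ⧸ H := ((1 : G) : G ⧸ H) with hq₀
  have hσ₀ : σ q₀ ∈ H := by
    have h := QuotientGroup.eq.1 (hσ q₀)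
    rw [mul_one] at h
    exact H.inv_mem_iff.1 h
  have hfix0 : ∀ t ∈ H, t • q₀ = q₀ := fun t ht => by
    show ((t * 1 : G) : G ⧸ H) = ((1 : G) : G ⧸ H)
    rw [mul_one, QuotientGroup.eq, mul_one]
    exact H.inv_mem ht
  have hS' : IsPGroup p (S : Subgroup G) := S.2
  have h0 : c x q₀ = χ ⟨x, hSH hxS⟩ := by
    have e : (⟨_, hmem x q₀⟩ : H) = (⟨σ q₀, hσ₀⟩ : H)⁻¹ * ⟨x, hSH hxS⟩ * ⟨σ q₀, hσ₀⟩ := by
      apply Subtype.ext
      simp only [Subgroup.coe_mul, Subgroup.coe_inv, hfix0 x (hSH hxS)]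
    show χ _ = _
    rw [e, map_mul, map_mul, map_inv, mul_comm (χ ⟨σ q₀, hσ₀⟩)⁻¹, inv_mul_cancel_right]
  have h1 : ∏ q ∈ Finset.univ.erase q₀, c x q = 1 := by
    refine prod_cocycle_avoid hA c hc (S : Subgroup G) W hS' hWn hiter x ?_ _ (S : Subgroup G) rfl le_rfl hWS hxS _ ?_ ?_
    · intro n q hn hq
      rcases eq_or_ne x 1 with rfl | hx1
      · show χ _ = 1
        rw [show (⟨_, hmem ((1 : G) ^ n) q⟩ : H) = 1 from Subtype.ext (by simp), map_one]
      have hyH : (σ q)⁻¹ * x ^ n * σ q ∈ H := by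
        have := hmem (x ^ n) q
        rwa [hq] at this
      have hyp : IsPGroup p (Subgroup.zpowers ((⟨_, hyH⟩ : H))) := by
        obtain ⟨k, hk⟩ := IsPGroup.iff_orderOf.1 hS' ⟨x, hxS⟩
        rw [Subgroup.orderOf_mk] at hk
        have h2 : orderOf ((⟨_, hyH⟩ : H)) ∣ p ^ k := by
          rw [Subgroup.orderOf_mk, show (σ q)⁻¹ * x ^ n * σ q = (σ q)⁻¹ * x ^ n * ((σ q)⁻¹)⁻¹ by rw [inv_inv],
            ← MulAut.conj_apply, MulEquiv.orderOf_eq, ← hk]
          exact orderOf_pow_dvd n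
        obtain ⟨j, -, hj⟩ := (Nat.dvd_prime_pow hp).1 h2
        exact IsPGroup.of_card (by rw [Nat.card_zpowers, hj])
      obtain ⟨P', hP'⟩ := hyp.exists_le_sylow
      obtain ⟨h, hh⟩ := MulAction.exists_smul_eq H P' (S.subtype hSH)
      have hy' : h * ⟨_, hyH⟩ * h⁻¹ ∈ ((S.subtype hSH : Sylow p H) : Subgroup H) := by
        rw [← hh, Sylow.coe_subgroup_smul]
        exact ⟨_, hP' (Subgroup.mem_zpowers _), rfl⟩
      set y : H := h * ⟨_, hyH⟩ * h⁻¹ with hy
      have hyS : (y : G) ∈ (S : Subgroup G) := hy'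
      have hlt : orderOf (y : G) < N := by
        rw [← hN, hy, Subgroup.coe_mul, Subgroup.coe_mul, Subgroup.coe_inv, ← MulAut.conj_apply, MulEquiv.orderOf_eq]
        show orderOf ((σ q)⁻¹ * x ^ n * σ q) < _
        rw [show (σ q)⁻¹ * x ^ n * σ q = (σ q)⁻¹ * x ^ n * ((σ q)⁻¹)⁻¹ by rw [inv_inv],
            ← MulAut.conj_apply, MulEquiv.orderOf_eq]
        obtain ⟨k, hk⟩ := IsPGroup.iff_orderOf.1 hS' ⟨x, hxS⟩
        rw [Subgroup.orderOf_mk] at hk
        rcases k with _ | k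
        · exact absurd (orderOf_eq_one_iff.1 (by simpa using hk)) hx1
        obtain ⟨m, rfl⟩ := hn
        calc orderOf (x ^ (p * m)) ≤ orderOf (x ^ p) := Nat.le_of_dvd (orderOf_pos _)
              (by rw [pow_mul]; exact orderOf_pow_dvd m)
          _ = p ^ k := by
            rw [orderOf_pow_of_dvd hp.ne_zero (hk ▸ dvd_pow_self p (Nat.succ_ne_zero k)), hk, pow_succ,
              Nat.mul_div_cancel _ hp.pos]
          _ < p ^ (k + 1) := Nat.pow_lt_pow_right hp.one_lt (Nat.lt_succ_self k)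
          _ = orderOf x := hk.symm
      have hyR : (y : G) ∈ pResidual p G := by
        haveI : (pResidual p G).Normal := Subgroup.normal_of_characteristic _
        rw [hy, Subgroup.coe_mul, Subgroup.coe_mul, Subgroup.coe_inv]
        refine Subgroup.Normal.conj_mem inferInstance _ ?_ _
        show (σ q)⁻¹ * x ^ n * σ q ∈ _
        have := Subgroup.Normal.conj_mem (inferInstance : (pResidual p G).Normal) _ (pow_mem hxR n) (σ q)⁻¹
        rwa [inv_inv] at this
      have h2 := ih _ hlt (y : G) rfl hyS hyR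
      rw [show (⟨(y : G), hSH hyS⟩ : H) = y from rfl, hy, map_mul, map_mul, map_inv, mul_comm (χ h),
        mul_inv_cancel_right] at h2
      show χ _ = 1
      rw [show (⟨_, hmem (x ^ n) q⟩ : H) = ⟨_, hyH⟩ from Subtype.ext (by simp only [hq])]
      exact h2
    · intro t ht q hq
      refine Finset.mem_erase.2 ⟨fun h => Finset.ne_of_mem_erase hq ?_, Finset.mem_univ _⟩
      rw [← inv_smul_smul t q, h, hfix0 t⁻¹ (H.inv_mem (hSH ht))]
    · intro q hq
      by_contra hall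
      push Not at hall
      refine Finset.ne_of_mem_erase hq ?_
      have hg : σ q ∈ H := hfix _ fun w hw => by
        have := hmem w q
        rwa [hall w hw] at this
      rw [← hσ q, hq₀, QuotientGroup.eq, mul_one]
      exact H.inv_mem hg
  have h2 := hV x hxR
  change ∏ q, c x q = 1 at h2
  rwa [← Finset.mul_prod_erase Finset.univ (fun q => c x q) (Finset.mem_univ q₀), h1, mul_one, h0] at h2

end HomPart

section

variable {G : Type*} [Group G] [Finite G] {p : ℕ} [Fact p.Prime]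

/-- Hall–Wielandt with the Engel condition modulo Frattini subgroups.. -/
theorem pResidualOf_eq (S : Sylow p G) (H W : Subgroup G) (hSH : (S : Subgroup G) ≤ H) (hWS : W ≤ (S : Subgroup G))
    (hfix : ∀ g : G, (∀ w ∈ W, g⁻¹ * w * g ∈ H) → g ∈ H)
    (hWn : ∀ s ∈ (S : Subgroup G), ∀ w ∈ W, s * w * s⁻¹ ∈ W)
    (hiter : ∀ u ∈ (S : Subgroup G), ∀ z ∈ W, ∀ y ∈ W, (fun t : G => t⁻¹ * z⁻¹ * t * z)^[p - 1] u = y →
      ∀ W₀ : Subgroup ↥W, IsCoatom W₀ → y ∈ W₀.map W.subtype → y ∈ ((frattini ↥W₀).map W₀.subtype).map W.subtype) :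
    pResidualOf p H = pResidual p G ⊓ H := by
  classical
  set D := pResidual p ↥H with hD
  haveI : D.Normal := Subgroup.normal_of_characteristic _
  haveI : (pResidual p G).Normal := Subgroup.normal_of_characteristic _
  set S' : Sylow p H := S.subtype hSH with hS'
  have hRle : pResidualOf p H ≤ pResidual p G := by
    rw [pResidualOf, pResidual, MonoidHom.map_closure]
    refine Subgroup.closure_mono ?_
    rintro _ ⟨g, hg, rfl⟩
    show (orderOf (g : G)).Coprime p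
    rwa [Subgroup.orderOf_coe]
  let ψ : ↥(S : Subgroup G) →* H ⧸ D := (QuotientGroup.mk' D).comp (Subgroup.inclusion hSH)
  have hdec : ∀ y : H, ∃ (s : ↥(S : Subgroup G)) (d : H), d ∈ D ∧ y = d * Subgroup.inclusion hSH s := fun y => by
    have htop : (D : Subgroup H) ⊔ (S' : Subgroup H) = ⊤ := pResidual_sup_sylow S'
    obtain ⟨d, hd, s, hs, rfl⟩ := Subgroup.mem_sup_of_normal_left.1 (htop.ge (Subgroup.mem_top y))
    exact ⟨⟨s, hs⟩, d, hd, rfl⟩
  have hψ : Function.Surjective ψ := fun t => by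
    obtain ⟨y, rfl⟩ := QuotientGroup.mk_surjective t
    obtain ⟨s, d, hd, rfl⟩ := hdec y
    refine ⟨s, ?_⟩
    show ((Subgroup.inclusion hSH s : H) : H ⧸ D) = _
    rw [QuotientGroup.mk_mul, (QuotientGroup.eq_one_iff d).2 hd, one_mul]
  have hker : ∀ s : ↥(S : Subgroup G), ψ s = 1 ↔ (s : G) ∈ pResidualOf p H := fun s => by
    refine (QuotientGroup.eq_one_iff _).trans ⟨fun h => ⟨_, h, rfl⟩, ?_⟩
    rintro ⟨d, hd, e⟩
    exact (show Subgroup.inclusion hSH s = d from Subtype.ext e.symm) ▸ hd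
  set N' : Subgroup ↥(S : Subgroup G) := ψ.ker ⊔ frattini ↥(S : Subgroup G) with hN'
  haveI : N'.Normal := Subgroup.sup_normal _ _
  haveI : Group.IsNilpotent ↥(S : Subgroup G) := S.2.isNilpotent
  letI : CommGroup (↥(S : Subgroup G) ⧸ N') :=
    { (inferInstance : Group (↥(S : Subgroup G) ⧸ N')) with
      mul_comm := fun a b => by
        obtain ⟨a, rfl⟩ := QuotientGroup.mk_surjective a
        obtain ⟨b, rfl⟩ := QuotientGroup.mk_surjective b
        rw [← QuotientGroup.mk_mul, ← QuotientGroup.mk_mul, QuotientGroup.eq]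
        refine (le_sup_right : frattini ↥(S : Subgroup G) ≤ N') (Cfsg.Agent.Perm.commutator_le_frattini ?_)
        have := Subgroup.commutator_mem_commutator (Subgroup.mem_top b⁻¹) (Subgroup.mem_top a⁻¹)
        rw [commutatorElement_def, inv_inv, inv_inv] at this
        rw [commutator_def, mul_inv_rev]
        simpa [mul_assoc] using this }
  have hA : ∀ a : ↥(S : Subgroup G) ⧸ N', a ^ p = 1 := fun a => by
    obtain ⟨a, rfl⟩ := QuotientGroup.mk_surjective a
    rw [← QuotientGroup.mk_pow, QuotientGroup.eq_one_iff]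
    exact (le_sup_right : frattini ↥(S : Subgroup G) ≤ N') (Cfsg.Agent.Solv.pow_mem_frattini S.2 a)
  let χ : H →* ↥(S : Subgroup G) ⧸ N' :=
    (ψ.liftOfSurjective hψ ⟨QuotientGroup.mk' N', by rw [QuotientGroup.ker_mk']; exact le_sup_left⟩).comp
      (QuotientGroup.mk' D)
  have hχ : ∀ s : ↥(S : Subgroup G), χ ⟨s, hSH s.2⟩ = (s : ↥(S : Subgroup G) ⧸ N') := fun s =>
    MonoidHom.liftOfRightInverse_comp_apply ψ (Function.surjInv hψ) (Function.rightInverse_surjInv hψ) ⟨QuotientGroup.mk' N', by rw [QuotientGroup.ker_mk']; exact le_sup_left⟩ s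
  have hF : (Cfsg.groupFusionSystem (S : Subgroup G)).IsSaturated p := Cfsg.Agent.S5076.result p S
  have hK := Cfsg.Agent.S5093.result p S
  set L := (S : Subgroup G) ⊓ pResidualOf p H with hL
  have hKL := Cfsg.Agent.Local.FS.hyperfocal_le_of_le_sup S.2 hF (L := L)
    (hK.symm ▸ inf_le_inf_left _ hRle) (fun s hs y hy => by
      refine ⟨Subgroup.mul_mem _ (Subgroup.mul_mem _ hs hy.1) (Subgroup.inv_mem _ hs), ?_⟩
      obtain ⟨d, hd, rfl⟩ := hy.2
      exact ⟨⟨s, hSH hs⟩ * d * ⟨s, hSH hs⟩⁻¹, (inferInstance : D.Normal).conj_mem _ hd _, rfl⟩) (by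
      rw [hK]
      rintro y ⟨hyS, hyR⟩
      have h1 := HomPart.hom_eq_one S H W hSH hWS hfix hWn hiter hA χ _ y rfl hyS hyR
      rw [show (⟨y, hSH hyS⟩ : H) = ⟨((⟨y, hyS⟩ : ↥(S : Subgroup G)) : G), hSH hyS⟩ from rfl, hχ,
        QuotientGroup.eq_one_iff] at h1
      have h2 : N'.map (S : Subgroup G).subtype ≤ L ⊔ (frattini ↥(S : Subgroup G)).map (S : Subgroup G).subtype := by
        rw [hN', Subgroup.map_sup]
        refine sup_le_sup_right ?_ _
        rintro _ ⟨s, hs, rfl⟩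
        exact ⟨s.2, (hker s).1 hs⟩
      exact h2 ⟨⟨y, hyS⟩, h1, rfl⟩)
  refine le_antisymm (le_inf hRle (Subgroup.map_subtype_le _)) ?_
  rintro y ⟨hyR, hyH⟩
  obtain ⟨s, d, hd, e⟩ := hdec ⟨y, hyH⟩
  have hd' : (d : G) ∈ pResidualOf p H := ⟨d, hd, rfl⟩
  have hy : y = (d : G) * (s : G) := congrArg Subtype.val e
  have hsR : (s : G) ∈ pResidual p G := by
    have := Subgroup.mul_mem _ (Subgroup.inv_mem _ (hRle hd')) hyR
    rwa [hy, inv_mul_cancel_left] at this
  rw [hy]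
  exact Subgroup.mul_mem _ hd' (hKL (hK.symm ▸ ⟨s.2, hsR⟩)).2

end

end Cfsg.Agent.YoshidaWeak
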